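/-
helper51: carrier-free core of helper24's PFCyc modules [MU-IND] / [MU-IRRM] / [CALS] (#3849):
if `|M : K|` distinct irreducible characters of `M` have the same restriction `θ` to the normal
subgroup `K`, then `θ` is irreducible and `Ind_K^M θ` is their sum.
-/
import Mathlib
import Cfsg.Agent.Lib.Helper75.Clifford
import Cfsg.Agent.Lib.Helper25.Norm3

set_option autoImplicit false

namespace Cfsg.Agent.Lib.Helper51.PFCyc

open Cfsg
open scoped ComplexConjugate

universe u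

variable {M : Type u} [Group M] [Fintype M]

/-- `⟨f, f⟩` is a nonnegative real -/
theorem classInner_self_re_nonneg (f : M → ℂ) :
    0 ≤ (classInner f f).re ∧ (classInner f f).im = 0 := by
  unfold classInner
  have h1 : ∀ g : M, f g * conj (f g) = ((Complex.normSq (f g) : ℝ) : ℂ) := by
    intro g
    exact Complex.mul_conj (f g)
  rw [Finset.sum_congr rfl (fun g _ => h1 g), ← Complex.ofReal_sum]
  have h2 : ((Nat.card M : ℂ))⁻¹ = (((Nat.card M : ℝ)⁻¹ : ℝ) : ℂ) := by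
    push_cast
    rfl
  rw [h2, ← Complex.ofReal_mul]
  refine ⟨?_, Complex.ofReal_im _⟩
  rw [Complex.ofReal_re]
  apply mul_nonneg
  · exact inv_nonneg.mpr (Nat.cast_nonneg _)
  · exact Finset.sum_nonneg (fun g _ => Complex.normSq_nonneg _)

variable (K : Subgroup M) [hK : K.Normal]

/-- the restriction to `K` of `Ind_K^M θ` for an `M`-invariant `θ` -/
theorem indFun_res_of_invariant (θ : K → ℂ)
    (hinv : ∀ x : M, Cfsg.Agent.Lib.Helper75.conjFun K x θ = θ) (k : K) :
    indFun K θ k = (K.index : ℂ) * θ k := by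
  rw [Cfsg.Agent.Lib.Helper75.indFun_res_normal K θ k]
  have h1 : ∀ x : M, Cfsg.Agent.Lib.Helper75.conjFun K x⁻¹ θ k = θ k := by
    intro x
    rw [hinv x⁻¹]
  rw [Finset.sum_congr rfl (fun x _ => h1 x), Finset.sum_const, Finset.card_univ, nsmul_eq_mul]
  have hKne : (Nat.card K : ℂ) ≠ 0 := by
    have : Nat.card K ≠ 0 := Nat.card_pos.ne'
    exact_mod_cast this
  have hidx : (Nat.card K : ℂ) * (K.index : ℂ) = (Fintype.card M : ℂ) := by
    rw [← Nat.card_eq_fintype_card, ← K.card_mul_index]; push_cast; ring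
  rw [← hidx]
  field_simp

/-- **Lemma A** -/
theorem ind_eq_sum_of_same_res {ι : Type*} (s : Finset ι) (χ : ι → M → ℂ)
    (hirr : ∀ i ∈ s, IsIrrCharacter M (χ i))
    (hinj : ∀ i ∈ s, ∀ j ∈ s, χ i = χ j → i = j) (hcard : s.card = K.index)
    (θ : K → ℂ) (hres : ∀ i ∈ s, (fun k : K => χ i k) = θ) (hne : s.Nonempty) :
    IsIrrCharacter K θ ∧ indFun K θ = ∑ i ∈ s, χ i := by
  classical
  have : Fintype K := Fintype.ofFinite K
  have FK := Cfsg.Agent.Lib.Helper26.irrFacts K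
  have FM := Cfsg.Agent.Lib.Helper26.irrFacts M
  obtain ⟨i₀, hi₀⟩ := hne
  have hχ₀ : IsCharacter M (χ i₀) := Cfsg.Agent.Lib.Helper26.IrrFacts.irr_isCharacter (hirr i₀ hi₀)
  have hχ₀cf : IsClassFunction M (χ i₀) :=
    Cfsg.Agent.Lib.Helper78.IsCharacter.isClassFunction hχ₀
  have hθchar : IsCharacter K θ := by
    rw [← hres i₀ hi₀]
    exact Cfsg.Agent.Lib.Helper75.isCharacter_res K hχ₀
  have hθgen := Cfsg.Agent.Lib.Helper26.isGeneralizedCharacter_of_isCharacter hθchar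
  -- invariance
  have hinv : ∀ x : M, Cfsg.Agent.Lib.Helper75.conjFun K x θ = θ := by
    intro x
    funext k
    rw [Cfsg.Agent.Lib.Helper75.conjFun_apply, ← hres i₀ hi₀]
    exact hχ₀cf k x
  -- the norm of θ
  obtain ⟨N, hN⟩ := FK.norm_nat hθgen
  have hθ1 : θ 1 ≠ 0 := by
    rw [← hres i₀ hi₀]
    obtain ⟨d, hd, hd'⟩ := FM.deg_pos _ (hirr i₀ hi₀)
    show χ i₀ ((1 : K) : M) ≠ 0
    rw [Subgroup.coe_one, hd']
    exact_mod_cast hd.ne'
  have hN0 : N ≠ 0 := by
    intro h0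
    rw [h0, Nat.cast_zero] at hN
    have := Cfsg.Agent.Lib.Helper26.classInner_self_eq_zero hN
    rw [this] at hθ1
    exact hθ1 rfl
  set q : ℕ := K.index with hq
  have hqpos : 0 < q := by
    rw [← hcard]
    exact Finset.card_pos.mpr ⟨i₀, hi₀⟩
  -- inner products
  have hIcf : IsClassFunction M (indFun K θ) := Cfsg.Agent.Lib.Helper75.isClassFunction_indFun K θ
  have e1 : classInner (indFun K θ) (indFun K θ) = (q : ℂ) * (N : ℂ) := by
    rw [Cfsg.Agent.Lib.Helper75.frobenius_reciprocity K θ hIcf]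
    have : (fun k : K => indFun K θ k) = (q : ℂ) • θ := by
      funext k
      rw [indFun_res_of_invariant K θ hinv k, Pi.smul_apply, smul_eq_mul]
    rw [this, Cfsg.Agent.Lib.Helper26.classInner_smul_right, hN]
    simp
  have e2 : ∀ i ∈ s, classInner (indFun K θ) (χ i) = (N : ℂ) := by
    intro i hi
    rw [Cfsg.Agent.Lib.Helper75.frobenius_reciprocity K θ
      (Cfsg.Agent.Lib.Helper78.IsCharacter.isClassFunction
        (Cfsg.Agent.Lib.Helper26.IrrFacts.irr_isCharacter (hirr i hi))), hres i hi, hN]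
  have e3 : ∀ i ∈ s, classInner (χ i) (indFun K θ) = (N : ℂ) := by
    intro i hi
    rw [← Cfsg.Agent.Lib.Helper26.classInner_conj_symm, e2 i hi, Complex.conj_natCast]
  set Sg : M → ℂ := ∑ i ∈ s, χ i with hSg
  have e4 : classInner (indFun K θ) Sg = (q : ℂ) * (N : ℂ) := by
    rw [hSg, Cfsg.Agent.Lib.Helper26.classInner_sum_right, Finset.sum_congr rfl e2,
      Finset.sum_const, hcard, nsmul_eq_mul]
  have e5 : classInner Sg (indFun K θ) = (q : ℂ) * (N : ℂ) := by
    rw [hSg, Cfsg.Agent.Lib.Helper26.classInner_sum_left, Finset.sum_congr rfl e3,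
      Finset.sum_const, hcard, nsmul_eq_mul]
  have e6 : classInner Sg Sg = (q : ℂ) := by
    rw [hSg, Cfsg.Agent.Lib.Helper26.classInner_sum_left]
    have h1 : ∀ i ∈ s, classInner (χ i) (∑ j ∈ s, χ j) = 1 := by
      intro i hi
      rw [Cfsg.Agent.Lib.Helper26.classInner_sum_right, Finset.sum_eq_single i]
      · rw [FM.orthonormal _ _ (hirr i hi) (hirr i hi), if_pos rfl]
      · intro j hj hne
        rw [FM.orthonormal _ _ (hirr i hi) (hirr j hj), if_neg]
        intro hc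
        exact hne (hinj i hi j hj hc).symm
      · intro h; exact absurd hi h
    rw [Finset.sum_congr rfl h1, Finset.sum_const, hcard, nsmul_eq_mul, mul_one]
  set f : M → ℂ := indFun K θ - (N : ℂ) • Sg with hf
  have e7 : classInner f f = (q : ℂ) * (N : ℂ) - (q : ℂ) * (N : ℂ) ^ 2 := by
    rw [hf, Cfsg.Agent.Lib.Helper26.classInner_sub_left,
      Cfsg.Agent.Lib.Helper26.classInner_sub_right, Cfsg.Agent.Lib.Helper26.classInner_sub_right,
      Cfsg.Agent.Lib.Helper26.classInner_smul_left, Cfsg.Agent.Lib.Helper26.classInner_smul_left,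
      Cfsg.Agent.Lib.Helper26.classInner_smul_right, Cfsg.Agent.Lib.Helper26.classInner_smul_right,
      e1, e4, e5, e6, Complex.conj_natCast]
    ring
  -- N = 1
  have hnn := (classInner_self_re_nonneg f).1
  rw [e7] at hnn
  have hN1 : N = 1 := by
    have h1 : ((q : ℂ) * (N : ℂ) - (q : ℂ) * (N : ℂ) ^ 2).re =
        (q : ℝ) * (N : ℝ) - (q : ℝ) * (N : ℝ) ^ 2 := by
      have : ((q : ℂ) * (N : ℂ) - (q : ℂ) * (N : ℂ) ^ 2) =
          (((q : ℝ) * (N : ℝ) - (q : ℝ) * (N : ℝ) ^ 2 : ℝ) : ℂ) := by push_cast; ring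
      rw [this, Complex.ofReal_re]
    rw [h1] at hnn
    have hqR : (0 : ℝ) < q := by exact_mod_cast hqpos
    have hNR : (1 : ℝ) ≤ N := by exact_mod_cast Nat.one_le_iff_ne_zero.mpr hN0
    have h2 : (N : ℝ) ≤ 1 := by
      by_contra hc
      push Not at hc
      have h5 : 0 < (q : ℝ) * (N : ℝ) * ((N : ℝ) - 1) :=
        mul_pos (mul_pos hqR (lt_of_lt_of_le one_pos hNR)) (sub_pos.mpr hc)
      have h6 : (q : ℝ) * (N : ℝ) * ((N : ℝ) - 1) = (q : ℝ) * (N : ℝ) ^ 2 - (q : ℝ) * (N : ℝ) := by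
        ring
      linarith
    have h3 : N ≤ 1 := by exact_mod_cast h2
    omega
  -- f = 0
  have hf0 : f = 0 := by
    apply Cfsg.Agent.Lib.Helper26.classInner_self_eq_zero
    rw [e7, hN1]
    push_cast
    ring
  have hsum : indFun K θ = Sg := by
    have h1 : indFun K θ - (N : ℂ) • Sg = 0 := hf0
    rw [hN1, Nat.cast_one, one_smul] at h1
    exact sub_eq_zero.mp h1
  refine ⟨?_, hsum⟩
  -- θ irreducible
  rw [hN1, Nat.cast_one] at hN
  rcases Cfsg.Agent.Lib.Helper25.sirr_of_norm_one hθgen hN with h | h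
  · exact h
  · exfalso
    obtain ⟨d, hd, hd'⟩ := FK.deg_pos _ h
    obtain ⟨d₀, hd₀, hd₀'⟩ := FM.deg_pos _ (hirr i₀ hi₀)
    have h1 : θ 1 = (d₀ : ℂ) := by
      rw [← hres i₀ hi₀]
      show χ i₀ ((1 : K) : M) = d₀
      rw [Subgroup.coe_one, hd₀']
    rw [Pi.neg_apply, h1] at hd'
    have h2 : ((-(d₀ : ℤ) : ℤ) : ℂ) = ((d : ℤ) : ℂ) := by push_cast; exact hd'
    have h3 : -(d₀ : ℤ) = (d : ℤ) := by exact_mod_cast h2
    omega

end Cfsg.Agent.Lib.Helper51.PFCyc
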