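/-
helper51: PF sections 10-13 bookkeeping (helper24 #3849), module [MU-IND]:
`(μ_ω)|_{M'}` is irreducible and `Ind_{M'}^M (μ_ω|_{M'}) = ∑_φ μ_{φω}`.
-/
import Mathlib
import Cfsg.Agent.Lib.Helper24.PFCycDefs
import Cfsg.Agent.Lib.Helper4.PFTypes
import Cfsg.Agent.Lib.Helper25.Dual2
import Cfsg.Agent.Lib.Helper23.TypeP
import Cfsg.Agent.Lib.Helper50.PFCycMuRes
import Cfsg.Agent.Lib.Helper51.PFCycGallagher

set_option autoImplicit false
set_option linter.unusedVariables false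

namespace Cfsg.Agent.Lib.Helper51.PFCyc

open Cfsg Cfsg.Agent.Lib.Helper4.PF Cfsg.Agent.Lib.Helper24.PFCyc

universe u

variable {G : Type u} [Group G] {M W₁ U W₂ : Subgroup G}

/-- `M'` is normal in `M` -/
theorem KM_normal (M : Subgroup G) : ((⁅M, M⁆ : Subgroup G).subgroupOf M).Normal := by
  have h : (⁅M, M⁆ : Subgroup G).subgroupOf M = _root_.commutator M := by
    rw [← Subgroup.map_subtype_commutator]
    exact Subgroup.comap_map_eq_self_of_injective M.subtype_injective _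
  rw [h]
  infer_instance

variable [Finite G]

/-- `|M : M'| = |W₁|` -/
theorem KM_index (hP : IsTypePWith M W₁ U W₂) :
    ((⁅M, M⁆ : Subgroup G).subgroupOf M).index = Nat.card W₁ := by
  have h1 := Cfsg.Agent.Lib.Helper23.card_of_isComplIn hP.W₁_compl
  have h2 := Cfsg.Agent.Lib.Helper23.card_mul_relIndex_of_le hP.W₁_compl.1
  have h3 : ((⁅M, M⁆ : Subgroup G).subgroupOf M).index = (⁅M, M⁆ : Subgroup G).relIndex M := rfl
  rw [h3]
  have hpos : 0 < Nat.card ↥(⁅M, M⁆ : Subgroup G) := Nat.card_pos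
  apply Nat.eq_of_mul_eq_mul_left hpos
  rw [h2, h1]

omit [Finite G] in
/-- `|W| = |W₁| |W₂|` -/
theorem card_W (hW : IsSelfNormalizingCyclic W₁ W₂) :
    Nat.card ↥(W₁ ⊔ W₂) = Nat.card W₁ * Nat.card W₂ := by
  apply Cfsg.Agent.Lib.Helper23.card_of_isComplIn
  refine ⟨le_sup_left, le_sup_right, hW.2.2.1, ?_⟩
  intro m hm
  exact Cfsg.Agent.Lib.Helper50.PFCyc.mem_sup_of_comm hW.2.2.2.1 hm

/-- the number of `φ` trivial on `W₂` is `|W₁|` -/
theorem card_trivSet_W₂ (hW : IsSelfNormalizingCyclic W₁ W₂) :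
    (trivSet W₁ W₂ W₂).card = Nat.card W₁ := by
  classical
  have : Fintype ↥(W₁ ⊔ W₂) := Fintype.ofFinite _
  have hcyc : IsCyclic ↥(W₁ ⊔ W₂) := hW.2.2.2.2.1
  have hc : ∀ a b : ↥(W₁ ⊔ W₂), a * b = b * a := by
    intro a b
    obtain ⟨g, hg⟩ := hcyc.exists_generator
    obtain ⟨i, rfl⟩ := Subgroup.mem_zpowers_iff.mp (hg a)
    obtain ⟨j, rfl⟩ := Subgroup.mem_zpowers_iff.mp (hg b)
    rw [← zpow_add, ← zpow_add, add_comm]
  have h1 : trivSet W₁ W₂ W₂ =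
      Cfsg.Agent.Lib.Helper25.dualOf (W₂.subgroupOf (W₁ ⊔ W₂)) := by
    ext ω
    rw [mem_trivSet, Cfsg.Agent.Lib.Helper25.mem_dualOf]
    constructor
    · intro h n hn
      exact h n (Subgroup.mem_subgroupOf.mp hn)
    · intro h w hw
      exact h w (Subgroup.mem_subgroupOf.mpr hw)
  have h2 := Cfsg.Agent.Lib.Helper25.card_dualOf_mul hc (W₂.subgroupOf (W₁ ⊔ W₂))
  have h3 : Nat.card ↥(W₂.subgroupOf (W₁ ⊔ W₂)) = Nat.card W₂ :=
    Nat.card_congr (Subgroup.subgroupOfEquivOfLe le_sup_right).toEquiv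
  rw [h3, card_W hW, ← h1] at h2
  have hpos : 0 < Nat.card W₂ := Nat.card_pos
  exact Nat.eq_of_mul_eq_mul_right hpos h2

variable [Fintype M] {mu : WChar W₁ W₂ → (↥M → ℂ)} {dl : WChar W₁ W₂ → ℂ}

/-- MODULE [MU-IND] -/
theorem muSum_eq_indFun (hP : IsTypePWith M W₁ U W₂) (hodd : Odd (Nat.card M))
    (md : MuData M W₁ W₂ mu dl) (ω : WChar W₁ W₂) :
    IsIrrCharacter ↥((⁅M, M⁆).subgroupOf M) (fun k => mu ω (k : ↥M)) ∧
      muSum mu ω = indFun ((⁅M, M⁆).subgroupOf M) (fun k => mu ω (k : ↥M)) := by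
  classical
  have := KM_normal M
  have key := ind_eq_sum_of_same_res ((⁅M, M⁆ : Subgroup G).subgroupOf M) (trivSet W₁ W₂ W₂)
    (fun φ => mu (φ * ω)) (fun φ _ => md.irr _)
    (fun φ _ φ' _ h => mul_right_cancel (md.inj h))
    ((card_trivSet_W₂ hP.selfNormalizing).trans (KM_index hP).symm)
    (fun k => mu ω (k : ↥M))
    (fun φ hφ => by
      funext k
      apply Cfsg.Agent.Lib.Helper50.PFCyc.mu_res_eq hP md (φ * ω) ω ?_ (k : ↥M)
        (Subgroup.mem_subgroupOf.mp k.2)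
      intro w hw
      rw [MonoidHom.mul_apply, mem_trivSet.mp hφ w hw, one_mul])
    ⟨1, mem_trivSet.mpr (trivOn_one W₂)⟩
  exact ⟨key.1, key.2.symm⟩

end Cfsg.Agent.Lib.Helper51.PFCyc
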