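import Mathlib
import Cfsg.Prelude.Def_PLocal

/-!
# Thompson's replacement theorem (abelian subgroups of maximal order)

For a finite `p`-group `S`, an abelian subgroup `A` of maximal order (`A ∈ Cfsg.maxAbelianSubgroups S`)
and an abelian normal subgroup `B` of `S` that does not normalize `A`, there is `A' ∈ maxAbelianSubgroups S`
with `A ⊓ B < A' ⊓ B`, `A' ≤ N_S(A)` and `A' ≤ A ⊔ A^x` for some `x ∈ B`.
-/

set_option autoImplicit false

namespace Cfsg.Agent.Lib.Helper51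

open Subgroup
open scoped Pointwise

variable {S : Type*} [Group S]

theorem relIndex_mul_card_inf' (X Y : Subgroup S) :
    Y.relIndex X * Nat.card ↥(X ⊓ Y) = Nat.card X := by
  have := relIndex_mul_relIndex (⊥ : Subgroup S) (X ⊓ Y) X bot_le inf_le_left
  rw [relIndex_bot_left, relIndex_bot_left] at this
  rw [inf_comm] at this
  rw [inf_relIndex_right, mul_comm] at this
  rw [inf_comm]
  exact this

theorem relIndex_mul_card_of_le' (Y Z : Subgroup S) (hY : Y ≤ Z) :
    Y.relIndex Z * Nat.card Y = Nat.card Z := by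
  have := relIndex_mul_relIndex (⊥ : Subgroup S) Y Z bot_le hY
  rw [relIndex_bot_left, relIndex_bot_left, mul_comm] at this
  exact this

/-- Product inequality `|X||Y| ≤ |X ⊓ Y||Z|` for `X, Y ≤ Z`. -/
theorem card_mul_card_le_inf_mul [Finite S] (X Y Z : Subgroup S)
    (hX : X ≤ Z) (hY : Y ≤ Z) :
    Nat.card X * Nat.card Y ≤ Nat.card ↥(X ⊓ Y) * Nat.card Z := by
  have h1 : Y.relIndex X ≤ Y.relIndex Z :=
    relIndex_le_of_le_right hX index_ne_zero_of_finite
  have h2 := relIndex_mul_card_inf' X Y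
  have h3 := relIndex_mul_card_of_le' Y Z hY
  calc Nat.card X * Nat.card Y = Y.relIndex X * Nat.card ↥(X ⊓ Y) * Nat.card Y := by rw [h2]
    _ ≤ Y.relIndex Z * Nat.card ↥(X ⊓ Y) * Nat.card Y := by gcongr
    _ = Nat.card ↥(X ⊓ Y) * (Y.relIndex Z * Nat.card Y) := by ring
    _ = Nat.card ↥(X ⊓ Y) * Nat.card Z := by rw [h3]

/-- Second isomorphism theorem, in cardinal form: if `X ⊔ B = Y ⊔ B` with `B` normal then
`|X| |Y ⊓ B| = |Y| |X ⊓ B|`. -/
theorem card_mul_card_inf_of_sup_eq (X Y B : Subgroup S) [B.Normal] (h : X ⊔ B = Y ⊔ B) :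
    Nat.card X * Nat.card ↥(Y ⊓ B) = Nat.card Y * Nat.card ↥(X ⊓ B) := by
  have h1 : B.relIndex X = B.relIndex Y := by
    rw [← relIndex_sup_right (H := X) (K := B), ← relIndex_sup_right (H := Y) (K := B), h]
  have h2 := relIndex_mul_card_inf' X B
  have h3 := relIndex_mul_card_inf' Y B
  calc Nat.card X * Nat.card ↥(Y ⊓ B) = B.relIndex X * Nat.card ↥(X ⊓ B) * Nat.card ↥(Y ⊓ B) := by
        rw [h2]
    _ = (B.relIndex Y * Nat.card ↥(Y ⊓ B)) * Nat.card ↥(X ⊓ B) := by rw [h1]; ring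
    _ = Nat.card Y * Nat.card ↥(X ⊓ B) := by rw [h3]

theorem commute_of_isMulCommutative {A : Subgroup S} (hA : IsMulCommutative A) {a b : S}
    (ha : a ∈ A) (hb : b ∈ A) : a * b = b * a :=
  congrArg Subtype.val (hA.is_comm.comm (⟨a, ha⟩ : A) ⟨b, hb⟩)

/-- Adjoining a centralizing element to an abelian subgroup gives an abelian subgroup. -/
theorem isMulCommutative_sup_zpowers {A : Subgroup S} (hA : IsMulCommutative A) {c : S}
    (hc : c ∈ centralizer (A : Set S)) : IsMulCommutative ↥(A ⊔ zpowers c) := by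
  rw [← le_centralizer_iff_isMulCommutative]
  have hAc : A ≤ centralizer ((A ⊔ zpowers c : Subgroup S) : Set S) := by
    rw [le_centralizer_iff]
    apply sup_le
    · exact le_centralizer_iff_isMulCommutative.mpr hA
    · rw [zpowers_le]; exact hc
  have hcc : zpowers c ≤ centralizer ((A ⊔ zpowers c : Subgroup S) : Set S) := by
    rw [le_centralizer_iff]
    apply sup_le
    · rw [le_centralizer_iff, zpowers_le]; exact hc
    · rw [zpowers_le, mem_centralizer_iff]
      intro h hh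
      obtain ⟨k, rfl⟩ := mem_zpowers_iff.mp hh
      exact (Commute.zpow_left (Commute.refl c) k).eq
  exact sup_le hAc hcc

/-- An abelian subgroup of maximal order is self-centralizing. -/
theorem centralizer_le_of_mem_maxAbelian [Finite S] {A : Subgroup S}
    (hA : A ∈ Cfsg.maxAbelianSubgroups S) : centralizer (A : Set S) ≤ A := by
  intro c hc
  have hcomm := isMulCommutative_sup_zpowers hA.1 hc
  have hle := hA.2 _ hcomm
  have heq : A = A ⊔ zpowers c := eq_of_le_of_card_ge le_sup_left hle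
  rw [heq]
  exact le_sup_right (a := A) (mem_zpowers c)

/-- Abelian subgroups of maximal order exist in a finite group. -/
theorem exists_mem_maxAbelian [Finite S] : ∃ A : Subgroup S, A ∈ Cfsg.maxAbelianSubgroups S := by
  have hne : Nonempty {A : Subgroup S // IsMulCommutative A} :=
    ⟨⟨⊥, inferInstance⟩⟩
  obtain ⟨⟨A, hA⟩, hmax⟩ :=
    Finite.exists_max (fun A : {A : Subgroup S // IsMulCommutative A} => Nat.card A.1)
  exact ⟨A, hA, fun B hB => hmax ⟨B, hB⟩⟩

theorem centralizer_inf_le_centralizer_sup (H K : Subgroup S) :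
    centralizer (H : Set S) ⊓ centralizer (K : Set S) ≤ centralizer ((H ⊔ K : Subgroup S) : Set S) := by
  rw [sup_eq_closure, centralizer_closure]
  intro x hx
  rw [mem_centralizer_iff]
  rintro h (hh | hh)
  · exact mem_centralizer_iff.mp hx.1 h hh
  · exact mem_centralizer_iff.mp hx.2 h hh

theorem card_map_conj (A : Subgroup S) (x : S) :
    Nat.card ↥(A.map (MulAut.conj x).toMonoidHom) = Nat.card A :=
  Nat.card_congr (A.equivMapOfInjective _ (MulAut.conj x).injective).symm.toEquiv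

/-- **Thompson's replacement theorem** for abelian subgroups of maximal order. -/
theorem thompson_replacement [Finite S] {p : ℕ} [Fact p.Prime] (hS : IsPGroup p S)
    (A B : Subgroup S) (hA : A ∈ Cfsg.maxAbelianSubgroups S) [hBn : B.Normal]
    (hB : IsMulCommutative B) (hBA : ¬ B ≤ normalizer (A : Set S)) :
    ∃ A' ∈ Cfsg.maxAbelianSubgroups S, A ⊓ B < A' ⊓ B ∧ A' ≤ normalizer (A : Set S) ∧
      ∃ x ∈ B, A' ≤ A ⊔ A.map (MulAut.conj x).toMonoidHom := by
  -- Step 1: an element `x ∈ B` outside `N(A)` with `A^x ≤ N(A)`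
  obtain ⟨x, hxB, hxN, hx1⟩ : ∃ x ∈ B, x ∉ normalizer (A : Set S) ∧
      A.map (MulAut.conj x).toMonoidHom ≤ normalizer (A : Set S) := by
    obtain ⟨P, hP⟩ : ∃ P : Subgroup S, P = A ⊔ B := ⟨_, rfl⟩
    obtain ⟨Q, hQ⟩ : ∃ Q : Subgroup S, Q = normalizer (A : Set S) ⊓ P := ⟨_, rfl⟩
    have hAQ : A ≤ Q := hQ ▸ le_inf le_normalizer (hP ▸ le_sup_left)
    have hQP : Q ≤ P := hQ ▸ inf_le_right
    have hBP : B ≤ P := hP ▸ le_sup_right
    have hlt : Q.subgroupOf P < ⊤ := by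
      rw [lt_top_iff_ne_top]
      intro h
      apply hBA
      have h1 : P ≤ Q := subgroupOf_eq_top.mp h
      exact (hBP.trans h1).trans (hQ ▸ inf_le_left)
    have : Group.IsNilpotent P := (hS.to_subgroup P).isNilpotent
    have hnc : NormalizerCondition P := Group.normalizerCondition_of_isNilpotent
    obtain ⟨y, hy1, hy2⟩ := SetLike.exists_of_lt (hnc _ hlt)
    rw [← subgroupOf_normalizer_eq hQP] at hy1
    have hy3 : (y : S) ∈ normalizer (Q : Set S) := mem_subgroupOf.mp hy1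
    have hy4 : (y : S) ∉ Q := fun h => hy2 (mem_subgroupOf.mpr h)
    have hyP : (y : S) ∈ (↑(A ⊔ B) : Set S) := by
      have h1 : P ≤ A ⊔ B := hP.le
      exact h1 y.2
    rw [mul_normal A B] at hyP
    obtain ⟨a, ha, b, hb, hab⟩ := Set.mem_mul.mp hyP
    refine ⟨b, hb, ?_, ?_⟩
    · intro hbN
      apply hy4
      rw [← hab]
      have hbQ : b ∈ Q := by rw [hQ]; exact ⟨hbN, hBP hb⟩
      exact Q.mul_mem (hAQ ha) hbQ
    · have hbQ : b ∈ normalizer (Q : Set S) := by
        have : b = a⁻¹ * y := by rw [← hab]; group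
        rw [this]
        exact mul_mem (inv_mem (le_normalizer (hAQ ha))) hy3
      rintro _ ⟨a', ha', rfl⟩
      have h1 := (mem_normalizer_iff.mp hbQ a').mp (hAQ ha')
      rw [hQ] at h1
      exact h1.1
  -- Step 2: the construction
  obtain ⟨A₁, hA₁⟩ : ∃ A₁ : Subgroup S, A₁ = A.map (MulAut.conj x).toMonoidHom := ⟨_, rfl⟩
  have hA₁N : A₁ ≤ normalizer (A : Set S) := hA₁ ▸ hx1
  have hA₁c : IsMulCommutative A₁ := by
    have := hA.1
    rw [hA₁]; infer_instance
  have hcardA₁ : Nat.card A₁ = Nat.card A := by rw [hA₁]; exact card_map_conj A x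
  obtain ⟨H, hH⟩ : ∃ H : Subgroup S, H = A ⊔ A₁ := ⟨_, rfl⟩
  have hAH : A ≤ H := hH ▸ le_sup_left
  have hA₁H : A₁ ≤ H := hH ▸ le_sup_right
  have hHN : H ≤ normalizer (A : Set S) := hH ▸ sup_le le_normalizer hA₁N
  obtain ⟨K, hK⟩ : ∃ K : Subgroup S, K = H ⊓ B := ⟨_, rfl⟩
  obtain ⟨Z₀, hZ₀⟩ : ∃ Z₀ : Subgroup S, Z₀ = A ⊓ A₁ := ⟨_, rfl⟩
  have hKH : K ≤ H := hK ▸ inf_le_left
  have hKB : K ≤ B := hK ▸ inf_le_right
  have hZA : Z₀ ≤ A := hZ₀ ▸ inf_le_left
  have hZA₁ : Z₀ ≤ A₁ := hZ₀ ▸ inf_le_right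
  have hAc : A ≤ centralizer (A : Set S) := le_centralizer_iff_isMulCommutative.mpr hA.1
  have hA₁c' : A₁ ≤ centralizer (A₁ : Set S) := le_centralizer_iff_isMulCommutative.mpr hA₁c
  have hBc : B ≤ centralizer (B : Set S) := le_centralizer_iff_isMulCommutative.mpr hB
  -- `Z₀` is central in `H`
  have hZH : Z₀ ≤ centralizer (H : Set S) := by
    rw [hH]
    refine le_trans ?_ (centralizer_inf_le_centralizer_sup A A₁)
    exact le_inf (hZA.trans hAc) (hZA₁.trans hA₁c')
  -- `A' = K ⊔ Z₀` is abelian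
  have hA'c : IsMulCommutative ↥(K ⊔ Z₀) := by
    rw [← le_centralizer_iff_isMulCommutative]
    have hKK : K ≤ centralizer (K : Set S) :=
      (hKB.trans hBc).trans (centralizer_le (by exact_mod_cast hKB))
    have hZK : Z₀ ≤ centralizer (K : Set S) :=
      hZH.trans (centralizer_le (by exact_mod_cast hKH))
    have hKZ : K ≤ centralizer (Z₀ : Set S) := le_centralizer_iff.mp hZK
    have hZZ : Z₀ ≤ centralizer (Z₀ : Set S) :=
      (hZA.trans hAc).trans (centralizer_le (by exact_mod_cast hZA))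
    refine le_trans ?_ (centralizer_inf_le_centralizer_sup K Z₀)
    exact sup_le (le_inf hKK hKZ) (le_inf hZK hZZ)
  -- `H ⊔ B = A ⊔ B`
  have hsup : H ⊔ B = A ⊔ B := by
    apply le_antisymm
    · apply sup_le _ le_sup_right
      rw [hH]
      apply sup_le le_sup_left
      rw [hA₁]
      rintro _ ⟨a, ha, rfl⟩
      simp only [MulEquiv.coe_toMonoidHom, MulAut.conj_apply]
      have hx' : x ∈ A ⊔ B := le_sup_right (a := A) hxB
      exact mul_mem (mul_mem hx' (le_sup_left (b := B) ha)) (inv_mem hx')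
    · exact sup_le_sup_right hAH B
  -- the counting
  have c1 : Nat.card H * Nat.card ↥(A ⊓ B) = Nat.card A * Nat.card ↥(H ⊓ B) :=
    card_mul_card_inf_of_sup_eq H A B hsup
  have c2 : Nat.card A * Nat.card A₁ ≤ Nat.card ↥(A ⊓ A₁) * Nat.card H :=
    card_mul_card_le_inf_mul A A₁ H hAH hA₁H
  have c3 : Nat.card K * Nat.card Z₀ ≤ Nat.card ↥(K ⊓ Z₀) * Nat.card ↥(K ⊔ Z₀) :=
    card_mul_card_le_inf_mul K Z₀ (K ⊔ Z₀) le_sup_left le_sup_right
  have c4 : Nat.card ↥(K ⊓ Z₀) ≤ Nat.card ↥(A ⊓ B) :=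
    card_le_of_le (le_inf (inf_le_right.trans hZA) (inf_le_left.trans hKB))
  rw [← hK] at c1
  rw [← hZ₀, hcardA₁] at c2
  have hpos : 0 < Nat.card A * Nat.card ↥(A ⊓ B) := Nat.mul_pos Nat.card_pos Nat.card_pos
  have hge : Nat.card A ≤ Nat.card ↥(K ⊔ Z₀) := by
    have : (Nat.card A * Nat.card ↥(A ⊓ B)) * Nat.card A ≤
        (Nat.card A * Nat.card ↥(A ⊓ B)) * Nat.card ↥(K ⊔ Z₀) := by
      calc (Nat.card A * Nat.card ↥(A ⊓ B)) * Nat.card A
          = (Nat.card A * Nat.card A) * Nat.card ↥(A ⊓ B) := by ring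
        _ ≤ (Nat.card Z₀ * Nat.card H) * Nat.card ↥(A ⊓ B) := by gcongr
        _ = Nat.card Z₀ * (Nat.card H * Nat.card ↥(A ⊓ B)) := by ring
        _ = Nat.card Z₀ * (Nat.card A * Nat.card K) := by rw [c1]
        _ = Nat.card A * (Nat.card K * Nat.card Z₀) := by ring
        _ ≤ Nat.card A * (Nat.card ↥(K ⊓ Z₀) * Nat.card ↥(K ⊔ Z₀)) := by gcongr
        _ ≤ Nat.card A * (Nat.card ↥(A ⊓ B) * Nat.card ↥(K ⊔ Z₀)) := by gcongr
        _ = (Nat.card A * Nat.card ↥(A ⊓ B)) * Nat.card ↥(K ⊔ Z₀) := by ring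
    exact Nat.le_of_mul_le_mul_left this hpos
  have hA'H : K ⊔ Z₀ ≤ H := sup_le hKH (hZA.trans hAH)
  refine ⟨K ⊔ Z₀, ⟨hA'c, fun C hC => (hA.2 C hC).trans hge⟩, ?_, hA'H.trans hHN,
    x, hxB, by rw [← hA₁, ← hH]; exact hA'H⟩
  -- strict increase of the intersection with `B`
  have hABK : A ⊓ B ≤ K := by rw [hK]; exact inf_le_inf_right B hAH
  refine lt_of_le_of_ne (le_inf (hABK.trans le_sup_left) inf_le_right) ?_
  intro heq
  apply hxN
  have hKAB : K ≤ A ⊓ B := by
    rw [heq]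
    exact le_inf le_sup_left hKB
  have hKeq : K = A ⊓ B := le_antisymm hKAB hABK
  rw [hKeq] at c1
  have hcard : Nat.card H = Nat.card A := by
    have := Nat.eq_of_mul_eq_mul_right (Nat.card_pos (α := ↥(A ⊓ B))) c1
    exact this
  have hHA : A = H := eq_of_le_of_card_ge hAH hcard.le
  have hA₁A : A₁ ≤ A := hHA ▸ hA₁H
  have hA₁eq : A₁ = A := eq_of_le_of_card_ge hA₁A hcardA₁.ge
  rw [mem_normalizer_iff_map_conj_eq]
  rw [hA₁] at hA₁eq
  exact hA₁eq

end Cfsg.Agent.Lib.Helper51
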