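import Mathlib
import Cfsg.Prelude.Def_CaseTheorems
import Cfsg.Agent.S3062
import Cfsg.Agent.Lib.Helper73.CyclicMax
import Cfsg.Agent.Lib.Helper49.RankOneCyclic

set_option autoImplicit false

/-!
A finite `p`-group with a unique subgroup of order `p` is cyclic or generalized quaternion
(the frozen statement S0016).  Odd `p` via helper49's `isCyclic_of_pRankLE_one`; `p = 2` via a
maximal normal abelian subgroup and helper73's `cyclic_index_two_core`.  By helper51.
-/

namespace Cfsg.Agent.Lib.Helper51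

open Subgroup

universe u

/-- `G` has at most one subgroup of order `p`. -/
def UniqueOrderP (p : ℕ) (G : Type*) [Group G] : Prop :=
  ∀ H K : Subgroup G, Nat.card H = p → Nat.card K = p → H = K

theorem UniqueOrderP.subgroup {p : ℕ} {G : Type*} [Group G] (h : UniqueOrderP p G)
    (L : Subgroup G) : UniqueOrderP p L := by
  intro H K hH hK
  have h1 := h (H.map L.subtype) (K.map L.subtype)
    (by rw [Subgroup.card_map_of_injective L.subtype_injective]; exact hH)
    (by rw [Subgroup.card_map_of_injective L.subtype_injective]; exact hK)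
  exact Subgroup.map_injective L.subtype_injective h1

theorem UniqueOrderP.zpowers_eq {p : ℕ} {G : Type*} [Group G] (h : UniqueOrderP p G)
    (x y : G) (hx : orderOf x = p) (hy : orderOf y = p) : zpowers x = zpowers y :=
  h _ _ (by rw [Nat.card_zpowers, hx]) (by rw [Nat.card_zpowers, hy])

/-- With a unique subgroup of order `p`, the `p`-rank is at most one. -/
theorem pRankLE_one_of_uniqueOrderP {p : ℕ} [hp : Fact p.Prime] {G : Type*} [Group G] [Finite G]
    (h : UniqueOrderP p G) : Cfsg.PRankLE p 1 G := by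
  intro A hA hexp
  rw [pow_one]
  by_contra hcon
  push Not at hcon
  have hord : ∀ a ∈ A, a ≠ 1 → orderOf a = p := fun a ha ha1 =>
    orderOf_eq_prime (hexp a ha) ha1
  have hAnt : A ≠ ⊥ := by
    intro h0
    rw [h0, Subgroup.card_bot] at hcon
    exact absurd hcon (by have := hp.out.one_lt; omega)
  obtain ⟨a, haA, ha1⟩ := (Subgroup.ne_bot_iff_exists_ne_one).mp hAnt |>.imp
    (fun a ha => ha) |> fun ⟨a, ha⟩ => (⟨(a : G), a.2, fun h0 => ha (Subtype.ext h0)⟩ :
      ∃ a : G, a ∈ A ∧ a ≠ 1)
  have hza : zpowers a ≤ A := zpowers_le.mpr haA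
  have hzacard : Nat.card (zpowers a) = p := by rw [Nat.card_zpowers, hord a haA ha1]
  have hlt : zpowers a < A := by
    apply lt_of_le_of_ne hza
    intro heq
    rw [← heq, hzacard] at hcon
    exact lt_irrefl _ hcon
  obtain ⟨b, hbA, hbza⟩ := SetLike.exists_of_lt hlt
  have hb1 : b ≠ 1 := fun h0 => hbza (h0 ▸ one_mem _)
  have := h.zpowers_eq a b (hord a haA ha1) (hord b hbA hb1)
  exact hbza (this ▸ mem_zpowers b)

/-- A finite commutative `p`-group with a unique subgroup of order `p` is cyclic. -/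
theorem isCyclic_of_comm_uniqueOrderP_aux {p : ℕ} [hp : Fact p.Prime] :
    ∀ n : ℕ, ∀ (P : Type u) [Group P] [Finite P], Nat.card P = n → IsPGroup p P →
      (∀ a b : P, a * b = b * a) → UniqueOrderP p P → IsCyclic P := by
  intro n
  induction n using Nat.strong_induction_on with
  | _ n ih =>
    intro P _ _ hcard hP hcomm huniq
    by_contra hncyc
    have hnt : Nontrivial P := by
      by_contra h
      rw [not_nontrivial_iff_subsingleton] at h
      exact hncyc isCyclic_of_subsingleton
    have hsub : ∀ H : Subgroup P, H ≠ ⊤ → IsCyclic H := by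
      intro H hH
      apply ih (Nat.card H) _ H rfl (hP.to_subgroup H)
        (fun a b => Subtype.ext (hcomm a b)) (huniq.subgroup H)
      rw [← hcard]
      apply lt_of_le_of_ne (Subgroup.card_le_card_group H)
      intro heq
      exact hH (Subgroup.eq_top_of_card_eq H heq)
    let φ : P →* P :=
      { toFun := fun g => g ^ p, map_one' := one_pow p,
        map_mul' := fun a b => (show Commute a b from hcomm a b).mul_pow p }
    have hφ : ∀ g, φ g = g ^ p := fun _ => rfl
    -- an element of order p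
    obtain ⟨k, hk⟩ := hP.exists_card_eq
    have hk0 : k ≠ 0 := by
      rintro rfl
      rw [pow_zero] at hk
      have := (Nat.card_eq_one_iff_unique.mp hk).1
      exact not_subsingleton _ this
    have hdvd : p ∣ Nat.card P := by rw [hk]; exact dvd_pow_self p hk0
    obtain ⟨z, hzord⟩ := exists_prime_orderOf_dvd_card' p hdvd
    have hker : φ.ker ≤ Subgroup.zpowers z := by
      intro g hg
      rw [MonoidHom.mem_ker, hφ] at hg
      by_cases hg1 : g = 1
      · rw [hg1]; exact one_mem _
      · have := huniq.zpowers_eq g z (orderOf_eq_prime hg hg1) hzord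
        rw [← this]; exact mem_zpowers g
    have hkercard : Nat.card φ.ker ≤ p := by
      have := Subgroup.card_le_of_le hker
      rwa [Nat.card_zpowers, hzord] at this
    have hzker : z ∈ φ.ker := by
      rw [MonoidHom.mem_ker, hφ, ← hzord]; exact pow_orderOf_eq_one z
    have hz1 : z ≠ 1 := by
      intro h
      rw [h, orderOf_one] at hzord
      exact hp.out.ne_one hzord.symm
    have hprod : Nat.card φ.ker * Nat.card φ.range = Nat.card P := by
      rw [← Subgroup.index_ker φ]; exact Subgroup.card_mul_index φ.ker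
    have hker_gt : 1 < Nat.card φ.ker := by
      rw [Subgroup.one_lt_card_iff_ne_bot]
      intro h
      rw [h, Subgroup.mem_bot] at hzker
      exact hz1 hzker
    have hPpos : 0 < Nat.card P := Nat.card_pos
    have hrange_ne : φ.range ≠ ⊤ := by
      intro h
      have h1 : Nat.card φ.range = Nat.card P := by rw [h, Subgroup.card_top]
      rw [h1] at hprod
      nlinarith
    obtain ⟨y', hy'⟩ := (hsub φ.range hrange_ne).exists_generator
    obtain ⟨c, hc⟩ := y'.2
    have hordy : orderOf (φ c) = Nat.card φ.range := by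
      rw [hc, Subgroup.orderOf_coe]
      exact orderOf_eq_card_of_forall_mem_zpowers hy'
    rw [hφ] at hordy
    obtain ⟨a, ha⟩ := (IsPGroup.iff_orderOf.mp hP) c
    rcases Nat.eq_zero_or_pos a with ha0 | ha0
    · rw [ha0, pow_zero, orderOf_eq_one_iff] at ha
      rw [ha, one_pow, orderOf_one] at hordy
      rw [← hordy, mul_one] at hprod
      have hge : p ≤ Nat.card P := by
        rw [hk]; exact Nat.le_self_pow hk0 p
      have hPp : Nat.card P = p := le_antisymm (hprod ▸ hkercard) hge
      exact hncyc (isCyclic_of_prime_card hPp)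
    · have hgcd : Nat.gcd (orderOf c) p = p := by
        rw [ha]
        exact Nat.gcd_eq_right (dvd_pow_self p ha0.ne')
      have h1 : orderOf (c ^ p) = orderOf c / p := by
        rw [orderOf_pow' c hp.out.ne_zero, hgcd]
      have h2 : orderOf c = p * orderOf (c ^ p) := by
        rw [h1, ha]
        rw [Nat.mul_div_cancel' (dvd_pow_self p ha0.ne')]
      have h3 : Nat.card P ≤ orderOf c := by
        rw [h2, hordy, ← hprod]
        exact Nat.mul_le_mul_right _ hkercard
      have h4 : orderOf c = Nat.card P := le_antisymm (orderOf_le_card) h3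
      exact hncyc (isCyclic_of_orderOf_eq_card c h4)

theorem isCyclic_of_comm_uniqueOrderP {p : ℕ} [hp : Fact p.Prime] {P : Type u} [Group P] [Finite P]
    (hP : IsPGroup p P) (hcomm : ∀ a b : P, a * b = b * a) (huniq : UniqueOrderP p P) :
    IsCyclic P :=
  isCyclic_of_comm_uniqueOrderP_aux _ P rfl hP hcomm huniq

/-- Recognition of the quaternion group `QuaternionGroup n` from a presentation. -/
theorem nonempty_mulEquiv_quaternionGroup {G : Type*} [Group G] (n : ℕ) [NeZero n] (α b : G)
    (hα : orderOf α = 2 * n) (hb : b ∉ zpowers α) (hbb : b * b = α ^ n)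
    (hbα : b * α * b⁻¹ = α⁻¹) (hcov : ∀ x : G, x ∈ zpowers α ∨ b⁻¹ * x ∈ zpowers α) :
    Nonempty (G ≃* QuaternionGroup n) := by
  have hnpos : 0 < n := NeZero.pos n
  have h2n : NeZero (2 * n) := ⟨by omega⟩
  set pw : ZMod (2 * n) → G := fun i => α ^ i.val with hpw
  have hpw_add : ∀ i j, pw (i + j) = pw i * pw j := by
    intro i j
    simp only [hpw]
    rw [← pow_add, pow_eq_pow_iff_modEq, hα, ZMod.val_add]
    exact Nat.mod_modEq _ _
  have hpw_zero : pw 0 = 1 := by simp [hpw]
  have hpw_neg : ∀ i, pw (-i) = (pw i)⁻¹ := by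
    intro i
    rw [eq_inv_iff_mul_eq_one, ← hpw_add, neg_add_cancel, hpw_zero]
  have hpw_sub : ∀ i j, pw (j - i) = (pw i)⁻¹ * pw j := by
    intro i j
    rw [sub_eq_add_neg, add_comm, hpw_add, hpw_neg]
  have hpw_n : pw (n : ZMod (2 * n)) = α ^ n := by
    simp only [hpw]
    rw [ZMod.val_natCast, Nat.mod_eq_of_lt]
    omega
  have hpw_nat : ∀ m : ℕ, pw (m : ZMod (2 * n)) = α ^ m := by
    intro m
    simp only [hpw]
    rw [ZMod.val_natCast, ← hα, pow_mod_orderOf]
  have hconj' : ∀ i, pw i * b = b * (pw i)⁻¹ := by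
    intro i
    have h1 : b * pw i * b⁻¹ = (pw i)⁻¹ := by
      simp only [hpw]
      rw [← conj_pow, hbα, inv_pow]
    have h2 : b * (pw i)⁻¹ * b⁻¹ = pw i := by
      calc b * (pw i)⁻¹ * b⁻¹ = (b * pw i * b⁻¹)⁻¹ := by group
        _ = pw i := by rw [h1, inv_inv]
    calc pw i * b = (b * (pw i)⁻¹ * b⁻¹) * b := by rw [h2]
      _ = b * (pw i)⁻¹ := by group
  let f : QuaternionGroup n →* G :=
    { toFun := fun x => match x with
        | QuaternionGroup.a i => pw i
        | QuaternionGroup.xa i => b * pw i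
      map_one' := by rw [QuaternionGroup.one_def]; exact hpw_zero
      map_mul' := by
        rintro (i | i) (j | j)
        · simp only [QuaternionGroup.a_mul_a]; exact hpw_add i j
        · simp only [QuaternionGroup.a_mul_xa]
          rw [hpw_sub, ← mul_assoc, ← mul_assoc, hconj' i]
        · simp only [QuaternionGroup.xa_mul_a]; rw [hpw_add, mul_assoc]
        · simp only [QuaternionGroup.xa_mul_xa]
          rw [add_sub_assoc, hpw_add, hpw_n, hpw_sub, ← hbb]
          have := hconj' i
          calc b * b * ((pw i)⁻¹ * pw j) = b * (b * (pw i)⁻¹) * pw j := by group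
            _ = b * (pw i * b) * pw j := by rw [this]
            _ = b * pw i * (b * pw j) := by group }
  have hfa : ∀ i, f (QuaternionGroup.a i) = pw i := fun _ => rfl
  have hfxa : ∀ i, f (QuaternionGroup.xa i) = b * pw i := fun _ => rfl
  have hinj : Function.Injective f := by
    rw [injective_iff_map_eq_one]
    rintro (i | i) hx
    · rw [hfa] at hx
      simp only [hpw] at hx
      have h1 : 2 * n ∣ i.val := by
        have h0 : orderOf α ∣ i.val := orderOf_dvd_of_pow_eq_one hx
        rwa [hα] at h0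
      have h2 : i.val < 2 * n := ZMod.val_lt i
      have h3 : i.val = 0 := Nat.eq_zero_of_dvd_of_lt h1 h2
      have h4 : i = 0 := (ZMod.val_eq_zero i).mp h3
      rw [h4, QuaternionGroup.a_zero]
    · exfalso
      rw [hfxa] at hx
      apply hb
      have : b = (pw i)⁻¹ := eq_inv_of_mul_eq_one_left hx
      rw [this]
      exact inv_mem (pow_mem (mem_zpowers α) _)
  have hfin : IsOfFinOrder α := by
    rw [← orderOf_pos_iff, hα]; omega
  have hsurj : Function.Surjective f := by
    intro x
    rcases hcov x with hx | hx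
    · rw [← hfin.mem_powers_iff_mem_zpowers] at hx
      obtain ⟨m, hm⟩ := hx
      exact ⟨QuaternionGroup.a (m : ZMod (2 * n)), by rw [hfa, hpw_nat]; exact hm⟩
    · rw [← hfin.mem_powers_iff_mem_zpowers] at hx
      obtain ⟨m, hm⟩ := hx
      refine ⟨QuaternionGroup.xa (m : ZMod (2 * n)), ?_⟩
      rw [hfxa, hpw_nat]
      change α ^ m = b⁻¹ * x at hm
      rw [hm]; group
  exact ⟨(MulEquiv.ofBijective f ⟨hinj, hsurj⟩).symm⟩


/-- A noncommutative finite `2`-group with a unique involution is generalized quaternion. -/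
theorem quaternion_of_uniqueOrderP_two {G : Type u} [Group G] [Finite G] (hG : IsPGroup 2 G)
    (huniq : UniqueOrderP 2 G) (hnc : ¬ ∀ a b : G, a * b = b * a) :
    ∃ n : ℕ, Nonempty (G ≃* QuaternionGroup (2 ^ n)) := by
  have : Fact (Nat.Prime 2) := ⟨Nat.prime_two⟩
  -- unique involution
  have hinv : ∀ x y : G, x ≠ 1 → x ^ 2 = 1 → y ≠ 1 → y ^ 2 = 1 → x = y := by
    intro x y hx1 hx2 hy1 hy2
    have h1 := huniq.zpowers_eq x y (orderOf_eq_prime hx2 hx1) (orderOf_eq_prime hy2 hy1)
    have h2 : x ∈ zpowers y := h1 ▸ mem_zpowers x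
    obtain ⟨k, hk⟩ := mem_zpowers_iff.mp h2
    have hy2' : y ^ (2 : ℤ) = 1 := by
      have : y ^ (2 : ℤ) = y ^ (2 : ℕ) := by norm_cast
      rw [this, hy2]
    rcases Int.even_or_odd' k with ⟨m, hm | hm⟩
    · exfalso; apply hx1; rw [← hk, hm, zpow_mul, hy2', one_zpow]
    · rw [← hk, hm, zpow_add, zpow_mul, hy2', one_zpow, one_mul, zpow_one]
  -- maximal normal abelian subgroup
  have : Nonempty {A : Subgroup G // A.Normal ∧ IsMulCommutative A} :=
    ⟨⟨⊥, inferInstance, inferInstance⟩⟩
  obtain ⟨⟨A, hAn, hAc⟩, hmaxc⟩ := Finite.exists_max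
    (fun A : {A : Subgroup G // A.Normal ∧ IsMulCommutative A} => Nat.card A.1)
  have hmax : ∀ B : Subgroup G, B.Normal → IsMulCommutative B → A ≤ B → B = A := by
    intro B hBn hBc hAB
    exact (Subgroup.eq_of_le_of_card_ge hAB (hmaxc ⟨B, hBn, hBc⟩)).symm
  have hCA : centralizer (A : Set G) ≤ A :=
    Cfsg.Agent.S3062.centralizer_le_of_max_normal_abelian hG A hAn hAc hmax
  have hAcomm : ∀ a b : A, a * b = b * a := fun a b => hAc.is_comm.comm a b
  have hAcyc : IsCyclic A :=
    isCyclic_of_comm_uniqueOrderP (hG.to_subgroup A) hAcomm (huniq.subgroup A)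
  obtain ⟨⟨a, haA⟩, hagen⟩ := hAcyc.exists_generator
  have hAz : A = zpowers a := by
    ext x; constructor
    · intro hx
      obtain ⟨k, hk⟩ := mem_zpowers_iff.mp (hagen ⟨x, hx⟩)
      have := congrArg Subtype.val hk
      rw [mem_zpowers_iff]; exact ⟨k, by simpa using this⟩
    · intro hx; exact (zpowers_le.mpr haA) hx
  have hAtop : A ≠ ⊤ := by
    intro h
    apply hnc
    intro x y
    have := hAc.is_comm.comm (⟨x, h ▸ mem_top x⟩ : A) ⟨y, h ▸ mem_top y⟩
    exact congrArg Subtype.val this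
  have hcomm_mem : ∀ g : G, g * a = a * g → g ∈ A := by
    intro g hg
    apply hCA
    rw [mem_centralizer_iff]
    intro x hx
    rw [hAz] at hx
    obtain ⟨k, rfl⟩ := mem_zpowers_iff.mp hx
    exact ((Commute.zpow_right (show Commute g a from hg) k)).symm
  obtain ⟨m, hm⟩ := (hG.to_subgroup A).exists_card_eq
  have horda : orderOf a = 2 ^ m := by rw [← hm, hAz, Nat.card_zpowers]
  have hm2 : 2 ≤ m := by
    by_contra hcon
    push Not at hcon
    have ha2 : a ^ 2 = 1 := by
      have : orderOf a ∣ 2 := by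
        rw [horda]
        interval_cases m <;> simp
      exact orderOf_dvd_iff_pow_eq_one.mp this
    apply hAtop
    rw [eq_top_iff]
    intro g _
    apply hcomm_mem
    by_cases ha1 : a = 1
    · rw [ha1]; simp
    · have h1 : g * a * g⁻¹ = a := by
        apply hinv _ _ ?_ ?_ ha1 ha2
        · intro h; apply ha1
          have : a = g⁻¹ * (g * a * g⁻¹) * g := by group
          rw [this, h]; group
        · rw [conj_pow, ha2]; group
      calc g * a = (g * a * g⁻¹) * g := by group
        _ = a * g := by rw [h1]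
  obtain ⟨k, rfl⟩ : ∃ k, m = k + 2 := ⟨m - 2, by omega⟩
  have horda' : orderOf a = 4 * 2 ^ k := by rw [horda]; ring
  set z := a ^ (2 * 2 ^ k) with hz
  have hz1 : z ≠ 1 := by
    intro h
    have h1 := orderOf_dvd_of_pow_eq_one h
    rw [horda'] at h1
    have h2 : 0 < 2 * 2 ^ k := by positivity
    have := Nat.le_of_dvd h2 h1
    omega
  have hz2 : z ^ 2 = 1 := by
    rw [hz, ← pow_mul]
    have : 2 * 2 ^ k * 2 = orderOf a := by rw [horda']; ring
    rw [this, pow_orderOf_eq_one]
  have hzA : z ∈ zpowers a := pow_mem (mem_zpowers a) _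
  have hL4 : ∀ b0 : G, b0 ∉ A → b0 * b0 ∈ A → ∃ b : G, b ∉ zpowers a ∧ b0⁻¹ * b ∈ zpowers a ∧
      b ^ 2 = a ^ (2 * 2 ^ k) ∧ b * a * b⁻¹ = a⁻¹ := by
    intro b0 hb0 hb0sq
    have hnorm : b0 * a * b0⁻¹ ∈ zpowers a := by rw [← hAz]; exact hAn.conj_mem a haA b0
    have hsq : b0 * b0 ∈ zpowers a := by rw [← hAz]; exact hb0sq
    have hb0' : b0 ∉ zpowers a := by rw [← hAz]; exact hb0
    have hncm : b0 * a * b0⁻¹ ≠ a := by
      intro h
      apply hb0
      apply hcomm_mem
      calc b0 * a = (b0 * a * b0⁻¹) * b0 := by group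
        _ = a * b0 := by rw [h]
    obtain ⟨b, hb, hbb0, hcases⟩ :=
      Cfsg.Agent.Lib.Helper73.cyclic_index_two_core k a b0 horda' hnorm hsq hb0' hncm
    have hbne : b ≠ 1 := fun h => hb (h ▸ one_mem _)
    have hbad : b ^ 2 = 1 → False := by
      intro hb2
      have := hinv b z hbne hb2 hz1 hz2
      exact hb (this ▸ hzA)
    rcases hcases with ⟨h1, _⟩ | ⟨h1, h2⟩ | ⟨_, h1, _⟩ | ⟨_, h1, _⟩
    · exact (hbad h1).elim
    · exact ⟨b, hb, hbb0, h1, h2⟩
    · exact (hbad h1).elim
    · exact (hbad h1).elim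
  have hL4' : ∀ b0 : G, b0 ∉ A → b0 * b0 ∈ A → b0 * a * b0⁻¹ = a⁻¹ := by
    intro b0 hb0 hb0sq
    obtain ⟨b, hb, hbb0, -, hba⟩ := hL4 b0 hb0 hb0sq
    obtain ⟨j, hj⟩ := mem_zpowers_iff.mp hbb0
    have hb0eq : b0 = b * (a ^ j)⁻¹ := by rw [hj]; group
    have hc : (a ^ j)⁻¹ * a * (a ^ j) = a := by
      have hcm : Commute (a ^ j) a := (Commute.refl a).zpow_left j
      rw [mul_assoc, ← hcm.eq, inv_mul_cancel_left]
    rw [hb0eq]
    calc b * (a ^ j)⁻¹ * a * (b * (a ^ j)⁻¹)⁻¹ = b * ((a ^ j)⁻¹ * a * (a ^ j)) * b⁻¹ := by group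
      _ = b * a * b⁻¹ := by rw [hc]
      _ = a⁻¹ := hba
  have hL5 : ∀ g : G, g ∉ A → g * a * g⁻¹ = a⁻¹ := by
    intro g hg
    have hex : ∃ e : ℕ, g ^ (2 ^ e) ∈ A := by
      obtain ⟨e, he⟩ := hG g
      exact ⟨e, he ▸ A.one_mem⟩
    classical
    have hemem : g ^ (2 ^ (Nat.find hex)) ∈ A := Nat.find_spec hex
    have hemin : ∀ e' < Nat.find hex, g ^ (2 ^ e') ∉ A := fun e' h' => Nat.find_min hex h'
    generalize Nat.find hex = e at hemem hemin
    have he0 : e ≠ 0 := by
      intro h0; rw [h0, pow_zero, pow_one] at hemem; exact hg hemem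
    obtain ⟨e1, rfl⟩ : ∃ e1, e = e1 + 1 := ⟨e - 1, by omega⟩
    set h := g ^ (2 ^ e1) with hh
    have hhA : h ∉ A := hemin e1 (by omega)
    have hhh : h * h ∈ A := by
      have : h * h = g ^ (2 ^ (e1 + 1)) := by rw [hh, ← pow_add, pow_succ]; ring_nf
      rw [this]; exact hemem
    have hhinv := hL4' h hhA hhh
    rcases Nat.eq_zero_or_pos e1 with h0 | hpos
    · rw [hh, h0, pow_zero, pow_one] at hhinv; exact hhinv
    · exfalso
      obtain ⟨e2, rfl⟩ : ∃ e2, e1 = e2 + 1 := ⟨e1 - 1, by omega⟩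
      set w := g ^ (2 ^ e2) with hw
      have hww : w * w = h := by rw [hw, hh, ← pow_add, pow_succ]; ring_nf
      have hwn : w * a * w⁻¹ ∈ zpowers a := by rw [← hAz]; exact hAn.conj_mem a haA w
      obtain ⟨r, hr⟩ := mem_zpowers_iff.mp hwn
      have h1 : h * a * h⁻¹ = a ^ (r * r) := by
        rw [← hww]
        calc w * w * a * (w * w)⁻¹ = w * (w * a * w⁻¹) * w⁻¹ := by group
          _ = w * a ^ r * w⁻¹ := by rw [hr]
          _ = (w * a * w⁻¹) ^ r := by rw [conj_zpow]
          _ = a ^ (r * r) := by rw [← hr, ← zpow_mul]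
      rw [hhinv] at h1
      have h2 : a ^ (r * r + 1) = 1 := by rw [zpow_add, ← h1, zpow_one, inv_mul_cancel]
      have h3 : (orderOf a : ℤ) ∣ r * r + 1 := orderOf_dvd_iff_zpow_eq_one.mpr h2
      have h4 : (4 : ℤ) ∣ r * r + 1 := by
        refine dvd_trans ?_ h3
        rw [horda']; push_cast; exact dvd_mul_right 4 _
      obtain ⟨c, hc⟩ := h4
      rcases Int.even_or_odd' r with ⟨t, ht | ht⟩
      · have : r * r + 1 = 4 * (t * t) + 1 := by rw [ht]; ring
        rw [this] at hc
        generalize t * t = q at hc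
        omega
      · have : r * r + 1 = 4 * (t * t + t) + 2 := by rw [ht]; ring
        rw [this] at hc
        generalize t * t + t = q at hc
        omega
  have hL6 : ∀ g g' : G, g ∉ A → g' ∉ A → g⁻¹ * g' ∈ A := by
    intro g g' hg hg'
    apply hcomm_mem
    have h1 := hL5 g hg
    have h2 := hL5 g' hg'
    have h3 : g' * a = a⁻¹ * g' := by rw [← h2]; group
    have h4 : g⁻¹ * a⁻¹ = a * g⁻¹ := by rw [← h1]; group
    calc g⁻¹ * g' * a = g⁻¹ * (g' * a) := by group
      _ = g⁻¹ * (a⁻¹ * g') := by rw [h3]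
      _ = (g⁻¹ * a⁻¹) * g' := by group
      _ = a * g⁻¹ * g' := by rw [h4]
      _ = a * (g⁻¹ * g') := by group
  obtain ⟨g, hg⟩ : ∃ g : G, g ∉ A := by
    by_contra hcon
    push Not at hcon
    exact hAtop (eq_top_iff.mpr fun x _ => hcon x)
  have hginv : g⁻¹ ∉ A := fun h => hg (by simpa using A.inv_mem h)
  have hgg : g * g ∈ A := by simpa using hL6 g⁻¹ g hginv hg
  obtain ⟨b, hb, -, hb2, hba⟩ := hL4 g hg hgg
  refine ⟨k + 1, ?_⟩
  have : NeZero (2 ^ (k + 1)) := ⟨by positivity⟩
  apply nonempty_mulEquiv_quaternionGroup (2 ^ (k + 1)) a b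
  · rw [horda']; ring
  · exact hb
  · rw [← pow_two, hb2]; congr 1; ring
  · exact hba
  · intro x
    by_cases hx : x ∈ A
    · left; rw [← hAz]; exact hx
    · right; rw [← hAz]; exact hL6 b x (by rw [hAz]; exact hb) hx

/-- The frozen statement S0016: a finite `p`-group with a unique subgroup of order `p` is cyclic
or generalized quaternion. -/
theorem cyclic_or_quaternion_of_uniqueOrderP {G : Type*} [Group G] [Finite G] (p : ℕ)
    [Fact p.Prime] (hG : IsPGroup p G)
    (huniq : ∀ H K : Subgroup G, Nat.card H = p → Nat.card K = p → H = K) :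
    IsCyclic G ∨ (p = 2 ∧ ∃ n : ℕ, Nonempty (G ≃* QuaternionGroup (2 ^ n))) := by
  by_cases hp2 : p = 2
  · subst hp2
    by_cases hcomm : ∀ a b : G, a * b = b * a
    · exact Or.inl (isCyclic_of_comm_uniqueOrderP hG hcomm huniq)
    · exact Or.inr ⟨rfl, quaternion_of_uniqueOrderP_two hG huniq hcomm⟩
  · exact Or.inl (Cfsg.Agent.Lib.Helper49.isCyclic_of_pRankLE_one hp2 hG
      (pRankLE_one_of_uniqueOrderP huniq))

end Cfsg.Agent.Lib.Helper51
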