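/-
helper51: project SZCH (helper6, S4775), module SZCH-[DEG-8]:
the arithmetic of the cuspidal parameters for `Sz(8)` (`q = 8`, `h = 2`, `r = 4`, `|G| = 29120`).
-/
import Mathlib

set_option autoImplicit false

namespace Cfsg.Agent.Lib.Helper51.SzCh

/-- pointwise inequality used in the case `(a, s) = (0, 2)` on `Y` -/
theorem deg8_pt (x s : ℕ) (hx : x ≤ 2) (hs : s ≤ 6) (hd : 7 * (x + 2 * s) ∣ 29120) :
    8 * (x * s) ≤ s ^ 2 + 12 * x ^ 2 := by
  interval_cases x <;> interval_cases s <;> first | (exfalso; revert hd; decide) | norm_num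

theorem deg8_amgm (k x s : ℕ) : 2 * k * (x * s) ≤ s ^ 2 + k ^ 2 * x ^ 2 := by
  have h := sq_nonneg ((s : ℤ) - k * x)
  have : (2 * k * (x * s) : ℤ) ≤ (s : ℤ) ^ 2 + (k : ℤ) ^ 2 * (x : ℤ) ^ 2 := by nlinarith
  exact_mod_cast this

theorem deg_eight {ι : Type*} [Fintype ι] (a b c : ι → ℕ)
    (hpos : ∀ i, 0 < a i + b i + c i)
    (s1 : ∑ i, a i ^ 2 = 4)
    (s2 : ∑ i, a i * (b i + c i) = 12)
    (s3 : ∑ i, (b i + c i) ^ 2 = 50)
    (s4 : ∑ i, ((b i : ℤ) - c i) ^ 2 = 2)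
    (Y : Finset ι) (hY : Y.card = 3)
    (hc : ∀ i ∈ Y, ∀ j ∈ Y, a i = a j ∧ b i = b j ∧ c i = c j)
    (hdiv : ∀ i, 7 * (a i + 2 * (b i + c i)) ∣ 29120) :
    (∀ i, a i + 2 * (b i + c i) = 2 ∨ a i + 2 * (b i + c i) = 5 ∨ a i + 2 * (b i + c i) = 13) ∧
    (∃ i, a i + 2 * (b i + c i) = 2) ∧ (∃ i, a i + 2 * (b i + c i) = 5) ∧
    (∃ i, a i + 2 * (b i + c i) = 13) := by
  classical
  obtain ⟨i₀, hi₀⟩ : Y.Nonempty := Finset.card_pos.mp (by omega)
  have hY' : ∀ i ∈ Y, a i = a i₀ ∧ b i = b i₀ ∧ c i = c i₀ := fun i hi => hc i hi i₀ hi₀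
  have split : ∀ f : ι → ℕ, (∀ i ∈ Y, f i = f i₀) → ∑ i, f i = 3 * f i₀ + ∑ i ∈ Yᶜ, f i := by
    intro f hf
    rw [← Finset.sum_add_sum_compl Y f, Finset.sum_congr rfl hf, Finset.sum_const, hY, smul_eq_mul]
  have splitZ : ∀ f : ι → ℤ, (∀ i ∈ Y, f i = f i₀) → ∑ i, f i = 3 * f i₀ + ∑ i ∈ Yᶜ, f i := by
    intro f hf
    rw [← Finset.sum_add_sum_compl Y f, Finset.sum_congr rfl hf, Finset.sum_const, hY, nsmul_eq_mul]
    norm_num
  have e1 := split (fun i => a i ^ 2) (fun i hi => by simp only [(hY' i hi).1])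
  have e2 := split (fun i => a i * (b i + c i))
    (fun i hi => by simp only [(hY' i hi).1, (hY' i hi).2.1, (hY' i hi).2.2])
  have e3 := split (fun i => (b i + c i) ^ 2)
    (fun i hi => by simp only [(hY' i hi).2.1, (hY' i hi).2.2])
  have e4 := splitZ (fun i => ((b i : ℤ) - c i) ^ 2)
    (fun i hi => by simp only [(hY' i hi).2.1, (hY' i hi).2.2])
  rw [s1] at e1
  rw [s2] at e2
  rw [s3] at e3
  rw [s4] at e4
  have hT4 : 0 ≤ ∑ i ∈ Yᶜ, ((b i : ℤ) - c i) ^ 2 := Finset.sum_nonneg (fun i _ => sq_nonneg _)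
  have hBC : b i₀ = c i₀ := by
    have h0 : ((b i₀ : ℤ) - c i₀) ^ 2 = 0 := by nlinarith [sq_nonneg ((b i₀ : ℤ) - c i₀)]
    have h1 : (b i₀ : ℤ) - c i₀ = 0 := by simpa using h0
    omega
  have hpos₀ := hpos i₀
  have hdiv₀ := hdiv i₀
  rw [← hBC] at e2 e3 hpos₀ hdiv₀
  have hY'' : ∀ i ∈ Y, a i = a i₀ ∧ b i = b i₀ ∧ c i = b i₀ := by
    intro i hi
    refine ⟨(hY' i hi).1, (hY' i hi).2.1, ?_⟩
    rw [(hY' i hi).2.2, hBC]
  clear hBC e4 hT4 hY' hc s4
  generalize a i₀ = A at *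
  generalize b i₀ = B at *
  have hA : A ≤ 1 := by
    have h' : A ^ 2 ≤ 1 := by omega
    nlinarith
  have hB : B ≤ 2 := by
    have h' : (B + B) ^ 2 ≤ 16 := by omega
    nlinarith
  -- abbreviations for the three sums over the complement
  set T := Yᶜ with hT
  have hmemT : ∀ i, i ∉ Y → i ∈ T := fun i hi => Finset.mem_compl.mpr hi
  interval_cases A <;> interval_cases B
  · -- (0,0)
    omega
  · -- (0,1): pointwise inequality with divisibility
    exfalso
    have h1 : ∑ i ∈ T, a i ^ 2 = 4 := by omega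
    have h2 : ∑ i ∈ T, a i * (b i + c i) = 12 := by omega
    have h3 : ∑ i ∈ T, (b i + c i) ^ 2 = 38 := by omega
    have hpt : ∀ i ∈ T, 8 * (a i * (b i + c i)) ≤ (b i + c i) ^ 2 + 12 * a i ^ 2 := by
      intro i hi
      have ha : a i ^ 2 ≤ 4 := h1 ▸ Finset.single_le_sum (f := fun i => a i ^ 2)
        (fun _ _ => Nat.zero_le _) hi
      have hs : (b i + c i) ^ 2 ≤ 38 := h3 ▸ Finset.single_le_sum (f := fun i => (b i + c i) ^ 2)
        (fun _ _ => Nat.zero_le _) hi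
      exact deg8_pt _ _ (by nlinarith) (by nlinarith) (hdiv i)
    have hsum := Finset.sum_le_sum hpt
    rw [← Finset.mul_sum, Finset.sum_add_distrib, ← Finset.mul_sum, h1, h2, h3] at hsum
    omega
  · -- (0,2)
    exfalso
    have h1 : ∑ i ∈ T, a i ^ 2 = 4 := by omega
    have h2 : ∑ i ∈ T, a i * (b i + c i) = 12 := by omega
    have h3 : ∑ i ∈ T, (b i + c i) ^ 2 = 2 := by omega
    have hsum := Finset.sum_le_sum (s := T) (fun i _ => deg8_amgm 4 (a i) (b i + c i))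
    rw [← Finset.mul_sum, Finset.sum_add_distrib, ← Finset.mul_sum, h1, h2, h3] at hsum
    omega
  · -- (1,0)
    exfalso
    have h1 : ∑ i ∈ T, a i ^ 2 = 1 := by omega
    have h2 : ∑ i ∈ T, a i * (b i + c i) = 12 := by omega
    have h3 : ∑ i ∈ T, (b i + c i) ^ 2 = 50 := by omega
    have hsum := Finset.sum_le_sum (s := T) (fun i _ => deg8_amgm 12 (a i) (b i + c i))
    rw [← Finset.mul_sum, Finset.sum_add_distrib, ← Finset.mul_sum, h1, h2, h3] at hsum
    omega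
  · -- (1,1): the real case
    have h1 : ∑ i ∈ T, a i ^ 2 = 1 := by omega
    have h2 : ∑ i ∈ T, a i * (b i + c i) = 6 := by omega
    have h3 : ∑ i ∈ T, (b i + c i) ^ 2 = 38 := by omega
    obtain ⟨j, hjT, hj0⟩ : ∃ j ∈ T, a j ≠ 0 := by
      by_contra hcon
      push Not at hcon
      rw [Finset.sum_eq_zero (fun i hi => by rw [hcon i hi]; rfl)] at h1
      omega
    have g1 := Finset.add_sum_erase T (fun i => a i ^ 2) hjT
    have g2 := Finset.add_sum_erase T (fun i => a i * (b i + c i)) hjT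
    have g3 := Finset.add_sum_erase T (fun i => (b i + c i) ^ 2) hjT
    rw [h1] at g1
    rw [h2] at g2
    rw [h3] at g3
    have haj : a j = 1 := by
      have : a j ^ 2 ≤ 1 := by omega
      have h' : a j ≤ 1 := by nlinarith
      omega
    rw [haj] at g1 g2
    have g1' : ∑ i ∈ T.erase j, a i ^ 2 = 0 := by omega
    have hazero : ∀ i ∈ T.erase j, a i = 0 := by
      intro i hi
      have := (Finset.sum_eq_zero_iff.mp g1') i hi
      exact pow_eq_zero_iff (by norm_num) |>.mp this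
    have g2' : ∑ i ∈ T.erase j, a i * (b i + c i) = 0 :=
      Finset.sum_eq_zero (fun i hi => by rw [hazero i hi, zero_mul])
    have hsj : b j + c j = 6 := by omega
    rw [hsj] at g3
    have g3' : ∑ i ∈ T.erase j, (b i + c i) ^ 2 = 2 := by omega
    have hs1 : ∀ i ∈ T.erase j, b i + c i = 1 := by
      intro i hi
      have hle := Finset.single_le_sum
        (f := fun i => (b i + c i) ^ 2) (fun _ _ => Nat.zero_le _) hi
      rw [g3'] at hle
      have h' : b i + c i ≤ 1 := by nlinarith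
      have := hpos i
      rw [hazero i hi] at this
      omega
    obtain ⟨k, hk⟩ : (T.erase j).Nonempty := by
      rw [Finset.nonempty_iff_ne_empty]
      intro hemp
      rw [hemp, Finset.sum_empty] at g3'
      omega
    refine ⟨?_, ⟨k, by rw [hazero k hk, hs1 k hk]⟩, ⟨i₀, ?_⟩, ⟨j, by rw [haj, hsj]⟩⟩
    · intro i
      by_cases hiY : i ∈ Y
      · obtain ⟨ha, hb, hc'⟩ := hY'' i hiY
        right; left
        rw [ha, hb, hc']
      · by_cases hij : i = j
        · right; right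
          rw [hij, haj, hsj]
        · left
          have hi : i ∈ T.erase j := Finset.mem_erase.mpr ⟨hij, hmemT i hiY⟩
          rw [hazero i hi, hs1 i hi]
    · obtain ⟨ha, hb, hc'⟩ := hY'' i₀ hi₀
      rw [ha, hb, hc']
  · -- (1,2)
    exfalso
    revert hdiv₀
    decide

end Cfsg.Agent.Lib.Helper51.SzCh
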