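/-
helper51: project SZCH (helper6, S4775), module SZCH-[DEG-LARGE]:
the arithmetic of the cuspidal parameters for `Sz(q)`, `q = 2^(2m+1)`, `m ≥ 2`.
-/
import Mathlib

set_option autoImplicit false

namespace Cfsg.Agent.Lib.Helper51.SzCh

/-- the core of the family lemma, with opaque `ρ`, `N₁`, `N₂` -/
theorem degL_family_core (h q ρ N₁ N₂ : ℤ) (hh : 4 ≤ h) (hq : q = 2 * h ^ 2)
    (hρ2 : ρ ^ 2 = 2 * q) (hρle : ρ ≤ 2 * h) (hρge : -(2 * h) ≤ ρ)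
    (hN₁ : N₁ = q + ρ + 1) (hN₂ : N₂ = q - ρ + 1)
    (a s : ℤ) (ha0 : 0 ≤ a) (ha : a ≤ 1) (hs0 : 0 ≤ s) (S₂ : ℤ)
    (hS₂ : S₂ = 4 * N₂ - 16 ∨ ∃ v : ℤ, S₂ = (q - ρ) * v ^ 2)
    (hid : 4 * q ^ 2 * (q ^ 2 + 1) * (q - 1) =
        4 * (q - 1) ^ 2 * (a + h * s) ^ 2 +
        4 * (q ^ 2 + 1) * (q - 1) * ((a * (q - 1) - h * s) ^ 2 + q * a ^ 2) +
        q ^ 2 * (q - 1) * N₂ * (4 * N₁ - 16) +
        q ^ 2 * (q - 1) * N₁ * S₂) :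
    S₂ ≠ 4 * N₂ - 16 ∧ ((a = 1 ∧ h * s = q - ρ) ∨ (a = 0 ∧ 8 * N₂ = (q + 1) * s ^ 2 ∧ s ≤ 3)) := by
  have hh2 : 16 ≤ h ^ 2 := by nlinarith
  have hq32 : 32 ≤ q := by rw [hq]; linarith
  have hNN : N₁ * N₂ = q ^ 2 + 1 := by rw [hN₁, hN₂]; linear_combination (-1 : ℤ) * hρ2
  have hqρ : 24 ≤ q - ρ := by rw [hq]; nlinarith
  have hqρ' : 24 ≤ q + ρ := by rw [hq]; nlinarith
  have hN₁25 : 25 ≤ N₁ := by rw [hN₁]; linarith
  have hN₂25 : 25 ≤ N₂ := by rw [hN₂]; linarith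
  have hq1 : q - 1 ≠ 0 := by intro h0; linarith
  have hq0 : q ≠ 0 := by intro h0; linarith
  have hF0 : 0 ≤ (a + h * s) ^ 2 := sq_nonneg _
  have hE0 : 0 ≤ (a * (q - 1) - h * s) ^ 2 + q * a ^ 2 := by
    have : 0 ≤ q * a ^ 2 := mul_nonneg (by linarith) (sq_nonneg _)
    have := sq_nonneg (a * (q - 1) - h * s)
    linarith
  generalize hF : (a + h * s) ^ 2 = F at hid hF0
  generalize hE : (a * (q - 1) - h * s) ^ 2 + q * a ^ 2 = E at hid hE0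
  -- Step 1: cancel q - 1
  have hid1 : 4 * q ^ 2 * (q ^ 2 + 1) =
      4 * (q - 1) * F + 4 * (q ^ 2 + 1) * E + q ^ 2 * N₂ * (4 * N₁ - 16) + q ^ 2 * N₁ * S₂ := by
    apply mul_left_cancel₀ hq1
    linear_combination hid
  -- Step 2
  have hid2 : 16 * q ^ 2 * N₂ = 4 * (q - 1) * F + 4 * (q ^ 2 + 1) * E + q ^ 2 * N₁ * S₂ := by
    linear_combination hid1 + (4 * q ^ 2) * hNN
  -- Step 3: S₂ ≥ 0
  have hS₂0 : 0 ≤ S₂ := by
    rcases hS₂ with h1 | ⟨v, h1⟩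
    · rw [h1]; linarith
    · rw [h1]; exact mul_nonneg (by linarith) (sq_nonneg _)
  -- Step 4
  have hq2pos : 0 < q ^ 2 := by positivity
  have h4 : N₁ * S₂ ≤ 16 * N₂ := by
    have h1 : 0 ≤ 4 * (q - 1) * F := mul_nonneg (by linarith) hF0
    have h2 : 0 ≤ 4 * (q ^ 2 + 1) * E := mul_nonneg (by positivity) hE0
    have h3 : q ^ 2 * (N₁ * S₂) ≤ q ^ 2 * (16 * N₂) := by linarith
    exact le_of_mul_le_mul_left h3 hq2pos
  -- Step 5: S₂ = 0 and the first alternative is impossible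
  have hnot : S₂ ≠ 4 * N₂ - 16 := by
    intro h1
    rw [h1] at h4
    have hsum : N₁ + N₂ = 2 * q + 2 := by rw [hN₁, hN₂]; ring
    have hqq : 32 * q ≤ q ^ 2 := by nlinarith
    have h4' : 4 * (N₁ * N₂) - 16 * N₁ ≤ 16 * N₂ := by linarith
    rw [hNN] at h4'
    linarith
  have hS₂z : S₂ = 0 := by
    rcases hS₂ with h1 | ⟨v, h1⟩
    · exact absurd h1 hnot
    · by_cases hv : v = 0
      · rw [h1, hv]; ring
      · exfalso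
        have hv1 : 1 ≤ v ^ 2 := by
          have : 0 < v ^ 2 := by positivity
          linarith
        rw [h1] at h4
        have h5 : N₁ * (q - ρ) ≤ N₁ * ((q - ρ) * v ^ 2) := by
          apply mul_le_mul_of_nonneg_left _ (by linarith)
          have := mul_le_mul_of_nonneg_left hv1 (by linarith : (0 : ℤ) ≤ q - ρ)
          linarith
        have h6 : N₁ * (q - ρ) ≤ 16 * N₂ := le_trans h5 h4
        have h7 : 9 * 24 ≤ (N₁ - 16) * (q - ρ) :=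
          mul_le_mul (by linarith) hqρ (by norm_num) (by linarith)
        rw [hN₂] at h6
        linarith
  -- Step 6
  have hid3 : 4 * q ^ 2 * N₂ = (q - 1) * F + (q ^ 2 + 1) * E := by
    rw [hS₂z] at hid2
    linarith
  refine ⟨hnot, ?_⟩
  -- Step 7
  obtain rfl | rfl : a = 0 ∨ a = 1 := by omega
  · -- a = 0
    right
    refine ⟨rfl, ?_⟩
    rw [← hF, ← hE] at hid3
    have h7 : q ^ 2 * (8 * N₂) = q ^ 2 * ((q + 1) * s ^ 2) := by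
      have : 2 * (h * s) ^ 2 = q * s ^ 2 := by rw [hq]; ring
      linear_combination 2 * hid3 + (q ^ 2 + q) * this
    have h8 : 8 * N₂ = (q + 1) * s ^ 2 := mul_left_cancel₀ (pow_ne_zero 2 hq0) h7
    refine ⟨h8, ?_⟩
    by_contra hcon
    push Not at hcon
    have h16 : 16 ≤ s ^ 2 := by nlinarith
    have h9 : (q + 1) * 16 ≤ (q + 1) * s ^ 2 := mul_le_mul_of_nonneg_left h16 (by linarith)
    rw [hN₂] at h8
    linarith
  · -- a = 1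
    left
    refine ⟨rfl, ?_⟩
    rw [← hF, ← hE] at hid3
    have h9 : q * ((h * s - (q - ρ)) * ((q + 1) * (h * s) - (q ^ 2 - 3 * q + q * ρ + ρ))) = 0 := by
      rw [hN₂] at hid3
      linear_combination (-1 : ℤ) * hid3 + (-q ^ 2 - q) * hρ2
    have h10 : (h * s - (q - ρ)) * ((q + 1) * (h * s) - (q ^ 2 - 3 * q + q * ρ + ρ)) = 0 := by
      rcases mul_eq_zero.mp h9 with h0 | h0
      · exact absurd h0 hq0
      · exact h0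
    rcases mul_eq_zero.mp h10 with h11 | h11
    · linarith
    · exfalso
      have h12 : (q + 1) * (h * s - (q - 4 + ρ)) = 4 := by linear_combination h11
      rcases le_or_gt (h * s - (q - 4 + ρ)) 0 with h13 | h13
      · have := mul_nonpos_of_nonneg_of_nonpos (by linarith : (0 : ℤ) ≤ q + 1) h13
        linarith
      · have h14 : (1 : ℤ) ≤ h * s - (q - 4 + ρ) := h13
        have := mul_le_mul_of_nonneg_left h14 (by linarith : (0 : ℤ) ≤ q + 1)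
        linarith


/-- one exceptional family: `ε = 1` for `A₁`, `ε = -1` for `A₂` -/
theorem degL_family (h q ε : ℤ) (hh : 4 ≤ h) (hq : q = 2 * h ^ 2) (hε : ε = 1 ∨ ε = -1)
    (a s : ℤ) (ha0 : 0 ≤ a) (ha : a ≤ 1) (hs0 : 0 ≤ s) (S₂ : ℤ)
    (hS₂ : S₂ = 4 * (q - 2 * ε * h + 1) - 16 ∨ ∃ v : ℤ, S₂ = (q - 2 * ε * h) * v ^ 2)
    (hid : 4 * q ^ 2 * (q ^ 2 + 1) * (q - 1) =
        4 * (q - 1) ^ 2 * (a + h * s) ^ 2 +
        4 * (q ^ 2 + 1) * (q - 1) * ((a * (q - 1) - h * s) ^ 2 + q * a ^ 2) +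
        q ^ 2 * (q - 1) * (q - 2 * ε * h + 1) * (4 * (q + 2 * ε * h + 1) - 16) +
        q ^ 2 * (q - 1) * (q + 2 * ε * h + 1) * S₂) :
    S₂ ≠ 4 * (q - 2 * ε * h + 1) - 16 ∧ a = 1 ∧ s = 2 * h - 2 * ε := by
  have hε2 : ε ^ 2 = 1 := by rcases hε with rfl | rfl <;> norm_num
  have hρ2 : (2 * ε * h) ^ 2 = 2 * q := by rw [hq]; linear_combination (4 * h ^ 2) * hε2
  have hρle : 2 * ε * h ≤ 2 * h := by rcases hε with rfl | rfl <;> linarith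
  have hρge : -(2 * h) ≤ 2 * ε * h := by rcases hε with rfl | rfl <;> linarith
  obtain ⟨hnot, hcase⟩ := degL_family_core h q (2 * ε * h) (q + 2 * ε * h + 1) (q - 2 * ε * h + 1)
    hh hq hρ2 hρle hρge rfl rfl a s ha0 ha hs0 S₂ hS₂ hid
  refine ⟨hnot, ?_⟩
  rcases hcase with ⟨ha1, hs⟩ | ⟨_, h8, hs3⟩
  · refine ⟨ha1, ?_⟩
    have h12 : h * s = h * (2 * h - 2 * ε) := by rw [hs, hq]; ring
    exact mul_left_cancel₀ (by intro h0; linarith) h12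
  · exfalso
    rw [hq] at h8
    rcases hε with rfl | rfl <;> interval_cases s <;> ring_nf at h8 <;> omega

/-- the facts on one exceptional family `Y` (the other family is `Y'`) -/
theorem degL_family_set (h q ε : ℤ) (hh : 4 ≤ h) (hq : q = 2 * h ^ 2) (hε : ε = 1 ∨ ε = -1)
    {ι : Type*} [Fintype ι] (a b c : ι → ℕ)
    (s1 : ∑ i, (a i : ℤ) ^ 2 = h ^ 2)
    (s4 : ∑ i, ((b i : ℤ) - c i) ^ 2 = 2)
    (Y Y' : Finset ι) (hY : (Y.card : ℤ) * 4 = q + 2 * ε * h)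
    (hc : ∀ i ∈ Y, ∀ j ∈ Y, a i = a j ∧ b i = b j ∧ c i = c j)
    (hNY : ∀ i ∈ Y, ∃ S₂ : ℤ, (i ∈ Y' → S₂ = 4 * (q - 2 * ε * h + 1) - 16) ∧
      (i ∉ Y' → ∃ v : ℤ, S₂ = (q - 2 * ε * h) * v ^ 2) ∧
      4 * q ^ 2 * (q ^ 2 + 1) * (q - 1) =
        4 * (q - 1) ^ 2 * ((a i : ℤ) + h * ((b i : ℤ) + c i)) ^ 2 +
        4 * (q ^ 2 + 1) * (q - 1) * (((a i : ℤ) * (q - 1) - h * ((b i : ℤ) + c i)) ^ 2 +
          q * ((a i : ℤ) ^ 2 + h ^ 2 * ((b i : ℤ) - c i) ^ 2)) +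
        q ^ 2 * (q - 1) * (q - 2 * ε * h + 1) * (4 * (q + 2 * ε * h + 1) - 16) +
        q ^ 2 * (q - 1) * (q + 2 * ε * h + 1) * S₂) :
    ∀ i ∈ Y, i ∉ Y' ∧ a i = 1 ∧ b i = c i ∧ (b i : ℤ) + c i = 2 * h - 2 * ε := by
  classical
  have hh2 : 16 ≤ h ^ 2 := by nlinarith
  have hρle : 2 * ε * h ≤ 2 * h := by rcases hε with rfl | rfl <;> linarith
  have hρge : -(2 * h) ≤ 2 * ε * h := by rcases hε with rfl | rfl <;> linarith
  have ht : 2 * h ^ 2 - 2 * h ≤ (Y.card : ℤ) * 4 := by rw [hY, hq]; linarith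
  have ht24 : 24 ≤ (Y.card : ℤ) * 4 := by nlinarith
  intro i₀ hi₀
  have hY' : ∀ i ∈ Y, a i = a i₀ ∧ b i = b i₀ ∧ c i = c i₀ := fun i hi => hc i hi i₀ hi₀
  have const : ∀ f : ι → ℤ, (∀ i ∈ Y, f i = f i₀) → ∑ i ∈ Y, f i = (Y.card : ℤ) * f i₀ := by
    intro f hf
    rw [Finset.sum_congr rfl hf, Finset.sum_const, nsmul_eq_mul]
  -- b = c
  have hbc : b i₀ = c i₀ := by
    have h1 : ∑ i ∈ Y, ((b i : ℤ) - c i) ^ 2 ≤ 2 := by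
      rw [← s4]
      exact Finset.sum_le_univ_sum_of_nonneg (fun i => sq_nonneg _)
    rw [const (fun i => ((b i : ℤ) - c i) ^ 2)
      (fun i hi => by simp only [(hY' i hi).2.1, (hY' i hi).2.2])] at h1
    have h2 : ((b i₀ : ℤ) - c i₀) ^ 2 = 0 := by
      by_contra hne
      have hpos : 0 < ((b i₀ : ℤ) - c i₀) ^ 2 := lt_of_le_of_ne (sq_nonneg _) (Ne.symm hne)
      have h3 : (Y.card : ℤ) * 1 ≤ (Y.card : ℤ) * ((b i₀ : ℤ) - c i₀) ^ 2 :=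
        mul_le_mul_of_nonneg_left hpos (by positivity)
      linarith
    have h3 : (b i₀ : ℤ) - c i₀ = 0 := by simpa using h2
    omega
  -- a ≤ 1
  have ha1 : a i₀ ≤ 1 := by
    have h1 : ∑ i ∈ Y, (a i : ℤ) ^ 2 ≤ h ^ 2 := by
      rw [← s1]
      exact Finset.sum_le_univ_sum_of_nonneg (fun i => sq_nonneg _)
    rw [const (fun i => (a i : ℤ) ^ 2) (fun i hi => by simp only [(hY' i hi).1])] at h1
    by_contra hcon
    push Not at hcon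
    have h2 : (2 : ℤ) ≤ a i₀ := by exact_mod_cast hcon
    have h3 : (4 : ℤ) ≤ (a i₀ : ℤ) ^ 2 := by nlinarith
    have h4 : (Y.card : ℤ) * 4 ≤ (Y.card : ℤ) * (a i₀ : ℤ) ^ 2 :=
      mul_le_mul_of_nonneg_left h3 (by positivity)
    nlinarith
  obtain ⟨S₂, hin, hout, hid⟩ := hNY i₀ hi₀
  have hS₂ : S₂ = 4 * (q - 2 * ε * h + 1) - 16 ∨ ∃ v : ℤ, S₂ = (q - 2 * ε * h) * v ^ 2 := by
    by_cases hm : i₀ ∈ Y'
    · exact Or.inl (hin hm)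
    · exact Or.inr (hout hm)
  have hid' : 4 * q ^ 2 * (q ^ 2 + 1) * (q - 1) =
        4 * (q - 1) ^ 2 * ((a i₀ : ℤ) + h * (((b i₀ : ℤ) + c i₀))) ^ 2 +
        4 * (q ^ 2 + 1) * (q - 1) * (((a i₀ : ℤ) * (q - 1) - h * ((b i₀ : ℤ) + c i₀)) ^ 2 +
          q * (a i₀ : ℤ) ^ 2) +
        q ^ 2 * (q - 1) * (q - 2 * ε * h + 1) * (4 * (q + 2 * ε * h + 1) - 16) +
        q ^ 2 * (q - 1) * (q + 2 * ε * h + 1) * S₂ := by
    rw [hid, hbc]; ring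
  obtain ⟨hnot, ha, hs⟩ := degL_family h q ε hh hq hε (a i₀ : ℤ) ((b i₀ : ℤ) + c i₀)
    (by positivity) (by exact_mod_cast ha1) (by positivity) S₂ hS₂ hid'
  refine ⟨fun hm => hnot (hin hm), by exact_mod_cast ha, hbc, hs⟩

theorem deg_large (m : ℕ) (hm : 2 ≤ m) (q h r : ℤ) (hh : h = 2 ^ m) (hq : q = 2 * h ^ 2) (hr : r = 2 * h)
    {ι : Type*} [Fintype ι] (a b c : ι → ℕ)
    (hpos : ∀ i, 0 < a i + b i + c i)
    (s1 : ∑ i, (a i : ℤ) ^ 2 = h ^ 2)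
    (s3 : ∑ i, ((b i : ℤ) + c i) ^ 2 = q ^ 2 - 2 * q + 2)
    (s4 : ∑ i, ((b i : ℤ) - c i) ^ 2 = 2)
    (Y₁ Y₂ : Finset ι) (hY₁ : (Y₁.card : ℤ) * 4 = q + r) (hY₂ : (Y₂.card : ℤ) * 4 = q - r)
    (hc₁ : ∀ i ∈ Y₁, ∀ j ∈ Y₁, a i = a j ∧ b i = b j ∧ c i = c j)
    (hc₂ : ∀ i ∈ Y₂, ∀ j ∈ Y₂, a i = a j ∧ b i = b j ∧ c i = c j)
    (hN : ∀ i, ∃ S₁ S₂ : ℤ,
      (i ∈ Y₁ → S₁ = 4 * (q + r + 1) - 16) ∧ (i ∉ Y₁ → ∃ v : ℤ, S₁ = (q + r) * v ^ 2) ∧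
      (i ∈ Y₂ → S₂ = 4 * (q - r + 1) - 16) ∧ (i ∉ Y₂ → ∃ v : ℤ, S₂ = (q - r) * v ^ 2) ∧
      4 * q ^ 2 * (q ^ 2 + 1) * (q - 1) =
        4 * (q - 1) ^ 2 * ((a i : ℤ) + h * ((b i : ℤ) + c i)) ^ 2 +
        4 * (q ^ 2 + 1) * (q - 1) * (((a i : ℤ) * (q - 1) - h * ((b i : ℤ) + c i)) ^ 2 +
          q * ((a i : ℤ) ^ 2 + h ^ 2 * ((b i : ℤ) - c i) ^ 2)) +
        q ^ 2 * (q - 1) * (q - r + 1) * S₁ + q ^ 2 * (q - 1) * (q + r + 1) * S₂) :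
    (∀ i, (a i : ℤ) + h * ((b i : ℤ) + c i) = h ∨ (a i : ℤ) + h * ((b i : ℤ) + c i) = q + 1 - r ∨
      (a i : ℤ) + h * ((b i : ℤ) + c i) = q + r + 1) ∧
    (∃ i, (a i : ℤ) + h * ((b i : ℤ) + c i) = h) ∧
    (∃ i, (a i : ℤ) + h * ((b i : ℤ) + c i) = q + 1 - r) ∧
    (∃ i, (a i : ℤ) + h * ((b i : ℤ) + c i) = q + r + 1) := by
  classical
  have hh4 : 4 ≤ h := by
    rw [hh]
    calc (4 : ℤ) = 2 ^ 2 := by norm_num
      _ ≤ 2 ^ m := pow_le_pow_right₀ (by norm_num) hm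
  have F₁ := degL_family_set h q 1 hh4 hq (Or.inl rfl) a b c s1 s4 Y₁ Y₂
    (by rw [hY₁, hr]; ring) hc₁ (by
      intro i hi
      obtain ⟨S₁, S₂, h1in, h1out, h2in, h2out, hid⟩ := hN i
      refine ⟨S₂, ?_, ?_, ?_⟩
      · intro hm; rw [h2in hm, hr]; ring
      · intro hm; obtain ⟨v, hv⟩ := h2out hm; exact ⟨v, by rw [hv, hr]; ring⟩
      · have hS₁ := h1in hi
        rw [hr] at hid hS₁
        linear_combination hid + (q ^ 2 * (q - 1) * (q - 2 * h + 1)) * hS₁)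
  have F₂ := degL_family_set h q (-1) hh4 hq (Or.inr rfl) a b c s1 s4 Y₂ Y₁
    (by rw [hY₂, hr]; ring) hc₂ (by
      intro i hi
      obtain ⟨S₁, S₂, h1in, h1out, h2in, h2out, hid⟩ := hN i
      refine ⟨S₁, ?_, ?_, ?_⟩
      · intro hm; rw [h1in hm, hr]; ring
      · intro hm; obtain ⟨v, hv⟩ := h1out hm; exact ⟨v, by rw [hv, hr]; ring⟩
      · have hS₂ := h2in hi
        rw [hr] at hid hS₂
        linear_combination hid + (q ^ 2 * (q - 1) * (q + 2 * h + 1)) * hS₂)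
  clear hN hc₁ hc₂ s4
  subst hr
  subst hq
  have hh2 : 16 ≤ h ^ 2 := by nlinarith
  have hdisj : Disjoint Y₁ Y₂ := Finset.disjoint_left.mpr (fun i h1 h2 => (F₁ i h1).1 h2)
  have split : ∀ f : ι → ℤ, ∑ i, f i =
      ∑ i ∈ Y₁, f i + ∑ i ∈ Y₂, f i + ∑ i ∈ (Y₁ ∪ Y₂)ᶜ, f i := by
    intro f
    rw [← Finset.sum_add_sum_compl (Y₁ ∪ Y₂) f, Finset.sum_union hdisj]
  set T := (Y₁ ∪ Y₂)ᶜ with hT
  have hmemT : ∀ i, i ∉ Y₁ → i ∉ Y₂ → i ∈ T := by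
    intro i h1 h2
    rw [hT, Finset.mem_compl, Finset.mem_union]
    tauto
  -- the a-sum
  have e1 : ∑ i ∈ Y₁, (a i : ℤ) ^ 2 = (Y₁.card : ℤ) := by
    rw [Finset.sum_congr rfl (fun i hi => by rw [(F₁ i hi).2.1]; norm_num :
      ∀ i ∈ Y₁, (a i : ℤ) ^ 2 = 1)]
    simp
  have e2 : ∑ i ∈ Y₂, (a i : ℤ) ^ 2 = (Y₂.card : ℤ) := by
    rw [Finset.sum_congr rfl (fun i hi => by rw [(F₂ i hi).2.1]; norm_num :
      ∀ i ∈ Y₂, (a i : ℤ) ^ 2 = 1)]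
    simp
  have s1' := split (fun i => (a i : ℤ) ^ 2)
  rw [s1, e1, e2] at s1'
  have hTa : ∑ i ∈ T, (a i : ℤ) ^ 2 = 0 := by linarith
  have hazero : ∀ i ∈ T, a i = 0 := by
    intro i hi
    have := (Finset.sum_eq_zero_iff_of_nonneg (fun i _ => sq_nonneg ((a i : ℤ)))).mp hTa i hi
    have h0 : (a i : ℤ) = 0 := by simpa using this
    exact_mod_cast h0
  -- the s-sum
  have e3 : ∑ i ∈ Y₁, ((b i : ℤ) + c i) ^ 2 = (Y₁.card : ℤ) * (2 * h - 2 * 1) ^ 2 := by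
    rw [Finset.sum_congr rfl (fun i hi => by rw [(F₁ i hi).2.2.2] :
      ∀ i ∈ Y₁, ((b i : ℤ) + c i) ^ 2 = (2 * h - 2 * 1) ^ 2), Finset.sum_const, nsmul_eq_mul]
  have e4 : ∑ i ∈ Y₂, ((b i : ℤ) + c i) ^ 2 = (Y₂.card : ℤ) * (2 * h - 2 * (-1)) ^ 2 := by
    rw [Finset.sum_congr rfl (fun i hi => by rw [(F₂ i hi).2.2.2] :
      ∀ i ∈ Y₂, ((b i : ℤ) + c i) ^ 2 = (2 * h - 2 * (-1)) ^ 2), Finset.sum_const, nsmul_eq_mul]
  have s3' := split (fun i => ((b i : ℤ) + c i) ^ 2)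
  rw [s3, e3, e4] at s3'
  have hTs : ∑ i ∈ T, ((b i : ℤ) + c i) ^ 2 = 2 := by
    have : 4 * ∑ i ∈ T, ((b i : ℤ) + c i) ^ 2 = 8 := by
      linear_combination (-4 : ℤ) * s3' - (2 * h - 2) ^ 2 * hY₁ - (2 * h + 2) ^ 2 * hY₂
    linarith
  have hs1 : ∀ i ∈ T, b i + c i = 1 := by
    intro i hi
    have hle := Finset.single_le_sum (f := fun i => ((b i : ℤ) + c i) ^ 2)
      (fun _ _ => sq_nonneg _) hi
    rw [hTs] at hle
    have h0 : (0 : ℤ) ≤ (b i : ℤ) + c i := by positivity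
    have h1 : (b i : ℤ) + c i ≤ 1 := by nlinarith
    have := hpos i
    rw [hazero i hi] at this
    omega
  obtain ⟨k, hk⟩ : T.Nonempty := by
    rw [Finset.nonempty_iff_ne_empty]
    intro hemp
    rw [hemp, Finset.sum_empty] at hTs
    norm_num at hTs
  obtain ⟨i₁, hi₁⟩ : Y₁.Nonempty := by
    rw [Finset.nonempty_iff_ne_empty]
    intro hemp
    rw [hemp, Finset.card_empty] at hY₁
    push_cast at hY₁
    nlinarith
  obtain ⟨i₂, hi₂⟩ : Y₂.Nonempty := by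
    rw [Finset.nonempty_iff_ne_empty]
    intro hemp
    rw [hemp, Finset.card_empty] at hY₂
    push_cast at hY₂
    nlinarith
  have D₁ : ∀ i ∈ Y₁, (a i : ℤ) + h * ((b i : ℤ) + c i) = 2 * h ^ 2 + 1 - 2 * h := by
    intro i hi
    rw [(F₁ i hi).2.1, (F₁ i hi).2.2.2]; push_cast; ring
  have D₂ : ∀ i ∈ Y₂, (a i : ℤ) + h * ((b i : ℤ) + c i) = 2 * h ^ 2 + 2 * h + 1 := by
    intro i hi
    rw [(F₂ i hi).2.1, (F₂ i hi).2.2.2]; push_cast; ring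
  have D₀ : ∀ i ∈ T, (a i : ℤ) + h * ((b i : ℤ) + c i) = h := by
    intro i hi
    have h1 : ((b i : ℤ) + c i) = 1 := by exact_mod_cast hs1 i hi
    rw [hazero i hi, h1]; push_cast; ring
  refine ⟨?_, ⟨k, D₀ k hk⟩, ⟨i₁, D₁ i₁ hi₁⟩, ⟨i₂, D₂ i₂ hi₂⟩⟩
  intro i
  by_cases h1 : i ∈ Y₁
  · exact Or.inr (Or.inl (D₁ i h1))
  · by_cases h2 : i ∈ Y₂
    · exact Or.inr (Or.inr (D₂ i h2))
    · exact Or.inl (D₀ i (hmemT i h1 h2))

end Cfsg.Agent.Lib.Helper51.SzCh
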