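/-
helper51: project SZCH (helper6, S4775), module SZCH-[NORM-ID], abstract form:
`∑_g |χ(g)|² = |G|` for a cuspidal irreducible `χ`, split over the pieces `1`, `Q`, `K`, `A₁`, `A₂`.
The inputs from SZCH-[G-SUM] (`four_sum`) and SZCH-[C-VAL] (`cusp_degree`, `cusp_sum_K`, `cusp_sum_Q`)
are hypotheses here; `SzChNormId.lean` plugs them in.
-/
import Mathlib
import Cfsg.Agent.Lib.Helper6.SzCh.Defs
import Cfsg.Agent.Lib.Helper78.CharOrtho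
import Cfsg.Agent.Lib.Helper78.CharValues

set_option autoImplicit false

namespace Cfsg.Agent.Lib.Helper51.SzCh

open Cfsg Cfsg.Agent.Lib.Helper6.SzCh
open scoped ComplexConjugate Classical

universe u

variable {G : Type u} [Group G]

theorem one_le_qOf (m : ℕ) : 1 ≤ qOf m := Nat.one_le_two_pow

/-- `|G| = q²(q²+1)(q-1)` in `ℂ` -/
theorem card_G_cast [Finite G] (D : SzData G) :
    (Nat.card G : ℂ) = (D.q : ℂ) ^ 2 * ((D.q : ℂ) ^ 2 + 1) * ((D.q : ℂ) - 1) := by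
  rw [D.card_G]
  have h1 : 1 ≤ qOf D.m := one_le_qOf D.m
  show ((qOf D.m ^ 2 * (qOf D.m ^ 2 + 1) * (qOf D.m - 1) : ℕ) : ℂ) = _
  rw [SzData.q]
  push_cast [Nat.cast_sub h1]
  ring

/-- first orthogonality: `∑_g |χ(g)|² = |G|` -/
theorem sum_norm_irr [Fintype G] {χ : G → ℂ} (hχ : IsIrrCharacter G χ) :
    ∑ g : G, χ g * conj (χ g) = (Nat.card G : ℂ) := by
  have h1 := Cfsg.Agent.Lib.Helper78.classInner_irr_self hχ
  unfold classInner at h1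
  have h0 : (Nat.card G : ℂ) ≠ 0 := by
    have : Nat.card G ≠ 0 := Nat.card_pos.ne'
    exact_mod_cast this
  field_simp at h1
  exact h1

theorem norm_id_of [Fintype G] (D : SzData G) [Fintype ↥D.B] (T : BTable D) {χ : G → ℂ}
    (hχ : IsIrrCharacter G χ)
    (h4 : 4 * ∑ g : G, χ g * conj (χ g) = 4 * (χ 1 * conj (χ 1))
      + 4 * ((D.q : ℂ) ^ 2 + 1) * sumNe D.Q (fun g => χ g * conj (χ g))
      + 2 * (D.q : ℂ) ^ 2 * ((D.q : ℂ) ^ 2 + 1) * sumNe D.K (fun g => χ g * conj (χ g))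
      + (D.q : ℂ) ^ 2 * ((D.q : ℂ) - 1) * (Nat.card D.A₂ : ℂ) * sumNe D.A₁ (fun g => χ g * conj (χ g))
      + (D.q : ℂ) ^ 2 * ((D.q : ℂ) - 1) * (Nat.card D.A₁ : ℂ) * sumNe D.A₂ (fun g => χ g * conj (χ g)))
    (hdeg : charDegree χ = (D.q - 1) * (T.pa χ + D.h * (T.pb χ + T.pc χ)))
    (hK : sumNe D.K (fun g => χ g * conj (χ g)) = 0)
    (hQ : sumNe D.Q (fun g => χ g * conj (χ g)) = ((D.q : ℂ) - 1) *
      (((T.pa χ : ℂ) * ((D.q : ℂ) - 1) - (D.h : ℂ) * ((T.pb χ : ℂ) + (T.pc χ : ℂ))) ^ 2 +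
        (D.q : ℂ) * ((T.pa χ : ℂ) ^ 2 + (D.h : ℂ) ^ 2 * ((T.pb χ : ℂ) - (T.pc χ : ℂ)) ^ 2))) :
    4 * (D.q : ℂ) ^ 2 * ((D.q : ℂ) ^ 2 + 1) * ((D.q : ℂ) - 1) =
      4 * ((D.q : ℂ) - 1) ^ 2 * ((T.pa χ : ℂ) + (D.h : ℂ) * ((T.pb χ : ℂ) + (T.pc χ : ℂ))) ^ 2 +
      4 * ((D.q : ℂ) ^ 2 + 1) * ((D.q : ℂ) - 1) *
        (((T.pa χ : ℂ) * ((D.q : ℂ) - 1) - (D.h : ℂ) * ((T.pb χ : ℂ) + (T.pc χ : ℂ))) ^ 2 +
          (D.q : ℂ) * ((T.pa χ : ℂ) ^ 2 + (D.h : ℂ) ^ 2 * ((T.pb χ : ℂ) - (T.pc χ : ℂ)) ^ 2)) +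
      (D.q : ℂ) ^ 2 * ((D.q : ℂ) - 1) * (Nat.card D.A₂ : ℂ) * sumNe D.A₁ (fun g => χ g * conj (χ g)) +
      (D.q : ℂ) ^ 2 * ((D.q : ℂ) - 1) * (Nat.card D.A₁ : ℂ) * sumNe D.A₂ (fun g => χ g * conj (χ g)) := by
  have h1 : χ 1 = ((D.q : ℂ) - 1) * ((T.pa χ : ℂ) + (D.h : ℂ) * ((T.pb χ : ℂ) + (T.pc χ : ℂ))) := by
    rw [Cfsg.Agent.Lib.Helper78.IsCharacter.apply_one_eq_charDegree
      (Cfsg.Agent.Lib.Helper78.IsIrrCharacter.isCharacter hχ), hdeg]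
    have hq1 : 1 ≤ D.q := one_le_qOf D.m
    push_cast [Nat.cast_sub hq1]
    ring
  have h1c : conj (χ 1) = χ 1 := by
    rw [Cfsg.Agent.Lib.Helper78.IsCharacter.apply_one_eq_charDegree
      (Cfsg.Agent.Lib.Helper78.IsIrrCharacter.isCharacter hχ)]
    exact Complex.conj_natCast _
  rw [sum_norm_irr hχ, card_G_cast D, h1c, hK, hQ, h1] at h4
  linear_combination h4

end Cfsg.Agent.Lib.Helper51.SzCh
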