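/-
helper51: project SZCH (helper6, S4775), module SZCH-[NORM-ID]:
`∑_g |χ(g)|² = |G|` for a cuspidal irreducible `χ`, split over the pieces.
-/
import Mathlib
import Cfsg.Agent.Lib.Helper6.SzCh.Defs
import Cfsg.Agent.Lib.Helper51.SzChNormIdOf
import Cfsg.Agent.Lib.Helper45.SzChGSum
import Cfsg.Agent.Lib.Helper25.SzChCVal

set_option autoImplicit false

namespace Cfsg.Agent.Lib.Helper51.SzCh

open Cfsg Cfsg.Agent.Lib.Helper6.SzCh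
open scoped ComplexConjugate Classical

universe u

variable {G : Type u} [Group G]

theorem norm_id [Fintype G] (D : SzData G) [Fintype ↥D.B] (T : BTable D) {χ : G → ℂ}
    (hχ : IsIrrCharacter G χ) (hc : IsCusp D χ) :
    4 * (D.q : ℂ) ^ 2 * ((D.q : ℂ) ^ 2 + 1) * ((D.q : ℂ) - 1) =
      4 * ((D.q : ℂ) - 1) ^ 2 * ((T.pa χ : ℂ) + (D.h : ℂ) * ((T.pb χ : ℂ) + (T.pc χ : ℂ))) ^ 2 +
      4 * ((D.q : ℂ) ^ 2 + 1) * ((D.q : ℂ) - 1) *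
        (((T.pa χ : ℂ) * ((D.q : ℂ) - 1) - (D.h : ℂ) * ((T.pb χ : ℂ) + (T.pc χ : ℂ))) ^ 2 +
          (D.q : ℂ) * ((T.pa χ : ℂ) ^ 2 + (D.h : ℂ) ^ 2 * ((T.pb χ : ℂ) - (T.pc χ : ℂ)) ^ 2)) +
      (D.q : ℂ) ^ 2 * ((D.q : ℂ) - 1) * (Nat.card D.A₂ : ℂ) * sumNe D.A₁ (fun g => χ g * conj (χ g)) +
      (D.q : ℂ) ^ 2 * ((D.q : ℂ) - 1) * (Nat.card D.A₁ : ℂ) * sumNe D.A₂ (fun g => χ g * conj (χ g)) := by
  have hcf : ∀ g x : G, (fun g => χ g * conj (χ g)) (x * g * x⁻¹) = (fun g => χ g * conj (χ g)) g := by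
    intro g x
    have := Cfsg.Agent.Lib.Helper78.isClassFunction_irr ⟨χ, hχ⟩ g x
    simp only at this ⊢
    rw [this]
  exact norm_id_of D T hχ (Cfsg.Agent.Lib.Helper45.SzCh.four_sum D (fun g => χ g * conj (χ g)) hcf) (Cfsg.Agent.Lib.Helper25.SzCh.cusp_degree D T hχ hc)
    (Cfsg.Agent.Lib.Helper25.SzCh.cusp_sum_K D T hχ hc) (Cfsg.Agent.Lib.Helper25.SzCh.cusp_sum_Q D T hχ hc)

end Cfsg.Agent.Lib.Helper51.SzCh
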