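import Cfsg.Agent.Lib.Helper51.BGTwelveDefs
import Cfsg.Agent.Lib.Helper34.NonSigma
import Cfsg.Agent.Lib.Helper54.Coprime
import Cfsg.Agent.Lib.Helper54.BGTransitivity
import Cfsg.Agent.Lib.Helper24.HallCore

/-!
# Bender–Glauberman Lemma 12.3 (helper51)

`lemma_12_3b`, `lemma_12_3a`: for maximal subgroups `M ≠ M*`, `A ∈ E_p^2(M)`, `A₀ ∈ E^1(A)` with
`N_G(A₀) ≤ M*`: if `p ∉ α(M)` then `A` centralizes `M_α ∩ M*`; if `p ∉ σ(M)` and `M_σ` is nilpotent
then `A` centralizes `M_σ ∩ M*`.  Inputs: BG 10.7, 12.2(b), 11.2(a), 11.4 (as hypotheses `H…`).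
-/

set_option autoImplicit false

namespace Cfsg.Agent.Lib.Helper51.BG12

open Cfsg
open scoped commutatorElement

variable {G : Type*} [Group G]

/-! ### `σ(M)` in terms of subgroups of `G`, conjugation invariance -/

theorem mem_sigma_iff (M : Subgroup G) (p : ℕ) [Fact p.Prime] :
    p ∈ sigma M ↔ p ∣ Nat.card M ∧ ∃ Q : Subgroup G, Q ≤ M ∧ IsPGroup p Q ∧
      (∀ R : Subgroup G, R ≤ M → IsPGroup p R → Q ≤ R → R = Q) ∧
      Subgroup.normalizer (Q : Set G) ≤ M := by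
  constructor
  · rintro ⟨_, hd, P, hP⟩
    refine ⟨hd, (P : Subgroup M).map M.subtype, Subgroup.map_subtype_le _, P.2.map _, ?_, hP⟩
    intro R hRM hRp hQR
    have h1 : (P : Subgroup M) ≤ R.subgroupOf M := by
      intro x hx
      exact Subgroup.mem_subgroupOf.mpr (hQR ⟨x, hx, rfl⟩)
    have h2 : R.subgroupOf M = P := P.is_maximal' (hRp.comap_subtype) h1
    rw [← h2, Subgroup.map_subgroupOf_eq_of_le hRM]
  · rintro ⟨hd, Q, hQM, hQp, hmax, hN⟩
    refine ⟨Fact.out, hd, ?_⟩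
    have hmax' : ∀ {R : Subgroup M}, IsPGroup p R → Q.subgroupOf M ≤ R → R = Q.subgroupOf M := by
      intro R hRp hQR
      have h1 : R.map M.subtype = Q := by
        apply hmax _ (Subgroup.map_subtype_le _) (hRp.map _)
        intro x hx
        exact ⟨⟨x, hQM hx⟩, hQR (Subgroup.mem_subgroupOf.mpr hx), rfl⟩
      rw [← h1]
      exact (Subgroup.comap_map_eq_self_of_injective M.subtype_injective R).symm
    refine ⟨⟨Q.subgroupOf M, hQp.comap_subtype, hmax'⟩, ?_⟩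
    show Subgroup.normalizer (((Q.subgroupOf M).map M.subtype : Subgroup G) : Set G) ≤ M
    rw [Subgroup.map_subgroupOf_eq_of_le hQM]
    exact hN

theorem cj_cj_inv (g : G) (M : Subgroup G) : cj g⁻¹ (cj g M) = M :=
  Cfsg.Agent.Lib.Helper34.map_conj_inv_map_conj M g

theorem sigma_cj_subset (g : G) (M : Subgroup G) : sigma M ⊆ sigma (cj g M) := by
  intro p hp
  have hpp : p.Prime := hp.1
  have : Fact p.Prime := ⟨hpp⟩
  rw [mem_sigma_iff] at hp ⊢
  obtain ⟨hd, Q, hQM, hQp, hmax, hN⟩ := hp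
  refine ⟨by rwa [Cfsg.Agent.Lib.Helper34.card_map_conj], cj g Q, Subgroup.map_mono hQM,
    hQp.map _, ?_, ?_⟩
  · intro R hRM hRp hQR
    have h1 : cj g⁻¹ R = Q := by
      apply hmax
      · have := Subgroup.map_mono (f := (MulAut.conj g⁻¹).toMonoidHom) hRM
        rwa [Cfsg.Agent.Lib.Helper34.map_conj_inv_map_conj] at this
      · exact hRp.map _
      · have := Subgroup.map_mono (f := (MulAut.conj g⁻¹).toMonoidHom) hQR
        rwa [Cfsg.Agent.Lib.Helper34.map_conj_inv_map_conj] at this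
    rw [← h1]
    exact (Cfsg.Agent.Lib.Helper34.map_conj_map_conj_inv R g).symm
  · rw [← Cfsg.Agent.Lib.Helper34.map_conj_normalizer]
    exact Subgroup.map_mono hN

theorem sigma_cj (g : G) (M : Subgroup G) : sigma (cj g M) = sigma M := by
  apply Set.Subset.antisymm
  · have := sigma_cj_subset g⁻¹ (cj g M)
    rwa [show cj g⁻¹ (cj g M) = M from cj_cj_inv g M] at this
  · exact sigma_cj_subset g M

/-! ### `p'`-elements of `S·A` lie in `S` -/

theorem mem_of_mem_sup_pGroup [Finite G] {p : ℕ} [Fact p.Prime] {S A : Subgroup G}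
    (hAS : A ≤ Subgroup.normalizer (S : Set G)) (hA : IsPGroup p A) {x : G} (hx : x ∈ S ⊔ A)
    (hco : (orderOf x).Coprime p) : x ∈ S := by
  set N : Subgroup G := S ⊔ A with hN
  have hSN : S ≤ N := le_sup_left
  have hNS : N ≤ Subgroup.normalizer (S : Set G) := sup_le Subgroup.le_normalizer hAS
  have : (S.subgroupOf N).Normal := Subgroup.normal_subgroupOf_of_le_normalizer hNS
  have hidx : (S.subgroupOf N).index = S.relIndex A := by
    have := Cfsg.Agent.Lib.Helper54.relIndex_sup_of_le_normalizer hAS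
    rw [sup_comm] at this
    exact this
  have hdvd : S.relIndex A ∣ Nat.card A := Subgroup.relIndex_dvd_card S A
  obtain ⟨k, hk⟩ := IsPGroup.iff_card.mp hA
  have hco2 : (orderOf (⟨x, hx⟩ : N)).Coprime (S.subgroupOf N).index := by
    rw [hidx, Subgroup.orderOf_mk]
    apply Nat.Coprime.coprime_dvd_right hdvd
    rw [hk]
    exact Nat.Coprime.pow_right k hco
  have := Cfsg.Agent.Lib.Helper24.mem_of_coprime_index (S.subgroupOf N) ⟨x, hx⟩ hco2
  exact Subgroup.mem_subgroupOf.mp this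

theorem coprime_orderOf_of_not_dvd_card [Finite G] {p : ℕ} [Fact p.Prime] {K : Subgroup G}
    (hK : ¬ p ∣ Nat.card K) {x : G} (hx : x ∈ K) : (orderOf x).Coprime p := by
  have h1 : orderOf x ∣ Nat.card K := by
    have := orderOf_dvd_natCard (⟨x, hx⟩ : K)
    rwa [Subgroup.orderOf_mk] at this
  have hp : p.Prime := Fact.out
  exact (Nat.Coprime.coprime_dvd_left h1 ((Nat.Prime.coprime_iff_not_dvd hp).mpr hK).symm)

/-! ### Lemma C -/

theorem commutator_le_inf_sigmaCore [Finite G] {p : ℕ} [Fact p.Prime] {Ms A K : Subgroup G}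
    (hN : Ms ≤ Subgroup.normalizer ((sigmaCore Ms ⊔ A : Subgroup G) : Set G))
    (hAp : IsPGroup p A) (hAMs : A ≤ Ms) (hKMs : K ≤ Ms)
    (hAK : A ≤ Subgroup.normalizer (K : Set G)) (hKp : ¬ p ∣ Nat.card K) :
    ⁅K, A⁆ ≤ K ⊓ sigmaCore Ms := by
  have hAS : A ≤ Subgroup.normalizer ((sigmaCore Ms : Subgroup G) : Set G) :=
    hAMs.trans (Cfsg.Agent.Lib.Helper54.le_normalizer_piCoreOf (sigma Ms) Ms)
  have h1 : ⁅K, A⁆ ≤ K := by
    rw [Subgroup.commutator_le]
    intro k hk a ha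
    rw [commutatorElement_def]
    have h2 : a * k⁻¹ * a⁻¹ ∈ K :=
      (Subgroup.mem_normalizer_iff.mp (hAK ha) k⁻¹).mp (K.inv_mem hk)
    have : k * a * k⁻¹ * a⁻¹ = k * (a * k⁻¹ * a⁻¹) := by group
    rw [this]
    exact K.mul_mem hk h2
  have h2 : ⁅K, A⁆ ≤ sigmaCore Ms ⊔ A := by
    rw [Subgroup.commutator_le]
    intro k hk a ha
    rw [commutatorElement_def]
    have haN : a ∈ sigmaCore Ms ⊔ A := (le_sup_right : A ≤ sigmaCore Ms ⊔ A) ha
    have h3 : k * a * k⁻¹ ∈ sigmaCore Ms ⊔ A :=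
      (Subgroup.mem_normalizer_iff.mp (hN (hKMs hk)) a).mp haN
    exact Subgroup.mul_mem _ h3 (Subgroup.inv_mem _ haN)
  intro x hx
  refine ⟨h1 hx, ?_⟩
  exact mem_of_mem_sup_pGroup hAS hAp (h2 hx) (coprime_orderOf_of_not_dvd_card hKp (h1 hx))

/-- If `D` is an `A`-invariant `p'`-subgroup with `D ∩ M*_σ = 1`, then `A` centralizes `D ∩ M*`. -/
theorem inf_le_centralizer_of_inf_sigmaCore_eq_bot [Finite G] {p : ℕ} [Fact p.Prime]
    {Ms A D : Subgroup G}
    (hN : Ms ≤ Subgroup.normalizer ((sigmaCore Ms ⊔ A : Subgroup G) : Set G))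
    (hAp : IsPGroup p A) (hAMs : A ≤ Ms)
    (hAD : A ≤ Subgroup.normalizer (D : Set G)) (hDp : ¬ p ∣ Nat.card D)
    (hDS : D ⊓ sigmaCore Ms = ⊥) : D ⊓ Ms ≤ Subgroup.centralizer (A : Set G) := by
  have hAK : A ≤ Subgroup.normalizer ((D ⊓ Ms : Subgroup G) : Set G) :=
    Cfsg.Agent.Lib.Helper54.le_normalizer_inf hAD (hAMs.trans Subgroup.le_normalizer)
  have hKp : ¬ p ∣ Nat.card (D ⊓ Ms : Subgroup G) :=
    fun h => hDp (h.trans (Subgroup.card_dvd_of_le inf_le_left))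
  have h1 := commutator_le_inf_sigmaCore hN hAp hAMs (inf_le_right : D ⊓ Ms ≤ Ms) hAK hKp
  have h2 : ⁅D ⊓ Ms, A⁆ = ⊥ := by
    rw [eq_bot_iff, ← hDS]
    exact h1.trans (inf_le_inf_right _ inf_le_left)
  exact Subgroup.commutator_eq_bot_iff_le_centralizer.mp h2

end Cfsg.Agent.Lib.Helper51.BG12
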