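import Mathlib
import Cfsg.Prelude.Def_OddOrderLocal
import Cfsg.Prelude.Def_Local

/-!
# Bender–Glauberman §12, Lemma 12.3 and Proposition 12.4: vocabulary (helper51)

`UMax X M`: `M` is the unique maximal subgroup containing `X`, in the form used by the statements
S1416/S1418.  `NoUniqLine M p A`: hypothesis (H) of BG 12.4 (no subgroup `A₀` of order `p` of `A` has
`𝓜(N_G(A₀)) = {M}`).  `IsExc M p A A₀`: the hypothesis of BG §11 (exceptional maximal subgroups).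
The `H…` definitions are the statements of BG 10.7 ("sigma_disjoint"), 12.2(b), 11.2(a), 11.4 that the
proof of 12.3/12.4 consumes.
-/

set_option autoImplicit false

namespace Cfsg.Agent.Lib.Helper51.BG12

open Cfsg

variable {G : Type*} [Group G]

/-- conjugate `g M g⁻¹` of a subgroup, in the form used by the statements. -/
abbrev cj (g : G) (M : Subgroup G) : Subgroup G := M.map (MulAut.conj g).toMonoidHom

/-- `M` is the unique maximal subgroup containing `X`. -/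
def UMax (X M : Subgroup G) : Prop :=
  X ≤ M ∧ ∀ L : Subgroup G, IsCoatom L → X ≤ L → L = M

/-- hypothesis (H) of BG 12.4 -/
def NoUniqLine (M : Subgroup G) (p : ℕ) (A : Subgroup G) : Prop :=
  ∀ A₀ : Subgroup G, A₀ ≤ A → Nat.card A₀ = p →
    ¬ (Subgroup.normalizer (A₀ : Set G) ≤ M ∧
      ∀ L : Subgroup G, IsCoatom L → Subgroup.normalizer (A₀ : Set G) ≤ L → L = M)

/-- the hypothesis of BG §11: `M` is exceptional with respect to `p`, `A`, `A₀`. -/
structure IsExc (M : Subgroup G) (p : ℕ) (A A₀ : Subgroup G) : Prop where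
  coatom : IsCoatom M
  notSigma : p ∉ sigma M
  le : A ≤ M
  elem : IsElementaryAbelian p A
  card : Nat.card A = p ^ 2
  le₀ : A₀ ≤ A
  card₀ : Nat.card A₀ = p
  norm : Subgroup.normalizer (A₀ : Set G) ≤ M

/-- BG 10.7(a) ("sigma_disjoint"): for non-conjugate maximal subgroups, `M_α ∩ H_σ = 1`. -/
def H107a (G : Type*) [Group G] : Prop :=
  ∀ M H : Subgroup G, IsCoatom M → IsCoatom H → (∀ g : G, H ≠ cj g M) →
    alphaCore M ⊓ sigmaCore H = ⊥

/-- BG 10.7(b): for non-conjugate maximal subgroups with `M_σ` nilpotent, `M_σ ∩ H_σ = 1`. -/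
def H107b (G : Type*) [Group G] : Prop :=
  ∀ M H : Subgroup G, IsCoatom M → IsCoatom H → (∀ g : G, H ≠ cj g M) →
    Group.IsNilpotent (sigmaCore M) → sigmaCore M ⊓ sigmaCore H = ⊥

/-- BG 12.2(b), first case: `p ∈ σ(M)`, `X ≤ M` a nontrivial `p`-subgroup with `N_G(X) ≤ M* ≠ M`:
`M*` is not conjugate to `M`. -/
def H122b (G : Type*) [Group G] : Prop :=
  ∀ (M Ms : Subgroup G) (p : ℕ) [Fact p.Prime], IsCoatom M → IsCoatom Ms → Ms ≠ M → p ∈ sigma M →
    ∀ X : Subgroup G, IsPGroup p X → X ≠ ⊥ → X ≤ M → Subgroup.normalizer (X : Set G) ≤ Ms →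
      ∀ g : G, Ms ≠ cj g M

/-- BG 11.2(a): `M` exceptional, `g ∉ M`, `A ≤ gMg⁻¹` ⟹ `M_σ ∩ gMg⁻¹ = 1`. -/
def H112a (G : Type*) [Group G] : Prop :=
  ∀ (M : Subgroup G) (p : ℕ) [Fact p.Prime] (A A₀ : Subgroup G), IsExc M p A A₀ →
    ∀ g : G, g ∉ M → A ≤ cj g M → sigmaCore M ⊓ cj g M = ⊥

/-- BG 11.4: `M` exceptional ⟹ `M_σ A ⊴ M`. -/
def H114 (G : Type*) [Group G] : Prop :=
  ∀ (M : Subgroup G) (p : ℕ) [Fact p.Prime] (A A₀ : Subgroup G), IsExc M p A A₀ →
    M ≤ Subgroup.normalizer ((sigmaCore M ⊔ A : Subgroup G) : Set G)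

/-- S1403 for `G`. -/
def H1403 (G : Type*) [Group G] : Prop :=
  ∀ K : Subgroup G, K ≠ ⊤ → ¬ RankLE 1 K →
    (¬ RankLE 2 K ∨ ¬ RankLE 2 (Subgroup.centralizer (K : Set G))) → InUniqueMaximal K

/-- S1350 (first two clauses) for `G`. -/
def H1350 (G : Type*) [Group G] : Prop :=
  ∀ M : Subgroup G, IsCoatom M →
    IsPiHallOf (sigma M) (sigmaCore M) M ∧ IsPiHall (sigma M) (sigmaCore M)

/-- S1405 for `G`. -/
def H1405 (G : Type*) [Group G] : Prop :=
  ∀ M : Subgroup G, IsCoatom M →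
    IsPiHallOf (alpha M) (alphaCore M) M ∧ IsPiHall (alpha M) (alphaCore M) ∧
      alphaCore M ≤ sigmaCore M ∧ RankLE 2 (↥M ⧸ piCore (alpha M) ↥M) ∧
      Group.IsNilpotent ↥((commutator ↥M).map (QuotientGroup.mk' (piCore (alpha M) ↥M)))

/-- S1406 for `G`. -/
def H1406 (G : Type*) [Group G] : Prop :=
  ∀ M : Subgroup G, IsCoatom M → ∀ X : Subgroup G, X ≤ M →
    (∀ p : ℕ, p.Prime → p ∣ Nat.card X → p ∉ alpha M) →
    ¬ RankLE 1 ↥(alphaCore M ⊓ Subgroup.centralizer (X : Set G)) →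
    InUniqueMaximal (M ⊓ Subgroup.centralizer (X : Set G))

/-- S1408 (second clause) for `G`. -/
def H1408 (G : Type*) [Group G] : Prop :=
  ∀ M : Subgroup G, IsCoatom M → ∀ (p : ℕ) [Fact p.Prime], p ∉ sigma M → PRankLE p 2 M →
    ¬ PRankLE p 1 M → ∀ A : Subgroup G, A ≤ M → IsElementaryAbelian p A → Nat.card A = p ^ 2 →
      ∀ B : Subgroup G, IsElementaryAbelian p B → A ≤ B → B = A

/-- S1410 for `G`. -/
def H1410 (G : Type*) [Group G] : Prop :=
  ∀ (p : ℕ) [Fact p.Prime] (H : Subgroup G), H ≠ ⊤ → PLengthLE p 1 H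

/-- S1411 (second clause) for `G`. -/
def H1411 (G : Type*) [Group G] : Prop :=
  ∀ (p : ℕ) [Fact p.Prime] (P : Sylow p G),
    (P : Subgroup G) ≤ ⁅Subgroup.normalizer ((P : Subgroup G) : Set G),
      Subgroup.normalizer ((P : Subgroup G) : Set G)⁆

end Cfsg.Agent.Lib.Helper51.BG12
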