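/-
helper51: Peterfalvi (12.7), module [ORTH] of helper74's plan (#3512), part A:
the combination `W = ∑_{θ ≠ 1} θ(1) Ind θ` for a normal subgroup `K` of `Λ`.
-/
import Mathlib
import Cfsg.Agent.Lib.Helper74.SibleySetup
import Cfsg.Agent.Lib.Helper78.CharMore
import Cfsg.Agent.Lib.Helper26.ZSpan
import Cfsg.Agent.Lib.Helper26.IrrFactsInst

set_option autoImplicit false

namespace Cfsg.Agent.Lib.Helper51.PF127

open Cfsg
open scoped ComplexConjugate

universe u

section W

variable {Λ : Type u} [Group Λ] [Fintype Λ] (K : Subgroup Λ) [hK : K.Normal]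

/-- the principal irreducible character -/
noncomputable def oneIrr (X : Type u) [Group X] [Finite X] : IrrCharacter X :=
  ⟨fun _ => 1, by
    have := Fintype.ofFinite X
    exact Cfsg.Agent.Lib.Helper78.isIrrCharacter_one⟩

open Classical in
/-- `∑_θ θ(1) θ(k) = |K| [k = 1]`. -/
theorem sum_irr_deg_mul {X : Type u} [Group X] [Finite X] (k : X) :
    ∑ θ : IrrCharacter X, (θ : X → ℂ) 1 * (θ : X → ℂ) k =
      if k = 1 then (Nat.card X : ℂ) else 0 := by
  classical
  have := Fintype.ofFinite X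
  have h := Cfsg.Agent.Lib.Helper78.sum_irr_mul_conj_eq k (1 : X)
  have hdeg : ∀ θ : IrrCharacter X, conj ((θ : X → ℂ) 1) = (θ : X → ℂ) 1 := by
    intro θ
    obtain ⟨n, -, hn⟩ := (Cfsg.Agent.Lib.Helper26.irrFacts X).deg_pos _ θ.2
    rw [hn, Complex.conj_natCast]
  have h2 : ∑ θ : IrrCharacter X, (θ : X → ℂ) 1 * (θ : X → ℂ) k =
      ∑ θ : IrrCharacter X, (θ : X → ℂ) k * conj ((θ : X → ℂ) 1) := by
    apply Finset.sum_congr rfl
    intro θ _
    rw [hdeg, mul_comm]
  rw [h2, h]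
  have hcent : Subgroup.centralizer ({(1 : X)} : Set X) = ⊤ := by
    rw [eq_top_iff]
    intro x _
    rw [Subgroup.mem_centralizer_iff]
    intro y hy
    rw [Set.mem_singleton_iff] at hy
    rw [hy]; simp
  rw [hcent, Subgroup.card_top]
  unfold Cfsg.Agent.Lib.Helper78.classIndicator
  by_cases hk : k = 1
  · rw [if_pos hk]
    subst hk
    simp
  · rw [if_neg hk]
    have : ¬ IsConj (1 : X) k := by
      intro hc
      exact hk (isConj_one_right.mp hc)
    rw [if_neg this, mul_zero]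

open Classical in
/-- `∑_{θ ≠ 1} θ(1) θ(k) = |K| [k = 1] - 1`. -/
theorem sum_irr_ne_one_deg_mul {X : Type u} [Group X] [Finite X] (k : X) :
    ∑ θ : IrrCharacter X, (if (θ : X → ℂ) = (fun _ => 1) then 0 else
        (θ : X → ℂ) 1 * (θ : X → ℂ) k) =
      (if k = 1 then (Nat.card X : ℂ) else 0) - 1 := by
  have h := sum_irr_deg_mul k
  have h1 : ∀ θ : IrrCharacter X, (θ : X → ℂ) 1 * (θ : X → ℂ) k =
      (if (θ : X → ℂ) = (fun _ => 1) then 0 else (θ : X → ℂ) 1 * (θ : X → ℂ) k) +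
      (if θ = oneIrr X then 1 else 0) := by
    intro θ
    by_cases hθ : (θ : X → ℂ) = (fun _ => 1)
    · have : θ = oneIrr X := Subtype.ext hθ
      rw [if_pos hθ, if_pos this, hθ]
      simp
    · have : θ ≠ oneIrr X := fun hc => hθ (congrArg Subtype.val hc)
      rw [if_neg hθ, if_neg this, add_zero]
  rw [Finset.sum_congr rfl (fun θ _ => h1 θ), Finset.sum_add_distrib,
    Finset.sum_ite_eq' Finset.univ (oneIrr X) (fun _ => (1 : ℂ)), if_pos (Finset.mem_univ _)] at h
  rw [← h]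
  ring

open Classical in
/-- The combination `W = ∑_{θ ≠ 1} θ(1) Ind θ`. -/
noncomputable def regW : Λ → ℂ :=
  ∑ θ : IrrCharacter K, (if (θ : K → ℂ) = (fun _ => 1) then (0 : Λ → ℂ) else
    ((θ : K → ℂ) 1) • indFun K (θ : K → ℂ))

theorem regW_mem_zspan : regW K ∈ zspan (inducedIrrAbove K ⊥) := by
  classical
  unfold regW
  apply Cfsg.Agent.Lib.Helper26.zspan_sum
  intro θ _
  by_cases hθ : (θ : K → ℂ) = (fun _ => 1)
  · rw [if_pos hθ]
    exact Cfsg.Agent.Lib.Helper26.zspan_zero _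
  · rw [if_neg hθ]
    obtain ⟨n, -, hn⟩ := (Cfsg.Agent.Lib.Helper26.irrFacts K).deg_pos _ θ.2
    rw [hn]
    apply Cfsg.Agent.Lib.Helper26.zspan_natCast_smul
    apply Cfsg.Agent.Lib.Helper26.subset_zspan
    rw [Cfsg.Agent.Lib.Helper74.mem_inducedIrrAbove_bot_iff]
    exact ⟨θ, θ.2, hθ, rfl⟩

include hK in
theorem regW_apply_of_not_mem (x : Λ) (hx : x ∉ K) : regW K x = 0 := by
  classical
  unfold regW
  rw [Finset.sum_apply]
  apply Finset.sum_eq_zero
  intro θ _
  by_cases hθ : (θ : K → ℂ) = (fun _ => 1)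
  · rw [if_pos hθ]; rfl
  · rw [if_neg hθ, Pi.smul_apply]
    have : indFun K (θ : K → ℂ) x = 0 := by
      apply Cfsg.Agent.Lib.Helper74.sibleyS_vanish K _ x hx
      rw [Cfsg.Agent.Lib.Helper74.mem_inducedIrrAbove_bot_iff]
      exact ⟨θ, θ.2, hθ, rfl⟩
    rw [this, smul_zero]

open Classical in
include hK in
theorem regW_apply_of_mem (x : Λ) (hx : x ∈ K) :
    regW K x = (K.index : ℂ) * ((if x = 1 then (Nat.card K : ℂ) else 0) - 1) := by
  have hmem : ∀ y : Λ, y⁻¹ * x * y ∈ K := by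
    intro y
    have := hK.conj_mem x hx y⁻¹
    simpa using this
  have hind : ∀ θ : K → ℂ, indFun K θ x =
      (Nat.card K : ℂ)⁻¹ * ∑ y : Λ, θ ⟨y⁻¹ * x * y, hmem y⟩ := by
    intro θ
    unfold indFun
    congr 1
    apply Finset.sum_congr rfl
    intro y _
    exact Cfsg.Agent.Lib.Helper75.extendByZero_of_mem K θ (hmem y)
  unfold regW
  rw [Finset.sum_apply]
  have h1 : ∀ θ : IrrCharacter K,
      (if (θ : K → ℂ) = (fun _ => 1) then (0 : Λ → ℂ) else
        ((θ : K → ℂ) 1) • indFun K (θ : K → ℂ)) x =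
      (Nat.card K : ℂ)⁻¹ * ∑ y : Λ, (if (θ : K → ℂ) = (fun _ => 1) then 0 else
        (θ : K → ℂ) 1 * (θ : K → ℂ) ⟨y⁻¹ * x * y, hmem y⟩) := by
    intro θ
    by_cases hθ : (θ : K → ℂ) = (fun _ => 1)
    · simp only [if_pos hθ]
      simp
    · simp only [if_neg hθ]
      rw [Pi.smul_apply, hind, smul_eq_mul, Finset.mul_sum, Finset.mul_sum, Finset.mul_sum]
      apply Finset.sum_congr rfl
      intro y _
      ring
  rw [Finset.sum_congr rfl (fun θ _ => h1 θ), ← Finset.mul_sum, Finset.sum_comm]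
  have h2 : ∀ y : Λ, ∑ θ : IrrCharacter K, (if (θ : K → ℂ) = (fun _ => 1) then 0 else
        (θ : K → ℂ) 1 * (θ : K → ℂ) ⟨y⁻¹ * x * y, hmem y⟩) =
      (if x = 1 then (Nat.card K : ℂ) else 0) - 1 := by
    intro y
    have h3 := sum_irr_ne_one_deg_mul (X := K) ⟨y⁻¹ * x * y, hmem y⟩
    refine (Eq.trans ?_ h3).trans ?_
    · apply Finset.sum_congr rfl
      intro θ _
      congr
    have : ((⟨y⁻¹ * x * y, hmem y⟩ : K) = 1) ↔ x = 1 := by
      constructor
      · intro h
        have h' : y⁻¹ * x * y = 1 := congrArg Subtype.val h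
        have : x = y * (y⁻¹ * x * y) * y⁻¹ := by group
        rw [this, h']; group
      · intro h
        apply Subtype.ext
        show y⁻¹ * x * y = 1
        rw [h]; group
    simp only [this]
  rw [Finset.sum_congr rfl (fun y _ => h2 y), Finset.sum_const, Finset.card_univ, nsmul_eq_mul]
  have hcard : (Fintype.card Λ : ℂ) = (Nat.card K : ℂ) * (K.index : ℂ) := by
    rw [← Nat.card_eq_fintype_card, ← K.card_mul_index]
    push_cast
    ring
  have hK0 : (Nat.card K : ℂ) ≠ 0 := by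
    have : Nat.card K ≠ 0 := Nat.card_pos.ne'
    exact_mod_cast this
  rw [hcard]
  field_simp

include hK in
theorem classInner_regW_regW :
    classInner (regW K) (regW K) = (K.index : ℂ) * ((Nat.card K : ℂ) - 1) := by
  classical
  have hW : ∀ x : Λ, regW K x = (K.index : ℂ) *
      ((if x = 1 then (Nat.card K : ℂ) else 0) - (if x ∈ K then 1 else 0)) := by
    intro x
    by_cases hx : x ∈ K
    · rw [regW_apply_of_mem K x hx, if_pos hx]
    · have hx1 : x ≠ 1 := fun h => hx (h ▸ K.one_mem)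
      rw [regW_apply_of_not_mem K x hx, if_neg hx, if_neg hx1]
      simp
  have h1 : ∀ x : Λ, regW K x * conj (regW K x) = (K.index : ℂ) ^ 2 *
      ((if x = 1 then ((Nat.card K : ℂ) ^ 2 - 2 * (Nat.card K : ℂ)) else 0) +
        (if x ∈ K then 1 else 0)) := by
    intro x
    rw [hW x]
    by_cases hx1 : x = 1
    · have hxK : x ∈ K := hx1 ▸ K.one_mem
      rw [if_pos hx1, if_pos hxK, if_pos hx1]
      simp only [map_mul, map_sub, Complex.conj_natCast, map_one]
      ring
    · rw [if_neg hx1, if_neg hx1]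
      by_cases hxK : x ∈ K
      · rw [if_pos hxK]
        simp only [map_mul, map_sub, Complex.conj_natCast, map_one, map_zero]
        ring
      · rw [if_neg hxK]
        simp
  have hcnt : (Finset.univ.filter (fun x : Λ => x ∈ K)).card = Nat.card K := by
    rw [← Fintype.card_subtype]
    exact (Nat.card_eq_fintype_card).symm
  unfold classInner
  rw [Finset.sum_congr rfl (fun x _ => h1 x), ← Finset.mul_sum, Finset.sum_add_distrib,
    Finset.sum_ite_eq' Finset.univ (1 : Λ), if_pos (Finset.mem_univ _), Finset.sum_boole, hcnt]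
  have hcard : (Nat.card Λ : ℂ) = (Nat.card K : ℂ) * (K.index : ℂ) := by
    rw [← K.card_mul_index]
    push_cast
    ring
  have hK0 : (Nat.card K : ℂ) ≠ 0 := by
    have : Nat.card K ≠ 0 := Nat.card_pos.ne'
    exact_mod_cast this
  have hI0 : (K.index : ℂ) ≠ 0 := by
    have : K.index ≠ 0 := Subgroup.index_ne_zero_of_finite
    exact_mod_cast this
  rw [hcard]
  field_simp
  ring

end W

end Cfsg.Agent.Lib.Helper51.PF127
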