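/-
helper51: Peterfalvi sec.13/14, case (a) of helper52's #3714, Step A, carrier-free core:
a class function of `L` which is orthogonal to all degree-zero combinations
`θ'(1) Ind θ - θ(1) Ind θ'` (θ, θ' nonprincipal irreducible characters of the normal subgroup `H`)
is constant on `H^#`.
-/
import Mathlib
import Cfsg.Agent.Lib.Helper51.PF127OrthA
import Cfsg.Agent.Lib.Helper75.Clifford

set_option autoImplicit false

namespace Cfsg.Agent.Lib.Helper51.PF14

open Cfsg Cfsg.Agent.Lib.Helper51.PF127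
open scoped ComplexConjugate

universe u

variable {L : Type u} [Group L] (H : Subgroup L)

/-- restriction of a class function to a subgroup is a class function -/
theorem isClassFunction_res {g : L → ℂ} (hg : IsClassFunction L g) :
    IsClassFunction H (fun h : H => g h) := by
  intro a b
  show g ((b * a * b⁻¹ : H) : L) = g (a : L)
  rw [Subgroup.coe_mul, Subgroup.coe_mul, Subgroup.coe_inv]
  exact hg a b

variable [Fintype L]

/-- **(LA-core)** -/
theorem const_on_of_orth (g : L → ℂ) (hg : IsClassFunction L g)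
    (horth : ∀ θ θ' : H → ℂ, IsIrrCharacter H θ → IsIrrCharacter H θ' →
      θ ≠ (fun _ => 1) → θ' ≠ (fun _ => 1) →
      θ' 1 * classInner g (indFun H θ) = θ 1 * classInner g (indFun H θ'))
    (h h' : L) (hh : h ∈ H) (hh' : h' ∈ H) (h1 : h ≠ 1) (h1' : h' ≠ 1) : g h = g h' := by
  classical
  have : Fintype H := Fintype.ofFinite H
  set r : H → ℂ := fun x : H => g x with hr
  have hrcf : IsClassFunction H r := isClassFunction_res H hg
  -- coefficients
  have hc : ∀ θ : H → ℂ, classInner g (indFun H θ) = classInner r θ := by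
    intro θ
    exact Cfsg.Agent.Lib.Helper75.frobenius_reciprocity' H θ hg
  have hexp := Cfsg.Agent.Lib.Helper78.classFunction_eq_sum_irr hrcf
  -- H is nontrivial
  have hnt : Nontrivial H := ⟨⟨⟨h, hh⟩, 1, fun hc' => h1 (congrArg Subtype.val hc')⟩⟩
  obtain ⟨θ₀, hθ₀, hθ₀1⟩ := Cfsg.Agent.Lib.Helper74.exists_irr_ne_one H hnt
  obtain ⟨n₀, hn₀pos, hn₀⟩ := (Cfsg.Agent.Lib.Helper26.irrFacts H).deg_pos _ hθ₀
  have hn₀' : (θ₀ 1 : ℂ) ≠ 0 := by
    rw [hn₀]; exact_mod_cast hn₀pos.ne'
  set lam : ℂ := classInner r θ₀ / θ₀ 1 with hlam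
  have hcoef : ∀ θ : IrrCharacter H, (θ : H → ℂ) ≠ (fun _ => 1) →
      classInner r (θ : H → ℂ) = lam * (θ : H → ℂ) 1 := by
    intro θ hθ1
    have := horth θ θ₀ θ.2 hθ₀ hθ1 hθ₀1
    rw [hc, hc] at this
    rw [hlam]
    field_simp
    linear_combination this
  -- value of r at a nonidentity element
  have hval : ∀ x : H, x ≠ 1 →
      r x = classInner r (fun _ : H => (1 : ℂ)) - lam := by
    intro x hx
    have h2 := congrFun hexp x
    rw [Finset.sum_apply] at h2
    have h3 : ∀ θ : IrrCharacter H, (classInner r (θ : H → ℂ) • (θ : H → ℂ)) x =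
        (if θ = oneIrr H then classInner r (fun _ : H => (1 : ℂ)) else 0) +
        lam * (if (θ : H → ℂ) = (fun _ => 1) then 0 else (θ : H → ℂ) 1 * (θ : H → ℂ) x) := by
      intro θ
      rw [Pi.smul_apply, smul_eq_mul]
      by_cases hθ : (θ : H → ℂ) = (fun _ => 1)
      · have : θ = oneIrr H := Subtype.ext hθ
        rw [if_pos this, if_pos hθ, hθ]
        simp
      · have : θ ≠ oneIrr H := fun hc' => hθ (congrArg Subtype.val hc')
        rw [if_neg this, if_neg hθ, hcoef θ hθ]
        ring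
    rw [Finset.sum_congr rfl (fun θ _ => h3 θ), Finset.sum_add_distrib, ← Finset.mul_sum,
      Finset.sum_ite_eq' Finset.univ (oneIrr H), if_pos (Finset.mem_univ _)] at h2
    have h4 := sum_irr_ne_one_deg_mul (X := H) x
    rw [if_neg hx] at h4
    have h5 : (∑ i : IrrCharacter H, if (i : H → ℂ) = (fun _ => 1) then (0 : ℂ) else
        (i : H → ℂ) 1 * (i : H → ℂ) x) = 0 - 1 := by
      refine Eq.trans ?_ h4
      apply Finset.sum_congr rfl
      intro θ _
      congr
    rw [h5] at h2
    rw [h2]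
    ring
  have e1 : g h = r ⟨h, hh⟩ := rfl
  have e2 : g h' = r ⟨h', hh'⟩ := rfl
  rw [e1, e2, hval ⟨h, hh⟩ (fun hc' => h1 (congrArg Subtype.val hc')),
    hval ⟨h', hh'⟩ (fun hc' => h1' (congrArg Subtype.val hc'))]

end Cfsg.Agent.Lib.Helper51.PF14
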