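/-
helper51: Peterfalvi sec.13/14, case (a) of helper52's #3714, Step A (module [LA]):
`L` with normal subgroup `K`, `S = {Ind_K^L θ, θ ≠ 1}` irreducible, `τ₁` a linear isometry on `ℤ[S]`
satisfying Frobenius reciprocity on the degree-zero part; an irreducible character `η` of `G`
which is integer valued on `K^#` is orthogonal to `τ₁ S` and constant on `K^#` (`|L|` odd).
-/
import Mathlib
import Cfsg.Agent.Lib.Helper51.PF14ACore
import Cfsg.Agent.Lib.Helper51.PF127Orth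
import Cfsg.Agent.Lib.Helper74.SibleySetup
import Cfsg.Agent.Lib.Helper74.OddOrder
import Cfsg.Agent.Lib.Helper25.Norm3
import Cfsg.Agent.Lib.Helper74.PFTwelveA
import Cfsg.Agent.S1500

set_option autoImplicit false

namespace Cfsg.Agent.Lib.Helper51.PF14

open Cfsg Cfsg.Agent.Lib.Helper51.PF127
open scoped ComplexConjugate

universe u

variable {G : Type u} [Group G] [Fintype G] (L : Subgroup G) [Fintype L]
  (K : Subgroup L) [hKn : K.Normal]

omit [Fintype G] in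
/-- the degree-zero combination `θ'(1) Ind θ - θ(1) Ind θ'` -/
theorem alpha_mem_zspanOn {θ θ' : K → ℂ} (hθ : IsIrrCharacter K θ) (hθ' : IsIrrCharacter K θ')
    (hθ1 : θ ≠ (fun _ => 1)) (hθ1' : θ' ≠ (fun _ => 1)) (n n' : ℕ) (hn : θ 1 = n)
    (hn' : θ' 1 = n') :
    indFun K θ ∈ inducedIrrAbove K ⊥ ∧ indFun K θ' ∈ inducedIrrAbove K ⊥ ∧
    ((n' : ℤ) • indFun K θ - (n : ℤ) • indFun K θ') ∈ zspanOn (inducedIrrAbove K ⊥) {1}ᶜ := by
  have h1 : indFun K θ ∈ inducedIrrAbove K ⊥ :=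
    (Cfsg.Agent.Lib.Helper74.mem_inducedIrrAbove_bot_iff K).mpr ⟨θ, hθ, hθ1, rfl⟩
  have h2 : indFun K θ' ∈ inducedIrrAbove K ⊥ :=
    (Cfsg.Agent.Lib.Helper74.mem_inducedIrrAbove_bot_iff K).mpr ⟨θ', hθ', hθ1', rfl⟩
  refine ⟨h1, h2, ?_, ?_⟩
  · exact Cfsg.Agent.Lib.Helper26.zspan_sub
      (Cfsg.Agent.Lib.Helper26.zspan_zsmul _ (Cfsg.Agent.Lib.Helper26.subset_zspan _ h1))
      (Cfsg.Agent.Lib.Helper26.zspan_zsmul _ (Cfsg.Agent.Lib.Helper26.subset_zspan _ h2))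
  · intro x hx
    have hx1 : x = 1 := by simpa using hx
    rw [hx1]
    show ((n' : ℤ) • indFun K θ) 1 - ((n : ℤ) • indFun K θ') 1 = 0
    rw [Pi.smul_apply, Pi.smul_apply, Cfsg.Agent.Lib.Helper75.indFun_one,
      Cfsg.Agent.Lib.Helper75.indFun_one, hn, hn', zsmul_eq_mul, zsmul_eq_mul]
    push_cast
    ring

variable (τ₁ : (L → ℂ) → (G → ℂ))

/-- **(LA-1)** if `⟨τ₁ χ, Φ⟩ = ⟨χ, ψ⟩` for all `χ ∈ S`, then `Φ|_L - ψ` is constant on `K^#`. -/
theorem res_sub_const_on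
    (hτ₁ : IsLinearIsometryOn (zspan (inducedIrrAbove K ⊥)) τ₁)
    (hrec : ∀ α ∈ zspanOn (inducedIrrAbove K ⊥) {1}ᶜ, ∀ Φ : G → ℂ, IsClassFunction G Φ →
      classInner (τ₁ α) Φ = classInner α (fun l : L => Φ l))
    (Φ : G → ℂ) (hΦ : IsClassFunction G Φ) (ψ : L → ℂ) (hψ : IsClassFunction L ψ)
    (hcoef : ∀ χ ∈ inducedIrrAbove K ⊥, classInner (τ₁ χ) Φ = classInner χ ψ)
    (k k' : L) (hk : k ∈ K) (hk' : k' ∈ K) (hk1 : k ≠ 1) (hk1' : k' ≠ 1) :
    Φ k - ψ k = Φ k' - ψ k' := by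
  classical
  have : Fintype K := Fintype.ofFinite K
  set g : L → ℂ := (fun l : L => Φ l) - ψ with hg
  have hgcf : IsClassFunction L g :=
    Cfsg.Agent.Lib.Helper78.isClassFunction_sub (isClassFunction_res L hΦ) hψ
  have key := const_on_of_orth K g hgcf ?_ k k' hk hk' hk1 hk1'
  · exact key
  intro θ θ' hθ hθ' hθ1 hθ1'
  obtain ⟨n, -, hn⟩ := (Cfsg.Agent.Lib.Helper26.irrFacts K).deg_pos _ hθ
  obtain ⟨n', -, hn'⟩ := (Cfsg.Agent.Lib.Helper26.irrFacts K).deg_pos _ hθ'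
  obtain ⟨h1, h2, hα⟩ := alpha_mem_zspanOn L K hθ hθ' hθ1 hθ1' n n' hn hn'
  have h1S := Cfsg.Agent.Lib.Helper26.subset_zspan _ h1
  have h2S := Cfsg.Agent.Lib.Helper26.subset_zspan _ h2
  have e1 := hrec _ hα Φ hΦ
  rw [Cfsg.Agent.Lib.Helper26.isom_sub (Cfsg.Agent.Lib.Helper26.isZClosed_zspan _) hτ₁
      (Cfsg.Agent.Lib.Helper26.zspan_zsmul _ h1S) (Cfsg.Agent.Lib.Helper26.zspan_zsmul _ h2S),
    Cfsg.Agent.Lib.Helper26.isom_zsmul hτ₁ _ h1S, Cfsg.Agent.Lib.Helper26.isom_zsmul hτ₁ _ h2S,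
    Cfsg.Agent.Lib.Helper26.classInner_sub_left, Cfsg.Agent.Lib.Helper26.classInner_sub_left,
    Cfsg.Agent.Lib.Helper26.classInner_zsmul_left, Cfsg.Agent.Lib.Helper26.classInner_zsmul_left,
    Cfsg.Agent.Lib.Helper26.classInner_zsmul_left, Cfsg.Agent.Lib.Helper26.classInner_zsmul_left,
    hcoef _ h1, hcoef _ h2] at e1
  -- e1 : n' ⟨Ind θ, ψ⟩ - n ⟨Ind θ', ψ⟩ = n' ⟨Ind θ, Res Φ⟩ - n ⟨Ind θ', Res Φ⟩
  have e2 : (n' : ℂ) * classInner (indFun K θ) g = (n : ℂ) * classInner (indFun K θ') g := by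
    rw [hg, Cfsg.Agent.Lib.Helper26.classInner_sub_right,
      Cfsg.Agent.Lib.Helper26.classInner_sub_right]
    push_cast at e1
    linear_combination (-1 : ℂ) * e1
  have e3 := congrArg (starRingEnd ℂ) e2
  rw [map_mul, map_mul, Complex.conj_natCast, Complex.conj_natCast,
    Cfsg.Agent.Lib.Helper26.classInner_conj_symm,
    Cfsg.Agent.Lib.Helper26.classInner_conj_symm] at e3
  rw [hn, hn']
  exact e3

/-- the values of a member of `S` on `K` sum to zero -/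
theorem sum_K_eq_zero [Fintype K] {χ : L → ℂ} (hχ : χ ∈ inducedIrrAbove K ⊥) :
    ∑ k : K, χ k = 0 := by
  classical
  obtain ⟨θ, hθ, hθ1, rfl⟩ := (Cfsg.Agent.Lib.Helper74.mem_inducedIrrAbove_bot_iff K).mp hχ
  have h0 := Cfsg.Agent.Lib.Helper75.classInner_indFun_res_eq_zero K hθ (oneIrr K).2 ?_
  · unfold classInner at h0
    have hK : (Nat.card K : ℂ)⁻¹ ≠ 0 := by
      apply inv_ne_zero
      have : Nat.card K ≠ 0 := Nat.card_pos.ne'
      exact_mod_cast this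
    have h1 := (mul_eq_zero.mp h0).resolve_left hK
    refine Eq.trans ?_ h1
    apply Finset.sum_congr rfl
    intro k _
    show indFun K θ k = indFun K θ k * conj ((oneIrr K : K → ℂ) k)
    have : (oneIrr K : K → ℂ) k = 1 := rfl
    rw [this, map_one, mul_one]
  · intro x hx
    apply hθ1
    have h2 := congrArg (Cfsg.Agent.Lib.Helper75.conjFun K x⁻¹) hx
    rw [Cfsg.Agent.Lib.Helper75.conjFun_inv_conjFun] at h2
    rw [h2]
    funext k
    rw [Cfsg.Agent.Lib.Helper75.conjFun_apply]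
    rfl

/-- **MODULE [LA]** (Step A of case (a)) -/
theorem orth_and_const
    (hodd : Odd (Nat.card L))
    (hSirr : ∀ χ ∈ inducedIrrAbove K ⊥, IsIrrCharacter L χ)
    (hτ₁ : IsLinearIsometryOn (zspan (inducedIrrAbove K ⊥)) τ₁)
    (hrec : ∀ α ∈ zspanOn (inducedIrrAbove K ⊥) {1}ᶜ, ∀ Φ : G → ℂ, IsClassFunction G Φ →
      classInner (τ₁ α) Φ = classInner α (fun l : L => Φ l))
    (η : G → ℂ) (hη : Cfsg.Agent.Lib.Helper25.SIrr G η)
    (hZ : ∀ k : L, k ∈ K → k ≠ 1 → ∃ n : ℤ, η k = n) :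
    (∀ χ ∈ inducedIrrAbove K ⊥, classInner (τ₁ χ) η = 0) ∧
    ∀ k k' : L, k ∈ K → k' ∈ K → k ≠ 1 → k' ≠ 1 → η k = η k' := by
  classical
  have : Fintype K := Fintype.ofFinite K
  have hηcf : IsClassFunction G η := gen_isClassFunction hη.gen
  have part1 : ∀ χ ∈ inducedIrrAbove K ⊥, classInner (τ₁ χ) η = 0 := by
    intro χ₀ hχ₀
    by_contra hne
    have hirr := hSirr χ₀ hχ₀
    have hχ₀S : χ₀ ∈ zspan (inducedIrrAbove K ⊥) := Cfsg.Agent.Lib.Helper26.subset_zspan _ hχ₀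
    have hgen : IsGeneralizedCharacter G (τ₁ χ₀) := Cfsg.Agent.Lib.Helper26.isom_gen hτ₁ hχ₀S
    have hnorm : classInner (τ₁ χ₀) (τ₁ χ₀) = 1 := by
      rw [Cfsg.Agent.Lib.Helper26.isom_inner hτ₁ hχ₀S hχ₀S,
        (Cfsg.Agent.Lib.Helper26.irrFacts L).orthonormal χ₀ χ₀ hirr hirr, if_pos rfl]
    have hs := Cfsg.Agent.Lib.Helper25.sirr_of_norm_one hgen hnorm
    -- τ₁ χ₀ is integer valued on K^#
    have hint : ∀ k : L, k ∈ K → k ≠ 1 → (τ₁ χ₀ k).im = 0 := by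
      intro k hk hk1
      obtain ⟨n, hn⟩ := hZ k hk hk1
      rcases Cfsg.Agent.Lib.Helper25.SIrr.inner_tri hs hη with ⟨-, h⟩ | ⟨-, h⟩ | h
      · rw [h, hn]; simp
      · rw [h, Pi.neg_apply, hn]; simp
      · exact absurd h hne
    -- the difference is constant on K^#
    have hconst := res_sub_const_on L K τ₁ hτ₁ hrec (τ₁ χ₀)
      (gen_isClassFunction hgen) χ₀
      (Cfsg.Agent.Lib.Helper78.IsCharacter.isClassFunction
        (Cfsg.Agent.Lib.Helper26.IrrFacts.irr_isCharacter hirr))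
      (fun χ hχ => Cfsg.Agent.Lib.Helper26.isom_inner hτ₁
        (Cfsg.Agent.Lib.Helper26.subset_zspan _ hχ) hχ₀S)
    have hsum := sum_K_eq_zero L K hχ₀
    obtain ⟨d, hdpos, hd⟩ := (Cfsg.Agent.Lib.Helper26.irrFacts L).deg_pos _ hirr
    -- χ₀ is real valued
    have hreal : ∀ l : L, (χ₀ l).im = 0 := by
      intro l
      by_cases hlK : l ∈ K
      · by_cases hl1 : l = 1
        · rw [hl1, hd]; simp
        · -- l ∈ K^#
          set c : ℂ := τ₁ χ₀ l - χ₀ l with hc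
          have hval : ∀ k : K, k ≠ 1 → (χ₀ k).im = - c.im := by
            intro k hk1
            have hk1' : (k : L) ≠ 1 := fun h => hk1 (Subtype.ext h)
            have h1 := hconst k l k.2 hlK hk1' hl1
            have h2 : χ₀ k = τ₁ χ₀ k - c := by rw [hc]; linear_combination (-1 : ℂ) * h1
            rw [h2, Complex.sub_im, hint k k.2 hk1']
            ring
          have h3 := congrArg Complex.im hsum
          rw [← Finset.add_sum_erase Finset.univ _ (Finset.mem_univ (1 : K)), Complex.add_im,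
            Complex.im_sum, Finset.sum_congr rfl (fun k hk => hval k (Finset.ne_of_mem_erase hk)),
            Finset.sum_const] at h3
          have h4 : ((1 : K) : L) = 1 := rfl
          rw [h4, hd] at h3
          have h5 : (Finset.univ.erase (1 : K)).card ≠ 0 := by
            apply Finset.card_ne_zero_of_mem (a := ⟨l, hlK⟩)
            exact Finset.mem_erase.mpr ⟨fun h => hl1 (congrArg Subtype.val h), Finset.mem_univ _⟩
          have h6 : c.im = 0 := by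
            simp only [Complex.natCast_im, Complex.zero_im, zero_add, smul_neg, nsmul_eq_mul,
              neg_eq_zero, mul_eq_zero, Nat.cast_eq_zero] at h3
            exact h3.resolve_left h5
          have := hval ⟨l, hlK⟩ (fun h => hl1 (congrArg Subtype.val h))
          rw [h6, neg_zero] at this
          exact this
      · rw [Cfsg.Agent.Lib.Helper74.sibleyS_vanish K hχ₀ l hlK]; simp
    have h1 := Cfsg.Agent.Lib.Helper74.eq_one_of_real_of_odd_card hodd ⟨χ₀, hirr⟩ hreal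
    have h1' : χ₀ = fun _ => 1 := h1
    rw [h1'] at hsum
    simp only [Finset.sum_const, Finset.card_univ, nsmul_eq_mul, mul_one, Nat.cast_eq_zero] at hsum
    exact Fintype.card_ne_zero hsum
  refine ⟨part1, ?_⟩
  intro k k' hk hk' hk1 hk1'
  have := res_sub_const_on L K τ₁ hτ₁ hrec η hηcf 0
    (fun _ _ => rfl)
    (fun χ hχ => by
      rw [part1 χ hχ]
      exact (Cfsg.Agent.Lib.Helper26.classInner_zero_right _).symm)
    k k' hk hk' hk1 hk1'
  simpa using this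

/-- **[LA]**, version with `τ₁ = Ind` on the degree-zero part. -/
theorem orth_and_const_of_ind
    (hodd : Odd (Nat.card L))
    (hSirr : ∀ χ ∈ inducedIrrAbove K ⊥, IsIrrCharacter L χ)
    (hτ₁ : IsLinearIsometryOn (zspan (inducedIrrAbove K ⊥)) τ₁)
    (hext : ∀ α ∈ zspanOn (inducedIrrAbove K ⊥) {1}ᶜ, τ₁ α = indFun L α)
    (η : G → ℂ) (hη : Cfsg.Agent.Lib.Helper25.SIrr G η)
    (hZ : ∀ k : L, k ∈ K → k ≠ 1 → ∃ n : ℤ, η k = n) :
    (∀ χ ∈ inducedIrrAbove K ⊥, classInner (τ₁ χ) η = 0) ∧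
    ∀ k k' : L, k ∈ K → k' ∈ K → k ≠ 1 → k' ≠ 1 → η k = η k' := by
  apply orth_and_const L K τ₁ hodd hSirr hτ₁ ?_ η hη hZ
  intro α hα Φ hΦ
  rw [hext α hα]
  exact Cfsg.Agent.Lib.Helper75.frobenius_reciprocity L α hΦ

/-- **[LA]**, version with `τ₁ =` a Dade isometry with trivial supports on the degree-zero part
(the shape delivered by `S1542`). -/
theorem orth_and_const_of_dade
    (hodd : Odd (Nat.card L))
    (hSirr : ∀ χ ∈ inducedIrrAbove K ⊥, IsIrrCharacter L χ)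
    (hτ₁ : IsLinearIsometryOn (zspan (inducedIrrAbove K ⊥)) τ₁)
    (A : Set G) (RN : G → Subgroup G) (hD : DadeHypothesis A L RN)
    (hA : ∀ k : L, k ∈ K → k ≠ 1 → (k : G) ∈ A)
    (hR : ∀ a ∈ A, RN a = ⊥)
    (hext : ∀ α ∈ zspanOn (inducedIrrAbove K ⊥) {1}ᶜ, τ₁ α = dadeIsometry A L RN α)
    (η : G → ℂ) (hη : Cfsg.Agent.Lib.Helper25.SIrr G η)
    (hZ : ∀ k : L, k ∈ K → k ≠ 1 → ∃ n : ℤ, η k = n) :
    (∀ χ ∈ inducedIrrAbove K ⊥, classInner (τ₁ χ) η = 0) ∧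
    ∀ k k' : L, k ∈ K → k' ∈ K → k ≠ 1 → k' ≠ 1 → η k = η k' := by
  apply orth_and_const L K τ₁ hodd hSirr hτ₁ ?_ η hη hZ
  intro α hα Φ hΦ
  rw [hext α hα]
  have hSchar : ∀ χ ∈ inducedIrrAbove K ⊥, IsCharacter L χ :=
    fun χ hχ => Cfsg.Agent.Lib.Helper26.IrrFacts.irr_isCharacter (hSirr χ hχ)
  have hSvan : ∀ χ ∈ inducedIrrAbove K ⊥, ∀ x : L,
      (x : G) ∉ ((K.map L.subtype : Subgroup G) : Set G) → χ x = 0 := by
    intro χ hχ x hx
    apply Cfsg.Agent.Lib.Helper74.sibleyS_vanish K hχ x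
    intro hxK
    exact hx ⟨x, hxK, rfl⟩
  have pα := Cfsg.Agent.Lib.Helper74.PF12.zspan_props _ _ hSchar hSvan hα.1
  have hαA : ∀ x : L, (x : G) ∉ A → α x = 0 := by
    intro x hx
    by_cases h1 : x = 1
    · exact hα.2 x (by simpa using h1)
    · apply pα.2.1 x
      intro hxK
      apply hx
      obtain ⟨y, hyK, hy⟩ := hxK
      have hyx : y = x := Subtype.ext hy
      rw [hyx] at hyK
      exact hA x hyK h1
  refine (Cfsg.Agent.S1500.result A L RN hD α pα.1 hαA).2 Φ (fun l : L => Φ l) hΦ ?_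
  intro a ha
  rw [hR _ ha]
  have h1 : Nat.card (⊥ : Subgroup G) = 1 := Subgroup.card_bot
  rw [h1, Nat.cast_one, inv_one, one_mul]
  have h2 : ((⊥ : Subgroup G) : Set G) = {1} := Subgroup.coe_bot
  rw [h2, finsum_mem_singleton, mul_one]

end Cfsg.Agent.Lib.Helper51.PF14
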