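/-
helper51: general facts on functions induced from a normal subgroup, used for helper24's
PFCyc-[CALS-API] (#4017): no self-conjugate member in odd order, orthogonality of distinct members,
vanishing off the subgroup, norm of a sum of distinct irreducible characters.
-/
import Mathlib
import Cfsg.Agent.Lib.Helper75.Clifford
import Cfsg.Agent.Lib.Helper75.IndNormal
import Cfsg.Agent.Lib.Helper74.SibleySetup
import Cfsg.Agent.Lib.Helper74.OddOrder

set_option autoImplicit false

namespace Cfsg.Agent.Lib.Helper51.PFCyc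

open Cfsg
open scoped ComplexConjugate

universe u

variable {L : Type u} [Group L] [Fintype L]

/-- the norm of a sum of distinct irreducible characters -/
theorem classInner_sum_irr_self {ι : Type*} (s : Finset ι) (χ : ι → L → ℂ)
    (hirr : ∀ i ∈ s, IsIrrCharacter L (χ i)) (hinj : ∀ i ∈ s, ∀ j ∈ s, χ i = χ j → i = j) :
    classInner (∑ i ∈ s, χ i) (∑ i ∈ s, χ i) = (s.card : ℂ) := by
  classical
  have FM := Cfsg.Agent.Lib.Helper26.irrFacts L
  rw [Cfsg.Agent.Lib.Helper26.classInner_sum_left]
  have h1 : ∀ i ∈ s, classInner (χ i) (∑ j ∈ s, χ j) = 1 := by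
    intro i hi
    rw [Cfsg.Agent.Lib.Helper26.classInner_sum_right, Finset.sum_eq_single i]
    · rw [FM.orthonormal _ _ (hirr i hi) (hirr i hi), if_pos rfl]
    · intro j hj hne
      rw [FM.orthonormal _ _ (hirr i hi) (hirr j hj), if_neg]
      intro hc
      exact hne (hinj i hi j hj hc).symm
    · intro h; exact absurd hi h
  rw [Finset.sum_congr rfl h1, Finset.sum_const, nsmul_eq_mul, mul_one]

variable (K : Subgroup L) [hK : K.Normal]

/-- a function induced from a normal subgroup vanishes off it -/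
theorem indFun_vanish_off_normal (θ : K → ℂ) {x : L} (hx : x ∉ K) : indFun K θ x = 0 := by
  apply Cfsg.Agent.Lib.Helper74.indFun_of_forall_not_mem_conj
  intro y hy
  rw [Subgroup.Normal.conj_smul_eq_self] at hy
  exact hx hy

/-- distinct members of `Ind (Irr K)` are orthogonal -/
theorem inducedIrr_orth {θ' θ'' : K → ℂ} (hθ' : IsIrrCharacter K θ') (hθ'' : IsIrrCharacter K θ'')
    (hne : indFun K θ' ≠ indFun K θ'') : classInner (indFun K θ') (indFun K θ'') = 0 := by
  have : Fintype K := Fintype.ofFinite K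
  apply Cfsg.Agent.Lib.Helper75.classInner_indFun_indFun_eq_zero K hθ'' hθ'
  intro g hg
  apply hne
  rw [← hg, Cfsg.Agent.Lib.Helper75.indFun_conjFun]

/-- in a group of odd order, no `Ind θ` (`θ ≠ 1` irreducible of the normal subgroup `K`) is real -/
theorem indFun_conj_ne_self (hodd : Odd (Nat.card L)) {θ : K → ℂ} (hθ : IsIrrCharacter K θ)
    (hθ1 : θ ≠ fun _ => 1) : Cfsg.conjFun (indFun K θ) ≠ indFun K θ := by
  classical
  have : Fintype K := Fintype.ofFinite K
  intro hc
  rw [Cfsg.Agent.Lib.Helper74.conjFun_indFun K θ] at hc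
  have hθc : IsIrrCharacter K (Cfsg.conjFun θ) := Cfsg.Agent.Lib.Helper81.isIrrCharacter_conj hθ
  -- Ind θ ≠ 0
  have hne0 : classInner (indFun K θ) (indFun K θ) ≠ 0 := by
    intro h0
    have h1 := Cfsg.Agent.Lib.Helper26.classInner_self_eq_zero h0
    have h2 := congrFun h1 1
    rw [Cfsg.Agent.Lib.Helper75.indFun_one] at h2
    obtain ⟨d, hd, hd'⟩ := (Cfsg.Agent.Lib.Helper26.irrFacts K).deg_pos _ hθ
    rw [hd'] at h2
    have hidx : (K.index : ℂ) ≠ 0 := by
      have : K.index ≠ 0 := Subgroup.index_ne_zero_of_finite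
      exact_mod_cast this
    have hdC : (d : ℂ) ≠ 0 := by exact_mod_cast hd.ne'
    exact (mul_ne_zero hidx hdC) h2
  -- a conjugating element
  obtain ⟨g, hg⟩ : ∃ g : L, Cfsg.Agent.Lib.Helper75.conjFun K g θ = Cfsg.conjFun θ := by
    by_contra hcon
    push Not at hcon
    have := Cfsg.Agent.Lib.Helper75.classInner_indFun_indFun_eq_zero K hθ hθc hcon
    rw [hc] at this
    exact hne0 this
  -- θ^(g*g) = θ
  have hgg : Cfsg.Agent.Lib.Helper75.conjFun K (g * g) θ = θ := by
    rw [Cfsg.Agent.Lib.Helper75.conjFun_mul, hg]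
    funext n
    rw [Cfsg.Agent.Lib.Helper75.conjFun_apply]
    show conj (θ _) = θ n
    have := congrFun hg n
    rw [Cfsg.Agent.Lib.Helper75.conjFun_apply] at this
    rw [this]
    show conj (conj (θ n)) = θ n
    exact Complex.conj_conj _
  have hpow : ∀ n : ℕ, Cfsg.Agent.Lib.Helper75.conjFun K ((g * g) ^ n) θ = θ := by
    intro n
    induction n with
    | zero => rw [pow_zero, Cfsg.Agent.Lib.Helper75.conjFun_one]
    | succ n ih => rw [pow_succ, Cfsg.Agent.Lib.Helper75.conjFun_mul, ih, hgg]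
  -- g is a power of g * g
  have hgo : Odd (orderOf g) := Odd.of_dvd_nat hodd (orderOf_dvd_natCard g)
  obtain ⟨k, hk⟩ := hgo
  have hgk : (g * g) ^ (k + 1) = g := by
    rw [← pow_two, ← pow_mul]
    have : 2 * (k + 1) = orderOf g + 1 := by omega
    rw [this, pow_succ, pow_orderOf_eq_one, one_mul]
  have hgθ : Cfsg.Agent.Lib.Helper75.conjFun K g θ = θ := by
    have := hpow (k + 1)
    rwa [hgk] at this
  rw [hgθ] at hg
  -- θ is real
  have hreal : ∀ n : K, (θ n).im = 0 := by
    intro n
    have := congrFun hg n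
    exact Complex.conj_eq_iff_im.mp this.symm
  have hoddK : Odd (Nat.card K) := Odd.of_dvd_nat hodd (Subgroup.card_subgroup_dvd_card K)
  exact hθ1 (Cfsg.Agent.Lib.Helper74.eq_one_of_real_of_odd_card hoddK ⟨θ, hθ⟩ hreal)

end Cfsg.Agent.Lib.Helper51.PFCyc
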