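/-
helper51: PF sections 10-13 bookkeeping (helper24 #3849): the hypotheses of S1511 / S1513 for
`L = ↥M`, `K = M'`, `W₁`, `W₂` (as subgroups of `↥M`) from type-P data of `M`.
-/
import Mathlib
import Cfsg.Agent.Lib.Helper24.PFCycDefs
import Cfsg.Agent.Lib.Helper4.PFTypes
import Cfsg.Agent.Lib.Helper50.PFCycMuRes
import Cfsg.Agent.Lib.Helper51.PFCycMuInd

set_option autoImplicit false

namespace Cfsg.Agent.Lib.Helper51.PFCyc

open Cfsg Cfsg.Agent.Lib.Helper4.PF Cfsg.Agent.Lib.Helper24.PFCyc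

universe u

variable {G : Type u} [Group G] {M W₁ U W₂ : Subgroup G}

/-- the hypotheses of S1511 / S1513 for `↥M` -/
structure SHyps (M W₁ W₂ : Subgroup G) : Prop where
  hKW₁ : (⁅M, M⁆ : Subgroup G).subgroupOf M ⊓ W₁.subgroupOf M = ⊥
  hKW₁' : (⁅M, M⁆ : Subgroup G).subgroupOf M ⊔ W₁.subgroupOf M = ⊤
  hW₁ : W₁.subgroupOf M ≠ ⊥
  hW₁c : IsCyclic ↥(W₁.subgroupOf M)
  hHall : Nat.Coprime (Nat.card ↥(W₁.subgroupOf M)) (W₁.subgroupOf M).index
  hW₂ : W₂.subgroupOf M ≠ ⊥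
  hW₂c : IsCyclic ↥(W₂.subgroupOf M)
  hW₂K : W₂.subgroupOf M ≤ (⁅M, M⁆ : Subgroup G).subgroupOf M
  hC : ∀ x ∈ W₁.subgroupOf M, x ≠ 1 →
    (⁅M, M⁆ : Subgroup G).subgroupOf M ⊓ Subgroup.centralizer ({x} : Set ↥M) = W₂.subgroupOf M
  hodd : Odd (Nat.card ↥(W₁.subgroupOf M ⊔ W₂.subgroupOf M))
  card_W₁ : Nat.card ↥(W₁.subgroupOf M) = Nat.card W₁
  card_W₂ : Nat.card ↥(W₂.subgroupOf M) = Nat.card W₂

theorem W₂_le_M (hP : IsTypePWith M W₁ U W₂) : W₂ ≤ M :=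
  (Cfsg.Agent.Lib.Helper50.PFCyc.W₂_le_der hP).trans hP.W₁_compl.1

theorem sHyps [Finite G] (hP : IsTypePWith M W₁ U W₂) (hodd : Odd (Nat.card M)) :
    SHyps M W₁ W₂ := by
  have hW₁M : W₁ ≤ M := hP.W₁_compl.2.1
  have hW₂M : W₂ ≤ M := W₂_le_M hP
  have hW := hP.selfNormalizing
  have e₁ : ↥(W₁.subgroupOf M) ≃* ↥W₁ := Subgroup.subgroupOfEquivOfLe hW₁M
  have e₂ : ↥(W₂.subgroupOf M) ≃* ↥W₂ := Subgroup.subgroupOfEquivOfLe hW₂M
  refine ⟨?_, ?_, ?_, ?_, ?_, ?_, ?_, ?_, ?_, ?_, Nat.card_congr e₁.toEquiv,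
    Nat.card_congr e₂.toEquiv⟩
  · rw [eq_bot_iff]
    intro x hx
    rw [Subgroup.mem_inf, Subgroup.mem_subgroupOf, Subgroup.mem_subgroupOf] at hx
    have : (x : G) ∈ (⁅M, M⁆ : Subgroup G) ⊓ W₁ := Subgroup.mem_inf.mpr hx
    rw [hP.W₁_compl.2.2.1, Subgroup.mem_bot] at this
    rw [Subgroup.mem_bot]
    exact Subtype.ext this
  · rw [eq_top_iff]
    intro m _
    obtain ⟨a, ha, b, hb, hab⟩ := hP.W₁_compl.2.2.2 (m : G) m.2
    have haM : a ∈ M := hP.W₁_compl.1 ha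
    have hbM : b ∈ M := hW₁M hb
    have : m = (⟨a, haM⟩ : ↥M) * ⟨b, hbM⟩ := Subtype.ext hab
    rw [this]
    exact Subgroup.mul_mem _ (Subgroup.mem_sup_left (Subgroup.mem_subgroupOf.mpr ha))
      (Subgroup.mem_sup_right (Subgroup.mem_subgroupOf.mpr hb))
  · intro h
    apply hW.1
    rw [eq_bot_iff]
    intro w hw
    have : (⟨w, hW₁M hw⟩ : ↥M) ∈ W₁.subgroupOf M := Subgroup.mem_subgroupOf.mpr hw
    rw [h, Subgroup.mem_bot] at this
    rw [Subgroup.mem_bot]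
    exact congrArg Subtype.val this
  · haveI := hP.W₁_cyclic
    exact isCyclic_of_surjective e₁.symm e₁.symm.surjective
  · rw [Nat.card_congr e₁.toEquiv]
    exact hP.W₁_hall
  · intro h
    apply hW.2.1
    rw [eq_bot_iff]
    intro w hw
    have : (⟨w, hW₂M hw⟩ : ↥M) ∈ W₂.subgroupOf M := Subgroup.mem_subgroupOf.mpr hw
    rw [h, Subgroup.mem_bot] at this
    rw [Subgroup.mem_bot]
    exact congrArg Subtype.val this
  · haveI : IsCyclic ↥(W₁ ⊔ W₂) := hW.2.2.2.2.1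
    have e₃ : ↥(W₂.subgroupOf (W₁ ⊔ W₂)) ≃* ↥W₂ := Subgroup.subgroupOfEquivOfLe le_sup_right
    have : IsCyclic ↥W₂ := isCyclic_of_surjective e₃ e₃.surjective
    exact isCyclic_of_surjective e₂.symm e₂.symm.surjective
  · intro x hx
    rw [Subgroup.mem_subgroupOf] at hx ⊢
    exact Cfsg.Agent.Lib.Helper50.PFCyc.W₂_le_der hP hx
  · intro x hx hx1
    have hxW : (x : G) ∈ W₁ := Subgroup.mem_subgroupOf.mp hx
    have hx1' : (x : G) ≠ 1 := fun h => hx1 (Subtype.ext h)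
    have hc := hP.W₂_centralizer (x : G) hxW hx1'
    ext y
    rw [Subgroup.mem_inf, Subgroup.mem_subgroupOf, Subgroup.mem_subgroupOf,
      Subgroup.mem_centralizer_iff, ← hc, Subgroup.mem_inf, Subgroup.mem_centralizer_iff]
    constructor
    · rintro ⟨h1, h2⟩
      refine ⟨h1, ?_⟩
      intro z hz
      rw [Set.mem_singleton_iff] at hz
      rw [hz]
      have := h2 x (Set.mem_singleton x)
      exact congrArg Subtype.val this
    · rintro ⟨h1, h2⟩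
      refine ⟨h1, ?_⟩
      intro z hz
      rw [Set.mem_singleton_iff] at hz
      rw [hz]
      apply Subtype.ext
      exact h2 (x : G) (Set.mem_singleton _)
  · have hdvd : Nat.card ↥(W₁.subgroupOf M ⊔ W₂.subgroupOf M) ∣ Nat.card ↥M :=
      Subgroup.card_subgroup_dvd_card _
    exact Odd.of_dvd_nat hodd hdvd

end Cfsg.Agent.Lib.Helper51.PFCyc
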