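/-
helper51: PF sections 10-13 bookkeeping (helper24 #3849), module [MU-IRRM]:
an irreducible character of `M` is some `μ_ω` or is induced from a nonprincipal irreducible
character of `M'` (and then vanishes off `M'`).
-/
import Mathlib
import Cfsg.Agent.Lib.Helper24.PFCycDefs
import Cfsg.Agent.Lib.Helper4.PFTypes
import Cfsg.Agent.Lib.Helper50.PFCycMuRes
import Cfsg.Agent.Lib.Helper51.PFCycMuInd
import Cfsg.Agent.Lib.Helper51.PFCycTransport
import Cfsg.Agent.Lib.Helper75.Clifford3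
import Cfsg.Agent.Lib.Helper74.SibleySetup
import Cfsg.Agent.S1513

set_option autoImplicit false
set_option linter.unusedVariables false
set_option linter.unusedSectionVars false
set_option linter.style.haveILetI false

namespace Cfsg.Agent.Lib.Helper51.PFCyc

open Cfsg Cfsg.Agent.Lib.Helper4.PF Cfsg.Agent.Lib.Helper24.PFCyc
open scoped ComplexConjugate

universe u

/-- if `⟨∑ χ_i, ψ⟩ ≠ 0` with all `χ_i`, `ψ` irreducible then `ψ` is one of the `χ_i` -/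
theorem exists_eq_of_inner_sum_ne_zero {X : Type u} [Group X] [Fintype X] {ι : Type*}
    (s : Finset ι) (χ : ι → X → ℂ) (hirr : ∀ i ∈ s, IsIrrCharacter X (χ i)) {ψ : X → ℂ}
    (hψ : IsIrrCharacter X ψ) (h : classInner (∑ i ∈ s, χ i) ψ ≠ 0) : ∃ i ∈ s, χ i = ψ := by
  by_contra hc
  push Not at hc
  apply h
  rw [Cfsg.Agent.Lib.Helper26.classInner_sum_left]
  apply Finset.sum_eq_zero
  intro i hi
  exact Cfsg.Agent.Lib.Helper78.classInner_irr_ne (hirr i hi) hψ (hc i hi)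

variable {G : Type u} [Group G] [Finite G] {M W₁ U W₂ : Subgroup G} [Fintype M]
  {mu : WChar W₁ W₂ → (↥M → ℂ)} {dl : WChar W₁ W₂ → ℂ}

/-- `W₁`-invariance of a function on `M'`, in the shape of S1513 -/
def W1Inv (M W₁ : Subgroup G) (θ : ↥((⁅M, M⁆ : Subgroup G).subgroupOf M) → ℂ) : Prop :=
  ∀ x ∈ W₁.subgroupOf M, (fun k : ↥((⁅M, M⁆ : Subgroup G).subgroupOf M) =>
    θ ⟨x * k * x⁻¹, (KM_normal M).conj_mem (k : ↥M) k.2 x⟩) = θ

/-- restrictions of class functions are invariant -/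
theorem w1Inv_res {χ : ↥M → ℂ} (hχ : IsClassFunction ↥M χ) :
    W1Inv M W₁ (fun k => χ (k : ↥M)) := by
  intro x _
  funext k
  exact hχ (k : ↥M) x

/-- S1513 for `↥M` -/
theorem s1513_apply (hP : IsTypePWith M W₁ U W₂) (hodd : Odd (Nat.card M)) :
    (∀ θ : ↥((⁅M, M⁆ : Subgroup G).subgroupOf M) → ℂ,
      IsIrrCharacter ↥((⁅M, M⁆ : Subgroup G).subgroupOf M) θ → ¬ W1Inv M W₁ θ →
      IsIrrCharacter ↥M (indFun ((⁅M, M⁆ : Subgroup G).subgroupOf M) θ)) ∧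
    Nat.card {θ : IrrCharacter ↥((⁅M, M⁆ : Subgroup G).subgroupOf M) //
      W1Inv M W₁ (θ : ↥((⁅M, M⁆ : Subgroup G).subgroupOf M) → ℂ)} = Nat.card W₂ := by
  have hs := sHyps hP hodd
  have h := Cfsg.Agent.S1513.result (hK := KM_normal M)
    ((⁅M, M⁆ : Subgroup G).subgroupOf M) (W₁.subgroupOf M) (W₂.subgroupOf M)
    hs.hKW₁ hs.hKW₁' hs.hW₁ hs.hW₁c hs.hHall hs.hW₂ hs.hW₂c hs.hW₂K hs.hC hs.hodd
  refine ⟨?_, ?_⟩
  · intro θ hθ hninv
    apply h.1 θ hθ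
    unfold W1Inv at hninv
    push Not at hninv
    exact hninv
  · rw [← hs.card_W₂]
    exact h.2.1

section inner

variable [Fintype ↥((⁅M, M⁆ : Subgroup G).subgroupOf M)]

/-- `⟨μ_j-sum, θ⟩` by Frobenius reciprocity -/
theorem inner_muSum (hP : IsTypePWith M W₁ U W₂) (hodd : Odd (Nat.card M))
    (md : MuData M W₁ W₂ mu dl) (ω : WChar W₁ W₂) {θ : ↥M → ℂ} (hθ : IsClassFunction ↥M θ) :
    classInner (muSum mu ω) θ =
      classInner (fun k : ↥((⁅M, M⁆ : Subgroup G).subgroupOf M) => mu ω (k : ↥M))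
        (fun k : ↥((⁅M, M⁆ : Subgroup G).subgroupOf M) => θ (k : ↥M)) := by
  rw [(muSum_eq_indFun hP hodd md ω).2]
  exact Cfsg.Agent.Lib.Helper75.frobenius_reciprocity _ _ hθ

end inner

/-- an irreducible character of `M` having a common constituent on `M'` with `μ_ω` is some
`μ_{φω}` -/
theorem exists_mu_of_inner_ne_zero (hP : IsTypePWith M W₁ U W₂) (hodd : Odd (Nat.card M))
    (md : MuData M W₁ W₂ mu dl) (ω : WChar W₁ W₂) {θ : ↥M → ℂ} (hθ : IsIrrCharacter ↥M θ)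
    (h : classInner (muSum mu ω) θ ≠ 0) : ∃ φ ∈ trivSet W₁ W₂ W₂, mu (φ * ω) = θ := by
  unfold muSum at h
  exact exists_eq_of_inner_sum_ne_zero (trivSet W₁ W₂ W₂) (fun φ => mu (φ * ω))
    (fun φ _ => md.irr _) hθ h

/-- fiber lemma: equal restrictions to `M'` -/
theorem exists_of_res_eq (hP : IsTypePWith M W₁ U W₂) (hodd : Odd (Nat.card M))
    (md : MuData M W₁ W₂ mu dl) (ω₀ ω : WChar W₁ W₂)
    (h : (fun k : ↥((⁅M, M⁆ : Subgroup G).subgroupOf M) => mu ω (k : ↥M)) =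
      (fun k : ↥((⁅M, M⁆ : Subgroup G).subgroupOf M) => mu ω₀ (k : ↥M))) :
    ∃ φ ∈ trivSet W₁ W₂ W₂, ω = φ * ω₀ := by
  classical
  have : Fintype ↥((⁅M, M⁆ : Subgroup G).subgroupOf M) := Fintype.ofFinite _
  have hcf : IsClassFunction ↥M (mu ω) :=
    Cfsg.Agent.Lib.Helper78.IsCharacter.isClassFunction
      (Cfsg.Agent.Lib.Helper78.IsIrrCharacter.isCharacter (md.irr ω))
  have h1 : classInner (muSum mu ω₀) (mu ω) ≠ 0 := by
    rw [inner_muSum hP hodd md ω₀ hcf, h,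
      Cfsg.Agent.Lib.Helper78.classInner_irr_self (muSum_eq_indFun hP hodd md ω₀).1]
    exact one_ne_zero
  obtain ⟨φ, hφ, h2⟩ := exists_mu_of_inner_ne_zero hP hodd md ω₀ (md.irr ω) h1
  exact ⟨φ, hφ, (md.inj h2).symm⟩

/-- every `W₁`-invariant irreducible character of `M'` is the restriction of some `μ_ω` -/
theorem exists_mu_res_eq (hP : IsTypePWith M W₁ U W₂) (hodd : Odd (Nat.card M))
    (md : MuData M W₁ W₂ mu dl) (θ₀ : ↥((⁅M, M⁆ : Subgroup G).subgroupOf M) → ℂ)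
    (hθ₀ : IsIrrCharacter ↥((⁅M, M⁆ : Subgroup G).subgroupOf M) θ₀) (hinv : W1Inv M W₁ θ₀) :
    ∃ ω : WChar W₁ W₂, (fun k : ↥((⁅M, M⁆ : Subgroup G).subgroupOf M) => mu ω (k : ↥M)) = θ₀ := by
  classical
  have hW := hP.selfNormalizing
  have hfin1 : Fintype (WChar W₁ W₂) := Fintype.ofFinite _
  let Inv := {θ : IrrCharacter ↥((⁅M, M⁆ : Subgroup G).subgroupOf M) //
      W1Inv M W₁ (θ : ↥((⁅M, M⁆ : Subgroup G).subgroupOf M) → ℂ)}
  have hfin2 : Fintype Inv := Fintype.ofFinite _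
  let ρ : WChar W₁ W₂ → Inv := fun ω =>
    ⟨⟨fun k => mu ω (k : ↥M), (muSum_eq_indFun hP hodd md ω).1⟩,
      w1Inv_res (Cfsg.Agent.Lib.Helper78.IsCharacter.isClassFunction
        (Cfsg.Agent.Lib.Helper78.IsIrrCharacter.isCharacter (md.irr ω)))⟩
  -- fibers
  have hfib : ∀ a ∈ (Finset.univ : Finset (WChar W₁ W₂)).image ρ,
      ((Finset.univ : Finset (WChar W₁ W₂)).filter (fun ω => ρ ω = a)).card ≤ Nat.card W₁ := by
    intro a ha
    obtain ⟨ω₀, -, rfl⟩ := Finset.mem_image.mp ha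
    have hsub : (Finset.univ : Finset (WChar W₁ W₂)).filter (fun ω => ρ ω = ρ ω₀) ⊆
        (trivSet W₁ W₂ W₂).image (fun φ => φ * ω₀) := by
      intro ω hω
      rw [Finset.mem_filter] at hω
      have h1 : (fun k : ↥((⁅M, M⁆ : Subgroup G).subgroupOf M) => mu ω (k : ↥M)) =
          (fun k : ↥((⁅M, M⁆ : Subgroup G).subgroupOf M) => mu ω₀ (k : ↥M)) :=
        congrArg (fun a : Inv => a.1.1) hω.2
      obtain ⟨φ, hφ, h2⟩ := exists_of_res_eq hP hodd md ω₀ ω h1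
      exact Finset.mem_image.mpr ⟨φ, hφ, h2.symm⟩
    calc _ ≤ ((trivSet W₁ W₂ W₂).image (fun φ => φ * ω₀)).card := Finset.card_le_card hsub
      _ ≤ (trivSet W₁ W₂ W₂).card := Finset.card_image_le
      _ = Nat.card W₁ := card_trivSet_W₂ hW
  have hle := Finset.card_le_mul_card_image (f := ρ) (Finset.univ : Finset (WChar W₁ W₂))
    (Nat.card W₁) hfib
  -- |WChar| = |W₁| |W₂|
  have hcyc : IsCyclic ↥(W₁ ⊔ W₂) := hW.2.2.2.2.1
  have hc : ∀ a b : ↥(W₁ ⊔ W₂), a * b = b * a := by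
    intro a b
    obtain ⟨g, hg⟩ := hcyc.exists_generator
    obtain ⟨i, rfl⟩ := Subgroup.mem_zpowers_iff.mp (hg a)
    obtain ⟨j, rfl⟩ := Subgroup.mem_zpowers_iff.mp (hg b)
    rw [← zpow_add, ← zpow_add, add_comm]
  have hcardW : (Finset.univ : Finset (WChar W₁ W₂)).card = Nat.card W₁ * Nat.card W₂ := by
    rw [Finset.card_univ, ← Nat.card_eq_fintype_card, Cfsg.Agent.Lib.Helper25.card_hom_eq hc,
      card_W hW]
  have hcardInv : Fintype.card Inv = Nat.card W₂ := by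
    rw [← Nat.card_eq_fintype_card]
    exact (s1513_apply hP hodd).2
  rw [hcardW] at hle
  have hW₁pos : 0 < Nat.card W₁ := Nat.card_pos
  have h3 : Nat.card W₂ ≤ ((Finset.univ : Finset (WChar W₁ W₂)).image ρ).card :=
    Nat.le_of_mul_le_mul_left hle hW₁pos
  have h4 : (Finset.univ : Finset (WChar W₁ W₂)).image ρ = Finset.univ := by
    apply Finset.eq_univ_of_card
    apply le_antisymm (Finset.card_le_univ _)
    rw [hcardInv]
    exact h3
  have h5 : (⟨⟨θ₀, hθ₀⟩, hinv⟩ : Inv) ∈ (Finset.univ : Finset (WChar W₁ W₂)).image ρ := by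
    rw [h4]; exact Finset.mem_univ _
  obtain ⟨ω, -, hω⟩ := Finset.mem_image.mp h5
  exact ⟨ω, congrArg (fun a : Inv => a.1.1) hω⟩

/-- MODULE [MU-IRRM] -/
theorem irr_eq_mu_or_ind (hP : IsTypePWith M W₁ U W₂) (hodd : Odd (Nat.card M))
    (md : MuData M W₁ W₂ mu dl) (θ : ↥M → ℂ) (hθ : IsIrrCharacter ↥M θ) :
    (∃ ω, θ = mu ω) ∨
      ∃ ϑ : ↥((⁅M, M⁆).subgroupOf M) → ℂ, IsIrrCharacter ↥((⁅M, M⁆).subgroupOf M) ϑ ∧
        ϑ ≠ (fun _ => 1) ∧ θ = indFun ((⁅M, M⁆).subgroupOf M) ϑ ∧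
        ∀ m : ↥M, (m : G) ∉ ⁅M, M⁆ → θ m = 0 := by
  classical
  have hKn := KM_normal M
  have : Fintype ↥((⁅M, M⁆ : Subgroup G).subgroupOf M) := Fintype.ofFinite _
  have hθcf : IsClassFunction ↥M θ :=
    Cfsg.Agent.Lib.Helper78.IsCharacter.isClassFunction
      (Cfsg.Agent.Lib.Helper78.IsIrrCharacter.isCharacter hθ)
  obtain ⟨θ₀, hθ₀⟩ := Cfsg.Agent.Lib.Helper75.exists_constituent_res
    ((⁅M, M⁆ : Subgroup G).subgroupOf M) hθ
  by_cases hinv : W1Inv M W₁ (θ₀ : ↥((⁅M, M⁆ : Subgroup G).subgroupOf M) → ℂ)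
  · left
    obtain ⟨ω, hω⟩ := exists_mu_res_eq hP hodd md _ θ₀.2 hinv
    have h1 : classInner (muSum mu ω) θ ≠ 0 := by
      rw [inner_muSum hP hodd md ω hθcf, hω, ← Cfsg.Agent.Lib.Helper78.classInner_conj_symm]
      intro hc
      apply hθ₀
      have := congrArg (starRingEnd ℂ) hc
      rwa [Complex.conj_conj, map_zero] at this
    obtain ⟨φ, -, h2⟩ := exists_mu_of_inner_ne_zero hP hodd md ω hθ h1
    exact ⟨φ * ω, h2.symm⟩
  · right
    have hirrInd := (s1513_apply hP hodd).1 _ θ₀.2 hinv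
    have hne1 : (θ₀ : ↥((⁅M, M⁆ : Subgroup G).subgroupOf M) → ℂ) ≠ (fun _ => 1) := by
      intro hc
      apply hinv
      rw [hc]
      intro x _
      rfl
    have heq : θ = indFun ((⁅M, M⁆ : Subgroup G).subgroupOf M)
        (θ₀ : ↥((⁅M, M⁆ : Subgroup G).subgroupOf M) → ℂ) := by
      by_contra hne
      have h0 := Cfsg.Agent.Lib.Helper78.classInner_irr_ne hirrInd hθ (fun h => hne h.symm)
      rw [Cfsg.Agent.Lib.Helper75.frobenius_reciprocity _ _ hθcf,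
        ← Cfsg.Agent.Lib.Helper78.classInner_conj_symm] at h0
      apply hθ₀
      have := congrArg (starRingEnd ℂ) h0
      rwa [Complex.conj_conj, map_zero] at this
    refine ⟨θ₀, θ₀.2, hne1, heq, ?_⟩
    intro m hm
    rw [heq]
    apply Cfsg.Agent.Lib.Helper74.sibleyS_vanish ((⁅M, M⁆ : Subgroup G).subgroupOf M)
      ((Cfsg.Agent.Lib.Helper74.mem_inducedIrrAbove_bot_iff _).mpr ⟨_, θ₀.2, hne1, rfl⟩) m
    intro hc
    exact hm (Subgroup.mem_subgroupOf.mp hc)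

end Cfsg.Agent.Lib.Helper51.PFCyc
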