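/-
helper51: PF sections 10-13 bookkeeping (helper24 #3849), module [CALS]:
a member `ζ = Ind θ` of `S(M) = inducedIrrAbove M' ⊥` is irreducible and not a `μ_ω`, or it is
`μ_j = muSum mu ψ` for a nonprincipal `ψ` trivial on `W₁`; and conversely.
-/
import Mathlib
import Cfsg.Agent.Lib.Helper24.PFCycDefs
import Cfsg.Agent.Lib.Helper4.PFTypes
import Cfsg.Agent.Lib.Helper50.PFCycMuRes
import Cfsg.Agent.Lib.Helper50.PFCycMuOne
import Cfsg.Agent.Lib.Helper51.PFCycMuInd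
import Cfsg.Agent.Lib.Helper51.PFCycMuIrr

set_option autoImplicit false
set_option linter.unusedVariables false
set_option linter.unusedSectionVars false

namespace Cfsg.Agent.Lib.Helper51.PFCyc

open Cfsg Cfsg.Agent.Lib.Helper4.PF Cfsg.Agent.Lib.Helper24.PFCyc
open scoped ComplexConjugate

universe u

variable {G : Type u} [Group G] [Finite G] {M W₁ U W₂ : Subgroup G}

/-- `|W₁|` and `|W₂|` are coprime -/
theorem coprime_W (hP : IsTypePWith M W₁ U W₂) : (Nat.card W₁).Coprime (Nat.card W₂) := by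
  have h1 := Cfsg.Agent.Lib.Helper23.card_of_isComplIn hP.W₁_compl
  have h2 := Cfsg.Agent.Lib.Helper23.card_mul_relIndex_of_le hP.W₁_compl.2.1
  have hpos : 0 < Nat.card W₁ := Nat.card_pos
  have h3 : W₁.relIndex M = Nat.card ↥(⁅M, M⁆ : Subgroup G) := by
    apply Nat.eq_of_mul_eq_mul_left hpos
    rw [h2, h1, mul_comm]
  have h4 : Nat.card W₂ ∣ Nat.card ↥(⁅M, M⁆ : Subgroup G) :=
    Subgroup.card_dvd_of_le (Cfsg.Agent.Lib.Helper50.PFCyc.W₂_le_der hP)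
  have h5 := hP.W₁_hall
  rw [h3] at h5
  exact Nat.Coprime.coprime_dvd_right h4 h5

/-- the `W₂`-part of a linear character of `W` -/
theorem exists_W₂_part (hP : IsTypePWith M W₁ U W₂) (ω : WChar W₁ W₂) :
    ∃ ψ : WChar W₁ W₂, TrivOn W₁ ψ ∧ ∀ w : ↥(W₁ ⊔ W₂), (w : G) ∈ W₂ → ψ w = ω w := by
  obtain ⟨n, hn1, hn2⟩ := Nat.chineseRemainder (coprime_W hP) 0 1
  refine ⟨ω ^ n, ?_, ?_⟩
  · intro w hw
    rw [MonoidHom.pow_apply, ← map_pow]
    have h1 : orderOf w ∣ Nat.card W₁ := by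
      rw [← Subgroup.orderOf_coe]
      have : orderOf (⟨(w : G), hw⟩ : W₁) ∣ Nat.card W₁ := orderOf_dvd_natCard _
      rwa [← Subgroup.orderOf_coe] at this
    have h2 : Nat.card W₁ ∣ n := (Nat.modEq_zero_iff_dvd).mp hn1
    have h3 : w ^ n = 1 := orderOf_dvd_iff_pow_eq_one.mp (h1.trans h2)
    rw [h3, map_one]
  · intro w hw
    rw [MonoidHom.pow_apply, ← map_pow]
    have h1 : orderOf w ∣ Nat.card W₂ := by
      rw [← Subgroup.orderOf_coe]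
      have : orderOf (⟨(w : G), hw⟩ : W₂) ∣ Nat.card W₂ := orderOf_dvd_natCard _
      rwa [← Subgroup.orderOf_coe] at this
    have h2 : n ≡ 1 [MOD orderOf w] := Nat.ModEq.of_dvd h1 hn2
    have h3 : w ^ n = w ^ 1 := pow_eq_pow_iff_modEq.mpr h2
    rw [h3, pow_one]

/-- a character of `W` trivial on `W₁` and on `W₂` is trivial -/
theorem eq_one_of_trivOn (hW : IsSelfNormalizingCyclic W₁ W₂) {ψ : WChar W₁ W₂}
    (h1 : TrivOn W₁ ψ) (h2 : TrivOn W₂ ψ) : ψ = 1 := by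
  ext w
  obtain ⟨a, ha, b, hb, hab⟩ := Cfsg.Agent.Lib.Helper50.PFCyc.mem_sup_of_comm hW.2.2.2.1 w.2
  have hw : w = (⟨a, Subgroup.mem_sup_left ha⟩ : ↥(W₁ ⊔ W₂)) * ⟨b, Subgroup.mem_sup_right hb⟩ :=
    Subtype.ext hab
  rw [hw, map_mul, h1 _ ha, h2 _ hb, mul_one]
  rfl

variable [Fintype M] {mu : WChar W₁ W₂ → (↥M → ℂ)} {dl : WChar W₁ W₂ → ℂ}

/-- the restriction of `μ_ψ` to `M'` is nonprincipal for `ψ ≠ 1` trivial on `W₁` -/
theorem mu_res_ne_one (hP : IsTypePWith M W₁ U W₂) (hodd : Odd (Nat.card M))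
    (md : MuData M W₁ W₂ mu dl) (ψ : WChar W₁ W₂) (hψ : TrivOn W₁ ψ) (hψ1 : ψ ≠ 1) :
    (fun k : ↥((⁅M, M⁆ : Subgroup G).subgroupOf M) => mu ψ (k : ↥M)) ≠ (fun _ => 1) := by
  intro hc
  have h1 : (fun k : ↥((⁅M, M⁆ : Subgroup G).subgroupOf M) => mu ψ (k : ↥M)) =
      (fun k : ↥((⁅M, M⁆ : Subgroup G).subgroupOf M) => mu 1 (k : ↥M)) := by
    rw [hc, Cfsg.Agent.Lib.Helper50.PFCyc.mu_one hP hodd md]
  obtain ⟨φ, hφ, h2⟩ := exists_of_res_eq hP hodd md 1 ψ h1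
  have h3 : φ * (1 : WChar W₁ W₂) = φ := by
    ext w
    rw [MonoidHom.mul_apply, MonoidHom.one_apply, mul_one]
  rw [h3] at h2
  apply hψ1
  apply eq_one_of_trivOn hP.selfNormalizing hψ
  rw [h2]
  exact mem_trivSet.mp hφ

/-- MODULE [CALS] -/
theorem calS_cases (hP : IsTypePWith M W₁ U W₂) (hodd : Odd (Nat.card M))
    (md : MuData M W₁ W₂ mu dl) (ζ : ↥M → ℂ)
    (hζ : ζ ∈ inducedIrrAbove ((⁅M, M⁆).subgroupOf M) ⊥) :
    (IsIrrCharacter ↥M ζ ∧ ∀ ω, ζ ≠ mu ω) ∨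
      ∃ ψ : WChar W₁ W₂, TrivOn W₁ ψ ∧ ψ ≠ 1 ∧ ζ = muSum mu ψ := by
  classical
  have hKn := KM_normal M
  obtain ⟨θ₀, hθ₀, hθ₀1, rfl⟩ := (Cfsg.Agent.Lib.Helper74.mem_inducedIrrAbove_bot_iff _).mp hζ
  by_cases hinv : W1Inv M W₁ θ₀
  · right
    obtain ⟨ω, hω⟩ := exists_mu_res_eq hP hodd md θ₀ hθ₀ hinv
    obtain ⟨ψ, hψ, hψω⟩ := exists_W₂_part hP ω
    have hres : (fun k : ↥((⁅M, M⁆ : Subgroup G).subgroupOf M) => mu ψ (k : ↥M)) = θ₀ := by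
      rw [← hω]
      funext k
      exact Cfsg.Agent.Lib.Helper50.PFCyc.mu_res_eq hP md ψ ω hψω (k : ↥M)
        (Subgroup.mem_subgroupOf.mp k.2)
    refine ⟨ψ, hψ, ?_, ?_⟩
    · intro hc
      apply hθ₀1
      rw [← hres, hc, Cfsg.Agent.Lib.Helper50.PFCyc.mu_one hP hodd md]
    · rw [(muSum_eq_indFun hP hodd md ψ).2, hres]
  · left
    have hirr := (s1513_apply hP hodd).1 θ₀ hθ₀ hinv
    refine ⟨hirr, ?_⟩
    intro ω hc
    -- `μ_ω` does not vanish on `W₁ ∖ 1`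
    obtain ⟨w, hw, hw1⟩ : ∃ w ∈ W₁, w ≠ 1 := by
      by_contra hcon
      push Not at hcon
      apply hP.W₁_ne
      rw [eq_bot_iff]
      intro w hw
      rw [Subgroup.mem_bot]
      exact hcon w hw
    have hwM : w ∈ M := hP.W₁_compl.2.1 hw
    have hwW₂ : w ∉ W₂ := by
      intro h2
      have : w ∈ W₁ ⊓ W₂ := Subgroup.mem_inf.mpr ⟨hw, h2⟩
      rw [hP.selfNormalizing.2.2.1, Subgroup.mem_bot] at this
      exact hw1 this
    have hwK : w ∉ (⁅M, M⁆ : Subgroup G) := by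
      intro h2
      have : w ∈ (⁅M, M⁆ : Subgroup G) ⊓ W₁ := Subgroup.mem_inf.mpr ⟨h2, hw⟩
      rw [hP.W₁_compl.2.2.1, Subgroup.mem_bot] at this
      exact hw1 this
    have h1 := md.val ω ⟨w, hwM⟩ (Subgroup.mem_sup_left hw) hwW₂
    have h2 : indFun ((⁅M, M⁆ : Subgroup G).subgroupOf M) θ₀ ⟨w, hwM⟩ = 0 := by
      apply Cfsg.Agent.Lib.Helper74.sibleyS_vanish ((⁅M, M⁆ : Subgroup G).subgroupOf M) hζ
      intro h3
      exact hwK (Subgroup.mem_subgroupOf.mp h3)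
    rw [hc, h1] at h2
    rcases mul_eq_zero.mp h2 with h3 | h3
    · rcases md.sign ω with h4 | h4 <;> rw [h4] at h3 <;> norm_num at h3
    · exact Units.ne_zero _ h3

/-- MODULE [CALS], converse -/
theorem muSum_mem_calS (hP : IsTypePWith M W₁ U W₂) (hodd : Odd (Nat.card M))
    (md : MuData M W₁ W₂ mu dl) (ψ : WChar W₁ W₂) (hψ : TrivOn W₁ ψ) (hψ1 : ψ ≠ 1) :
    muSum mu ψ ∈ inducedIrrAbove ((⁅M, M⁆).subgroupOf M) ⊥ := by
  have hKn := KM_normal M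
  rw [Cfsg.Agent.Lib.Helper74.mem_inducedIrrAbove_bot_iff]
  exact ⟨_, (muSum_eq_indFun hP hodd md ψ).1, mu_res_ne_one hP hodd md ψ hψ hψ1,
    (muSum_eq_indFun hP hodd md ψ).2⟩

end Cfsg.Agent.Lib.Helper51.PFCyc
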