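/-
helper51: PF section 10, M-side (helper24 #4017), module [CALS-API]:
`calS_basic`, `calS_orth`, `mu0_facts`, `muSum_facts`.
-/
import Mathlib
import Cfsg.Agent.Lib.Helper24.PFCycCtx
import Cfsg.Agent.Lib.Helper50.PFCycMuRes
import Cfsg.Agent.Lib.Helper50.PFCycMuOne
import Cfsg.Agent.Lib.Helper51.PFCycMuInd
import Cfsg.Agent.Lib.Helper51.PFCycMuIrr
import Cfsg.Agent.Lib.Helper51.PFCycCalS
import Cfsg.Agent.Lib.Helper51.PFCycIndGen
import Cfsg.Agent.S0148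

set_option autoImplicit false
set_option linter.unusedVariables false
set_option linter.unusedSectionVars false

namespace Cfsg.Agent.Lib.Helper51.PFCyc

open Cfsg Cfsg.Agent.Lib.Helper4.PF Cfsg.Agent.Lib.Helper74.PF127 Cfsg.Agent.Lib.Helper24.PFCyc
open scoped ComplexConjugate

universe u

variable {G : Type u} [Group G] [Fintype G] {M W₁ U W₂ : Subgroup G} [Fintype M]
  {mu : WChar W₁ W₂ → (↥M → ℂ)} {dl : WChar W₁ W₂ → ℂ} {η : WChar W₁ W₂ → (G → ℂ)}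
  {τ₁ : (↥M → ℂ) → (G → ℂ)} {ζ : ↥M → ℂ}

/-- MODULE [CALS-API] (1) -/
theorem calS_basic (h : MCtx M W₁ U W₂ mu dl η τ₁ ζ) (ζ' : ↥M → ℂ) (hζ' : ζ' ∈ calS M) :
    IsCharacter ↥M ζ' ∧ (∀ m : ↥M, (m : G) ∉ ⁅M, M⁆ → ζ' m = 0) ∧
      conjFun ζ' ∈ calS M ∧ conjFun ζ' ≠ ζ' ∧
      ∃ e : ℕ, 1 ≤ e ∧ ζ' 1 = (e : ℂ) * (Nat.card W₁ : ℂ) ∧
        ((e : ℤ) • ζ - ζ') ∈ zspanOn (calS M) {1}ᶜ := by
  classical
  have hKn := KM_normal M
  obtain ⟨θ, hθ, hθ1, rfl⟩ := (Cfsg.Agent.Lib.Helper74.mem_inducedIrrAbove_bot_iff _).mp hζ'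
  obtain ⟨e, he, he'⟩ := (Cfsg.Agent.Lib.Helper26.irrFacts ↥(KM M)).deg_pos _ hθ
  have hdeg : indFun (KM M) θ 1 = (e : ℂ) * (Nat.card W₁ : ℂ) := by
    rw [Cfsg.Agent.Lib.Helper75.indFun_one, he']
    have : (KM M).index = Nat.card W₁ := KM_index h.hP
    rw [this, mul_comm]
  refine ⟨?_, ?_, ?_, ?_, e, he, hdeg, ?_, ?_⟩
  · exact Cfsg.Agent.S0148.result (KM M) θ (Cfsg.Agent.Lib.Helper78.IsIrrCharacter.isCharacter hθ)
  · intro m hm
    apply indFun_vanish_off_normal (KM M) θ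
    intro hc
    exact hm (Subgroup.mem_subgroupOf.mp hc)
  · exact Cfsg.Agent.Lib.Helper74.sibleyS_conj_mem (KM M) hζ'
  · exact indFun_conj_ne_self (KM M) h.hodd hθ hθ1
  · exact Cfsg.Agent.Lib.Helper26.zspan_sub
      (Cfsg.Agent.Lib.Helper26.zspan_zsmul _ (Cfsg.Agent.Lib.Helper26.subset_zspan _ h.hζ))
      (Cfsg.Agent.Lib.Helper26.subset_zspan _ hζ')
  · intro x hx
    have hx1 : x = 1 := by simpa using hx
    rw [hx1]
    show ((e : ℤ) • ζ) 1 - indFun (KM M) θ 1 = 0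
    rw [Pi.smul_apply, hdeg, h.hζ1, zsmul_eq_mul]
    push_cast
    ring

/-- MODULE [CALS-API] (2) -/
theorem calS_orth (h : MCtx M W₁ U W₂ mu dl η τ₁ ζ) (ζ' ζ'' : ↥M → ℂ) (hζ' : ζ' ∈ calS M)
    (hζ'' : ζ'' ∈ calS M) (hne : ζ' ≠ ζ'') : classInner ζ' ζ'' = 0 := by
  have hKn := KM_normal M
  obtain ⟨θ', hθ', -, rfl⟩ := (Cfsg.Agent.Lib.Helper74.mem_inducedIrrAbove_bot_iff _).mp hζ'
  obtain ⟨θ'', hθ'', -, rfl⟩ := (Cfsg.Agent.Lib.Helper74.mem_inducedIrrAbove_bot_iff _).mp hζ''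
  exact inducedIrr_orth (KM M) hθ' hθ'' hne

/-- MODULE [CALS-API] (3): `μ_0 = Ind_K^M 1` -/
theorem mu0_facts (h : MCtx M W₁ U W₂ mu dl η τ₁ ζ) (hf : MFacts M W₁ W₂ mu dl η) :
    IsCharacter ↥M (muSum mu 1) ∧
      (∀ m : ↥M, (m : G) ∉ ⁅M, M⁆ → muSum mu 1 m = 0) ∧
      (∀ m : ↥M, (m : G) ∈ ⁅M, M⁆ → muSum mu 1 m = (Nat.card W₁ : ℂ)) ∧
      classInner (muSum mu 1) (muSum mu 1) = (Nat.card W₁ : ℂ) ∧
      classInner (muSum mu 1) (fun _ => 1) = 1 ∧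
      ∀ ζ' ∈ calS M, classInner (muSum mu 1) ζ' = 0 := by
  classical
  have hKn := KM_normal M
  have : Fintype ↥(KM M) := Fintype.ofFinite _
  have hP := h.hP
  have hodd := h.hodd
  have md := h.md
  obtain ⟨hirr, hind⟩ := muSum_eq_indFun hP hodd md (1 : WChar W₁ W₂)
  have hmu1 : mu 1 = fun _ => 1 := Cfsg.Agent.Lib.Helper50.PFCyc.mu_one hP hodd md
  have hres1 : (fun k : ↥(KM M) => mu 1 (k : ↥M)) = (fun _ => 1) := by
    rw [hmu1]
  refine ⟨?_, ?_, ?_, ?_, ?_, ?_⟩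
  · rw [hind]
    exact Cfsg.Agent.S0148.result (KM M) _ (Cfsg.Agent.Lib.Helper78.IsIrrCharacter.isCharacter hirr)
  · intro m hm
    rw [hind]
    apply indFun_vanish_off_normal (KM M)
    intro hc
    exact hm (Subgroup.mem_subgroupOf.mp hc)
  · intro m hm
    rw [hind, hres1]
    have hinv : ∀ x : ↥M, Cfsg.Agent.Lib.Helper75.conjFun (KM M) x (fun _ => (1 : ℂ)) =
        fun _ => 1 := fun x => rfl
    have := indFun_res_of_invariant (KM M) (fun _ => (1 : ℂ)) hinv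
      ⟨m, Subgroup.mem_subgroupOf.mpr hm⟩
    rw [this, KM_index hP, mul_one]
  · unfold muSum
    rw [classInner_sum_irr_self (trivSet W₁ W₂ W₂) (fun φ => mu (φ * 1)) (fun φ _ => md.irr _)
      (fun φ _ φ' _ hh => mul_right_cancel (md.inj hh)), card_trivSet_W₂ hP.selfNormalizing]
  · have hcf : IsClassFunction ↥M (fun _ => (1 : ℂ)) := fun _ _ => rfl
    rw [inner_muSum hP hodd md 1 hcf, hres1]
    exact Cfsg.Agent.Lib.Helper78.classInner_irr_self Cfsg.Agent.Lib.Helper78.isIrrCharacter_one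
  · intro ζ' hζ'
    obtain ⟨θ, hθ, hθ1, rfl⟩ := (Cfsg.Agent.Lib.Helper74.mem_inducedIrrAbove_bot_iff _).mp hζ'
    rw [inner_muSum hP hodd md 1 (Cfsg.Agent.Lib.Helper75.isClassFunction_indFun _ _), hres1,
      ← Cfsg.Agent.Lib.Helper78.classInner_conj_symm,
      Cfsg.Agent.Lib.Helper75.classInner_indFun_res_eq_zero (KM M) hθ
        Cfsg.Agent.Lib.Helper78.isIrrCharacter_one ?_, map_zero]
    intro x hx
    apply hθ1
    have h2 := congrArg (Cfsg.Agent.Lib.Helper75.conjFun (KM M) x⁻¹) hx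
    rw [Cfsg.Agent.Lib.Helper75.conjFun_inv_conjFun] at h2
    rw [h2]
    rfl

/-- MODULE [CALS-API] (4): the reducible members `μ_ψ` of `calS M` -/
theorem muSum_facts (h : MCtx M W₁ U W₂ mu dl η τ₁ ζ) (hf : MFacts M W₁ W₂ mu dl η)
    (ψ : WChar W₁ W₂) (hψ : TrivOn W₁ ψ) (hψ1 : ψ ≠ 1) :
    muSum mu ψ ≠ ζ ∧ classInner (muSum mu ψ) (muSum mu ψ) = (Nat.card W₁ : ℂ) ∧
      muSum mu ψ 1 = (Nat.card W₁ : ℂ) * mu ψ 1 ∧
      (∀ ψ' : WChar W₁ W₂, TrivOn W₁ ψ' → ψ' ≠ 1 → ψ' ≠ ψ → muSum mu ψ' ≠ muSum mu ψ) ∧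
      (∀ ψ' : WChar W₁ W₂, TrivOn W₁ ψ' → ψ' ≠ 1 →
        (muSum mu ψ - muSum mu ψ') ∈ zspanOn (calS M) {1}ᶜ) := by
  classical
  have hKn := KM_normal M
  have : Fintype ↥(KM M) := Fintype.ofFinite _
  have hP := h.hP
  have hodd := h.hodd
  have md := h.md
  have hnorm : ∀ ω : WChar W₁ W₂, classInner (muSum mu ω) (muSum mu ω) = (Nat.card W₁ : ℂ) := by
    intro ω
    unfold muSum
    rw [classInner_sum_irr_self (trivSet W₁ W₂ W₂) (fun φ => mu (φ * ω)) (fun φ _ => md.irr _)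
      (fun φ _ φ' _ hh => mul_right_cancel (md.inj hh)), card_trivSet_W₂ hP.selfNormalizing]
  have hval1 : ∀ ω : WChar W₁ W₂, muSum mu ω 1 = (Nat.card W₁ : ℂ) * mu ω 1 := by
    intro ω
    unfold muSum
    rw [Finset.sum_apply]
    have h1 : ∀ φ ∈ trivSet W₁ W₂ W₂, mu (φ * ω) 1 = mu ω 1 := by
      intro φ hφ
      apply Cfsg.Agent.Lib.Helper50.PFCyc.mu_res_eq hP md (φ * ω) ω ?_ (1 : ↥M)
        (Subgroup.one_mem _)
      intro w hw
      rw [MonoidHom.mul_apply, mem_trivSet.mp hφ w hw, one_mul]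
    rw [Finset.sum_congr rfl h1, Finset.sum_const, card_trivSet_W₂ hP.selfNormalizing,
      nsmul_eq_mul]
  have hq2 : 1 < Nat.card W₁ := (Subgroup.one_lt_card_iff_ne_bot W₁).mpr hP.W₁_ne
  refine ⟨?_, hnorm ψ, hval1 ψ, ?_, ?_⟩
  · intro hc
    have h1 := hnorm ψ
    rw [hc, Cfsg.Agent.Lib.Helper78.classInner_irr_self h.hζirr] at h1
    have : (Nat.card W₁ : ℂ) = ((1 : ℕ) : ℂ) := by rw [← h1]; simp
    have h2 : Nat.card W₁ = 1 := by exact_mod_cast this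
    omega
  · intro ψ' hψ' hψ'1 hne hc
    have hcf : IsClassFunction ↥M (mu ψ') :=
      Cfsg.Agent.Lib.Helper78.IsCharacter.isClassFunction
        (Cfsg.Agent.Lib.Helper78.IsIrrCharacter.isCharacter (md.irr ψ'))
    have h1 : classInner (muSum mu ψ) (mu ψ') ≠ 0 := by
      rw [← hc, inner_muSum hP hodd md ψ' hcf,
        Cfsg.Agent.Lib.Helper78.classInner_irr_self (muSum_eq_indFun hP hodd md ψ').1]
      exact one_ne_zero
    obtain ⟨φ, hφ, h2⟩ := exists_mu_of_inner_ne_zero hP hodd md ψ (md.irr ψ') h1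
    have h3 : φ * ψ = ψ' := md.inj h2
    have hφ₁ : TrivOn W₁ φ := by
      intro w hw
      have h4 := DFunLike.congr_fun h3 w
      rw [MonoidHom.mul_apply, hψ w hw, mul_one, hψ' w hw] at h4
      exact h4
    have h5 : φ = 1 := eq_one_of_trivOn hP.selfNormalizing hφ₁ (mem_trivSet.mp hφ)
    apply hne
    ext w
    have h4 := DFunLike.congr_fun h3 w
    rw [MonoidHom.mul_apply, h5, MonoidHom.one_apply, one_mul] at h4
    rw [h4]
  · intro ψ' hψ' hψ'1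
    refine ⟨Cfsg.Agent.Lib.Helper26.zspan_sub
      (Cfsg.Agent.Lib.Helper26.subset_zspan _ (muSum_mem_calS hP hodd md ψ hψ hψ1))
      (Cfsg.Agent.Lib.Helper26.subset_zspan _ (muSum_mem_calS hP hodd md ψ' hψ' hψ'1)), ?_⟩
    intro x hx
    have hx1 : x = 1 := by simpa using hx
    rw [hx1]
    show muSum mu ψ 1 - muSum mu ψ' 1 = 0
    rw [hval1 ψ, hval1 ψ', (hf.mu_const ψ ψ' hψ hψ' hψ1 hψ'1).2, sub_self]

end Cfsg.Agent.Lib.Helper51.PFCyc
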