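/-
helper51: PF sec.13 wave 2 (helper16 #4669), module PF13-[ZFACTS]: the basic facts on
`calZ S = Ind_{S'}^S (Irr(S') ∖ Irr(S'/P))` in the context `PSide`.
-/
import Mathlib
import Cfsg.Agent.Lib.Helper16.PF13Defs
import Cfsg.Agent.Lib.Helper51.PFCycCalS
import Cfsg.Agent.Lib.Helper51.PFCycIndGen
import Cfsg.Agent.Lib.Helper30.PFTwelveT1
import Cfsg.Agent.Lib.Helper77.Deflation
import Cfsg.Agent.Lib.Helper4.PFNineA
import Cfsg.Agent.S0148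

set_option autoImplicit false
set_option linter.unusedVariables false
set_option linter.unusedSectionVars false

namespace Cfsg.Agent.Lib.Helper51.PF13

open Cfsg Cfsg.Agent.Lib.Helper24.PFCyc Cfsg.Agent.Lib.Helper4.PF Cfsg.Agent.Lib.Helper16.PF13
open Cfsg.Agent.Lib.Helper51.PFCyc Cfsg.Agent.Lib.Helper58.PF9
open scoped ComplexConjugate

universe u

variable {G : Type u} [Group G] [Fintype G] {S W₁ U W₂ : Subgroup G} [Fintype S]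
  {mu : WChar W₁ W₂ → (↥S → ℂ)} {dl : WChar W₁ W₂ → ℂ} {η : WChar W₁ W₂ → (G → ℂ)}

theorem oddS_of (h : PSide S W₁ U W₂ mu dl η) : Odd (Nat.card S) :=
  h.hodd.of_dvd_nat (Subgroup.card_subgroup_dvd_card S)

/-- membership in `calZ S`, unfolded -/
theorem mem_calZ_iff {χ : ↥S → ℂ} :
    χ ∈ calZ S ↔ ∃ θ : ↥(KM S) → ℂ, IsIrrCharacter ↥(KM S) θ ∧
      (∃ k : ↥(KM S), ((k : ↥S) : G) ∈ fittingHallOf S ∧ θ k ≠ θ 1) ∧ χ = indFun (KM S) θ := by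
  constructor
  · rintro ⟨θ, ⟨h1, -, k, hk, hk'⟩, rfl⟩
    exact ⟨θ, h1, ⟨k, Subgroup.mem_subgroupOf.mp hk, hk'⟩, rfl⟩
  · rintro ⟨θ, h1, ⟨k, hk, hk'⟩, rfl⟩
    refine ⟨θ, ⟨h1, ?_, k, Subgroup.mem_subgroupOf.mpr hk, hk'⟩, rfl⟩
    intro a ha
    have ha1 : (a : ↥S) = 1 := Subgroup.mem_bot.mp ha
    have : a = 1 := Subtype.ext ha1
    rw [this]

/-- a member of `Xset` is not the principal character -/
theorem ne_one_of_exists {θ : ↥(KM S) → ℂ} (hk : ∃ k : ↥(KM S),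
    ((k : ↥S) : G) ∈ fittingHallOf S ∧ θ k ≠ θ 1) : θ ≠ fun _ => 1 := by
  intro hc
  obtain ⟨k, -, hk'⟩ := hk
  apply hk'
  rw [hc]

/-- an irreducible character of `S'` not trivial on `P` vanishes at the elements of `S'` with
`C_P(k) = 1` -/
theorem theta_vanish {θ : ↥(KM S) → ℂ}
    (hθ : IsIrrCharacter ↥(KM S) θ)
    (hk : ∃ k : ↥(KM S), ((k : ↥S) : G) ∈ fittingHallOf S ∧ θ k ≠ θ 1)
    (g : ↥(KM S))
    (hg : ∀ z ∈ fittingHallOf S, ((g : ↥S) : G) * z = z * ((g : ↥S) : G) → z = 1) : θ g = 0 := by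
  have hKn := KM_normal S
  have : Fintype ↥(KM S) := Fintype.ofFinite _
  have hPn : ((PS S).subgroupOf (KM S)).Normal := by
    constructor
    intro n hn x
    rw [Subgroup.mem_subgroupOf, Subgroup.mem_subgroupOf] at hn ⊢
    exact Cfsg.Agent.Lib.Helper4.PF9.conj_mem_fittingHallOf S (x : ↥S).2 hn
  apply Cfsg.Agent.Lib.Helper30.PFTwelve.irr_vanish_of_fpf ((PS S).subgroupOf (KM S)) θ hθ
  · obtain ⟨k, hk1, hk2⟩ := hk
    exact ⟨k, Subgroup.mem_subgroupOf.mpr (Subgroup.mem_subgroupOf.mpr hk1), hk2⟩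
  · intro y hy hcomm
    rw [Subgroup.mem_subgroupOf, Subgroup.mem_subgroupOf] at hy
    have h1 := hg ((y : ↥S) : G) hy (congrArg (fun z : ↥(KM S) => ((z : ↥S) : G)) hcomm)
    apply Subtype.ext
    apply Subtype.ext
    exact h1

/-- MODULE PF13-[ZFACTS] -/
theorem calZ_facts (h : PSide S W₁ U W₂ mu dl η) :
    calZ S ⊆ calS S ∧
    (∀ χ ∈ calZ S, IsCharacter ↥S χ ∧ conjFun χ ∈ calZ S ∧ conjFun χ ≠ χ) ∧
    (∀ χ ∈ calZ S, ∀ χ' ∈ calZ S, χ ≠ χ' → classInner χ χ' = 0) ∧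
    (∀ χ ∈ calZ S, ∀ x : ↥S, x ≠ 1 → (x : G) ∉ litA S → χ x = 0) ∧
    (∀ ψ : WChar W₁ W₂, TrivOn W₁ ψ → ψ ≠ 1 → muSum mu ψ ∈ calZ S) ∧
    (∀ ζ ∈ calZ S, (IsIrrCharacter ↥S ζ ∧ ∀ ω, ζ ≠ mu ω) ∨
      ∃ ψ : WChar W₁ W₂, TrivOn W₁ ψ ∧ ψ ≠ 1 ∧ ζ = muSum mu ψ) := by
  classical
  have hKn := KM_normal S
  have hsub : calZ S ⊆ calS S := by
    intro χ hχ
    obtain ⟨θ, hθ, hk, rfl⟩ := mem_calZ_iff.mp hχ
    exact (Cfsg.Agent.Lib.Helper74.mem_inducedIrrAbove_bot_iff _).mpr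
      ⟨θ, hθ, ne_one_of_exists hk, rfl⟩
  refine ⟨hsub, ?_, ?_, ?_, ?_, ?_⟩
  · intro χ hχ
    obtain ⟨θ, hθ, hk, rfl⟩ := mem_calZ_iff.mp hχ
    refine ⟨Cfsg.Agent.S0148.result (KM S) θ
      (Cfsg.Agent.Lib.Helper78.IsIrrCharacter.isCharacter hθ), ?_,
      indFun_conj_ne_self (KM S) (oddS_of h) hθ (ne_one_of_exists hk)⟩
    rw [mem_calZ_iff]
    refine ⟨conjFun θ, Cfsg.Agent.Lib.Helper81.isIrrCharacter_conj hθ, ?_,
      Cfsg.Agent.Lib.Helper74.conjFun_indFun (KM S) θ⟩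
    obtain ⟨k, hk1, hk2⟩ := hk
    refine ⟨k, hk1, ?_⟩
    intro hc
    apply hk2
    exact (starRingEnd ℂ).injective hc
  · intro χ hχ χ' hχ' hne
    obtain ⟨θ, hθ, -, rfl⟩ := mem_calZ_iff.mp hχ
    obtain ⟨θ', hθ', -, rfl⟩ := mem_calZ_iff.mp hχ'
    exact inducedIrr_orth (KM S) hθ hθ' hne
  · intro χ hχ x hx1 hxA
    obtain ⟨θ, hθ, hk, rfl⟩ := mem_calZ_iff.mp hχ
    by_cases hxK : x ∈ KM S
    · unfold indFun
      rw [Finset.sum_eq_zero, mul_zero]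
      intro y _
      have hmem : y⁻¹ * x * y ∈ KM S := by
        have := hKn.conj_mem x hxK y⁻¹
        rwa [inv_inv] at this
      rw [Cfsg.Agent.Lib.Helper50.PFCyc.ebz_of_mem (KM S) _ hmem]
      apply theta_vanish hθ hk
      intro z hz hcomm
      -- `y z y⁻¹ ∈ P` commutes with `x`
      have hz' : (y : G) * z * (y : G)⁻¹ ∈ fittingHallOf S :=
        Cfsg.Agent.Lib.Helper4.PF9.conj_mem_fittingHallOf S y.2 hz
      have hcomm' : ((y : G))⁻¹ * (x : G) * (y : G) * z = z * (((y : G))⁻¹ * (x : G) * (y : G)) :=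
        hcomm
      have hcomm2 : (x : G) * ((y : G) * z * (y : G)⁻¹) = ((y : G) * z * (y : G)⁻¹) * (x : G) := by
        have e1 : (x : G) * ((y : G) * z * (y : G)⁻¹) =
            (y : G) * (((y : G))⁻¹ * (x : G) * (y : G) * z) * (y : G)⁻¹ := by group
        rw [e1, hcomm']
        group
      by_contra hz1
      apply hxA
      apply h.hA_mem (x : G) (Subgroup.mem_subgroupOf.mp hxK)
      · intro hc
        exact hx1 (Subtype.ext hc)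
      · refine ⟨_, hz', ?_, hcomm2⟩
        intro hc
        apply hz1
        have e2 : z = ((y : G))⁻¹ * ((y : G) * z * (y : G)⁻¹) * (y : G) := by group
        rw [e2, hc, mul_one, inv_mul_cancel]
    · exact indFun_vanish_off_normal (KM S) θ hxK
  · intro ψ hψ hψ1
    obtain ⟨hirr, hind⟩ := muSum_eq_indFun h.hP (oddS_of h) h.md ψ
    rw [mem_calZ_iff]
    refine ⟨_, hirr, ?_, hind⟩
    by_contra hcon
    push Not at hcon
    -- kernel of the character `mu ψ`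
    obtain ⟨Ker, -, hKer, hKmul, -⟩ := Cfsg.Agent.Lib.Helper77.exists_kernel
      (Cfsg.Agent.Lib.Helper78.IsIrrCharacter.isCharacter (h.md.irr ψ))
    have hP := h.hP
    have hW₁S : W₁ ≤ S := hP.W₁_compl.2.1
    have hW₂P : W₂ ≤ fittingHallOf S := hP.W₂_le.trans inf_le_left
    have hW₂K : W₂ ≤ ⁅S, S⁆ := hW₂P.trans hP.U_compl.1
    have hW₂S : W₂ ≤ S := hW₂K.trans hP.W₁_compl.1
    obtain ⟨x, hx, hx1⟩ : ∃ x ∈ W₁, x ≠ 1 := by
      obtain ⟨⟨x, hx⟩, hne⟩ := Subgroup.ne_bot_iff_exists_ne_one.mp hP.W₁_ne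
      exact ⟨x, hx, fun hh => hne (Subtype.ext hh)⟩
    have hdl0 : dl ψ ≠ 0 := by
      rcases h.md.sign ψ with hh | hh <;> rw [hh] <;> norm_num
    apply hψ1
    apply eq_one_of_trivOn hP.selfNormalizing hψ
    intro w hw
    have hzKer : (⟨(w : G), hW₂S hw⟩ : ↥S) ∈ Ker := by
      rw [hKer]
      exact hcon ⟨⟨(w : G), hW₂S hw⟩, Subgroup.mem_subgroupOf.mpr (hW₂K hw)⟩ (hW₂P hw)
    have h1 := hKmul ⟨x, hW₁S hx⟩ ⟨(w : G), hW₂S hw⟩ hzKer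
    have hxW₂ : x ∉ W₂ := by
      intro hc
      have : x ∈ W₁ ⊓ W₂ := ⟨hx, hc⟩
      rw [hP.selfNormalizing.2.2.1] at this
      exact hx1 (Subgroup.mem_bot.mp this)
    have hxw : x * (w : G) ∈ W₁ ⊔ W₂ :=
      Subgroup.mul_mem _ (Subgroup.mem_sup_left hx) w.2
    have hxw' : x * (w : G) ∉ W₂ := by
      intro hc
      apply hxW₂
      have := W₂.mul_mem hc (W₂.inv_mem hw)
      simpa using this
    have hv1 := h.md.val ψ (⟨x, hW₁S hx⟩ * ⟨(w : G), hW₂S hw⟩ : ↥S) hxw hxw'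
    have hv2 := h.md.val ψ (⟨x, hW₁S hx⟩ : ↥S) (Subgroup.mem_sup_left hx) hxW₂
    have e1 : (⟨((⟨x, hW₁S hx⟩ * ⟨(w : G), hW₂S hw⟩ : ↥S) : G), hxw⟩ : ↥(W₁ ⊔ W₂))
        = ⟨x, Subgroup.mem_sup_left hx⟩ * w := rfl
    rw [e1, map_mul, hψ ⟨x, Subgroup.mem_sup_left hx⟩ hx, one_mul] at hv1
    have e2 : (⟨((⟨x, hW₁S hx⟩ : ↥S) : G), Subgroup.mem_sup_left hx⟩ : ↥(W₁ ⊔ W₂))
        = ⟨x, Subgroup.mem_sup_left hx⟩ := rfl
    rw [e2, hψ ⟨x, Subgroup.mem_sup_left hx⟩ hx] at hv2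
    rw [hv1, hv2] at h1
    have h3 : ((ψ w : ℂˣ) : ℂ) = ((1 : ℂˣ) : ℂ) := mul_left_cancel₀ hdl0 h1
    exact Units.ext h3
  · intro ζ hζ
    exact calS_cases h.hP (oddS_of h) h.md ζ (hsub hζ)

end Cfsg.Agent.Lib.Helper51.PF13
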