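/-
helper51: PF sec.14, S/T-side of the parity step (helper10 #4974), module PF14-[MUFROB]:
when `U` acts semiregularly on `P = S_F`, `μ_ψ(1) = |U|`, `δ_ψ = 1`, and `μ_ψ` vanishes on `S' ∖ P`.
-/
import Mathlib
import Cfsg.Agent.Lib.Helper10.PF14Defs
import Cfsg.Agent.Lib.Helper51.PF13ZFacts
import Cfsg.Agent.Lib.Helper49.PF13MuSub
import Cfsg.Agent.Lib.Helper41.PF13NumC
import Cfsg.Agent.Lib.Helper75.Ito
import Cfsg.Agent.Lib.Helper74.FrobInertia
import Cfsg.Agent.Lib.Helper79.Integrality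

set_option autoImplicit false
set_option linter.unusedVariables false
set_option linter.unusedSectionVars false

namespace Cfsg.Agent.Lib.Helper51.PF14

open Cfsg Cfsg.Agent.Lib.Helper24.PFCyc Cfsg.Agent.Lib.Helper4.PF Cfsg.Agent.Lib.Helper16.PF13
  Cfsg.Agent.Lib.Helper10.PF14
open Cfsg.Agent.Lib.Helper51.PFCyc Cfsg.Agent.Lib.Helper51.PF13
open scoped ComplexConjugate

universe u

variable {G : Type u} [Group G] [Fintype G] {S W₁ U W₂ : Subgroup G} [Fintype S]
  {mu : WChar W₁ W₂ → (↥S → ℂ)} {dl : WChar W₁ W₂ → ℂ} {η : WChar W₁ W₂ → (G → ℂ)}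

/-- `ψ ≠ 1` trivial on `W₁` is nontrivial on `W₂` -/
theorem exists_W₂_ne_one' (h : PSide S W₁ U W₂ mu dl η) (ψ : WChar W₁ W₂) (hψ : TrivOn W₁ ψ)
    (hψ1 : ψ ≠ 1) : ∃ w : ↥(W₁ ⊔ W₂), (w : G) ∈ W₂ ∧ ψ w ≠ 1 := by
  by_contra hcon
  push Not at hcon
  exact hψ1 (eq_one_of_trivOn h.hP.selfNormalizing hψ hcon)

/-- `|U| ≡ 1 (mod q)` : `W₁` acts on `U` with the identity as its only fixed point -/
theorem card_U_modEq_one (h : PSide S W₁ U W₂ mu dl η) :
    Nat.card U ≡ 1 [MOD Nat.card W₁] := by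
  classical
  have hT := h.hP
  have hUK : U ≤ ⁅S, S⁆ := hT.U_compl.2.1
  have hPU : fittingHallOf S ⊓ U = ⊥ := hT.U_compl.2.2.1
  have hW₂P : W₂ ≤ fittingHallOf S := le_trans hT.W₂_le inf_le_left
  have hnorm : ∀ w ∈ W₁, ∀ c ∈ U, w * c * w⁻¹ ∈ U := by
    intro w hw c hc
    have := hT.U_normal hw
    rw [Subgroup.mem_normalizer_iff] at this
    exact (this c).mp hc
  let _inst : MulAction ↥W₁ ↥U := Cfsg.Agent.Lib.Helper41.PF13.conjAct hnorm
  have hq : (Nat.card W₁).Prime := h.hq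
  have _hf : Fact (Nat.card W₁).Prime := ⟨hq⟩
  have hpg : IsPGroup (Nat.card W₁) ↥W₁ := IsPGroup.of_card (n := 1) (by simp)
  have hmod := hpg.card_modEq_card_fixedPoints (α := ↥U)
  have hfix : MulAction.fixedPoints ↥W₁ ↥U = {1} := by
    ext c
    simp only [MulAction.mem_fixedPoints, Set.mem_singleton_iff]
    constructor
    · intro hc
      obtain ⟨x, hx, hx1⟩ : ∃ x ∈ W₁, x ≠ 1 := by
        by_contra hcon
        push Not at hcon
        apply hT.W₁_ne
        rw [Subgroup.eq_bot_iff_forall]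
        exact hcon
      have hcx := hc ⟨x, hx⟩
      have hcx' : x * (c : G) * x⁻¹ = c := congrArg Subtype.val hcx
      have hcW₂ : (c : G) ∈ W₂ := by
        rw [← hT.W₂_centralizer x hx hx1, Subgroup.mem_inf]
        refine ⟨hUK c.2, ?_⟩
        rw [Subgroup.mem_centralizer_iff]
        intro y hy
        rw [Set.mem_singleton_iff] at hy
        subst hy
        calc y * (c : G) = (y * (c : G) * y⁻¹) * y := by group
          _ = (c : G) * y := by rw [hcx']
      have : (c : G) ∈ fittingHallOf S ⊓ U := Subgroup.mem_inf.mpr ⟨hW₂P hcW₂, c.2⟩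
      rw [hPU, Subgroup.mem_bot] at this
      exact Subtype.ext this
    · rintro rfl w
      apply Subtype.ext
      show (w : G) * ((1 : U) : G) * (w : G)⁻¹ = ((1 : U) : G)
      simp
  rw [hfix] at hmod
  simpa using hmod

/-- the centralizer in `S'` of a nonidentity element of `P` lies in `P` -/
theorem cent_le_P (h : PSide S W₁ U W₂ mu dl η)
    (hfree : ∀ z ∈ U, z ≠ 1 → ∀ x ∈ fittingHallOf S, z * x = x * z → x = 1)
    {k x : G} (hk : k ∈ ⁅S, S⁆) (hx : x ∈ fittingHallOf S) (hx1 : x ≠ 1) (hcomm : k * x = x * k) :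
    k ∈ fittingHallOf S := by
  obtain ⟨y, hy, z, hz, rfl⟩ := h.hP.U_compl.2.2.2 k hk
  by_cases hz1 : z = 1
  · rw [hz1, mul_one]; exact hy
  · exfalso
    apply hx1
    apply hfree z hz hz1 x hx
    have h1 : y * x = x * y := h.hPcomm y hy x hx
    -- `y z x = x y z`, `y x = x y`
    have h2 : y * (z * x) = y * (x * z) := by
      rw [← mul_assoc, hcomm, ← mul_assoc, ← h1, mul_assoc]
    exact mul_left_cancel h2

/-- MODULE PF14-[MUFROB] -/
theorem mu_frob (h : PSide S W₁ U W₂ mu dl η)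
    (hfree : ∀ z ∈ U, z ≠ 1 → ∀ x ∈ fittingHallOf S, z * x = x * z → x = 1)
    (ψ : WChar W₁ W₂) (hψ : TrivOn W₁ ψ) (hψ1 : ψ ≠ 1) :
    mu ψ 1 = (Nat.card U : ℂ) ∧ dl ψ = 1 ∧
    ∀ s : ↥S, (s : G) ∈ ⁅S, S⁆ → (s : G) ∉ fittingHallOf S → mu ψ s = 0 := by
  classical
  have hP := h.hP
  have hPK : fittingHallOf S ≤ ⁅S, S⁆ := hP.U_compl.1
  have hKS : (⁅S, S⁆ : Subgroup G) ≤ S := hP.W₁_compl.1
  have hω := exists_W₂_ne_one' h ψ hψ hψ1
  have hntP := Cfsg.Agent.Lib.Helper49.PF13.mu_not_trivial_on_P hP h.md ψ hω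
  -- (3) vanishing on `K ∖ P`
  have hvan : ∀ s : ↥S, (s : G) ∈ ⁅S, S⁆ → (s : G) ∉ fittingHallOf S → mu ψ s = 0 := by
    intro s hsK hsP
    let _ : Fintype (fittingHall ↥S) := Fintype.ofFinite _
    apply Cfsg.Agent.Lib.Helper49.PF13.apply_eq_zero_of_cent (fittingHall ↥S) (h.md.irr ψ) hntP s
    intro y hy hcomm
    rw [Cfsg.Agent.Lib.Helper49.PF13.mem_fittingHall_iff] at hy
    by_contra hy1
    apply hsP
    apply cent_le_P h hfree hsK hy (fun hc => hy1 (Subtype.ext hc))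
    exact congrArg Subtype.val hcomm
  -- (1) the degree
  have hdeg : mu ψ 1 = (Nat.card U : ℂ) := by
    have hKn := KM_normal S
    have : Fintype ↥(KM S) := Fintype.ofFinite _
    obtain ⟨hθirr, -⟩ := muSum_eq_indFun hP (oddS_of h) h.md ψ
    obtain ⟨θ, hθdef⟩ : ∃ θ : ↥(KM S) → ℂ, θ = fun k : ↥(KM S) => mu ψ (k : ↥S) := ⟨_, rfl⟩
    rw [← hθdef] at hθirr
    obtain ⟨N, hNdef⟩ : ∃ N : Subgroup ↥(KM S), N = (PS S).subgroupOf (KM S) := ⟨_, rfl⟩
    have hN_mem : ∀ k : ↥(KM S), k ∈ N ↔ ((k : ↥S) : G) ∈ fittingHallOf S := by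
      intro k
      rw [hNdef, Subgroup.mem_subgroupOf, Subgroup.mem_subgroupOf]
    have hNn : N.Normal := by
      constructor
      intro n hn x
      rw [hN_mem] at hn ⊢
      exact Cfsg.Agent.Lib.Helper4.PF9.conj_mem_fittingHallOf S (x : ↥S).2 hn
    have : Fintype ↥N := Fintype.ofFinite _
    have hNab : ∀ a ∈ N, ∀ b ∈ N, a * b = b * a := by
      intro a ha b hb
      rw [hN_mem] at ha hb
      apply Subtype.ext
      apply Subtype.ext
      exact h.hPcomm _ ha _ hb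
    -- nontrivial on `N`
    have hne : ∃ k ∈ N, θ k ≠ θ 1 := by
      obtain ⟨x, hx, hx'⟩ := hntP
      rw [Cfsg.Agent.Lib.Helper49.PF13.mem_fittingHall_iff] at hx
      refine ⟨⟨x, Subgroup.mem_subgroupOf.mpr (hPK hx)⟩, (hN_mem _).mpr hx, ?_⟩
      rw [hθdef]
      exact hx'
    -- Itô
    have hito := Cfsg.Agent.Lib.Helper75.ito N hNab θ hθirr
    -- the index of `N`
    have hidx : N.index = Nat.card U := by
      have h1 : N.index = (fittingHallOf S).relIndex ⁅S, S⁆ := by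
        rw [hNdef]
        show (PS S).relIndex (KM S) = _
        exact Subgroup.relIndex_subgroupOf hKS
      have h2 := Cfsg.Agent.Lib.Helper23.card_mul_relIndex_of_le hPK
      have h3 := Cfsg.Agent.Lib.Helper23.card_of_isComplIn hP.U_compl
      rw [h1]
      have hpos : 0 < Nat.card (fittingHallOf S) := Nat.card_pos
      apply Nat.eq_of_mul_eq_mul_left hpos
      rw [h2, h3]
    -- a constituent, not principal
    obtain ⟨lam, hlam⟩ := Cfsg.Agent.Lib.Helper75.exists_constituent_res N hθirr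
    have hsum0 : ∑ y : N, θ (y : ↥(KM S)) = 0 := by
      have := Cfsg.Agent.Lib.Helper49.PF13.coset_sum_eq_zero N hθirr hne 1
      simpa using this
    have hlam1 : (lam : N → ℂ) ≠ fun _ => 1 := by
      intro hc
      apply hlam
      rw [hc]
      unfold classInner
      simp only [map_one, mul_one]
      rw [hsum0, mul_zero]
    -- the inertia group of `lam` is `N`
    have hC : ∀ n ∈ N, n ≠ 1 → Subgroup.centralizer ({n} : Set ↥(KM S)) ≤ N := by
      intro n hn hn1 k hk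
      rw [hN_mem] at hn ⊢
      rw [Subgroup.mem_centralizer_iff] at hk
      have hkn := hk n rfl
      apply cent_le_P h hfree (Subgroup.mem_subgroupOf.mp k.2) hn
      · intro hc
        apply hn1
        apply Subtype.ext
        apply Subtype.ext
        exact hc
      · have := congrArg (fun z : ↥(KM S) => ((z : ↥S) : G)) hkn
        exact this.symm
    have hT : ∀ g : ↥(KM S), g ∈ N ↔ Cfsg.Agent.Lib.Helper75.conjFun N g (lam : N → ℂ) = lam := by
      intro g
      constructor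
      · intro hg
        exact Cfsg.Agent.Lib.Helper75.le_inertia N
          (Cfsg.Agent.Lib.Helper78.IsCharacter.isClassFunction
            (Cfsg.Agent.Lib.Helper78.IsIrrCharacter.isCharacter lam.2)) hg
      · intro hfix
        by_contra hg
        exact hlam1 (Cfsg.Agent.Lib.Helper74.eq_one_of_conjFun_eq_of_centralizer_le N hC hg lam.2 hfix)
    obtain ⟨ψ', hψ', hind, -⟩ :=
      Cfsg.Agent.Lib.Helper75.exists_indFun_eq_of_over N N le_rfl lam.2 hT hθirr hlam
    -- degrees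
    have h1 : θ 1 = (N.index : ℂ) * ψ' 1 := by
      rw [← hind, Cfsg.Agent.Lib.Helper75.indFun_one]
    have hd1 := Cfsg.Agent.Lib.Helper79.irr_apply_one_eq_charDegree ⟨θ, hθirr⟩
    have hd2 := Cfsg.Agent.Lib.Helper79.irr_apply_one_eq_charDegree ⟨ψ', hψ'⟩
    have hpos2 := Cfsg.Agent.Lib.Helper79.irr_charDegree_pos ⟨ψ', hψ'⟩
    simp only at hd1 hd2 hpos2
    rw [hd1, hd2, hidx] at h1
    have h2 : charDegree θ = Nat.card U * charDegree ψ' := by exact_mod_cast h1
    rw [hidx, h2] at hito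
    have hUpos : 0 < Nat.card U := Nat.card_pos
    have h3 : charDegree ψ' = 1 := by
      have hle := Nat.le_of_dvd hUpos hito
      have : Nat.card U * charDegree ψ' ≤ Nat.card U * 1 := by rw [mul_one]; exact hle
      have := Nat.le_of_mul_le_mul_left this hUpos
      omega
    rw [h3, mul_one] at h2
    have h4 : mu ψ 1 = θ 1 := by rw [hθdef]; rfl
    rw [h4, hd1, h2]
  refine ⟨hdeg, ?_, hvan⟩
  -- (2) the sign
  rcases h.md.sign ψ with hs | hs
  · exact hs
  · exfalso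
    obtain ⟨n, hn⟩ := h.md.deg ψ
    rw [hdeg, hs] at hn
    have hmod := card_U_modEq_one h
    have hq := h.hq
    have hoddq : Odd (Nat.card W₁) :=
      Odd.of_dvd_nat h.hodd (Subgroup.card_subgroup_dvd_card W₁)
    have h1 : ((Nat.card U : ℤ) + 1 : ℤ) = n * (Nat.card W₁ : ℤ) := by
      have : (((Nat.card U : ℤ) + 1 : ℤ) : ℂ) = ((n * (Nat.card W₁ : ℤ) : ℤ) : ℂ) := by
        push_cast
        rw [← hn]
        ring
      exact_mod_cast this
    have h2 : (Nat.card W₁ : ℤ) ∣ (Nat.card U : ℤ) + 1 := ⟨n, by rw [h1]; ring⟩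
    have h3 : (Nat.card W₁ : ℤ) ∣ (Nat.card U : ℤ) - 1 := by
      have := (Nat.modEq_iff_dvd.mp hmod.symm)
      simpa using this
    have h4 : (Nat.card W₁ : ℤ) ∣ 2 := by
      have := dvd_sub h2 h3
      have e : ((Nat.card U : ℤ) + 1) - ((Nat.card U : ℤ) - 1) = 2 := by ring
      rwa [e] at this
    have h5 : Nat.card W₁ ∣ 2 := by exact_mod_cast h4
    have h6 : Nat.card W₁ ≤ 2 := Nat.le_of_dvd (by norm_num) h5
    have h7 := hq.two_le
    have h8 : Nat.card W₁ = 2 := le_antisymm h6 h7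
    rw [h8] at hoddq
    exact absurd hoddq (by decide)

end Cfsg.Agent.Lib.Helper51.PF14
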