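/-
helper51: PF sec.14, S/T-side of the parity step (helper10 #4974), module PF14-[PI]:
the values of the permutation character `π = Ind_{P W₁}^S 1`.
-/
import Mathlib
import Cfsg.Agent.Lib.Helper10.PF14Defs
import Cfsg.Agent.Lib.Helper44.PF13Grp
import Cfsg.Agent.Lib.Helper50.PFCycMuRes
import Cfsg.Agent.Lib.Helper3.Dade
import Cfsg.Agent.Lib.Helper75.Clifford
import Cfsg.Agent.Lib.Helper78.CharMore
import Cfsg.Agent.Lib.Helper23.TypeP
import Cfsg.Agent.S0148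

set_option autoImplicit false
set_option linter.unusedVariables false
set_option linter.unusedSectionVars false

namespace Cfsg.Agent.Lib.Helper51.PF14

open Cfsg Cfsg.Agent.Lib.Helper24.PFCyc Cfsg.Agent.Lib.Helper4.PF Cfsg.Agent.Lib.Helper16.PF13
  Cfsg.Agent.Lib.Helper10.PF14

universe u

variable {G : Type u} [Group G] [Fintype G] {S W₁ U W₂ : Subgroup G} [Fintype S]
  {mu : WChar W₁ W₂ → (↥S → ℂ)} {dl : WChar W₁ W₂ → ℂ} {η : WChar W₁ W₂ → (G → ℂ)}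

/-- the group-theoretic facts on `H = P W₁` -/
theorem PW_facts (h : PSide S W₁ U W₂ mu dl η) :
    fittingHallOf S ⊔ W₁ ≤ S ∧
    (∀ c ∈ fittingHallOf S ⊔ W₁, c ∈ ⁅S, S⁆ → c ∈ fittingHallOf S) ∧
    Nat.card ↥(PW S W₁) * Nat.card U = Nat.card S ∧
    (∀ x ∈ S, ∀ w ∈ W₁ ⊔ W₂, w ∉ W₂ → x⁻¹ * w * x ∈ fittingHallOf S ⊔ W₁ →
      x ∈ fittingHallOf S ⊔ W₁) := by
  have g := Cfsg.Agent.Lib.Helper44.PF13.sideGrp_of h
  have hP := h.hP
  have hPS : fittingHallOf S ≤ S := g.P_le.trans g.K_le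
  have hHS : fittingHallOf S ⊔ W₁ ≤ S := sup_le hPS g.W₁_le
  have hPH : fittingHallOf S ≤ fittingHallOf S ⊔ W₁ := le_sup_left
  have hWH : W₁ ≤ fittingHallOf S ⊔ W₁ := le_sup_right
  have hnormP : ∀ w ∈ W₁, ∀ y ∈ fittingHallOf S, w * y * w⁻¹ ∈ fittingHallOf S :=
    fun w hw y hy => g.P_normal w (g.W₁_le hw) y hy
  have hKW : (⁅S, S⁆ : Subgroup G) ⊓ W₁ = ⊥ := hP.W₁_compl.2.2.1
  have hHK : ∀ c ∈ fittingHallOf S ⊔ W₁, c ∈ ⁅S, S⁆ → c ∈ fittingHallOf S := by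
    intro c hc hcK
    obtain ⟨w, hw, y, hy, rfl⟩ := Cfsg.Agent.Lib.Helper3.Dade.mem_sup_decomp _ _ hnormP hc
    have hwK : w ∈ (⁅S, S⁆ : Subgroup G) := by
      have := Subgroup.mul_mem _ hcK (Subgroup.inv_mem _ (g.P_le hy))
      simpa using this
    have hw1 : w ∈ (⁅S, S⁆ : Subgroup G) ⊓ W₁ := ⟨hwK, hw⟩
    rw [hKW, Subgroup.mem_bot] at hw1
    rw [hw1, one_mul]
    exact hy
  have hPW₁ : fittingHallOf S ⊓ W₁ = ⊥ := by
    rw [eq_bot_iff]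
    intro x hx
    have : x ∈ (⁅S, S⁆ : Subgroup G) ⊓ W₁ := ⟨g.P_le hx.1, hx.2⟩
    rwa [hKW] at this
  -- `|H| = |P| |W₁|`
  have hcompl : IsComplIn (fittingHallOf S) W₁ (fittingHallOf S ⊔ W₁) := by
    refine ⟨hPH, hWH, hPW₁, ?_⟩
    intro m hm
    obtain ⟨w, hw, y, hy, rfl⟩ := Cfsg.Agent.Lib.Helper3.Dade.mem_sup_decomp _ _ hnormP hm
    refine ⟨w * y * w⁻¹, hnormP w hw y hy, w, hw, ?_⟩
    group
  have hcardH : Nat.card ↥(fittingHallOf S ⊔ W₁) = Nat.card (fittingHallOf S) * Nat.card W₁ :=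
    Cfsg.Agent.Lib.Helper23.card_of_isComplIn hcompl
  have hcardPW : Nat.card ↥(PW S W₁) = Nat.card ↥(fittingHallOf S ⊔ W₁) :=
    Nat.card_congr (Subgroup.subgroupOfEquivOfLe hHS).toEquiv
  refine ⟨hHS, hHK, ?_, ?_⟩
  · rw [hcardPW, hcardH, g.card_S, g.card_K, g.card_P, g.card_W₁]
    ring
  · intro x hx w hw hw₂ hc
    have hcomm := hP.selfNormalizing.2.2.2.1
    obtain ⟨a, ha, b, hb, rfl⟩ := Cfsg.Agent.Lib.Helper50.PFCyc.mem_sup_of_comm hcomm hw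
    have ha1 : a ≠ 1 := by
      intro hc1
      apply hw₂
      rw [hc1, one_mul]
      exact hb
    obtain ⟨k, hk, w', hw', rfl⟩ := hP.W₁_compl.2.2.2 x hx
    obtain ⟨y, hy, z, hz, rfl⟩ := g.PU_mul k hk
    have hbP : b ∈ fittingHallOf S := g.W₂_le hb
    have haS : a ∈ S := g.W₁_le ha
    have hzS : z ∈ S := g.K_le (g.U_le hz)
    -- `z⁻¹ a z ∈ H`
    have h1 : z⁻¹ * a * z ∈ fittingHallOf S ⊔ W₁ := by
      -- `w' c w'⁻¹ = k⁻¹ (a b) k`
      have h2 : w' * ((y * z * w')⁻¹ * (a * b) * (y * z * w')) * w'⁻¹ ∈ fittingHallOf S ⊔ W₁ :=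
        Subgroup.mul_mem _ (Subgroup.mul_mem _ (hWH hw') hc) (Subgroup.inv_mem _ (hWH hw'))
      have hp₁ : (a⁻¹ * y⁻¹ * a) * b * y ∈ fittingHallOf S := by
        apply Subgroup.mul_mem _ (Subgroup.mul_mem _ ?_ hbP) hy
        have := g.P_normal a⁻¹ (S.inv_mem haS) y⁻¹ (Subgroup.inv_mem _ hy)
        rwa [inv_inv] at this
      have hp₂ : z⁻¹ * ((a⁻¹ * y⁻¹ * a) * b * y) * z ∈ fittingHallOf S := by
        have := g.P_normal z⁻¹ (S.inv_mem hzS) _ hp₁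
        rwa [inv_inv] at this
      have e : z⁻¹ * a * z = w' * ((y * z * w')⁻¹ * (a * b) * (y * z * w')) * w'⁻¹ *
          (z⁻¹ * ((a⁻¹ * y⁻¹ * a) * b * y) * z)⁻¹ := by group
      rw [e]
      exact Subgroup.mul_mem _ h2 (Subgroup.inv_mem _ (hPH hp₂))
    -- `u' = z⁻¹ (a z a⁻¹) ∈ U ∩ H ∩ K`
    have hu'U : z⁻¹ * (a * z * a⁻¹) ∈ U := U.mul_mem (U.inv_mem hz) (g.W₁_norm_U a ha z hz)
    have hu'H : z⁻¹ * (a * z * a⁻¹) ∈ fittingHallOf S ⊔ W₁ := by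
      have e : z⁻¹ * (a * z * a⁻¹) = z⁻¹ * a * z * a⁻¹ := by group
      rw [e]
      exact Subgroup.mul_mem _ h1 (Subgroup.inv_mem _ (hWH ha))
    have hu'P : z⁻¹ * (a * z * a⁻¹) ∈ fittingHallOf S := hHK _ hu'H (g.U_le hu'U)
    have hu'1 : z⁻¹ * (a * z * a⁻¹) = 1 := by
      have : z⁻¹ * (a * z * a⁻¹) ∈ fittingHallOf S ⊓ U := ⟨hu'P, hu'U⟩
      rw [g.PU_inf, Subgroup.mem_bot] at this
      exact this
    -- `z` commutes with `a`
    have hza : a * z = z * a := by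
      have e : a * z = z * (z⁻¹ * (a * z * a⁻¹)) * a := by group
      rw [e, hu'1, mul_one]
    have hzW₂ : z ∈ W₂ := by
      rw [← g.cent a ha ha1, Subgroup.mem_inf]
      refine ⟨g.U_le hz, ?_⟩
      rw [Subgroup.mem_centralizer_iff]
      intro t ht
      rw [Set.mem_singleton_iff] at ht
      subst ht
      exact hza
    have hz1 : z = 1 := by
      have : z ∈ fittingHallOf S ⊓ U := ⟨g.W₂_le hzW₂, hz⟩
      rw [g.PU_inf, Subgroup.mem_bot] at this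
      exact this
    rw [hz1, mul_one]
    exact Subgroup.mul_mem _ (hPH hy) (hWH hw')

/-- MODULE PF14-[PI] -/
theorem piS_values (h : PSide S W₁ U W₂ mu dl η) :
    IsCharacter ↥S (piS S W₁) ∧
    (∀ s : ↥S, (s : G) ∈ fittingHallOf S → piS S W₁ s = (Nat.card U : ℂ)) ∧
    (∀ s : ↥S, (s : G) ∈ ⁅S, S⁆ → (s : G) ∉ fittingHallOf S → piS S W₁ s = 0) ∧
    (∀ s : ↥S, (s : G) ∉ ⁅S, S⁆ → piS S W₁ s = 1) := by
  classical
  have g := Cfsg.Agent.Lib.Helper44.PF13.sideGrp_of h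
  obtain ⟨hHS, hHK, hcard, hfix⟩ := PW_facts h
  have hmemPW : ∀ x : ↥S, x ∈ PW S W₁ ↔ (x : G) ∈ fittingHallOf S ⊔ W₁ := fun x =>
    Subgroup.mem_subgroupOf
  have hHpos : (Nat.card ↥(PW S W₁) : ℂ) ≠ 0 := by
    have : 0 < Nat.card ↥(PW S W₁) := Nat.card_pos
    exact_mod_cast this.ne'
  have hebz : ∀ t : ↥S, extendByZero (PW S W₁) (fun _ => (1 : ℂ)) t =
      if t ∈ PW S W₁ then 1 else 0 := by
    intro t
    split_ifs with ht
    · rw [Cfsg.Agent.Lib.Helper50.PFCyc.ebz_of_mem _ _ ht]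
    · rw [Cfsg.Agent.Lib.Helper50.PFCyc.ebz_of_not_mem _ _ ht]
  have hKn : ∀ (x s : ↥S), (s : G) ∈ ⁅S, S⁆ → ((x⁻¹ * s * x : ↥S) : G) ∈ ⁅S, S⁆ := by
    intro x s hs
    have := g.K_normal (x⁻¹ : ↥S) (x⁻¹ : ↥S).2 s hs
    simpa using this
  refine ⟨?_, ?_, ?_, ?_⟩
  · exact Cfsg.Agent.S0148.result (PW S W₁) _
      (Cfsg.Agent.Lib.Helper78.IsIrrCharacter.isCharacter Cfsg.Agent.Lib.Helper78.isIrrCharacter_one)
  · intro s hs
    unfold piS indFun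
    have h1 : ∀ x : ↥S, extendByZero (PW S W₁) (fun _ => (1 : ℂ)) (x⁻¹ * s * x) = 1 := by
      intro x
      rw [hebz, if_pos]
      rw [hmemPW]
      apply le_sup_left (a := fittingHallOf S)
      have := g.P_normal (x⁻¹ : ↥S) (x⁻¹ : ↥S).2 s hs
      simpa using this
    rw [Finset.sum_congr rfl (fun x _ => h1 x), Finset.sum_const, Finset.card_univ, nsmul_eq_mul,
      mul_one, ← Nat.card_eq_fintype_card, ← hcard]
    push_cast
    field_simp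
  · intro s hsK hsP
    unfold piS indFun
    rw [Finset.sum_eq_zero, mul_zero]
    intro x _
    rw [hebz, if_neg]
    intro hc
    rw [hmemPW] at hc
    apply hsP
    have h2 := hHK _ hc (hKn x s hsK)
    have h3 := g.P_normal (x : ↥S) x.2 _ h2
    have e : (x : G) * ((x⁻¹ * s * x : ↥S) : G) * (x : G)⁻¹ = s := by
      simp [mul_assoc]
    rwa [e] at h3
  · intro s hsK
    obtain ⟨m, hm, hw, hw₂⟩ := g.cover (s : G) s.2 hsK
    obtain ⟨t, htdef⟩ : ∃ t : ↥S, t = ⟨m, hm⟩ * s * ⟨m, hm⟩⁻¹ := ⟨_, rfl⟩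
    have htval : (t : G) = m * (s : G) * m⁻¹ := by rw [htdef]; rfl
    have hcf := Cfsg.Agent.Lib.Helper75.isClassFunction_indFun (PW S W₁) (fun _ => (1 : ℂ)) s ⟨m, hm⟩
    have hst : piS S W₁ s = piS S W₁ t := by
      unfold piS
      rw [htdef, hcf]
    rw [hst]
    rw [← htval] at hw hw₂
    -- `t ∈ H`
    have hW₂H : W₂ ≤ fittingHallOf S ⊔ W₁ := g.W₂_le.trans le_sup_left
    have htH : (t : G) ∈ fittingHallOf S ⊔ W₁ := (sup_le le_sup_right hW₂H) hw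
    unfold piS indFun
    have h1 : ∀ x : ↥S, extendByZero (PW S W₁) (fun _ => (1 : ℂ)) (x⁻¹ * t * x) =
        if x ∈ PW S W₁ then 1 else 0 := by
      intro x
      rw [hebz]
      congr 1
      rw [hmemPW, hmemPW]
      apply propext
      constructor
      · intro hc
        apply hfix (x : G) x.2 (t : G) hw hw₂
        have e : ((x⁻¹ * t * x : ↥S) : G) = (x : G)⁻¹ * (t : G) * (x : G) := by simp
        rwa [e] at hc
      · intro hx
        have e : ((x⁻¹ * t * x : ↥S) : G) = (x : G)⁻¹ * (t : G) * (x : G) := by simp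
        rw [e]
        exact Subgroup.mul_mem _ (Subgroup.mul_mem _ (Subgroup.inv_mem _ hx) htH) hx
    rw [Finset.sum_congr rfl (fun x _ => h1 x)]
    have hsum : (∑ x : ↥S, (if x ∈ PW S W₁ then (1 : ℂ) else 0)) = (Nat.card ↥(PW S W₁) : ℂ) := by
      rw [Finset.sum_boole, Nat.card_eq_fintype_card, Fintype.card_subtype]
    rw [hsum]
    exact inv_mul_cancel₀ hHpos

end Cfsg.Agent.Lib.Helper51.PF14
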