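/-
helper51: PF section 11 end game (helper64 #4162, sheet `Lib/Helper64/PF11_MODULES.md`),
module [DOM]: `dom_props`, `tau_isometry`, `calS0_inner`.
-/
import Mathlib
import Cfsg.Agent.Lib.Helper64.PFElevenDefs
import Cfsg.Agent.Lib.Helper74.PFTwelveA
import Cfsg.Agent.Lib.Helper73.PF127Rho
import Cfsg.Agent.Lib.Helper3.Dade
import Cfsg.Agent.Lib.Helper51.PFCycMuInd
import Cfsg.Agent.Lib.Helper51.PFCycMuIrr
import Cfsg.Agent.Lib.Helper51.PFCycIndGen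
import Cfsg.Agent.S0148
import Cfsg.Agent.S1500

set_option autoImplicit false
set_option linter.unusedVariables false
set_option linter.unusedSectionVars false

namespace Cfsg.Agent.Lib.Helper51.PF11

open Cfsg Cfsg.Agent.Lib.Helper24.PFCyc Cfsg.Agent.Lib.Helper4.PF Cfsg.Agent.Lib.Helper64.PF11
open Cfsg.Agent.Lib.Helper74.PF127 Cfsg.Agent.Lib.Helper51.PFCyc

universe u

variable {G : Type u} [Group G] [Fintype G] {M W₁ U W₂ : Subgroup G} [Fintype M]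
  {mu : WChar W₁ W₂ → (↥M → ℂ)} {dl : WChar W₁ W₂ → ℂ} {η : WChar W₁ W₂ → (G → ℂ)}
  {d : ℕ} {δ : ℂ} {n : ℤ}

theorem frame_oddM (F : Frame M W₁ U W₂ mu dl η d δ n) : Odd (Nat.card M) := by
  have h := Subgroup.card_subgroup_dvd_card M
  exact F.hodd.of_dvd_nat h

/-- members of `calS0` are characters vanishing off `M'` -/
theorem calS0_char (F : Frame M W₁ U W₂ mu dl η d δ n) :
    (∀ χ ∈ calS0 M mu, IsCharacter ↥M χ) ∧
      ∀ χ ∈ calS0 M mu, ∀ x : ↥M, (x : G) ∉ ((⁅M, M⁆ : Subgroup G) : Set G) → χ x = 0 := by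
  classical
  have hKn := KM_normal M
  have key : ∀ θ : ↥(derK M) → ℂ, IsIrrCharacter ↥(derK M) θ →
      IsCharacter ↥M (indFun (derK M) θ) ∧
        ∀ x : ↥M, (x : G) ∉ ((⁅M, M⁆ : Subgroup G) : Set G) → indFun (derK M) θ x = 0 := by
    intro θ hθ
    refine ⟨Cfsg.Agent.S0148.result (derK M) θ
      (Cfsg.Agent.Lib.Helper78.IsIrrCharacter.isCharacter hθ), ?_⟩
    intro x hx
    apply indFun_vanish_off_normal (derK M) θ
    intro hc
    exact hx (Subgroup.mem_subgroupOf.mp hc)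
  have hall : ∀ χ ∈ calS0 M mu, IsCharacter ↥M χ ∧
      ∀ x : ↥M, (x : G) ∉ ((⁅M, M⁆ : Subgroup G) : Set G) → χ x = 0 := by
    intro χ hχ
    rcases hχ with rfl | hχ
    · obtain ⟨hirr, hind⟩ := F.mu_ind 1
      rw [hind]
      exact key _ hirr
    · obtain ⟨θ, hθ, hθ1, rfl⟩ := (Cfsg.Agent.Lib.Helper74.mem_inducedIrrAbove_bot_iff _).mp hχ
      exact key θ hθ
  exact ⟨fun χ hχ => (hall χ hχ).1, fun χ hχ => (hall χ hχ).2⟩

/-- MODULE [DOM] (1) -/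
theorem dom_props (F : Frame M W₁ U W₂ mu dl η d δ n) (α : ↥M → ℂ)
    (hα : α ∈ zspan (calS0 M mu)) :
    IsClassFunction ↥M α ∧ IsGeneralizedCharacter ↥M α ∧
      (∀ x : ↥M, (x : G) ∉ ⁅M, M⁆ → α x = 0) ∧
      (α 1 = 0 → ∀ x : ↥M, (x : G) ∉ litA0 M → α x = 0) := by
  obtain ⟨hS, hvan⟩ := calS0_char F
  obtain ⟨h1, h2, h3⟩ := Cfsg.Agent.Lib.Helper74.PF12.zspan_props
    ((⁅M, M⁆ : Subgroup G) : Set G) (calS0 M mu) hS hvan hα
  refine ⟨h1, h3, h2, ?_⟩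
  intro hα1 x hx
  by_cases hxK : (x : G) ∈ ⁅M, M⁆
  · by_cases hx1 : x = 1
    · rw [hx1, hα1]
    · exfalso
      apply hx
      left
      rw [F.hA]
      exact ⟨hxK, fun hc => hx1 (Subtype.ext hc)⟩
  · exact h2 x hxK

/-- an element of `W ∖ W₂` is not in `M'` -/
theorem not_mem_der_of_mem_W (F : Frame M W₁ U W₂ mu dl η d δ n) {w : G} (hw : w ∈ W₁ ⊔ W₂)
    (hw₂ : w ∉ W₂) : w ∉ ⁅M, M⁆ := by
  intro hwK
  have hW := F.hP.selfNormalizing
  have hcomm := hW.2.2.2.1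
  have hW₂K : W₂ ≤ ⁅M, M⁆ := (F.hP.W₂_le.trans inf_le_left).trans F.hP.U_compl.1
  obtain ⟨a, ha, b, hb, rfl⟩ : ∃ a ∈ W₁, ∃ b ∈ W₂, w = a * b := by
    refine Cfsg.Agent.Lib.Helper3.Dade.mem_sup_decomp W₂ W₁ ?_ (by rwa [sup_comm])
    intro k hk u hu
    rw [hcomm k hk u hu, mul_inv_cancel_right]
    exact hu
  have haK : a ∈ ⁅M, M⁆ := by
    have : a = a * b * b⁻¹ := by group
    rw [this]
    exact Subgroup.mul_mem _ hwK (Subgroup.inv_mem _ (hW₂K hb))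
  have ha1 : a = 1 := by
    have : a ∈ ⁅M, M⁆ ⊓ W₁ := ⟨haK, ha⟩
    rw [F.hP.W₁_compl.2.2.1] at this
    exact Subgroup.mem_bot.mp this
  apply hw₂
  rw [ha1, one_mul]
  exact hb

/-- MODULE [DOM] (2) -/
theorem tau_isometry (F : Frame M W₁ U W₂ mu dl η d δ n) :
    IsLinearIsometryOn (zspanOn (calS0 M mu) {1}ᶜ) (tauM M) ∧
      (∀ α ∈ zspanOn (calS0 M mu) ({1}ᶜ : Set ↥M), tauM M α 1 = 0) ∧
      (∀ α ∈ zspanOn (calS0 M mu) ({1}ᶜ : Set ↥M),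
        classInner (tauM M α) (fun _ => 1) = classInner α (fun _ => 1)) ∧
      (∀ α ∈ zspanOn (calS0 M mu) ({1}ᶜ : Set ↥M), ∀ w : ↥(W₁ ⊔ W₂),
        (w : G) ∉ W₁ → (w : G) ∉ W₂ → tauM M α (w : G) = 0) := by
  classical
  obtain ⟨hS, hvan⟩ := calS0_char F
  have hXA : ∀ x ∈ ((⁅M, M⁆ : Subgroup G) : Set G), x ≠ 1 → x ∈ litA0 M := by
    intro x hx hx1
    left
    rw [F.hA]
    exact ⟨hx, hx1⟩
  obtain ⟨hiso, hone⟩ := Cfsg.Agent.Lib.Helper74.PF12.dade_isLinearIsometryOn F.hD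
    ((⁅M, M⁆ : Subgroup G) : Set G) hXA (calS0 M mu) hS hvan
  have hprops : ∀ α ∈ zspanOn (calS0 M mu) ({1}ᶜ : Set ↥M),
      IsClassFunction ↥M α ∧ (∀ x : ↥M, (x : G) ∉ ⁅M, M⁆ → α x = 0) ∧
        ∀ x : ↥M, (x : G) ∉ litA0 M → α x = 0 := by
    intro α hα
    obtain ⟨h1, h2, h3, h4⟩ := dom_props F α hα.1
    exact ⟨h1, h3, h4 (hα.2 1 (by simp))⟩
  refine ⟨hiso, hone, ?_, ?_⟩
  · intro α hα
    obtain ⟨hcf, hK, hA0⟩ := hprops α hα
    have h1 : IsClassFunction G (fun _ : G => (1 : ℂ)) := fun _ _ => rfl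
    have hadj : classInner (tauM M α) (fun _ => 1) =
        classInner α (dadeRes (litA0 M) M (supportR M) (fun _ => 1)) :=
      (Cfsg.Agent.S1500.result (litA0 M) M (supportR M) F.hD α hcf hA0).2 (fun _ => 1)
        (dadeRes (litA0 M) M (supportR M) (fun _ => 1)) h1
        (fun a ha => by rw [dadeRes_of_mem _ _ _ _ _ ha]; rfl)
    rw [hadj]
    unfold classInner
    congr 1
    apply Finset.sum_congr rfl
    intro m _
    by_cases hm : (m : G) ∈ litA0 M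
    · rw [dadeRes_of_mem _ _ _ _ _ hm]
      congr 2
      unfold dadeAvg
      rw [finsum_mem_eq_finite_toFinset_sum _ (Set.toFinite _)]
      simp only [Finset.sum_const, nsmul_eq_mul, mul_one]
      have : (Set.toFinite ((supportR M (m : G) : Subgroup G) : Set G)).toFinset.card =
          Nat.card (supportR M (m : G)) := by
        rw [← Set.ncard_eq_toFinset_card _ (Set.toFinite _)]
        rfl
      rw [this]
      have hne : (Nat.card (supportR M (m : G)) : ℂ) ≠ 0 := by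
        exact_mod_cast (Nat.card_pos (α := supportR M (m : G))).ne'
      field_simp
    · rw [hA0 m hm, zero_mul, zero_mul]
  · intro α hα w hw₁ hw₂
    obtain ⟨hcf, hK, hA0⟩ := hprops α hα
    have hlit := F.hA0 (w : G) w.2 hw₁ hw₂ 1 (Subgroup.one_mem M)
    rw [one_mul, inv_one, mul_one] at hlit
    have hWM : W₁ ⊔ W₂ ≤ M :=
      sup_le F.hP.W₁_compl.2.1
        (((F.hP.W₂_le.trans inf_le_left).trans F.hP.U_compl.1).trans F.hP.W₁_compl.1)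
    have hwM : (w : G) ∈ M := hWM w.2
    have hrel : Cfsg.Agent.Lib.Helper3.Dade.Rel (litA0 M) M (supportR M) (w : G)
        ⟨(w : G), hwM⟩ :=
      ⟨hlit.1, 1, 1, Subgroup.one_mem _, by simp⟩
    have := Cfsg.Agent.Lib.Helper3.Dade.dade_eq F.hD hcf hrel
    unfold tauM
    rw [this]
    exact hK _ (not_mem_der_of_mem_W F w.2 hw₂)

/-- MODULE [DOM] (3): inner products inside `calS(M) ∪ {μ₀}` -/
theorem calS0_inner (F : Frame M W₁ U W₂ mu dl η d δ n) :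
    classInner (muSum mu 1) (muSum mu 1) = (Nat.card W₁ : ℂ) ∧
    classInner (muSum mu 1) (fun _ => 1) = 1 ∧ muSum mu 1 1 = (Nat.card W₁ : ℂ) ∧
    (∀ ξ ∈ calS M, classInner (muSum mu 1) ξ = 0 ∧ classInner ξ (muSum mu 1) = 0 ∧
      classInner ξ (fun _ => 1) = 0 ∧ IsCharacter ↥M ξ) ∧
    (∀ ξ ∈ calS M, ∀ ξ' ∈ calS M, ξ ≠ ξ' → classInner ξ ξ' = 0) ∧
    (∀ ξ ∈ calS M, IsIrrCharacter ↥M ξ → classInner ξ ξ = 1) ∧
    (∀ ψ : WChar W₁ W₂, TrivOn W₁ ψ → ψ ≠ 1 →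
      classInner (muSum mu ψ) (muSum mu ψ) = (Nat.card W₁ : ℂ) ∧
      muSum mu ψ 1 = ((Nat.card W₁ * d : ℕ) : ℂ)) := by
  classical
  have hKn := KM_normal M
  have : Fintype ↥(derK M) := Fintype.ofFinite _
  have hP := F.hP
  have hodd := frame_oddM F
  have md := F.md
  have hmu1 : mu 1 = fun _ => 1 := F.mu_one
  have hres1 : (fun k : ↥(derK M) => mu 1 (k : ↥M)) = (fun _ => 1) := by
    rw [hmu1]
  have hnorm : ∀ ω : WChar W₁ W₂, classInner (muSum mu ω) (muSum mu ω) = (Nat.card W₁ : ℂ) := by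
    intro ω
    unfold muSum
    rw [classInner_sum_irr_self (trivSet W₁ W₂ W₂) (fun φ => mu (φ * ω)) (fun φ _ => md.irr _)
      (fun φ _ φ' _ hh => mul_right_cancel (md.inj hh)), card_trivSet_W₂ hP.selfNormalizing]
  have hval1 : ∀ ω : WChar W₁ W₂, muSum mu ω 1 = (Nat.card W₁ : ℂ) * mu ω 1 := by
    intro ω
    unfold muSum
    rw [Finset.sum_apply]
    have h1 : ∀ φ ∈ trivSet W₁ W₂ W₂, mu (φ * ω) 1 = mu ω 1 := by
      intro φ hφ
      apply F.mu_res (φ * ω) ω ?_ (1 : ↥M) (Subgroup.one_mem _)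
      intro w hw
      rw [MonoidHom.mul_apply, mem_trivSet.mp hφ w hw, one_mul]
    rw [Finset.sum_congr rfl h1, Finset.sum_const, card_trivSet_W₂ hP.selfNormalizing,
      nsmul_eq_mul]
  have h1cf : IsClassFunction ↥M (fun _ => (1 : ℂ)) := fun _ _ => rfl
  have hμ0ξ : ∀ ξ ∈ calS M, classInner (muSum mu 1) ξ = 0 := by
    intro ζ' hζ'
    obtain ⟨θ, hθ, hθ1, rfl⟩ := (Cfsg.Agent.Lib.Helper74.mem_inducedIrrAbove_bot_iff _).mp hζ'
    rw [inner_muSum hP hodd md 1 (Cfsg.Agent.Lib.Helper75.isClassFunction_indFun _ _), hres1,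
      ← Cfsg.Agent.Lib.Helper78.classInner_conj_symm,
      Cfsg.Agent.Lib.Helper75.classInner_indFun_res_eq_zero (derK M) hθ
        Cfsg.Agent.Lib.Helper78.isIrrCharacter_one ?_, map_zero]
    intro x hx
    apply hθ1
    have h2 := congrArg (Cfsg.Agent.Lib.Helper75.conjFun (derK M) x⁻¹) hx
    rw [Cfsg.Agent.Lib.Helper75.conjFun_inv_conjFun] at h2
    rw [h2]
    rfl
  refine ⟨hnorm 1, ?_, ?_, ?_, ?_, ?_, ?_⟩
  · rw [inner_muSum hP hodd md 1 h1cf, hres1]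
    exact Cfsg.Agent.Lib.Helper78.classInner_irr_self Cfsg.Agent.Lib.Helper78.isIrrCharacter_one
  · rw [hval1 1, hmu1, mul_one]
  · intro ξ hξ
    refine ⟨hμ0ξ ξ hξ, ?_, ?_, ?_⟩
    · rw [← Cfsg.Agent.Lib.Helper78.classInner_conj_symm, hμ0ξ ξ hξ, map_zero]
    · obtain ⟨θ, hθ, hθ1, rfl⟩ := (Cfsg.Agent.Lib.Helper74.mem_inducedIrrAbove_bot_iff _).mp hξ
      rw [Cfsg.Agent.Lib.Helper75.frobenius_reciprocity (derK M) θ h1cf]
      exact Cfsg.Agent.Lib.Helper78.classInner_irr_ne hθ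
        Cfsg.Agent.Lib.Helper78.isIrrCharacter_one hθ1
    · exact (calS0_char F).1 ξ (Set.mem_insert_of_mem _ hξ)
  · intro ξ hξ ξ' hξ' hne
    obtain ⟨θ', hθ', -, rfl⟩ := (Cfsg.Agent.Lib.Helper74.mem_inducedIrrAbove_bot_iff _).mp hξ
    obtain ⟨θ'', hθ'', -, rfl⟩ := (Cfsg.Agent.Lib.Helper74.mem_inducedIrrAbove_bot_iff _).mp hξ'
    exact inducedIrr_orth (derK M) hθ' hθ'' hne
  · intro ξ _ hirr
    exact Cfsg.Agent.Lib.Helper78.classInner_irr_self hirr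
  · intro ψ hψ hψ1
    refine ⟨hnorm ψ, ?_⟩
    rw [hval1 ψ, F.deg_psi ψ hψ hψ1]
    push_cast
    ring

end Cfsg.Agent.Lib.Helper51.PF11
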