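import Mathlib

/-!
# PROJECT ASCH, module ASCH-[NF], abstract layer (helper51)

`A` an `F`-algebra, `V` an `A`-module (compatible `F`-structure), `W` a submodule with an `F`-basis
`b`, `ψ : V ≃ₗ[A] (Fin e → W)`.  In the coordinates `Phi : V ≃ₗ[F] (Fin d × Fin e → F)` the element
`a` acts as `rho a ⊗ₖ 1`.  If `W` is simple, `rho` is irreducible; if moreover `F` is finite and the
centre of `End_A(V)` is `F`, the commutant of `rho` is scalar.
-/

set_option autoImplicit false

namespace Cfsg.Agent.Lib.Helper51.AschNF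

open scoped Matrix Kronecker

variable {F : Type*} [Field F] {A : Type*} [Ring A] [Algebra F A]
variable {V : Type*} [AddCommGroup V] [Module F V] [Module A V] [IsScalarTower F A V]
variable (W : Submodule A V)

/-- The action of `a` on the submodule `W`, as an `F`-linear map. -/
def actW (a : A) : W →ₗ[F] W where
  toFun w := a • w
  map_add' := smul_add a
  map_smul' c w := smul_comm a c w

@[simp] theorem actW_apply (a : A) (w : W) : actW (F := F) W a w = a • w := rfl

variable {W}
variable {d : ℕ} (b : Module.Basis (Fin d) F W)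

/-- The matrix of `a` on `W` in the basis `b`. -/
noncomputable def rho (a : A) : Matrix (Fin d) (Fin d) F := LinearMap.toMatrix b b (actW W a)

theorem rho_mulVec_repr (a : A) (w : W) : rho b a *ᵥ ⇑(b.repr w) = ⇑(b.repr (a • w)) :=
  LinearMap.toMatrix_mulVec_repr b b (actW W a) w

theorem rho_mulVec (a : A) (u : Fin d → F) :
    rho b a *ᵥ u = b.equivFun (a • b.equivFun.symm u) := by
  have := rho_mulVec_repr b a (b.equivFun.symm u)
  have h2 : ⇑(b.repr (b.equivFun.symm u)) = u := by
    have := b.equivFun.apply_symm_apply u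
    exact this
  rw [h2] at this
  exact this

theorem rho_mul (a a' : A) : rho b (a * a') = rho b a * rho b a' := by
  unfold rho
  rw [← LinearMap.toMatrix_mul]
  congr 1
  ext w
  simp [mul_smul]

theorem rho_add (a a' : A) : rho b (a + a') = rho b a + rho b a' := by
  unfold rho
  rw [← map_add]
  congr 1
  ext w
  simp [add_smul]

theorem rho_one : rho b (1 : A) = 1 := by
  unfold rho
  rw [← LinearMap.toMatrix_one b]
  congr 1
  ext w
  simp

theorem rho_algebraMap (c : F) : rho b (algebraMap F A c) = c • (1 : Matrix (Fin d) (Fin d) F) := by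
  unfold rho
  rw [← LinearMap.toMatrix_one b, ← map_smul]
  congr 1
  ext w
  simp

/-- Induction over a generating set for properties of `rho b a`. -/
theorem rho_induction_abs (S : Set A) (hS : Algebra.adjoin F S = ⊤)
    (Q : Matrix (Fin d) (Fin d) F → Prop)
    (hgen : ∀ a ∈ S, Q (rho b a))
    (hsc : ∀ c : F, Q (c • (1 : Matrix (Fin d) (Fin d) F)))
    (hadd : ∀ x y, Q x → Q y → Q (x + y)) (hmul : ∀ x y, Q x → Q y → Q (x * y))
    (a : A) : Q (rho b a) := by
  have ha : a ∈ Algebra.adjoin F S := by rw [hS]; exact Algebra.mem_top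
  induction ha using Algebra.adjoin_induction with
  | mem x hx => exact hgen x hx
  | algebraMap c => rw [rho_algebraMap]; exact hsc c
  | add x y _ _ px py => rw [rho_add]; exact hadd _ _ px py
  | mul x y _ _ px py => rw [rho_mul]; exact hmul _ _ px py

variable {e : ℕ} (ψ : V ≃ₗ[A] (Fin e → W))

/-- Coordinates on `V`. -/
noncomputable def Phi : V ≃ₗ[F] (Fin d × Fin e → F) :=
  (ψ.restrictScalars F).trans <|
  (LinearEquiv.piCongrRight fun _ : Fin e => b.equivFun).trans <|
  (LinearEquiv.curry F F (Fin e) (Fin d)).symm.trans <|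
  LinearEquiv.funCongrLeft F F (Equiv.prodComm (Fin d) (Fin e))

theorem Phi_apply (v : V) (j : Fin d) (k : Fin e) : Phi b ψ v (j, k) = b.repr (ψ v k) j := rfl

theorem Phi_smul (a : A) (v : V) :
    Phi b ψ (a • v) = (rho b a ⊗ₖ (1 : Matrix (Fin e) (Fin e) F)) *ᵥ Phi b ψ v := by
  ext ⟨j, k⟩
  rw [Phi_apply, map_smul, Pi.smul_apply, ← rho_mulVec_repr]
  simp only [Matrix.mulVec, dotProduct, Fintype.sum_prod_type, Matrix.kroneckerMap_apply,
    Matrix.one_apply, Phi_apply]
  refine Finset.sum_congr rfl fun j' _ => ?_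
  simp

/-- `rho` is irreducible when `W` is simple. -/
theorem irreducible_rho [IsSimpleModule A W] (U : Submodule F (Fin d → F))
    (hU : ∀ a : A, ∀ u ∈ U, rho b a *ᵥ u ∈ U) : U = ⊥ ∨ U = ⊤ := by
  let WU : Submodule A W :=
    { carrier := {w | ⇑(b.repr w) ∈ U}
      add_mem' := fun {x y} hx hy => by
        change ⇑(b.repr (x + y)) ∈ U
        rw [map_add, Finsupp.coe_add]
        exact U.add_mem hx hy
      zero_mem' := by
        change ⇑(b.repr 0) ∈ U
        rw [map_zero, Finsupp.coe_zero]
        exact U.zero_mem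
      smul_mem' := fun a w hw => by
        change ⇑(b.repr (a • w)) ∈ U
        rw [← rho_mulVec_repr]
        exact hU a _ hw }
  rcases eq_bot_or_eq_top WU with h | h
  · left
    rw [eq_bot_iff]
    intro u hu
    have hw : b.equivFun.symm u ∈ WU := by
      change ⇑(b.repr (b.equivFun.symm u)) ∈ U
      have : ⇑(b.repr (b.equivFun.symm u)) = u := b.equivFun.apply_symm_apply u
      rw [this]
      exact hu
    rw [h, Submodule.mem_bot] at hw
    have : u = b.equivFun (b.equivFun.symm u) := (b.equivFun.apply_symm_apply u).symm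
    rw [this, hw, map_zero]
    exact Submodule.zero_mem _
  · right
    rw [eq_top_iff]
    intro u _
    have hw : b.equivFun.symm u ∈ WU := by rw [h]; exact Submodule.mem_top
    have h1 : ⇑(b.repr (b.equivFun.symm u)) ∈ U := hw
    have : ⇑(b.repr (b.equivFun.symm u)) = u := b.equivFun.apply_symm_apply u
    rw [this] at h1
    exact h1

/-- A matrix commuting with `rho` gives an `A`-endomorphism of `W`. -/
noncomputable def endOfMat (m : Matrix (Fin d) (Fin d) F)
    (hm : ∀ a : A, m * rho b a = rho b a * m) : Module.End A W where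
  toFun w := b.equivFun.symm (m *ᵥ b.equivFun w)
  map_add' x y := by rw [map_add, Matrix.mulVec_add, map_add]
  map_smul' a w := by
    apply b.equivFun.injective
    rw [RingHom.id_apply, LinearEquiv.apply_symm_apply]
    have h1 : b.equivFun (a • w) = rho b a *ᵥ b.equivFun w := (rho_mulVec_repr b a w).symm
    have h2 : b.equivFun (a • b.equivFun.symm (m *ᵥ b.equivFun w))
        = rho b a *ᵥ (m *ᵥ b.equivFun w) := by
      rw [rho_mulVec]
    rw [h1, h2, Matrix.mulVec_mulVec, Matrix.mulVec_mulVec, hm a]

theorem endOfMat_apply (m : Matrix (Fin d) (Fin d) F)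
    (hm : ∀ a : A, m * rho b a = rho b a * m) (w : W) :
    endOfMat b m hm w = b.equivFun.symm (m *ᵥ b.equivFun w) := rfl

/-- The diagonal endomorphism of `V ≅ W^e` induced by `φ`. -/
noncomputable def diagEnd (φ : Module.End A W) : Module.End A V :=
  ψ.symm.toLinearMap ∘ₗ (LinearMap.pi fun k => φ ∘ₗ LinearMap.proj k) ∘ₗ ψ.toLinearMap

theorem diagEnd_apply (φ : Module.End A W) (v : V) :
    diagEnd ψ φ v = ψ.symm (fun k => φ (ψ v k)) := rfl

theorem pi_comm (φ : Module.End A W) (hφ : ∀ g : Module.End A W, φ * g = g * φ)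
    (g : Module.End A (Fin e → W)) (w : Fin e → W) :
    (fun k => φ (g w k)) = g (fun k => φ (w k)) := by
  have hdec : ∀ w : Fin e → W, g w = ∑ k', g (Pi.single k' (w k')) := by
    intro w
    rw [← map_sum, Finset.univ_sum_single]
  funext k
  rw [hdec w, hdec (fun k => φ (w k)), Finset.sum_apply, Finset.sum_apply, map_sum]
  refine Finset.sum_congr rfl fun k' _ => ?_
  let gk : Module.End A W := LinearMap.proj k ∘ₗ g ∘ₗ LinearMap.single A (fun _ => W) k'
  have h1 : g (Pi.single k' (w k')) k = gk (w k') := rfl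
  have h2 : g (Pi.single k' (φ (w k'))) k = gk (φ (w k')) := rfl
  rw [h1, h2]
  have := LinearMap.congr_fun (hφ gk) (w k')
  exact this

theorem diagEnd_central (φ : Module.End A W) (hφ : ∀ g : Module.End A W, φ * g = g * φ)
    (g : Module.End A V) : diagEnd ψ φ * g = g * diagEnd ψ φ := by
  ext v
  rw [Module.End.mul_apply, Module.End.mul_apply, diagEnd_apply, diagEnd_apply]
  let g' : Module.End A (Fin e → W) := ψ.toLinearMap ∘ₗ g ∘ₗ ψ.symm.toLinearMap
  have h1 : ψ (g v) = g' (ψ v) := by
    change ψ (g v) = ψ (g (ψ.symm (ψ v)))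
    rw [LinearEquiv.symm_apply_apply]
  have h2 := pi_comm φ hφ g' (ψ v)
  apply ψ.injective
  rw [LinearEquiv.apply_symm_apply]
  change _ = g' (fun k => φ (ψ v k))
  rw [← h2]
  funext k
  rw [h1]

/-- The commutant of `rho` is scalar when `F` is finite, `W` is simple and the centre of
`End_A(V)` consists of scalars. -/
theorem commutant_rho [Finite F] [IsSimpleModule A W] (ψ : V ≃ₗ[A] (Fin e → W)) (he : 0 < e)
    (hcen : ∀ f : Module.End A V, (∀ g : Module.End A V, f * g = g * f) →
      ∃ c : F, ∀ v, f v = c • v)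
    (m : Matrix (Fin d) (Fin d) F) (hm : ∀ a : A, m * rho b a = rho b a * m) :
    ∃ c : F, m = c • (1 : Matrix (Fin d) (Fin d) F) := by
  classical
  have : Module.Finite F W := Module.Finite.of_basis b
  have : Finite W := Module.finite_of_finite F
  have : Finite (Module.End A W) :=
    Finite.of_injective (fun f : Module.End A W => (f : W → W)) DFunLike.coe_injective
  have : IsDomain (Module.End A W) := inferInstance
  have hcomm := (Finite.isDomain_to_isField (Module.End A W)).mul_comm
  obtain ⟨c, hc⟩ := hcen (diagEnd ψ (endOfMat b m hm))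
    (diagEnd_central ψ (endOfMat b m hm) (fun g => hcomm (endOfMat b m hm) g))
  refine ⟨c, ?_⟩
  have hφ : ∀ w : W, endOfMat b m hm w = c • w := by
    intro w
    have h1 := hc (ψ.symm (Pi.single (⟨0, he⟩ : Fin e) w))
    rw [diagEnd_apply, LinearEquiv.apply_symm_apply] at h1
    have h2 := congrArg ψ h1
    rw [LinearEquiv.apply_symm_apply] at h2
    have h4 : ψ (c • ψ.symm (Pi.single (⟨0, he⟩ : Fin e) w))
        = c • Pi.single (⟨0, he⟩ : Fin e) w := by
      have := (ψ.restrictScalars F).map_smul c (ψ.symm (Pi.single (⟨0, he⟩ : Fin e) w))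
      rw [LinearEquiv.restrictScalars_apply, LinearEquiv.restrictScalars_apply,
        LinearEquiv.apply_symm_apply] at this
      exact this
    rw [h4] at h2
    have h3 := congrFun h2 (⟨0, he⟩ : Fin e)
    simpa using h3
  apply Matrix.toLin'.injective
  apply LinearMap.ext
  intro u
  rw [Matrix.toLin'_apply, Matrix.toLin'_apply, Matrix.smul_mulVec, Matrix.one_mulVec]
  have h5 := hφ (b.equivFun.symm u)
  rw [endOfMat_apply, LinearEquiv.apply_symm_apply] at h5
  have h6 := congrArg b.equivFun h5
  rw [LinearEquiv.apply_symm_apply, map_smul, LinearEquiv.apply_symm_apply] at h6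
  exact h6

end Cfsg.Agent.Lib.Helper51.AschNF
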