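import Cfsg.Agent.Lib.Helper51.AschField
import Cfsg.Agent.Lib.Helper51.AschNFAbs

/-!
# PROJECT ASCH (coordinator helper99), module ASCH-[NF] (helper51)

Tensor normal form `B N B⁻¹ = W ⊗ 1` for an isotypic semisimple `N` whose commutant has scalar
centre.
-/

set_option autoImplicit false
set_option synthInstance.maxHeartbeats 400000
set_option maxHeartbeats 1600000

namespace Cfsg.Agent.Lib.Helper51.AschNF

open Cfsg Cfsg.Geo Cfsg.Agent.Lib.Helper99.Asch Cfsg.Agent.Lib.Helper51.AschField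
open scoped MatrixGroups Matrix Kronecker

variable {ι : Type} [Fintype ι] [DecidableEq ι] {F : Type*} [Field F]

/-- The element of `endAlg N` given by `g ∈ N`. -/
noncomputable def genA (N : Subgroup (GL ι F)) (g : GL ι F) (hg : g ∈ N) : endAlg N :=
  ⟨Matrix.toLin' (g : Matrix ι ι F), toLin'_mem_endAlg N hg⟩

theorem genA_smul (N : Subgroup (GL ι F)) (g : GL ι F) (hg : g ∈ N) (v : ι → F) :
    genA N g hg • v = (g : Matrix ι ι F) *ᵥ v := rfl

theorem genA_mul (N : Subgroup (GL ι F)) (g h : GL ι F) (hg : g ∈ N) (hh : h ∈ N) :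
    genA N (g * h) (N.mul_mem hg hh) = genA N g hg * genA N h hh := by
  apply Subtype.ext
  change Matrix.toLin' ((g * h : GL ι F) : Matrix ι ι F) = Matrix.toLin' (g : Matrix ι ι F)
    * Matrix.toLin' (h : Matrix ι ι F)
  rw [Module.End.mul_eq_comp, ← Matrix.toLin'_mul]
  rfl

theorem genA_one (N : Subgroup (GL ι F)) : genA N 1 N.one_mem = 1 := by
  apply Subtype.ext
  change Matrix.toLin' ((1 : GL ι F) : Matrix ι ι F) = 1
  rw [Units.val_one, Matrix.toLin'_one]
  rfl

theorem genA_mul_inv (N : Subgroup (GL ι F)) (g : GL ι F) (hg : g ∈ N) :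
    genA N g hg * genA N g⁻¹ (N.inv_mem hg) = 1 := by
  apply Subtype.ext
  change Matrix.toLin' (g : Matrix ι ι F) * Matrix.toLin' ((g⁻¹ : GL ι F) : Matrix ι ι F) = 1
  rw [Module.End.mul_eq_comp, ← Matrix.toLin'_mul, ← Units.val_mul, mul_inv_cancel, Units.val_one,
    Matrix.toLin'_one]
  rfl

theorem genA_inv_mul (N : Subgroup (GL ι F)) (g : GL ι F) (hg : g ∈ N) :
    genA N g⁻¹ (N.inv_mem hg) * genA N g hg = 1 := by
  apply Subtype.ext
  change Matrix.toLin' ((g⁻¹ : GL ι F) : Matrix ι ι F) * Matrix.toLin' (g : Matrix ι ι F) = 1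
  rw [Module.End.mul_eq_comp, ← Matrix.toLin'_mul, ← Units.val_mul, inv_mul_cancel, Units.val_one,
    Matrix.toLin'_one]
  rfl

/-- The centre of `End_A(V)` is scalar when the centre of the commutant is. -/
theorem hcen_of_hsc (N : Subgroup (GL ι F))
    (hsc : ∀ x ∈ commutantCenter N, ∃ c : F, x = c • (1 : Matrix ι ι F)) :
    ∀ f : Module.End (endAlg N) (ι → F), (∀ g : Module.End (endAlg N) (ι → F), f * g = g * f) →
      ∃ c : F, ∀ v, f v = c • v := by
  intro f hf
  have h1 := toMatrix'_mem_commutant N f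
  have hfv : ∀ v, f v = LinearMap.toMatrix' (f.restrictScalars F) *ᵥ v := by
    intro v
    rw [← Matrix.toLin'_apply, Matrix.toLin'_toMatrix']
    rfl
  have h2 : LinearMap.toMatrix' (f.restrictScalars F) ∈
      Subalgebra.centralizer F (commutant N : Set (Matrix ι ι F)) := by
    rw [Subalgebra.mem_centralizer_iff]
    intro c hc
    have h3 := hf (endOfCommutant N c hc)
    apply Matrix.toLin'.injective
    apply LinearMap.ext
    intro v
    have h4 := LinearMap.congr_fun h3 v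
    rw [Module.End.mul_apply, Module.End.mul_apply] at h4
    change f (c *ᵥ v) = c *ᵥ f v at h4
    rw [Matrix.toLin'_apply, Matrix.toLin'_apply, ← Matrix.mulVec_mulVec, ← Matrix.mulVec_mulVec,
      ← hfv, ← hfv]
    exact h4.symm
  obtain ⟨c, hc⟩ := hsc _ ⟨h1, h2⟩
  refine ⟨c, fun v => ?_⟩
  rw [hfv, hc, Matrix.smul_mulVec, Matrix.one_mulVec]

/-- The elements `genA N g hg` generate `endAlg N`. -/
theorem adjoin_genA (N : Subgroup (GL ι F)) :
    Algebra.adjoin F {a : endAlg N | ∃ g, ∃ hg : g ∈ N, a = genA N g hg} = ⊤ := by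
  have h := Algebra.adjoin_adjoin_coe_preimage (R := F)
    (s := (fun g : GL ι F => Matrix.toLin' (g : Matrix ι ι F)) '' (N : Set (GL ι F)))
  have hset : {a : endAlg N | ∃ g, ∃ hg : g ∈ N, a = genA N g hg} =
      ((↑) : endAlg N → Module.End F (ι → F)) ⁻¹'
        ((fun g : GL ι F => Matrix.toLin' (g : Matrix ι ι F)) '' (N : Set (GL ι F))) := by
    ext a
    constructor
    · rintro ⟨g, hg, rfl⟩
      exact ⟨g, hg, rfl⟩
    · rintro ⟨g, hg, hga⟩
      exact ⟨g, hg, Subtype.ext hga.symm⟩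
  rw [hset]
  exact h

/-- Submodules of `F^ι` over `endAlg N`, with the instance path used by Mathlib's statements about
modules over rings. -/
abbrev SubM (N : Subgroup (GL ι F)) : Type _ :=
  @Submodule (endAlg N) (ι → F) Ring.toSemiring AddCommGroup.toAddCommMonoid inferInstance

section Main

variable (N : Subgroup (GL ι F)) {W : SubM N} {d e : ℕ}
  (b : Module.Basis (Fin d) F W) (ψ : (ι → F) ≃ₗ[endAlg N] (Fin e → W))
  (idx : ι ≃ Fin d × Fin e)

/-- The coordinate change on `F^ι`. -/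
noncomputable def Phi' : (ι → F) ≃ₗ[F] (ι → F) :=
  (Phi (A := endAlg N) b ψ).trans (LinearEquiv.funCongrLeft F F idx)

theorem Phi'_apply (v : ι → F) (i : ι) :
    Phi' N b ψ idx v i = Phi (A := endAlg N) b ψ v (idx i) := rfl

/-- The base change matrix. -/
noncomputable def Bmat : GL ι F :=
  ⟨LinearMap.toMatrix' (Phi' N b ψ idx).toLinearMap,
    LinearMap.toMatrix' (Phi' N b ψ idx).symm.toLinearMap,
    by
      rw [← LinearMap.toMatrix'_comp]
      have : (Phi' N b ψ idx).toLinearMap ∘ₗ (Phi' N b ψ idx).symm.toLinearMap = LinearMap.id :=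
        LinearMap.ext fun v => (Phi' N b ψ idx).apply_symm_apply v
      rw [this, LinearMap.toMatrix'_id],
    by
      rw [← LinearMap.toMatrix'_comp]
      have : (Phi' N b ψ idx).symm.toLinearMap ∘ₗ (Phi' N b ψ idx).toLinearMap = LinearMap.id :=
        LinearMap.ext fun v => (Phi' N b ψ idx).symm_apply_apply v
      rw [this, LinearMap.toMatrix'_id]⟩

theorem Bmat_val : ((Bmat N b ψ idx : GL ι F) : Matrix ι ι F)
    = LinearMap.toMatrix' (Phi' N b ψ idx).toLinearMap := rfl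

theorem Bmat_mul (g : GL ι F) (hg : g ∈ N) :
    ((Bmat N b ψ idx : GL ι F) : Matrix ι ι F) * (g : Matrix ι ι F) =
      Matrix.reindex idx.symm idx.symm
        (rho b (genA N g hg) ⊗ₖ (1 : Matrix (Fin e) (Fin e) F)) *
      ((Bmat N b ψ idx : GL ι F) : Matrix ι ι F) := by
  apply Matrix.toLin'.injective
  apply LinearMap.ext
  intro v
  rw [Matrix.toLin'_mul, Matrix.toLin'_mul, LinearMap.comp_apply, LinearMap.comp_apply, Bmat_val,
    Matrix.toLin'_toMatrix']
  funext i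
  change Phi' N b ψ idx ((g : Matrix ι ι F) *ᵥ v) i = _
  rw [Phi'_apply, ← genA_smul N g hg v, Phi_smul, Matrix.toLin'_apply]
  simp only [Matrix.mulVec, dotProduct, Matrix.reindex_apply, Matrix.submatrix_apply,
    Equiv.symm_symm]
  rw [← Equiv.sum_comp idx]
  rfl

theorem Bmat_conj (g : GL ι F) (hg : g ∈ N) :
    ((Bmat N b ψ idx * g * (Bmat N b ψ idx)⁻¹ : GL ι F) : Matrix ι ι F) =
      Matrix.reindex idx.symm idx.symm
        (rho b (genA N g hg) ⊗ₖ (1 : Matrix (Fin e) (Fin e) F)) := by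
  rw [Units.val_mul, Units.val_mul, Bmat_mul N b ψ idx g hg, mul_assoc, ← Units.val_mul,
    mul_inv_cancel, Units.val_one, mul_one]

theorem rho_mem_set (g : GL ι F) (hg : g ∈ N) : rho b (genA N g hg) ∈
    {a : Matrix (Fin d) (Fin d) F | ∃ x ∈ N,
      ((Bmat N b ψ idx * x * (Bmat N b ψ idx)⁻¹ : GL ι F) : Matrix ι ι F) =
        Matrix.reindex idx.symm idx.symm (a ⊗ₖ (1 : Matrix (Fin e) (Fin e) F))} :=
  ⟨g, hg, Bmat_conj N b ψ idx g hg⟩

theorem tnf_part1 (x : GL ι F) (hx : x ∈ N) :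
    ∃ a : GL (Fin d) F, ((Bmat N b ψ idx * x * (Bmat N b ψ idx)⁻¹ : GL ι F) : Matrix ι ι F) =
      Matrix.reindex idx.symm idx.symm
        ((a : Matrix (Fin d) (Fin d) F) ⊗ₖ (1 : Matrix (Fin e) (Fin e) F)) := by
  have h1 : rho b (genA N x hx) * rho b (genA N x⁻¹ (N.inv_mem hx)) = 1 := by
    rw [← rho_mul, genA_mul_inv, rho_one]
  have h2 : rho b (genA N x⁻¹ (N.inv_mem hx)) * rho b (genA N x hx) = 1 := by
    rw [← rho_mul, genA_inv_mul, rho_one]
  have h3 := Bmat_conj N b ψ idx x hx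
  exact ⟨⟨rho b (genA N x hx), rho b (genA N x⁻¹ (N.inv_mem hx)), h1, h2⟩, h3⟩

theorem tnf_irred [IsSimpleModule (endAlg N) W] :
    ActsIrreducibly {a : Matrix (Fin d) (Fin d) F | ∃ x ∈ N,
      ((Bmat N b ψ idx * x * (Bmat N b ψ idx)⁻¹ : GL ι F) : Matrix ι ι F) =
        Matrix.reindex idx.symm idx.symm (a ⊗ₖ (1 : Matrix (Fin e) (Fin e) F))} := by
  intro U hU
  apply irreducible_rho (A := endAlg N) b U
  intro a
  refine rho_induction_abs (A := endAlg N) b _ (adjoin_genA N)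
    (fun m => ∀ u ∈ U, m *ᵥ u ∈ U) ?_ ?_ ?_ ?_ a
  · rintro _ ⟨g, hg, rfl⟩ u hu
    exact hU _ (rho_mem_set N b ψ idx g hg) ⟨u, hu, rfl⟩
  · intro c u hu
    rw [Matrix.smul_mulVec, Matrix.one_mulVec]
    exact U.smul_mem c hu
  · intro x y hx hy u hu
    rw [Matrix.add_mulVec]
    exact U.add_mem (hx u hu) (hy u hu)
  · intro x y hx hy u hu
    rw [← Matrix.mulVec_mulVec]
    exact hx _ (hy u hu)

theorem tnf_comm [Finite F] [IsSimpleModule (endAlg N) W] (he0 : 0 < e)
    (hsc : ∀ x ∈ commutantCenter N, ∃ c : F, x = c • (1 : Matrix ι ι F))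
    (m : Matrix (Fin d) (Fin d) F)
    (hm : ∀ s ∈ {a : Matrix (Fin d) (Fin d) F | ∃ x ∈ N,
      ((Bmat N b ψ idx * x * (Bmat N b ψ idx)⁻¹ : GL ι F) : Matrix ι ι F) =
        Matrix.reindex idx.symm idx.symm (a ⊗ₖ (1 : Matrix (Fin e) (Fin e) F))}, m * s = s * m) :
    ∃ c : F, m = c • (1 : Matrix (Fin d) (Fin d) F) := by
  apply commutant_rho (A := endAlg N) b ψ he0 (hcen_of_hsc N hsc) m
  intro a
  refine rho_induction_abs (A := endAlg N) b _ (adjoin_genA N)
    (fun s => m * s = s * m) ?_ ?_ ?_ ?_ a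
  · rintro _ ⟨g, hg, rfl⟩
    exact hm _ (rho_mem_set N b ψ idx g hg)
  · intro c
    rw [mul_smul_comm, smul_mul_assoc, mul_one, one_mul]
  · intro x y hx hy
    rw [mul_add, add_mul, hx, hy]
  · intro x y hx hy
    rw [← mul_assoc, hx, mul_assoc, hy, mul_assoc]

theorem tnf_of_data [Finite F] [IsSimpleModule (endAlg N) W] (he0 : 0 < e)
    (hsc : ∀ x ∈ commutantCenter N, ∃ c : F, x = c • (1 : Matrix ι ι F)) :
    TensorNF N d e idx (Bmat N b ψ idx) :=
  ⟨tnf_part1 N b ψ idx, tnf_irred N b ψ idx, tnf_comm N b ψ idx he0 hsc⟩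

end Main

/-- A basis and an index bijection for given `W`, `ψ`. -/
theorem exists_basis_idx (N : Subgroup (GL ι F)) (W : SubM N) {e : ℕ}
    (ψ : (ι → F) ≃ₗ[endAlg N] (Fin e → W)) :
    ∃ (d : ℕ) (_ : Module.Basis (Fin d) F W), Nonempty (ι ≃ Fin d × Fin e) := by
  classical
  haveI : Module.Finite F W :=
    Module.Finite.of_injective (W.subtype.restrictScalars F) W.subtype_injective
  haveI : Module.Free F W := Module.Free.of_divisionRing F W
  have b : Module.Basis (Fin (Module.finrank F W)) F W := Module.finBasis F W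
  have hcard : Fintype.card ι = Fintype.card (Fin (Module.finrank F W) × Fin e) := by
    have h := (Phi (A := endAlg N) b ψ).finrank_eq
    rw [Module.finrank_fintype_fun_eq_card, Module.finrank_fintype_fun_eq_card] at h
    exact h
  exact ⟨_, b, ⟨Fintype.equivOfCardEq hcard⟩⟩

/-- Existence of the data, with `d` abstracted. -/
theorem exists_data [Nonempty ι] (N : Subgroup (GL ι F))
    [IsSemisimpleModule (endAlg N) (ι → F)] (hiso : IsIsotypic (endAlg N) (ι → F)) :
    ∃ (d e : ℕ) (W : SubM N) (_ : IsSimpleModule (endAlg N) W)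
      (_ : Module.Basis (Fin d) F W) (_ : (ι → F) ≃ₗ[endAlg N] (Fin e → W))
      (_ : ι ≃ Fin d × Fin e), 0 < e := by
  classical
  haveI : Module.Finite (endAlg N) (ι → F) := Module.Finite.of_restrictScalars_finite F _ _
  obtain ⟨e, he, W, hW, ⟨ψ⟩⟩ := hiso.linearEquiv_fun
  obtain ⟨d, b, ⟨idx⟩⟩ := exists_basis_idx N W ψ
  exact ⟨d, e, W, hW, b, ψ, idx, Nat.pos_of_ne_zero he.out⟩

/-- General form of ASCH-[NF]: any nonempty finite index type. -/
theorem tensorNF_gen [Finite F] [Nonempty ι] (N : Subgroup (GL ι F))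
    [IsSemisimpleModule (endAlg N) (ι → F)] (hiso : IsIsotypic (endAlg N) (ι → F))
    (hsc : ∀ x ∈ commutantCenter N, ∃ c : F, x = c • (1 : Matrix ι ι F)) :
    ∃ (d e : ℕ) (idx : ι ≃ Fin d × Fin e) (B : GL ι F), TensorNF N d e idx B := by
  obtain ⟨d, e, W, hW, b, ψ, idx, he0⟩ := exists_data N hiso
  haveI := hW
  exact ⟨d, e, idx, Bmat N b ψ idx, tnf_of_data N b ψ idx he0 hsc⟩

end Cfsg.Agent.Lib.Helper51.AschNF

namespace Cfsg.Agent.Lib.Helper99.Asch

open Cfsg Cfsg.Geo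
open scoped MatrixGroups Matrix Kronecker

/-- ASCH-[NF] (sheet statement). -/
theorem tensorNF_of_isotypic {n : ℕ} {F : Type*} [Field F] [Fintype F] (hn : 0 < n)
    (N : Subgroup (GL (Fin n) F))
    (hss : IsSemisimpleModule (endAlg N) (Fin n → F)) (hiso : IsIsotypic (endAlg N) (Fin n → F))
    (hsc : ∀ x ∈ commutantCenter N, ∃ c : F, x = c • (1 : Matrix (Fin n) (Fin n) F)) :
    ∃ (d e : ℕ) (idx : Fin n ≃ Fin d × Fin e) (B : GL (Fin n) F), TensorNF N d e idx B := by
  haveI : Nonempty (Fin n) := ⟨⟨0, hn⟩⟩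
  exact Cfsg.Agent.Lib.Helper51.AschNF.tensorNF_gen N hiso hsc

end Cfsg.Agent.Lib.Helper99.Asch
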