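import Cfsg.Agent.Lib.Helper99.AschDefs

/-!
# PROJECT ASCH (coordinator helper99), module ASCH-[FIELD] (helper51)

For an isotypic semisimple `N`, every non-zero element of the centre of the commutant of `N` is
invertible there: its kernel is a fully invariant submodule of `F^ι` over `endAlg N`.
-/

set_option autoImplicit false

namespace Cfsg.Agent.Lib.Helper51.AschField

open Cfsg Cfsg.Geo Cfsg.Agent.Lib.Helper99.Asch
open scoped MatrixGroups Matrix

variable {ι : Type} [Fintype ι] [DecidableEq ι] {F : Type*} [Field F]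

theorem toLin'_mem_endAlg (N : Subgroup (GL ι F)) {g : GL ι F} (hg : g ∈ N) :
    Matrix.toLin' (g : Matrix ι ι F) ∈ endAlg N :=
  Algebra.subset_adjoin ⟨g, hg, rfl⟩

/-- An `F`-endomorphism commuting with the generators commutes with all of `endAlg N`. -/
theorem commute_of_commute_gen (N : Subgroup (GL ι F)) (T : Module.End F (ι → F))
    (hT : ∀ g ∈ N, T * Matrix.toLin' (g : Matrix ι ι F) = Matrix.toLin' (g : Matrix ι ι F) * T)
    (a : Module.End F (ι → F)) (ha : a ∈ endAlg N) : T * a = a * T := by
  have hle : endAlg N ≤ Subalgebra.centralizer F {T} := by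
    refine Algebra.adjoin_le ?_
    rintro _ ⟨g, hg, rfl⟩
    rw [SetLike.mem_coe, Subalgebra.mem_centralizer_iff]
    intro t ht
    rw [Set.mem_singleton_iff] at ht
    subst ht
    exact hT g hg
  have := hle ha
  rw [Subalgebra.mem_centralizer_iff] at this
  exact this T rfl

/-- A matrix in the commutant gives an `endAlg N`-linear endomorphism of `F^ι`. -/
noncomputable def endOfCommutant (N : Subgroup (GL ι F)) (c : Matrix ι ι F) (hc : c ∈ commutant N) :
    Module.End (endAlg N) (ι → F) where
  toFun v := c *ᵥ v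
  map_add' v w := Matrix.mulVec_add c v w
  map_smul' a v := by
    have h := commute_of_commute_gen N (Matrix.toLin' c) (fun g hg => by
      have h1 : (g : Matrix ι ι F) * c = c * (g : Matrix ι ι F) :=
        ((Subalgebra.mem_centralizer_iff F).mp hc) _ ⟨g, hg, rfl⟩
      rw [Module.End.mul_eq_comp, Module.End.mul_eq_comp, ← Matrix.toLin'_mul, ← Matrix.toLin'_mul,
        h1]) a.1 a.2
    have h2 := LinearMap.congr_fun h v
    simp only [Module.End.mul_apply, Matrix.toLin'_apply] at h2
    exact h2

/-- The matrix of an `endAlg N`-linear endomorphism of `F^ι` lies in the commutant. -/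
theorem toMatrix'_mem_commutant (N : Subgroup (GL ι F)) (f : Module.End (endAlg N) (ι → F)) :
    LinearMap.toMatrix' (f.restrictScalars F) ∈ commutant N := by
  unfold commutant
  rw [Subalgebra.mem_centralizer_iff]
  rintro _ ⟨g, hg, rfl⟩
  apply Matrix.toLin'.injective
  rw [Matrix.toLin'_mul, Matrix.toLin'_mul, Matrix.toLin'_toMatrix']
  apply LinearMap.ext
  intro v
  simp only [LinearMap.comp_apply, LinearMap.restrictScalars_apply]
  have := f.map_smul ⟨_, toLin'_mem_endAlg N hg⟩ v
  exact this.symm

/-- The kernel of a matrix of the centre of the commutant, as an `endAlg N`-submodule. -/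
noncomputable def kerSub (N : Subgroup (GL ι F)) (x : Matrix ι ι F) (hx : x ∈ commutant N) :
    Submodule (endAlg N) (ι → F) :=
  LinearMap.ker (endOfCommutant N x hx)

theorem mem_kerSub (N : Subgroup (GL ι F)) (x : Matrix ι ι F) (hx : x ∈ commutant N)
    (v : ι → F) : v ∈ kerSub N x hx ↔ x *ᵥ v = 0 := by
  unfold kerSub
  rw [LinearMap.mem_ker]
  rfl

theorem kerSub_fullyInvariant (N : Subgroup (GL ι F)) (x : Matrix ι ι F)
    (hx : x ∈ commutantCenter N) :
    (kerSub N x hx.1).IsFullyInvariant := by
  intro f v hv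
  rw [Submodule.mem_comap, mem_kerSub]
  rw [mem_kerSub] at hv
  have hf := toMatrix'_mem_commutant N f
  have hcomm : LinearMap.toMatrix' (f.restrictScalars F) * x
      = x * LinearMap.toMatrix' (f.restrictScalars F) :=
    ((Subalgebra.mem_centralizer_iff F).mp hx.2) _ hf
  have h1 : f v = LinearMap.toMatrix' (f.restrictScalars F) *ᵥ v := by
    rw [← Matrix.toLin'_apply, Matrix.toLin'_toMatrix']
    rfl
  rw [h1, Matrix.mulVec_mulVec, ← hcomm, ← Matrix.mulVec_mulVec, hv, Matrix.mulVec_zero]

/-- General form of ASCH-[FIELD]: any field, any finite index type. -/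
theorem commutantCenter_inv_gen (N : Subgroup (GL ι F))
    [IsSemisimpleModule (endAlg N) (ι → F)] (hiso : IsIsotypic (endAlg N) (ι → F)) :
    ∀ x ∈ commutantCenter N, x ≠ 0 → ∃ y ∈ commutantCenter N, x * y = 1 := by
  intro x hx hx0
  have hfi := kerSub_fullyInvariant N x hx
  have hinj : Function.Injective x.mulVec := by
    rcases (isIsotypic_iff_isFullyInvariant_imp_bot_or_top.mp hiso) _ hfi with h | h
    · intro v w hvw
      have : v - w ∈ kerSub N x hx.1 := by
        rw [mem_kerSub, Matrix.mulVec_sub, hvw, sub_self]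
      rw [h, Submodule.mem_bot, sub_eq_zero] at this
      exact this
    · exfalso
      apply hx0
      ext i j
      have : Pi.single j (1 : F) ∈ kerSub N x hx.1 := by rw [h]; exact Submodule.mem_top
      rw [mem_kerSub] at this
      have h2 := congrFun this i
      rw [Matrix.mulVec_single_one] at h2
      simpa using h2
  have hu : IsUnit x := Matrix.mulVec_injective_iff_isUnit.mp hinj
  have hdet : IsUnit x.det := (Matrix.isUnit_iff_isUnit_det x).mp hu
  have h1 : x * x⁻¹ = 1 := Matrix.mul_nonsing_inv x hdet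
  have h2 : x⁻¹ * x = 1 := Matrix.nonsing_inv_mul x hdet
  have hinv : ∀ c : Matrix ι ι F, c * x = x * c → c * x⁻¹ = x⁻¹ * c := by
    intro c hc
    calc c * x⁻¹ = x⁻¹ * x * (c * x⁻¹) := by rw [h2, one_mul]
      _ = x⁻¹ * (x * c) * x⁻¹ := by simp only [mul_assoc]
      _ = x⁻¹ * (c * x) * x⁻¹ := by rw [hc]
      _ = x⁻¹ * c * (x * x⁻¹) := by simp only [mul_assoc]
      _ = x⁻¹ * c := by rw [h1, mul_one]
  refine ⟨x⁻¹, ⟨?_, ?_⟩, h1⟩
  · change x⁻¹ ∈ commutant N
    unfold commutant
    rw [Subalgebra.mem_centralizer_iff]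
    intro s hs
    exact hinv s (((Subalgebra.mem_centralizer_iff F).mp hx.1) s hs)
  · change x⁻¹ ∈ Subalgebra.centralizer F (commutant N : Set (Matrix ι ι F))
    rw [Subalgebra.mem_centralizer_iff]
    intro s hs
    exact hinv s (((Subalgebra.mem_centralizer_iff F).mp hx.2) s hs)

end Cfsg.Agent.Lib.Helper51.AschField

namespace Cfsg.Agent.Lib.Helper99.Asch

open Cfsg Cfsg.Geo
open scoped MatrixGroups Matrix

/-- ASCH-[FIELD] (sheet statement). -/
theorem commutantCenter_inv {n : ℕ} {F : Type*} [Field F] [Fintype F] (_hn : 0 < n)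
    (N : Subgroup (GL (Fin n) F))
    (hss : IsSemisimpleModule (endAlg N) (Fin n → F)) (hiso : IsIsotypic (endAlg N) (Fin n → F)) :
    ∀ x ∈ commutantCenter N, x ≠ 0 → ∃ y ∈ commutantCenter N, x * y = 1 :=
  Cfsg.Agent.Lib.Helper51.AschField.commutantCenter_inv_gen N hiso

end Cfsg.Agent.Lib.Helper99.Asch
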