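import Mathlib
import Cfsg.Prelude.Def_GeometricClasses
import Cfsg.Agent.Lib.Helper99.AschDefs
import Cfsg.Agent.Lib.Helper5.AschODefs

/-!
# ASCHO-[PERP]  (project ASCHO of helper5, S5673)

The form-aware Clifford step: a system of `t ≥ 2` isotypic components `D i` of a subgroup `N ≤ H · Z`
normalised by the irreducible isometry group `H` of a non-degenerate quadratic form in odd dimension is an
orthogonal decomposition into pairwise isometric non-degenerate subspaces.

Self-contained: the adjoint is handled through the relation `IsAdj f x y : ∀ u v, f (x u) v = f u (y v)`.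
-/

set_option autoImplicit false

namespace Cfsg.Agent.Lib.Helper51.AschOPerp

open Cfsg Cfsg.Geo Cfsg.Agent.Lib.Helper99.Asch Cfsg.Agent.Lib.Helper5.AschO
open scoped MatrixGroups Matrix Kronecker

variable {n : ℕ} {F : Type*} [Field F]

/-! ### Bilinear forms given as functions, adjoints -/

section form

variable {f : (Fin n → F) → (Fin n → F) → F}

theorem form_zero_left (hb : IsBilinearForm f) (v : Fin n → F) : f 0 v = 0 := by
  have := hb.smul_left 0 0 v
  simpa using this

theorem form_zero_right (hb : IsBilinearForm f) (v : Fin n → F) : f v 0 = 0 := by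
  have := hb.smul_right 0 v 0
  simpa using this

theorem form_neg_right (hb : IsBilinearForm f) (u v : Fin n → F) : f u (-v) = - f u v := by
  have := hb.smul_right (-1) u v
  simpa using this

theorem form_sub_right (hb : IsBilinearForm f) (u v w : Fin n → F) : f u (v - w) = f u v - f u w := by
  rw [sub_eq_add_neg, hb.add_right, form_neg_right hb, ← sub_eq_add_neg]

theorem form_sum_left (hb : IsBilinearForm f) {α : Type*} (s : Finset α) (g : α → Fin n → F)
    (v : Fin n → F) : f (∑ a ∈ s, g a) v = ∑ a ∈ s, f (g a) v := by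
  classical
  induction s using Finset.induction_on with
  | empty => simp [form_zero_left hb]
  | insert a s ha ih => rw [Finset.sum_insert ha, Finset.sum_insert ha, hb.add_left, ih]

theorem form_sum_right (hb : IsBilinearForm f) {α : Type*} (s : Finset α) (g : α → Fin n → F)
    (v : Fin n → F) : f v (∑ a ∈ s, g a) = ∑ a ∈ s, f v (g a) := by
  classical
  induction s using Finset.induction_on with
  | empty => simp [form_zero_right hb]
  | insert a s ha ih => rw [Finset.sum_insert ha, Finset.sum_insert ha, hb.add_right, ih]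

/-- a bilinear form is given by its Gram matrix -/
theorem form_eq_dot (hb : IsBilinearForm f) (u v : Fin n → F) :
    f u v = u ⬝ᵥ (gramMatrix f *ᵥ v) := by
  have hu : u = ∑ a, u a • (Pi.single a 1 : Fin n → F) := by
    ext i
    simp [Finset.sum_apply, Pi.single_apply]
  have hv : v = ∑ a, v a • (Pi.single a 1 : Fin n → F) := by
    ext i
    simp [Finset.sum_apply, Pi.single_apply]
  conv_lhs => rw [hu, form_sum_left hb]
  simp only [dotProduct, Matrix.mulVec, gramMatrix]
  apply Finset.sum_congr rfl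
  intro a _
  rw [hb.smul_left]
  conv_lhs => rw [hv, form_sum_right hb]
  congr 1
  apply Finset.sum_congr rfl
  intro b _
  rw [hb.smul_right]
  ring

/-- the Gram matrix of a non-degenerate bilinear form is invertible -/
theorem gram_isUnit (hb : IsBilinearForm f) (hnd : IsNondegenerateForm f) :
    IsUnit (gramMatrix f) := by
  rw [← Matrix.mulVec_injective_iff_isUnit]
  intro v v' hvv
  have hv : gramMatrix f *ᵥ (v - v') = 0 := by
    rw [Matrix.mulVec_sub]
    exact sub_eq_zero.mpr hvv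
  by_contra hne
  have hne' : v - v' ≠ 0 := sub_ne_zero.mpr hne
  obtain ⟨x, hx⟩ := (hnd _ hne').1
  apply hx
  rw [form_eq_dot hb, hv, dotProduct_zero]

/-- `y` is an adjoint of `x` for the form `f`. -/
def IsAdj (f : (Fin n → F) → (Fin n → F) → F) (x y : Matrix (Fin n) (Fin n) F) : Prop :=
  ∀ u v, f (x *ᵥ u) v = f u (y *ᵥ v)

theorem exists_isAdj (hb : IsBilinearForm f) (hnd : IsNondegenerateForm f)
    (x : Matrix (Fin n) (Fin n) F) : ∃ y, IsAdj f x y := by
  have hG := gram_isUnit hb hnd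
  have hdet : IsUnit (gramMatrix f).det := (Matrix.isUnit_iff_isUnit_det _).mp hG
  refine ⟨(gramMatrix f)⁻¹ * xᵀ * gramMatrix f, fun u v => ?_⟩
  rw [form_eq_dot hb, form_eq_dot hb, Matrix.mulVec_mulVec, ← Matrix.mul_assoc, ← Matrix.mul_assoc,
    Matrix.mul_nonsing_inv _ hdet, Matrix.one_mul, ← Matrix.mulVec_mulVec]
  generalize gramMatrix f *ᵥ v = w
  rw [dotProduct_comm, Matrix.dotProduct_mulVec, ← Matrix.mulVec_transpose, dotProduct_comm]

theorem IsAdj.symm (hs : ∀ u v, f u v = f v u) {x y : Matrix (Fin n) (Fin n) F}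
    (h : IsAdj f x y) : IsAdj f y x := by
  intro u v
  rw [hs, ← h, hs]

theorem eq_of_forall_form_eq (hb : IsBilinearForm f) (hnd : IsNondegenerateForm f)
    {w w' : Fin n → F} (h : ∀ u, f u w = f u w') : w = w' := by
  by_contra hne
  have hne' : w - w' ≠ 0 := sub_ne_zero.mpr hne
  obtain ⟨x, hx⟩ := (hnd _ hne').1
  apply hx
  rw [form_sub_right hb, h, sub_self]

theorem IsAdj.unique (hb : IsBilinearForm f) (hnd : IsNondegenerateForm f)
    {x y y' : Matrix (Fin n) (Fin n) F} (h : IsAdj f x y) (h' : IsAdj f x y') : y = y' := by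
  apply Matrix.toLin'.injective
  apply LinearMap.ext
  intro v
  rw [Matrix.toLin'_apply, Matrix.toLin'_apply]
  apply eq_of_forall_form_eq hb hnd
  intro u
  rw [← h, ← h']

theorem IsAdj.mul {x y x' y' : Matrix (Fin n) (Fin n) F} (h : IsAdj f x y) (h' : IsAdj f x' y') :
    IsAdj f (x * x') (y' * y) := by
  intro u v
  rw [← Matrix.mulVec_mulVec, h, h', Matrix.mulVec_mulVec]

end form

/-! ### Similarities and the stability of the commutant under adjoints -/

section stab

variable {f : (Fin n → F) → (Fin n → F) → F}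

theorem mem_isometryGroup_apply {Q : (Fin n → F) → F} {g : GL (Fin n) F}
    (hg : g ∈ isometryGroup F Q) (u : Fin n → F) :
    Q ((g : Matrix (Fin n) (Fin n) F) *ᵥ u) = Q u := hg u u

theorem polar_map_of_mem {Q : (Fin n → F) → F} {g : GL (Fin n) F}
    (hg : g ∈ isometryGroup F Q) (u v : Fin n → F) :
    QuadraticMap.polar Q ((g : Matrix (Fin n) (Fin n) F) *ᵥ u) ((g : Matrix (Fin n) (Fin n) F) *ᵥ v) =
      QuadraticMap.polar Q u v := by
  unfold QuadraticMap.polar
  rw [← Matrix.mulVec_add, mem_isometryGroup_apply hg, mem_isometryGroup_apply hg,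
    mem_isometryGroup_apply hg]

theorem isometryGroup_le_similarity {Q : (Fin n → F) → F} :
    isometryGroup F Q ≤ similarityGroup (QuadraticMap.polar Q) := by
  intro g hg
  exact ⟨1, fun u v => by rw [polar_map_of_mem hg, Units.val_one, one_mul]⟩

theorem scalars_le_similarity (hb : IsBilinearForm f) :
    scalars (Fin n) F ≤ similarityGroup f := by
  intro g hg
  obtain ⟨c, hc⟩ := (mem_scalars_iff g).mp hg
  refine ⟨c * c, fun u v => ?_⟩
  rw [hc, Matrix.smul_mulVec, Matrix.smul_mulVec, Matrix.one_mulVec, Matrix.one_mulVec,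
    hb.smul_left, hb.smul_right, Units.val_mul, mul_assoc]

/-- the adjoint of a matrix commuting with a group of similarities commutes with it -/
theorem isAdj_mem_commutant (hb : IsBilinearForm f) (hnd : IsNondegenerateForm f)
    {N : Subgroup (GL (Fin n) F)} (hN : N ≤ similarityGroup f)
    {c c' : Matrix (Fin n) (Fin n) F} (hc : c ∈ commutant N) (hcc : IsAdj f c c') :
    c' ∈ commutant N := by
  unfold commutant at hc ⊢
  rw [Subalgebra.mem_centralizer_iff] at hc ⊢
  rintro _ ⟨x, hx, rfl⟩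
  show (x : Matrix (Fin n) (Fin n) F) * c' = c' * (x : Matrix (Fin n) (Fin n) F)
  obtain ⟨lam, hlam⟩ := hN hx
  have hxc : (x : Matrix (Fin n) (Fin n) F) * c = c * (x : Matrix (Fin n) (Fin n) F) :=
    hc _ ⟨x, hx, rfl⟩
  apply Matrix.toLin'.injective
  apply LinearMap.ext
  intro v
  rw [Matrix.toLin'_apply, Matrix.toLin'_apply]
  apply eq_of_forall_form_eq hb hnd
  intro u
  -- write `u = x u'`
  have hu : (x : Matrix (Fin n) (Fin n) F) *ᵥ (((x⁻¹ : GL (Fin n) F) : Matrix (Fin n) (Fin n) F) *ᵥ u) = u := by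
    rw [Matrix.mulVec_mulVec, ← Units.val_mul, mul_inv_cancel, Units.val_one, Matrix.one_mulVec]
  generalize ((x⁻¹ : GL (Fin n) F) : Matrix (Fin n) (Fin n) F) *ᵥ u = u' at hu
  calc f u (((x : Matrix (Fin n) (Fin n) F) * c') *ᵥ v)
      = f ((x : Matrix (Fin n) (Fin n) F) *ᵥ u') ((x : Matrix (Fin n) (Fin n) F) *ᵥ (c' *ᵥ v)) := by
        rw [hu, Matrix.mulVec_mulVec]
    _ = lam * f u' (c' *ᵥ v) := hlam _ _
    _ = lam * f (c *ᵥ u') v := by rw [hcc]
    _ = f ((x : Matrix (Fin n) (Fin n) F) *ᵥ (c *ᵥ u')) ((x : Matrix (Fin n) (Fin n) F) *ᵥ v) :=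
        (hlam _ _).symm
    _ = f (c *ᵥ ((x : Matrix (Fin n) (Fin n) F) *ᵥ u')) ((x : Matrix (Fin n) (Fin n) F) *ᵥ v) := by
        rw [Matrix.mulVec_mulVec, hxc, ← Matrix.mulVec_mulVec]
    _ = f (c *ᵥ u) ((x : Matrix (Fin n) (Fin n) F) *ᵥ v) := by rw [hu]
    _ = f u (c' *ᵥ ((x : Matrix (Fin n) (Fin n) F) *ᵥ v)) := hcc _ _
    _ = f u ((c' * (x : Matrix (Fin n) (Fin n) F)) *ᵥ v) := by rw [Matrix.mulVec_mulVec]

/-- the adjoint of an element of the centre of the commutant lies in the centre of the commutant -/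
theorem isAdj_mem_commutantCenter (hb : IsBilinearForm f) (hs : ∀ u v, f u v = f v u)
    (hnd : IsNondegenerateForm f)
    {N : Subgroup (GL (Fin n) F)} (hN : N ≤ similarityGroup f)
    {c c' : Matrix (Fin n) (Fin n) F} (hc : c ∈ commutantCenter N) (hcc : IsAdj f c c') :
    c' ∈ commutantCenter N := by
  unfold commutantCenter at hc ⊢
  rw [Algebra.mem_inf] at hc ⊢
  refine ⟨isAdj_mem_commutant hb hnd hN hc.1 hcc, ?_⟩
  have hc2 := hc.2
  rw [Subalgebra.mem_centralizer_iff] at hc2 ⊢
  intro d hd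
  obtain ⟨d', hdd⟩ := exists_isAdj hb hnd d
  have hd' : d' ∈ commutant N := isAdj_mem_commutant hb hnd hN hd hdd
  have h1 : d' * c = c * d' := hc2 d' hd'
  -- `IsAdj (c * d') (d * c')` and `IsAdj (d' * c) (c' * d)`
  have h2 : IsAdj f (c * d') (d * c') := hcc.mul (hdd.symm hs)
  have h3 : IsAdj f (d' * c) (c' * d) := (hdd.symm hs).mul hcc
  rw [h1] at h3
  exact h2.unique hb hnd h3

end stab

/-! ### The projections of a direct decomposition -/

section proj

variable {t : ℕ} {D : Fin t → Submodule F (Fin n → F)}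

/-- the sum of the members other than `D i` -/
def Dc (D : Fin t → Submodule F (Fin n → F)) (i : Fin t) : Submodule F (Fin n → F) :=
  ⨆ (l : Fin t) (_ : l ≠ i), D l

theorem le_Dc {i l : Fin t} (hl : l ≠ i) : D l ≤ Dc D i := le_iSup₂_of_le l hl le_rfl

theorem isCompl_Dc (hind : iSupIndep D) (htop : iSup D = ⊤) (i : Fin t) : IsCompl (D i) (Dc D i) := by
  refine ⟨hind i, ?_⟩
  rw [codisjoint_iff, Dc, ← htop]
  exact (iSup_split_single D i).symm

theorem map_Dc_le {x : Matrix (Fin n) (Fin n) F} (hx : ∀ l, (D l).map (Matrix.toLin' x) ≤ D l)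
    (i : Fin t) : (Dc D i).map (Matrix.toLin' x) ≤ Dc D i := by
  unfold Dc
  simp only [Submodule.map_iSup]
  exact iSup₂_mono fun l _ => hx l

variable (hind : iSupIndep D) (htop : iSup D = ⊤)

/-- the matrix of the projection onto `D i` along the other members -/
noncomputable def eMat (i : Fin t) : Matrix (Fin n) (Fin n) F :=
  LinearMap.toMatrix' ((D i).projection (Dc D i) (isCompl_Dc hind htop i))

theorem eMat_mulVec (i : Fin t) (v : Fin n → F) :
    eMat hind htop i *ᵥ v = (D i).projection (Dc D i) (isCompl_Dc hind htop i) v := by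
  rw [eMat, ← Matrix.toLin'_apply, Matrix.toLin'_toMatrix']

theorem eMat_of_mem {i : Fin t} {v : Fin n → F} (hv : v ∈ D i) : eMat hind htop i *ᵥ v = v := by
  rw [eMat_mulVec]
  exact Submodule.projection_apply_of_mem_left _ hv

theorem eMat_of_mem_Dc {i : Fin t} {v : Fin n → F} (hv : v ∈ Dc D i) : eMat hind htop i *ᵥ v = 0 := by
  rw [eMat_mulVec]
  exact Submodule.projection_apply_of_mem_right _ hv

theorem eMat_of_mem_ne {i l : Fin t} (hl : l ≠ i) {v : Fin n → F} (hv : v ∈ D l) :
    eMat hind htop i *ᵥ v = 0 := eMat_of_mem_Dc hind htop (le_Dc hl hv)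

theorem eMat_mem (i : Fin t) (v : Fin n → F) : eMat hind htop i *ᵥ v ∈ D i := by
  rw [eMat_mulVec]
  exact Submodule.projection_apply_mem _ v

theorem eMat_mul_self (i : Fin t) : eMat hind htop i * eMat hind htop i = eMat hind htop i := by
  apply Matrix.toLin'.injective
  apply LinearMap.ext
  intro v
  rw [Matrix.toLin'_apply, ← Matrix.mulVec_mulVec, eMat_of_mem hind htop (eMat_mem hind htop i v),
    Matrix.toLin'_apply]

theorem eMat_commute {x : Matrix (Fin n) (Fin n) F} (hx : ∀ l, (D l).map (Matrix.toLin' x) ≤ D l)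
    (i : Fin t) : x * eMat hind htop i = eMat hind htop i * x := by
  apply Matrix.toLin'.injective
  apply LinearMap.ext
  intro v
  rw [Matrix.toLin'_apply, Matrix.toLin'_apply, ← Matrix.mulVec_mulVec, ← Matrix.mulVec_mulVec]
  have hc := isCompl_Dc hind htop i
  obtain ⟨p, hp, q, hq, rfl⟩ : ∃ p ∈ D i, ∃ q ∈ Dc D i, p + q = v := by
    have : v ∈ D i ⊔ Dc D i := by rw [hc.sup_eq_top]; trivial
    exact Submodule.mem_sup.mp this
  have hxp : x *ᵥ p ∈ D i := hx i ⟨p, hp, by rw [Matrix.toLin'_apply]⟩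
  have hxq : x *ᵥ q ∈ Dc D i := map_Dc_le hx i ⟨q, hq, by rw [Matrix.toLin'_apply]⟩
  have h1 : eMat hind htop i *ᵥ (p + q) = p := by
    rw [Matrix.mulVec_add, eMat_of_mem hind htop hp, eMat_of_mem_Dc hind htop hq, add_zero]
  have h2 : eMat hind htop i *ᵥ (x *ᵥ (p + q)) = x *ᵥ p := by
    rw [Matrix.mulVec_add, Matrix.mulVec_add, eMat_of_mem hind htop hxp, eMat_of_mem_Dc hind htop hxq,
      add_zero]
  rw [h1, h2]

theorem eMat_mem_commutantCenter {N : Subgroup (GL (Fin n) F)}
    (hcomm : ∀ c ∈ commutant N, ∀ i, (D i).map (Matrix.toLin' c) ≤ D i)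
    (hN : ∀ x ∈ N, ∀ i, (D i).map (Matrix.toLin' (x : Matrix (Fin n) (Fin n) F)) ≤ D i)
    (i : Fin t) : eMat hind htop i ∈ commutantCenter N := by
  unfold commutantCenter
  rw [Algebra.mem_inf]
  constructor
  · unfold commutant
    rw [Subalgebra.mem_centralizer_iff]
    rintro _ ⟨x, hx, rfl⟩
    exact eMat_commute hind htop (hN x hx) i
  · rw [Subalgebra.mem_centralizer_iff]
    intro c hc
    exact eMat_commute hind htop (hcomm c hc) i

end proj

/-! ### The dichotomy and the pairing of the members -/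

section core

variable {f : (Fin n → F) → (Fin n → F) → F} {t : ℕ} {D : Fin t → Submodule F (Fin n → F)}

/-- `D i` is orthogonal to `D j`, or all the other members are -/
theorem dichotomy (hb : IsBilinearForm f) (hs : ∀ u v, f u v = f v u) (hnd : IsNondegenerateForm f)
    {N : Subgroup (GL (Fin n) F)} (hNs : N ≤ similarityGroup f)
    (hind : iSupIndep D) (htop : iSup D = ⊤)
    (hcomm : ∀ c ∈ commutant N, ∀ i, (D i).map (Matrix.toLin' c) ≤ D i)
    (hN : ∀ x ∈ N, ∀ i, (D i).map (Matrix.toLin' (x : Matrix (Fin n) (Fin n) F)) ≤ D i)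
    (hfield : ∀ c ∈ commutantCenter N, ∀ i,
        (∀ v ∈ D i, c *ᵥ v = 0) ∨ (∀ v ∈ D i, c *ᵥ v = 0 → v = 0)) (i j : Fin t) :
    (∀ u ∈ D i, ∀ v ∈ D j, f u v = 0) ∨ (∀ l, l ≠ i → ∀ u ∈ D l, ∀ v ∈ D j, f u v = 0) := by
  obtain ⟨a, ha⟩ := exists_isAdj hb hnd (eMat hind htop i)
  have hak : a ∈ commutantCenter N :=
    isAdj_mem_commutantCenter hb hs hnd hNs (eMat_mem_commutantCenter hind htop hcomm hN i) ha
  have haa : a * a = a := by
    have h2 : IsAdj f (eMat hind htop i * eMat hind htop i) (a * a) := ha.mul ha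
    rw [eMat_mul_self] at h2
    exact h2.unique hb hnd ha
  have hac : a ∈ commutant N := by
    unfold commutantCenter at hak
    exact (Algebra.mem_inf.mp hak).1
  rcases hfield a hak j with h0 | hinj
  · left
    intro u hu v hv
    calc f u v = f (eMat hind htop i *ᵥ u) v := by rw [eMat_of_mem hind htop hu]
      _ = f u (a *ᵥ v) := ha u v
      _ = 0 := by rw [h0 v hv, form_zero_right hb]
  · right
    intro l hl u hu v hv
    have hav : a *ᵥ v = v := by
      have hmem : a *ᵥ v ∈ D j := hcomm a hac j ⟨v, hv, by rw [Matrix.toLin'_apply]⟩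
      have hsub : a *ᵥ v - v ∈ D j := Submodule.sub_mem _ hmem hv
      have h0 : a *ᵥ (a *ᵥ v - v) = 0 := by
        rw [Matrix.mulVec_sub, Matrix.mulVec_mulVec, haa, sub_self]
      exact sub_eq_zero.mp (hinj _ hsub h0)
    calc f u v = f u (a *ᵥ v) := by rw [hav]
      _ = f (eMat hind htop i *ᵥ u) v := (ha u v).symm
      _ = 0 := by rw [eMat_of_mem_ne hind htop hl hu, form_zero_left hb]

/-- the combinatorial core: a symmetric relation on `Fin t`, `t` odd, such that every `j` is related to exactly one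
`i`, invariant under a transitive set of permutations, is the equality -/
theorem rel_eq_of_odd {t : ℕ} (R : Fin t → Fin t → Prop) (hsymm : ∀ i j, R i j → R j i)
    (huniq : ∀ i l j, R i j → R l j → l = i) (hex : ∀ j, ∃ i, R i j)
    (G : Set (Equiv.Perm (Fin t))) (hG : ∀ τ ∈ G, ∀ i j, R i j → R (τ i) (τ j))
    (htr : ∀ i j, ∃ τ ∈ G, τ i = j) (hodd : Odd t) : ∀ i j, R i j → i = j := by
  choose σ hσ using hex
  have huniq' : ∀ i j, R i j → i = σ j := fun i j h => huniq (σ j) i j (hσ j) h
  have hinv : ∀ j, σ (σ j) = j := fun j => (huniq' j (σ j) (hsymm _ _ (hσ j))).symm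
  have hequiv : ∀ τ ∈ G, ∀ j, τ (σ j) = σ (τ j) := fun τ hτ j => huniq' _ _ (hG τ hτ _ _ (hσ j))
  by_cases hfix : ∃ j₀, σ j₀ = j₀
  · obtain ⟨j₀, hj₀⟩ := hfix
    have hall : ∀ j, σ j = j := by
      intro j
      obtain ⟨τ, hτ, rfl⟩ := htr j₀ j
      rw [← hequiv τ hτ, hj₀]
    intro i j h
    rw [huniq' i j h, hall]
  · rw [not_exists] at hfix
    exfalso
    have hev : Even t := by
      let π : Equiv.Perm (Fin t) := Function.Involutive.toPerm σ hinv
      have hπ : ∀ j, π j = σ j := fun j => rfl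
      have h2 : π ^ 2 = 1 := by
        apply Equiv.ext
        intro j
        rw [pow_two, Equiv.Perm.mul_apply, hπ, hπ, hinv, Equiv.Perm.one_apply]
      have h3 := Equiv.Perm.two_dvd_card_support h2
      have hsupp : π.support = Finset.univ := by
        apply Finset.eq_univ_iff_forall.mpr
        intro j
        rw [Equiv.Perm.mem_support, hπ]
        exact hfix j
      rw [hsupp, Finset.card_univ, Fintype.card_fin] at h3
      exact even_iff_two_dvd.mpr h3
    exact (Nat.not_even_iff_odd.mpr hodd) hev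

end core

/-! ### Assembly -/

section assembly

theorem toLin'_gl_injective (h : GL (Fin n) F) :
    Function.Injective (Matrix.toLin' (h : Matrix (Fin n) (Fin n) F)) := by
  apply Function.LeftInverse.injective (g := Matrix.toLin' ((h⁻¹ : GL (Fin n) F) : Matrix (Fin n) (Fin n) F))
  intro v
  rw [Matrix.toLin'_apply, Matrix.toLin'_apply, Matrix.mulVec_mulVec, ← Units.val_mul, inv_mul_cancel,
    Units.val_one, Matrix.one_mulVec]

/-- an isometry mapping `W` onto `W'` makes them isometric -/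
theorem areIsometricFor_of_map {Q : (Fin n → F) → F} {h : GL (Fin n) F} (hh : h ∈ isometryGroup F Q)
    {W W' : Submodule F (Fin n → F)}
    (hmap : W.map (Matrix.toLin' (h : Matrix (Fin n) (Fin n) F)) = W') : AreIsometricFor Q W W' := by
  refine ⟨(Submodule.equivMapOfInjective _ (toLin'_gl_injective h) W).trans (LinearEquiv.ofEq _ _ hmap),
    fun w => ?_⟩
  rw [LinearEquiv.trans_apply, LinearEquiv.coe_ofEq_apply, Submodule.coe_equivMapOfInjective_apply,
    Matrix.toLin'_apply]
  exact mem_isometryGroup_apply hh _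

theorem finrank_eq_of_areIsometricFor {Q : (Fin n → F) → F} {W W' : Submodule F (Fin n → F)}
    (h : AreIsometricFor Q W W') : Module.finrank F W = Module.finrank F W' := by
  obtain ⟨e, _⟩ := h
  exact e.finrank_eq

theorem mul_eq_of_decomp {t m : ℕ} (D : Fin t → Submodule F (Fin n → F))
    (hind : iSupIndep D) (htop : iSup D = ⊤) (hfin : ∀ i, Module.finrank F (D i) = m) : t * m = n := by
  classical
  have hint : DirectSum.IsInternal D :=
    DirectSum.isInternal_submodule_of_iSupIndep_of_iSup_eq_top hind htop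
  have h1 : Module.finrank F (Fin n → F) = ∑ i, Module.finrank F (D i) := by
    have e := LinearEquiv.ofBijective (DirectSum.coeLinearMap D) hint
    rw [← e.finrank_eq, Module.finrank_directSum]
  simp only [hfin, Finset.sum_const, Finset.card_univ, Fintype.card_fin, smul_eq_mul,
    Module.finrank_fintype_fun_eq_card] at h1
  exact h1.symm

end assembly

end Cfsg.Agent.Lib.Helper51.AschOPerp

namespace Cfsg.Agent.Lib.Helper5.AschO

open Cfsg Cfsg.Geo Cfsg.Agent.Lib.Helper99.Asch Cfsg.Agent.Lib.Helper51.AschOPerp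
open scoped MatrixGroups Matrix Kronecker

variable {n : ℕ} {F : Type*} [Field F] [Fintype F]

/-- ASCHO-[PERP] -/
theorem orthogonal_of_components {Q : (Fin n → F) → F} {H : Subgroup (GL (Fin n) F)} (hS : OSetup Q H)
    (N : Subgroup (GL (Fin n) F)) (hNle : N ≤ H ⊔ scalars (Fin n) F)
    (t : ℕ) (D : Fin t → Submodule F (Fin n → F)) (ht : 2 ≤ t) (hne : ∀ i, D i ≠ ⊥)
    (hind : iSupIndep D) (htop : iSup D = ⊤)
    (hperm : ∀ h ∈ H, ∃ σ : Equiv.Perm (Fin t), ∀ i,
        (D i).map (Matrix.toLin' (h : Matrix (Fin n) (Fin n) F)) = D (σ i))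
    (htrans : ∀ i j, ∃ h ∈ H, (D i).map (Matrix.toLin' (h : Matrix (Fin n) (Fin n) F)) = D j)
    (hcomm : ∀ c ∈ commutant N, ∀ i, (D i).map (Matrix.toLin' c) ≤ D i)
    (hN : ∀ x ∈ N, ∀ i, (D i).map (Matrix.toLin' (x : Matrix (Fin n) (Fin n) F)) ≤ D i)
    (hfield : ∀ c ∈ commutantCenter N, ∀ i,
        (∀ v ∈ D i, c *ᵥ v = 0) ∨ (∀ v ∈ D i, c *ᵥ v = 0 → v = 0)) :
    ∃ k : ℕ, IsOrthogonalMDecomposition Q k D := by
  have hb : IsBilinearForm (QuadraticMap.polar Q) := hS.nondeg.polar_bilinear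
  have hnd : IsNondegenerateForm (QuadraticMap.polar Q) := hS.nondeg.nondegenerate
  have hs : ∀ u v, QuadraticMap.polar Q u v = QuadraticMap.polar Q v u := QuadraticMap.polar_comm Q
  have hNs : N ≤ similarityGroup (QuadraticMap.polar Q) :=
    hNle.trans (sup_le (hS.le.trans isometryGroup_le_similarity) (scalars_le_similarity hb))
  -- the members are pairwise isometric
  have hiso : ∀ i j, AreIsometricFor Q (D i) (D j) := by
    intro i j
    obtain ⟨h, hh, hmap⟩ := htrans i j
    exact areIsometricFor_of_map (hS.le hh) hmap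
  let i₀ : Fin t := ⟨0, by omega⟩
  have hfin : ∀ i, Module.finrank F (D i) = Module.finrank F (D i₀) :=
    fun i => finrank_eq_of_areIsometricFor (hiso i i₀)
  have hmul : t * Module.finrank F (D i₀) = n := mul_eq_of_decomp D hind htop hfin
  have hoddt : Odd t := by
    have h := hS.odd_dim
    rw [← hmul] at h
    exact (Nat.odd_mul.mp h).1
  have hinj : Function.Injective D := hind.injective hne
  -- the relation `¬ D i ⊥ D j`
  have hperp : ∀ i j, i ≠ j → ∀ u ∈ D i, ∀ v ∈ D j, QuadraticMap.polar Q u v = 0 := by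
    intro i j hij u hu v hv
    by_contra hne0
    apply hij
    refine rel_eq_of_odd (fun i j => ∃ u ∈ D i, ∃ v ∈ D j, QuadraticMap.polar Q u v ≠ 0) ?_ ?_ ?_
      {τ | ∃ h ∈ H, ∀ i, (D i).map (Matrix.toLin' (h : Matrix (Fin n) (Fin n) F)) = D (τ i)} ?_ ?_ hoddt
      i j ⟨u, hu, v, hv, hne0⟩
    · rintro i j ⟨u, hu, v, hv, h⟩
      exact ⟨v, hv, u, hu, by rwa [hs]⟩
    · rintro i l j ⟨u, hu, v, hv, h⟩ ⟨u', hu', v', hv', h'⟩
      by_contra hli
      rcases dichotomy hb hs hnd hNs hind htop hcomm hN hfield i j with hd | hd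
      · exact h (hd u hu v hv)
      · exact h' (hd l hli u' hu' v' hv')
    · intro j
      by_contra hno
      rw [not_exists] at hno
      obtain ⟨v, hv, hv0⟩ := Submodule.exists_mem_ne_zero_of_ne_bot (hne j)
      obtain ⟨x, hx⟩ := (hnd v hv0).1
      apply hx
      have hxtop : x ∈ ⨆ i, D i := by rw [htop]; trivial
      refine Submodule.iSup_induction D (motive := fun x => QuadraticMap.polar Q x v = 0) hxtop ?_ ?_ ?_
      · intro i u hu
        by_contra h0
        exact hno i ⟨u, hu, v, hv, h0⟩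
      · exact form_zero_left hb v
      · intro a b ha hb'
        rw [hb.add_left, ha, hb', add_zero]
    · rintro τ ⟨h, hh, hτ⟩ i j ⟨u, hu, v, hv, h0⟩
      refine ⟨(h : Matrix (Fin n) (Fin n) F) *ᵥ u, ?_, (h : Matrix (Fin n) (Fin n) F) *ᵥ v, ?_, ?_⟩
      · rw [← hτ i]
        exact ⟨u, hu, by rw [Matrix.toLin'_apply]⟩
      · rw [← hτ j]
        exact ⟨v, hv, by rw [Matrix.toLin'_apply]⟩
      · rwa [polar_map_of_mem (hS.le hh)]
    · intro i j
      obtain ⟨h, hh, hmap⟩ := htrans i j
      obtain ⟨τ, hτ⟩ := hperm h hh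
      refine ⟨τ, ⟨h, hh, hτ⟩, hinj ?_⟩
      rw [← hτ i, hmap]
  refine ⟨Module.finrank F (D i₀), ⟨⟨⟨ht, ?_, hfin, hind, htop⟩, ?_, ?_⟩, hiso⟩⟩
  · rw [Nat.pos_iff_ne_zero]
    intro h0
    exact hne i₀ (Submodule.finrank_eq_zero.mp h0)
  · -- non-degenerate on each member
    intro i w hw hw0
    have key : ∃ x ∈ D i, QuadraticMap.polar Q x w ≠ 0 := by
      by_contra hno
      obtain ⟨x, hx⟩ := (hnd w hw0).1
      apply hx
      have hxtop : x ∈ ⨆ i, D i := by rw [htop]; trivial
      refine Submodule.iSup_induction D (motive := fun x => QuadraticMap.polar Q x w = 0) hxtop ?_ ?_ ?_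
      · intro l u hu
        by_cases hl : l = i
        · subst hl
          by_contra h0
          exact hno ⟨u, hu, h0⟩
        · exact hperp l i hl u hu w hw
      · exact form_zero_left hb w
      · intro a b ha hb'
        rw [hb.add_left, ha, hb', add_zero]
    obtain ⟨x, hx, hx0⟩ := key
    exact ⟨⟨x, hx, hx0⟩, ⟨x, hx, by rwa [hs]⟩⟩
  · intro i j hij u hu v hv
    exact hperp i j hij u hu v hv

end Cfsg.Agent.Lib.Helper5.AschO
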