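import Mathlib
import Cfsg.Prelude.Def_GeometricClasses
import Cfsg.Agent.Lib.Helper99.AschDefs
import Cfsg.Agent.Lib.Helper5.AschODefs
import Cfsg.Agent.Lib.Helper51.AschOPerp

/-!
# ASCHO-[TFORM]  (project ASCHO of helper5, S5673)

If `N ≤ H · Z` is in tensor normal form `W ⊗ 1` (with `W` absolutely irreducible of dimension `d`), then
the Gram matrix of the polar form in tensor coordinates is a Kronecker product `J₁ ⊗ J₂` of two
invertible symmetric matrices.
-/

set_option autoImplicit false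

namespace Cfsg.Agent.Lib.Helper51.AschOTform

open Cfsg Cfsg.Geo Cfsg.Agent.Lib.Helper99.Asch Cfsg.Agent.Lib.Helper5.AschO
open scoped MatrixGroups Matrix Kronecker

variable {F : Type*} [Field F] {d e : ℕ}

/-! ### Blocks of a matrix indexed by `Fin d × Fin e` -/

/-- the `(m, m')` block -/
def blk (Γ : Matrix (Fin d × Fin e) (Fin d × Fin e) F) (m m' : Fin e) : Matrix (Fin d) (Fin d) F :=
  fun k k' => Γ (k, m) (k', m')

theorem blk_conj (Γ : Matrix (Fin d × Fin e) (Fin d × Fin e) F) (a : Matrix (Fin d) (Fin d) F)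
    (m m' : Fin e) :
    blk ((a ⊗ₖ (1 : Matrix (Fin e) (Fin e) F))ᵀ * Γ * (a ⊗ₖ (1 : Matrix (Fin e) (Fin e) F))) m m' =
      aᵀ * blk Γ m m' * a := by
  ext k k'
  simp only [blk, Matrix.mul_apply, Matrix.transpose_apply, Matrix.kroneckerMap_apply, Matrix.one_apply,
    Fintype.sum_prod_type, mul_ite, ite_mul, mul_one, mul_zero, zero_mul, Finset.sum_ite_eq',
    Finset.mem_univ, if_true]

theorem blk_smul (c : F) (Γ : Matrix (Fin d × Fin e) (Fin d × Fin e) F) (m m' : Fin e) :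
    blk (c • Γ) m m' = c • blk Γ m m' := rfl

omit [Field F] in
theorem blk_transpose {Γ : Matrix (Fin d × Fin e) (Fin d × Fin e) F} (hΓ : Γᵀ = Γ) (m m' : Fin e) :
    (blk Γ m m')ᵀ = blk Γ m' m := by
  ext k k'
  show Γ (k', m) (k, m') = Γ (k, m') (k', m)
  conv_lhs => rw [← hΓ]
  rfl

theorem isUnit_transpose_iff {ι : Type*} [Fintype ι] [DecidableEq ι] {A : Matrix ι ι F} :
    IsUnit Aᵀ ↔ IsUnit A := by
  rw [Matrix.isUnit_iff_isUnit_det, Matrix.isUnit_iff_isUnit_det, Matrix.det_transpose]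

theorem mulVec_eq_zero_of_isUnit {ι : Type*} [Fintype ι] [DecidableEq ι] {A : Matrix ι ι F}
    (hA : IsUnit A) {w : ι → F} (hw : A *ᵥ w = 0) : w = 0 := by
  apply Matrix.mulVec_injective_iff_isUnit.mpr hA
  rw [hw, Matrix.mulVec_zero]

/-- the Kronecker decomposition of a symmetric invertible matrix semi-invariant under `s ⊗ 1`,
`s` in an absolutely irreducible set, in odd dimension `d` -/
theorem kron_decomp (hd : Odd d) (h2 : (2 : F) ≠ 0) (he : 0 < e)
    (Γ : Matrix (Fin d × Fin e) (Fin d × Fin e) F) (hΓT : Γᵀ = Γ) (hΓu : IsUnit Γ)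
    (A : Set (Matrix (Fin d) (Fin d) F)) (hA : ActsAbsolutelyIrreducibly A)
    (hsim : ∀ s ∈ A, IsUnit s ∧ ∃ lam : F,
      (s ⊗ₖ (1 : Matrix (Fin e) (Fin e) F))ᵀ * Γ * (s ⊗ₖ (1 : Matrix (Fin e) (Fin e) F)) = lam • Γ) :
    ∃ (J₁ : Matrix (Fin d) (Fin d) F) (J₂ : Matrix (Fin e) (Fin e) F),
      J₁ᵀ = J₁ ∧ J₂ᵀ = J₂ ∧ IsUnit J₁ ∧ IsUnit J₂ ∧ Γ = J₁ ⊗ₖ J₂ := by
  have hdpos : 0 < d := hd.pos
  have hnonempty : Nonempty (Fin d × Fin e) := ⟨(⟨0, hdpos⟩, ⟨0, he⟩)⟩
  have hΓdet : IsUnit Γ.det := (Matrix.isUnit_iff_isUnit_det _).mp hΓu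
  have hΓne : Γ ≠ 0 := by
    intro h0
    rw [h0, Matrix.det_zero] at hΓdet
    exact not_isUnit_zero hΓdet
  -- a non-zero block
  obtain ⟨l, l', hll⟩ : ∃ l l', blk Γ l l' ≠ 0 := by
    by_contra hno
    apply hΓne
    ext ⟨k, m⟩ ⟨k', m'⟩
    by_contra h0
    apply hno
    refine ⟨m, m', fun hz => h0 ?_⟩
    have := congrFun (congrFun hz k) k'
    exact this
  -- semi-invariance of the blocks
  have hblk : ∀ s ∈ A, IsUnit s ∧ ∃ lam : F, ∀ m m', sᵀ * blk Γ m m' * s = lam • blk Γ m m' := by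
    intro s hs
    obtain ⟨hsu, lam, hlam⟩ := hsim s hs
    refine ⟨hsu, lam, fun m m' => ?_⟩
    rw [← blk_conj, hlam, blk_smul]
  set J₁ := blk Γ l l' with hJ₁
  -- `J₁` is invertible
  have hJ₁u : IsUnit J₁ := by
    have hinv : ∀ s ∈ A, (LinearMap.ker (Matrix.toLin' J₁ᵀ)).map (Matrix.toLin' s) ≤
        LinearMap.ker (Matrix.toLin' J₁ᵀ) := by
      rintro s hs _ ⟨u, hu, rfl⟩
      have hu : u ∈ LinearMap.ker (Matrix.toLin' J₁ᵀ) := hu
      rw [LinearMap.mem_ker, Matrix.toLin'_apply] at hu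
      rw [LinearMap.mem_ker, Matrix.toLin'_apply, Matrix.toLin'_apply]
      obtain ⟨hsu, lam, hlam⟩ := hblk s hs
      have h1 : sᵀ * J₁ᵀ * s = lam • J₁ᵀ := by
        have := congrArg Matrix.transpose (hlam l l')
        rw [Matrix.transpose_mul, Matrix.transpose_mul, Matrix.transpose_transpose, Matrix.transpose_smul,
          ← Matrix.mul_assoc] at this
        exact this
      apply mulVec_eq_zero_of_isUnit (isUnit_transpose_iff.mpr hsu)
      rw [Matrix.mulVec_mulVec, Matrix.mulVec_mulVec, h1, Matrix.smul_mulVec, hu, smul_zero]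
    rcases hA.1 _ hinv with h | h
    · rw [LinearMap.ker_eq_bot] at h
      rw [← isUnit_transpose_iff, ← Matrix.mulVec_injective_iff_isUnit]
      intro u v huv
      apply h
      rw [Matrix.toLin'_apply, Matrix.toLin'_apply]
      exact huv
    · exfalso
      apply hll
      rw [LinearMap.ker_eq_top] at h
      have h0 : J₁ᵀ = 0 := by
        apply Matrix.toLin'.injective
        rw [h, map_zero]
      have := congrArg Matrix.transpose h0
      rwa [Matrix.transpose_transpose, Matrix.transpose_zero] at this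
  have hJ₁det : IsUnit J₁.det := (Matrix.isUnit_iff_isUnit_det _).mp hJ₁u
  -- every block is a multiple of `J₁`
  have hmult : ∀ m m', ∃ c : F, blk Γ m m' = c • J₁ := by
    intro m m'
    set M := J₁⁻¹ * blk Γ m m' with hM
    have hJM : J₁ * M = blk Γ m m' := by
      rw [hM, Matrix.mul_nonsing_inv_cancel_left _ _ hJ₁det]
    have hcomm : ∀ s ∈ A, M * s = s * M := by
      intro s hs
      obtain ⟨hsu, lam, hlam⟩ := hblk s hs
      have hunit : IsUnit (sᵀ * J₁) := (isUnit_transpose_iff.mpr hsu).mul hJ₁u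
      apply hunit.mul_left_cancel
      have e1 : sᵀ * J₁ * (M * s) = lam • blk Γ m m' := by
        rw [← Matrix.mul_assoc, Matrix.mul_assoc sᵀ J₁ M, hJM, hlam m m']
      have e2 : sᵀ * J₁ * (s * M) = lam • blk Γ m m' := by
        rw [← Matrix.mul_assoc, hlam l l', Matrix.smul_mul, hJM]
      rw [e1, e2]
    obtain ⟨c, hc⟩ := hA.2 M hcomm
    refine ⟨c, ?_⟩
    rw [← hJM, hc, Matrix.mul_smul, Matrix.mul_one]
  choose c hc using hmult
  have hJ₁ne : J₁ ≠ 0 := hll
  have hcinj : ∀ a b : F, a • J₁ = b • J₁ → a = b := fun a b h => smul_left_injective F hJ₁ne h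
  -- `J₁` is symmetric
  have hJ₁T : J₁ᵀ = J₁ := by
    have h1 : J₁ᵀ = c l' l • J₁ := by rw [hJ₁, blk_transpose hΓT, hc]
    have h2' : J₁ = (c l' l * c l' l) • J₁ := by
      have := congrArg Matrix.transpose h1
      rw [Matrix.transpose_transpose, Matrix.transpose_smul, h1, smul_smul] at this
      exact this
    have hsq : c l' l * c l' l = 1 := by
      apply hcinj
      rw [one_smul]
      exact h2'.symm
    rcases mul_self_eq_one_iff.mp hsq with h | h
    · rw [h1, h, one_smul]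
    · exfalso
      rw [h, neg_smul, one_smul] at h1
      have hdet : J₁.det = - J₁.det := by
        conv_lhs => rw [← Matrix.det_transpose, h1, Matrix.det_neg, Fintype.card_fin, hd.neg_one_pow]
        ring
      have h0 : (2 : F) * J₁.det = 0 := by linear_combination hdet
      rcases mul_eq_zero.mp h0 with h | h
      · exact h2 h
      · rw [h] at hJ₁det
        exact not_isUnit_zero hJ₁det
  -- the matrix of the constants is symmetric
  have hcsymm : ∀ m m', c m m' = c m' m := by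
    intro m m'
    apply hcinj
    have := blk_transpose hΓT m m'
    rw [hc m m', hc m' m, Matrix.transpose_smul, hJ₁T] at this
    exact this
  have hΓeq : Γ = J₁ ⊗ₖ (Matrix.of c) := by
    ext ⟨k, m⟩ ⟨k', m'⟩
    rw [Matrix.kroneckerMap_apply, Matrix.of_apply]
    have := congrFun (congrFun (hc m m') k) k'
    rw [Matrix.smul_apply, smul_eq_mul, mul_comm] at this
    exact this
  refine ⟨J₁, Matrix.of c, hJ₁T, ?_, hJ₁u, ?_, hΓeq⟩
  · ext m m'
    rw [Matrix.transpose_apply, Matrix.of_apply, Matrix.of_apply, hcsymm]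
  · rw [Matrix.isUnit_iff_isUnit_det]
    rw [hΓeq, Matrix.det_kronecker] at hΓdet
    rw [isUnit_iff_ne_zero] at hΓdet ⊢
    intro h0
    apply hΓdet
    rw [h0, Fintype.card_fin, Fintype.card_fin, zero_pow hdpos.ne', mul_zero]

/-! ### Forms given by matrices -/

/-- the bilinear form with matrix `J` -/
def dotForm {m : ℕ} (J : Matrix (Fin m) (Fin m) F) (u v : Fin m → F) : F := u ⬝ᵥ J *ᵥ v

theorem dotForm_bilinear {m : ℕ} (J : Matrix (Fin m) (Fin m) F) : IsBilinearForm (dotForm J) where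
  add_left x y v := by unfold dotForm; rw [add_dotProduct]
  smul_left c x v := by unfold dotForm; rw [smul_dotProduct, smul_eq_mul]
  add_right v x y := by unfold dotForm; rw [Matrix.mulVec_add, dotProduct_add]
  smul_right c v x := by unfold dotForm; rw [Matrix.mulVec_smul, dotProduct_smul, smul_eq_mul]

theorem gramMatrix_dotForm {m : ℕ} (J : Matrix (Fin m) (Fin m) F) : gramMatrix (dotForm J) = J := by
  ext a b
  simp [gramMatrix, dotForm]

theorem dotForm_comm {m : ℕ} {J : Matrix (Fin m) (Fin m) F} (hJ : Jᵀ = J) (u v : Fin m → F) :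
    dotForm J u v = dotForm J v u := by
  unfold dotForm
  rw [Matrix.dotProduct_mulVec, ← Matrix.mulVec_transpose, hJ, dotProduct_comm]

theorem dotForm_symmetric {m : ℕ} {J : Matrix (Fin m) (Fin m) F} (hJ : Jᵀ = J) (hu : IsUnit J) :
    IsSymmetricForm (dotForm J) where
  bilinear := dotForm_bilinear J
  symm := dotForm_comm hJ
  nondegenerate := by
    intro v hv
    have key : ∃ x, dotForm J x v ≠ 0 := by
      have hJv : J *ᵥ v ≠ 0 := fun h0 => hv (mulVec_eq_zero_of_isUnit hu h0)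
      obtain ⟨a, ha⟩ : ∃ a, (J *ᵥ v) a ≠ 0 := by
        by_contra hno
        rw [not_exists] at hno
        apply hJv
        ext a
        by_contra h0
        exact hno a h0
      refine ⟨Pi.single a 1, ?_⟩
      unfold dotForm
      rw [single_dotProduct, one_mul]
      exact ha
    obtain ⟨x, hx⟩ := key
    exact ⟨⟨x, hx⟩, ⟨x, by rwa [dotForm_comm hJ]⟩⟩

section gram

variable {n : ℕ} {f : (Fin n → F) → (Fin n → F) → F}

theorem gram_transpose (hs : ∀ u v, f u v = f v u) : (gramMatrix f)ᵀ = gramMatrix f := by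
  ext a b
  exact hs _ _

theorem eq_of_forall_dot {M M' : Matrix (Fin n) (Fin n) F}
    (h : ∀ u v : Fin n → F, u ⬝ᵥ M *ᵥ v = u ⬝ᵥ M' *ᵥ v) : M = M' := by
  ext a b
  have := h (Pi.single a 1) (Pi.single b 1)
  simpa using this

theorem dot_transpose_mul (x : Matrix (Fin n) (Fin n) F) (u w : Fin n → F) :
    u ⬝ᵥ xᵀ *ᵥ w = (x *ᵥ u) ⬝ᵥ w := by
  rw [Matrix.mulVec_transpose, dotProduct_comm, ← Matrix.dotProduct_mulVec, dotProduct_comm]

theorem gram_of_similarity (hb : IsBilinearForm f) {x : Matrix (Fin n) (Fin n) F} {lam : F}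
    (h : ∀ u v, f (x *ᵥ u) (x *ᵥ v) = lam * f u v) :
    xᵀ * gramMatrix f * x = lam • gramMatrix f := by
  apply eq_of_forall_dot
  intro u v
  rw [Matrix.smul_mulVec, dotProduct_smul, smul_eq_mul, ← AschOPerp.form_eq_dot hb, ← h,
    AschOPerp.form_eq_dot hb, ← Matrix.mulVec_mulVec, ← Matrix.mulVec_mulVec, dot_transpose_mul]

end gram

theorem two_ne_zero_of_odd_card [Fintype F] (hodd : Odd (Fintype.card F)) : (2 : F) ≠ 0 := by
  intro h2
  have hchar : ringChar F = 2 := CharP.ringChar_of_prime_eq_zero Nat.prime_two (by exact_mod_cast h2)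
  have := FiniteField.even_card_of_char_two hchar
  rw [Nat.odd_iff] at hodd
  omega

end Cfsg.Agent.Lib.Helper51.AschOTform

namespace Cfsg.Agent.Lib.Helper5.AschO

open Cfsg Cfsg.Geo Cfsg.Agent.Lib.Helper99.Asch Cfsg.Agent.Lib.Helper51.AschOPerp
  Cfsg.Agent.Lib.Helper51.AschOTform
open scoped MatrixGroups Matrix Kronecker

variable {n : ℕ} {F : Type*} [Field F] [Fintype F]

/-- ASCHO-[TFORM] -/
theorem tensorForm_of_tensorNF {Q : (Fin n → F) → F} {H : Subgroup (GL (Fin n) F)} (hS : OSetup Q H)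
    (N : Subgroup (GL (Fin n) F)) (hNle : N ≤ H ⊔ scalars (Fin n) F) (d e : ℕ)
    (idx : Fin n ≃ Fin d × Fin e) (B : GL (Fin n) F) (hNF : TensorNF N d e idx B) :
    ∃ (f₁ : (Fin d → F) → (Fin d → F) → F) (f₂ : (Fin e → F) → (Fin e → F) → F),
      IsSymmetricForm f₁ ∧ IsSymmetricForm f₂ ∧
      IsTensorFormStructure id (QuadraticMap.polar Q) f₁ f₂ idx B⁻¹ := by
  have hb : IsBilinearForm (QuadraticMap.polar Q) := hS.nondeg.polar_bilinear
  have hnd : IsNondegenerateForm (QuadraticMap.polar Q) := hS.nondeg.nondegenerate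
  have hs : ∀ u v, QuadraticMap.polar Q u v = QuadraticMap.polar Q v u := QuadraticMap.polar_comm Q
  have hNs : N ≤ similarityGroup (QuadraticMap.polar Q) :=
    hNle.trans (sup_le (hS.le.trans isometryGroup_le_similarity) (scalars_le_similarity hb))
  have hGu := gram_isUnit hb hnd
  have hGT := gram_transpose hs
  have hcard : d * e = n := by
    have := Fintype.card_congr idx
    simpa using this.symm
  have hdodd : Odd d := by
    have h := hS.odd_dim
    rw [← hcard] at h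
    exact (Nat.odd_mul.mp h).1
  have hepos : 0 < e := by
    rcases Nat.eq_zero_or_pos e with h | h
    · subst h
      have := hS.three_le
      omega
    · exact h
  have h2 := two_ne_zero_of_odd_card hS.odd_card
  set G := gramMatrix (QuadraticMap.polar Q) with hG
  set P : Matrix (Fin n) (Fin n) F := ((B⁻¹ : GL (Fin n) F) : Matrix (Fin n) (Fin n) F) with hP
  have hPB : P * (B : Matrix (Fin n) (Fin n) F) = 1 := by
    rw [hP, ← Units.val_mul, inv_mul_cancel, Units.val_one]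
  set Γ₀ := Pᵀ * G * P with hΓ₀
  set Γ : Matrix (Fin d × Fin e) (Fin d × Fin e) F := Γ₀.submatrix idx.symm idx.symm with hΓ
  have hΓ₀T : Γ₀ᵀ = Γ₀ := by
    rw [hΓ₀, Matrix.transpose_mul, Matrix.transpose_mul, Matrix.transpose_transpose, hGT, Matrix.mul_assoc]
  have hΓT : Γᵀ = Γ := by rw [hΓ, Matrix.transpose_submatrix, hΓ₀T]
  have hΓu : IsUnit Γ := by
    rw [Matrix.isUnit_iff_isUnit_det, hΓ, Matrix.det_submatrix_equiv_self, hΓ₀, Matrix.det_mul, Matrix.det_mul,
      Matrix.det_transpose]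
    have hPu : IsUnit P.det := (Matrix.isUnit_iff_isUnit_det _).mp ⟨B⁻¹, rfl⟩
    exact (hPu.mul ((Matrix.isUnit_iff_isUnit_det _).mp hGu)).mul hPu
  have hΓ₀sub : Γ.submatrix idx idx = Γ₀ := by
    rw [hΓ, Matrix.submatrix_submatrix, Equiv.symm_comp_self, Matrix.submatrix_id_id]
  have hsim : ∀ s ∈ {a : Matrix (Fin d) (Fin d) F | ∃ x ∈ N,
      ((B * x * B⁻¹ : GL (Fin n) F) : Matrix (Fin n) (Fin n) F) =
        Matrix.reindex idx.symm idx.symm (a ⊗ₖ (1 : Matrix (Fin e) (Fin e) F))}, IsUnit s ∧ ∃ lam : F,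
      (s ⊗ₖ (1 : Matrix (Fin e) (Fin e) F))ᵀ * Γ * (s ⊗ₖ (1 : Matrix (Fin e) (Fin e) F)) = lam • Γ := by
    rintro s ⟨x, hx, hxs⟩
    constructor
    · obtain ⟨a, ha⟩ := hNF.1 x hx
      rw [hxs] at ha
      have hsa : s ⊗ₖ (1 : Matrix (Fin e) (Fin e) F) =
          (a : Matrix (Fin d) (Fin d) F) ⊗ₖ (1 : Matrix (Fin e) (Fin e) F) :=
        (Matrix.reindex idx.symm idx.symm).injective ha
      have : s = (a : Matrix (Fin d) (Fin d) F) := by
        ext k k'
        have := congrFun (congrFun hsa (k, ⟨0, hepos⟩)) (k', ⟨0, hepos⟩)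
        simpa [Matrix.kroneckerMap_apply] using this
      rw [this]
      exact ⟨a, rfl⟩
    · obtain ⟨lam, hlam⟩ := hNs hx
      have hgram := gram_of_similarity hb hlam
      refine ⟨(lam : F), ?_⟩
      have hg : (B : Matrix (Fin n) (Fin n) F) * (x : Matrix (Fin n) (Fin n) F) * P =
          (s ⊗ₖ (1 : Matrix (Fin e) (Fin e) F)).submatrix idx idx := by
        rw [hP, ← Units.val_mul, ← Units.val_mul, hxs, Matrix.reindex_apply, Equiv.symm_symm]
      have key : ((B : Matrix (Fin n) (Fin n) F) * (x : Matrix (Fin n) (Fin n) F) * P)ᵀ * Γ₀ *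
          ((B : Matrix (Fin n) (Fin n) F) * (x : Matrix (Fin n) (Fin n) F) * P) = (lam : F) • Γ₀ := by
        calc ((B : Matrix (Fin n) (Fin n) F) * (x : Matrix (Fin n) (Fin n) F) * P)ᵀ * Γ₀ *
              ((B : Matrix (Fin n) (Fin n) F) * (x : Matrix (Fin n) (Fin n) F) * P)
            = Pᵀ * ((x : Matrix (Fin n) (Fin n) F)ᵀ * ((P * (B : Matrix (Fin n) (Fin n) F))ᵀ * G *
                (P * (B : Matrix (Fin n) (Fin n) F))) * (x : Matrix (Fin n) (Fin n) F)) * P := by
              simp only [hΓ₀, Matrix.transpose_mul, Matrix.mul_assoc]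
          _ = Pᵀ * ((x : Matrix (Fin n) (Fin n) F)ᵀ * G * (x : Matrix (Fin n) (Fin n) F)) * P := by
              rw [hPB, Matrix.transpose_one, Matrix.one_mul, Matrix.mul_one]
          _ = (lam : F) • Γ₀ := by
              rw [hgram, Matrix.mul_smul, Matrix.smul_mul]
      rw [hg, ← hΓ₀sub, Matrix.transpose_submatrix, Matrix.submatrix_mul_equiv,
        Matrix.submatrix_mul_equiv] at key
      ext a b
      have := congrFun (congrFun key (idx.symm a)) (idx.symm b)
      simp only [Matrix.submatrix_apply, Matrix.smul_apply, Equiv.apply_symm_apply] at this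
      exact this
  obtain ⟨J₁, J₂, hJ₁T, hJ₂T, hJ₁u, hJ₂u, hΓeq⟩ := kron_decomp hdodd h2 hepos Γ hΓT hΓu _ hNF.2 hsim
  refine ⟨dotForm J₁, dotForm J₂, dotForm_symmetric hJ₁T hJ₁u, dotForm_symmetric hJ₂T hJ₂u, 1,
    one_ne_zero, fun X Y => ?_⟩
  rw [gramMatrix_dotForm, gramMatrix_dotForm, ← hΓeq, one_mul, form_eq_dot hb, ← dot_transpose_mul,
    Matrix.mulVec_mulVec, Matrix.mulVec_mulVec]
  show (X ∘ idx) ⬝ᵥ Γ₀ *ᵥ (Y ∘ idx) = _
  unfold formOfGram
  simp only [dotProduct, Matrix.mulVec, Function.comp_apply, id]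
  rw [← Equiv.sum_comp idx]
  apply Finset.sum_congr rfl
  intro i _
  rw [← Equiv.sum_comp idx, Finset.mul_sum]
  apply Finset.sum_congr rfl
  intro j _
  rw [hΓ, Matrix.submatrix_apply, Equiv.symm_apply_apply, Equiv.symm_apply_apply, mul_assoc]

end Cfsg.Agent.Lib.Helper5.AschO
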