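import Cfsg.Agent.Lib.Helper92.BPChar
import Cfsg.Agent.Lib.Helper40.BPConj
import Cfsg.Prelude.Def_Characters

/-!
# PROJECT BP (coordinator helper92), modules BP-[L3-EV] + BP-[L3-MVN] (helper51)

Linearity of `ev χ`, its value on group elements, the trace-form property for class functions and
the derived invariance statements for `evAt`.
-/

set_option autoImplicit false
set_option linter.unusedSectionVars false

namespace Cfsg.Agent.Lib.Helper51.BP

open Cfsg.Agent.Lib.Helper92.BP Cfsg.Agent.Lib.Helper40.BP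

variable {R : Type*} [CommRing R] [Algebra R ℂ] {G : Type*} [Group G]

theorem ev_add (χ : G → ℂ) (a b : MonoidAlgebra R G) : ev χ (a + b) = ev χ a + ev χ b := by
  unfold ev
  rw [MonoidAlgebra.coeff_add]
  exact Finsupp.sum_add_index' (fun g => by rw [map_zero, zero_mul])
    (fun g r s => by rw [map_add, add_mul])

theorem ev_zero (χ : G → ℂ) : ev χ (0 : MonoidAlgebra R G) = 0 := by
  unfold ev
  rw [MonoidAlgebra.coeff_zero]
  exact Finsupp.sum_zero_index

theorem ev_single (χ : G → ℂ) (g : G) (r : R) :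
    ev χ (MonoidAlgebra.single g r) = algebraMap R ℂ r * χ g := by
  unfold ev
  rw [MonoidAlgebra.coeff_single]
  exact Finsupp.sum_single_index (by rw [map_zero, zero_mul])

theorem ev_smul (χ : G → ℂ) (r : R) (a : MonoidAlgebra R G) :
    ev χ (r • a) = algebraMap R ℂ r * ev χ a := by
  induction a using MonoidAlgebra.induction_linear with
  | zero => rw [smul_zero, ev_zero, mul_zero]
  | add x y hx hy => rw [smul_add, ev_add, ev_add, hx, hy, mul_add]
  | single m s =>
    rw [MonoidAlgebra.smul_single, ev_single, ev_single, smul_eq_mul, map_mul, mul_assoc]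

/-- `ev χ` as an additive map. -/
noncomputable def evHom (χ : G → ℂ) : MonoidAlgebra R G →+ ℂ where
  toFun := ev χ
  map_zero' := ev_zero χ
  map_add' := ev_add χ

theorem ev_sum {ι : Type*} (s : Finset ι) (χ : G → ℂ) (a : ι → MonoidAlgebra R G) :
    ev χ (∑ i ∈ s, a i) = ∑ i ∈ s, ev χ (a i) :=
  map_sum (evHom (R := R) χ) a s

theorem ev_of (χ : G → ℂ) (g : G) : ev χ (MonoidAlgebra.of R G g) = χ g := by
  rw [MonoidAlgebra.of_apply, ev_single, map_one, one_mul]

theorem ev_eq_sum [Fintype G] (χ : G → ℂ) (a : MonoidAlgebra R G) :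
    ev χ a = ∑ g : G, algebraMap R ℂ (a.coeff g) * χ g := by
  unfold ev
  exact Finsupp.sum_fintype _ _ (fun g => by rw [map_zero, zero_mul])

theorem ev_add_fun (χ ψ : G → ℂ) (a : MonoidAlgebra R G) :
    ev (χ + ψ) a = ev χ a + ev ψ a := by
  unfold ev
  rw [← Finsupp.sum_add]
  refine Finsupp.sum_congr fun g _ => ?_
  rw [Pi.add_apply, mul_add]

theorem ev_smul_fun (z : ℂ) (χ : G → ℂ) (a : MonoidAlgebra R G) :
    ev (z • χ) a = z * ev χ a := by
  unfold ev
  rw [Finsupp.mul_sum]
  refine Finsupp.sum_congr fun g _ => ?_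
  rw [Pi.smul_apply, smul_eq_mul]
  ring

theorem evAt_eq (χ : G → ℂ) (u : G) (a : MonoidAlgebra R G) :
    evAt χ u a = ev χ (MonoidAlgebra.of R G u * a) := by
  unfold evAt
  induction a using MonoidAlgebra.induction_linear with
  | zero => rw [mul_zero, ev_zero, ev_zero]
  | add x y hx hy => rw [mul_add, ev_add, ev_add, hx, hy]
  | single m s =>
    rw [MonoidAlgebra.of_apply, MonoidAlgebra.single_mul_single, ev_single, ev_single, one_mul]

theorem ev_mul_comm [Finite G] (χ : G → ℂ) (hχ : Cfsg.IsClassFunction G χ)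
    (a b : MonoidAlgebra R G) : ev χ (a * b) = ev χ (b * a) := by
  induction a using MonoidAlgebra.induction_linear with
  | zero => rw [zero_mul, mul_zero]
  | add x y hx hy => rw [add_mul, mul_add, ev_add, ev_add, hx, hy]
  | single g r =>
    induction b using MonoidAlgebra.induction_linear with
    | zero => rw [zero_mul, mul_zero]
    | add x y hx hy => rw [add_mul, mul_add, ev_add, ev_add, hx, hy]
    | single h s =>
      rw [MonoidAlgebra.single_mul_single, MonoidAlgebra.single_mul_single, ev_single, ev_single,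
        mul_comm r s]
      congr 1
      have := hχ (g * h) h
      rw [← this]
      congr 1
      group

theorem ev_conj [Finite G] (χ : G → ℂ) (hχ : Cfsg.IsClassFunction G χ) (g : G)
    (a : MonoidAlgebra R G) : ev χ (conj R g a) = ev χ a := by
  unfold conj
  rw [ev_mul_comm χ hχ, ← mul_assoc, of_inv_mul_of, one_mul]

theorem evAt_conj [Finite G] (χ : G → ℂ) (hχ : Cfsg.IsClassFunction G χ) (g u : G)
    (a : MonoidAlgebra R G) : evAt χ (g * u * g⁻¹) (conj R g a) = evAt χ u a := by
  rw [evAt_eq, evAt_eq, ← conj_of, ← Cfsg.Agent.Lib.Helper40.BP.conj_mul, ev_conj χ hχ]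

theorem evAt_mul_comm [Finite G] (χ : G → ℂ) (hχ : Cfsg.IsClassFunction G χ) (u : G)
    (x y : MonoidAlgebra R G)
    (hy : MonoidAlgebra.of R G u * y = y * MonoidAlgebra.of R G u) :
    evAt χ u (x * y) = evAt χ u (y * x) := by
  rw [evAt_eq, evAt_eq, ← mul_assoc, ev_mul_comm χ hχ, ← mul_assoc, ← hy, mul_assoc]

end Cfsg.Agent.Lib.Helper51.BP
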