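/-
helper51: Peterfalvi (10.2)-type subcoherence of `calS M` for the Dade isometry `tauM M`
(module PF10-[SUBCOH]), part A: hypotheses, basic facts, the irreducible members.
-/
import Mathlib
import Cfsg.Agent.Lib.Helper24.PFCycCtx
import Cfsg.Agent.Lib.Helper74.PFTwelveA
import Cfsg.Agent.Lib.Helper3.Dade
import Cfsg.Agent.Lib.Helper51.PFCycMuInd
import Cfsg.Agent.Lib.Helper51.PFCycMuIrr
import Cfsg.Agent.Lib.Helper51.PFCycCalS
import Cfsg.Agent.Lib.Helper51.PFCycIndGen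
import Cfsg.Agent.Lib.Helper25.PFCycEta
import Cfsg.Agent.Lib.Helper64.SibleyTwist
import Cfsg.Agent.Lib.Helper81.IrrTwist
import Cfsg.Agent.S0148
import Cfsg.Agent.S1518

set_option autoImplicit false
set_option linter.unusedVariables false
set_option linter.unusedSectionVars false

namespace Cfsg.Agent.Lib.Helper51.PF10

open Cfsg Cfsg.Agent.Lib.Helper24.PFCyc Cfsg.Agent.Lib.Helper4.PF Cfsg.Agent.Lib.Helper26
open Cfsg.Agent.Lib.Helper51.PFCyc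
open scoped ComplexConjugate

universe u

variable {G : Type u} [Group G] [Fintype G] {M W₁ U W₂ : Subgroup G} [Fintype M]
  {mu : WChar W₁ W₂ → (↥M → ℂ)} {dl : WChar W₁ W₂ → ℂ} {η : WChar W₁ W₂ → (G → ℂ)}

/-- The hypotheses of the subcoherence of `calS M` (no `ζ`, no `τ₁`, no primality). -/
structure SubHyp (M W₁ U W₂ : Subgroup G) [Fintype M] (mu : WChar W₁ W₂ → (↥M → ℂ))
    (dl : WChar W₁ W₂ → ℂ) (η : WChar W₁ W₂ → (G → ℂ)) : Prop where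
  hP : IsTypePWith M W₁ U W₂
  hodd : Odd (Nat.card M)
  hD : DadeHypothesis (litA0 M) M (supportR M)
  md : MuData M W₁ W₂ mu dl
  hη : IsCyclicTIFamily W₁ W₂ η
  /-- [LITA] -/
  hA : litA M = ((⁅M, M⁆ : Subgroup G) : Set G) \ {1}
  /-- [LITA0] -/
  hA0 : ∀ w ∈ W₁ ⊔ W₂, w ∉ W₁ → w ∉ W₂ → ∀ m ∈ M, m * w * m⁻¹ ∈ litA0 M ∧
      supportR M (m * w * m⁻¹) = ⊥
  /-- [B2] -/
  musub : ∀ ψ ψ' : WChar W₁ W₂, TrivOn W₁ ψ → TrivOn W₁ ψ' → ψ ≠ 1 → ψ' ≠ 1 → ψ ≠ ψ' →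
    tauM M (muSum mu ψ - muSum mu ψ') = dl ψ • (etaSum η ψ - etaSum η ψ')

theorem SubHyp.hWM (h : SubHyp M W₁ U W₂ mu dl η) : W₁ ⊔ W₂ ≤ M :=
  sup_le h.hP.W₁_compl.2.1
    (((h.hP.W₂_le.trans inf_le_left).trans h.hP.U_compl.1).trans h.hP.W₁_compl.1)

theorem SubHyp.oddW (h : SubHyp M W₁ U W₂ mu dl η) : Odd (Nat.card ↥(W₁ ⊔ W₂)) := by
  have h1 : Nat.card ↥(W₁ ⊔ W₂) ∣ Nat.card ↥M := Subgroup.card_dvd_of_le h.hWM
  exact h.hodd.of_dvd_nat h1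

/-- members of `calS M` are characters vanishing off `M'` -/
theorem calS_char (h : SubHyp M W₁ U W₂ mu dl η) :
    (∀ χ ∈ calS M, IsCharacter ↥M χ) ∧
      ∀ χ ∈ calS M, ∀ x : ↥M, (x : G) ∉ ((⁅M, M⁆ : Subgroup G) : Set G) → χ x = 0 := by
  classical
  have hKn := KM_normal M
  have hall : ∀ χ ∈ calS M, IsCharacter ↥M χ ∧
      ∀ x : ↥M, (x : G) ∉ ((⁅M, M⁆ : Subgroup G) : Set G) → χ x = 0 := by
    intro χ hχ
    obtain ⟨θ, hθ, hθ1, rfl⟩ := (Cfsg.Agent.Lib.Helper74.mem_inducedIrrAbove_bot_iff _).mp hχ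
    refine ⟨Cfsg.Agent.S0148.result (KM M) θ
      (Cfsg.Agent.Lib.Helper78.IsIrrCharacter.isCharacter hθ), ?_⟩
    intro x hx
    apply indFun_vanish_off_normal (KM M) θ
    intro hc
    exact hx (Subgroup.mem_subgroupOf.mp hc)
  exact ⟨fun χ hχ => (hall χ hχ).1, fun χ hχ => (hall χ hχ).2⟩

theorem mem_litA0_of_mem_der (h : SubHyp M W₁ U W₂ mu dl η) :
    ∀ x ∈ ((⁅M, M⁆ : Subgroup G) : Set G), x ≠ 1 → x ∈ litA0 M := by
  intro x hx hx1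
  left
  rw [h.hA]
  exact ⟨hx, hx1⟩

/-- the Dade map is a linear isometry on the degree-zero part of `ℤ[calS M]` -/
theorem calS_isometry (h : SubHyp M W₁ U W₂ mu dl η) :
    IsLinearIsometryOn (zspanOn (calS M) {1}ᶜ) (tauM M) ∧
      (∀ α ∈ zspanOn (calS M) ({1}ᶜ : Set ↥M), tauM M α 1 = 0) := by
  obtain ⟨hS, hvan⟩ := calS_char h
  exact Cfsg.Agent.Lib.Helper74.PF12.dade_isLinearIsometryOn h.hD
    ((⁅M, M⁆ : Subgroup G) : Set G) (mem_litA0_of_mem_der h) (calS M) hS hvan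

/-- an element of `W ∖ W₂` is not in `M'` -/
theorem not_mem_der_of_mem_W (h : SubHyp M W₁ U W₂ mu dl η) {w : G} (hw : w ∈ W₁ ⊔ W₂)
    (hw₂ : w ∉ W₂) : w ∉ ⁅M, M⁆ := by
  intro hwK
  have hW := h.hP.selfNormalizing
  have hcomm := hW.2.2.2.1
  have hW₂K : W₂ ≤ ⁅M, M⁆ := (h.hP.W₂_le.trans inf_le_left).trans h.hP.U_compl.1
  obtain ⟨a, ha, b, hb, rfl⟩ : ∃ a ∈ W₁, ∃ b ∈ W₂, w = a * b := by
    refine Cfsg.Agent.Lib.Helper3.Dade.mem_sup_decomp W₂ W₁ ?_ (by rwa [sup_comm])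
    intro k hk u hu
    rw [hcomm k hk u hu, mul_inv_cancel_right]
    exact hu
  have haK : a ∈ ⁅M, M⁆ := by
    have : a = a * b * b⁻¹ := by group
    rw [this]
    exact Subgroup.mul_mem _ hwK (Subgroup.inv_mem _ (hW₂K hb))
  have ha1 : a = 1 := by
    have : a ∈ ⁅M, M⁆ ⊓ W₁ := ⟨haK, ha⟩
    rw [h.hP.W₁_compl.2.2.1] at this
    exact Subgroup.mem_bot.mp this
  apply hw₂
  rw [ha1, one_mul]
  exact hb

/-- the Dade image of a class function vanishing off `M'` vanishes on `W ∖ (W₁ ∪ W₂)` -/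
theorem tauM_vanish_W (h : SubHyp M W₁ U W₂ mu dl η) (α : ↥M → ℂ) (hα : IsClassFunction ↥M α)
    (hαK : ∀ m : ↥M, (m : G) ∉ ⁅M, M⁆ → α m = 0)
    (w : ↥(W₁ ⊔ W₂)) (hw₁ : (w : G) ∉ W₁) (hw₂ : (w : G) ∉ W₂) : tauM M α (w : G) = 0 := by
  have hlit := h.hA0 (w : G) w.2 hw₁ hw₂ 1 (Subgroup.one_mem M)
  rw [one_mul, inv_one, mul_one] at hlit
  have hwM : (w : G) ∈ M := h.hWM w.2
  have hrel : Cfsg.Agent.Lib.Helper3.Dade.Rel (litA0 M) M (supportR M) (w : G) ⟨(w : G), hwM⟩ :=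
    ⟨hlit.1, 1, 1, Subgroup.one_mem _, by simp⟩
  have := Cfsg.Agent.Lib.Helper3.Dade.dade_eq h.hD hα hrel
  unfold tauM
  rw [this]
  exact hαK _ (not_mem_der_of_mem_W h w.2 hw₂)

/-- a generator of `W` lies outside `W₁ ∪ W₂` -/
theorem exists_generator_W (hW : IsSelfNormalizingCyclic W₁ W₂) :
    ∃ g : ↥(W₁ ⊔ W₂), (∀ x : ↥(W₁ ⊔ W₂), x ∈ Subgroup.zpowers g) ∧ (g : G) ∉ W₁ ∧
      (g : G) ∉ W₂ := by
  obtain ⟨hW₁, hW₂, hinf, -, hcyc, -⟩ := hW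
  obtain ⟨g, hg⟩ := hcyc.exists_generator
  have key : ∀ X : Subgroup G, (g : G) ∈ X → W₁ ⊔ W₂ ≤ X := by
    intro X hgX x hx
    obtain ⟨k, hk⟩ := Subgroup.mem_zpowers_iff.mp (hg ⟨x, hx⟩)
    have : x = (g : G) ^ k := by
      have := congrArg (fun y : ↥(W₁ ⊔ W₂) => (y : G)) hk
      simp only [Subgroup.coe_zpow] at this
      exact this.symm
    rw [this]
    exact Subgroup.zpow_mem _ hgX k
  refine ⟨g, hg, ?_, ?_⟩
  · intro hc
    apply hW₂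
    have : W₂ ≤ W₁ := le_sup_right.trans (key W₁ hc)
    rw [← hinf]
    exact (inf_eq_right.mpr this).symm
  · intro hc
    apply hW₁
    have : W₁ ≤ W₂ := le_sup_left.trans (key W₂ hc)
    rw [← hinf]
    exact (inf_eq_left.mpr this).symm

/-- two linear characters of `W` agreeing at a generator are equal -/
theorem wchar_ext_generator {ω ω' : WChar W₁ W₂} {g : ↥(W₁ ⊔ W₂)}
    (hg : ∀ x : ↥(W₁ ⊔ W₂), x ∈ Subgroup.zpowers g) (h : ω g = ω' g) : ω = ω' := by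
  ext x
  obtain ⟨k, rfl⟩ := Subgroup.mem_zpowers_iff.mp (hg x)
  rw [map_zpow, map_zpow, h]

theorem conjFun_sub' {X : Type*} (a b : X → ℂ) : conjFun (a - b) = conjFun a - conjFun b := by
  funext x; simp [conjFun]

theorem isClassFunction_conjFun {X : Type*} [Group X] {a : X → ℂ} (ha : IsClassFunction X a) :
    IsClassFunction X (conjFun a) := by
  intro g x
  show conj (a (x * g * x⁻¹)) = conj (a g)
  rw [ha g x]

/-- `χ - conj χ` for `χ ∈ calS M` -/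
theorem sub_conj_mem (h : SubHyp M W₁ U W₂ mu dl η) {χ : ↥M → ℂ} (hχ : χ ∈ calS M) :
    χ - conjFun χ ∈ zspanOn (calS M) ({1}ᶜ : Set ↥M) := by
  have hKn := KM_normal M
  have hc : conjFun χ ∈ calS M := Cfsg.Agent.Lib.Helper74.sibleyS_conj_mem (KM M) hχ
  rw [mem_zspanOn_compl_one]
  refine ⟨zspan_sub (subset_zspan _ hχ) (subset_zspan _ hc), ?_⟩
  obtain ⟨n, hn⟩ := Cfsg.Agent.Lib.Helper78.IsCharacter.exists_apply_one ((calS_char h).1 χ hχ)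
  show χ 1 - conj (χ 1) = 0
  rw [hn, Complex.conj_natCast, sub_self]

end Cfsg.Agent.Lib.Helper51.PF10
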