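/-
helper51: Peterfalvi (10.2)-type subcoherence of `calS M` for the Dade isometry `tauM M`
(module PF10-[SUBCOH]), part B: the irreducible members (`R χ = {ν, - conj ν}` from S1518).
-/
import Mathlib
import Cfsg.Agent.Lib.Helper51.PFTenSubcohA

set_option autoImplicit false
set_option linter.unusedVariables false
set_option linter.unusedSectionVars false

namespace Cfsg.Agent.Lib.Helper51.PF10

open Cfsg Cfsg.Agent.Lib.Helper24.PFCyc Cfsg.Agent.Lib.Helper4.PF Cfsg.Agent.Lib.Helper26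
open Cfsg.Agent.Lib.Helper51.PFCyc
open scoped ComplexConjugate

universe u

variable {G : Type u} [Group G] [Fintype G] {M W₁ U W₂ : Subgroup G} [Fintype M]
  {mu : WChar W₁ W₂ → (↥M → ℂ)} {dl : WChar W₁ W₂ → ℂ} {η : WChar W₁ W₂ → (G → ℂ)}

theorem conj_ne_self_of_mem (h : SubHyp M W₁ U W₂ mu dl η) {χ : ↥M → ℂ} (hχ : χ ∈ calS M) :
    conjFun χ ≠ χ := by
  have hKn := KM_normal M
  obtain ⟨θ, hθ, hθ1, rfl⟩ := (Cfsg.Agent.Lib.Helper74.mem_inducedIrrAbove_bot_iff _).mp hχ
  exact indFun_conj_ne_self (KM M) h.hodd hθ hθ1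

theorem conj_mem_calS (h : SubHyp M W₁ U W₂ mu dl η) {χ : ↥M → ℂ} (hχ : χ ∈ calS M) :
    conjFun χ ∈ calS M := by
  have hKn := KM_normal M
  exact Cfsg.Agent.Lib.Helper74.sibleyS_conj_mem (KM M) hχ

theorem calS_orth' (h : SubHyp M W₁ U W₂ mu dl η) {χ φ : ↥M → ℂ} (hχ : χ ∈ calS M)
    (hφ : φ ∈ calS M) (hne : χ ≠ φ) : classInner χ φ = 0 := by
  have hKn := KM_normal M
  obtain ⟨θ', hθ', -, rfl⟩ := (Cfsg.Agent.Lib.Helper74.mem_inducedIrrAbove_bot_iff _).mp hχ
  obtain ⟨θ'', hθ'', -, rfl⟩ := (Cfsg.Agent.Lib.Helper74.mem_inducedIrrAbove_bot_iff _).mp hφ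
  exact inducedIrr_orth (KM M) hθ' hθ'' hne

/-- the conjugate of `η ω` is `η ω⁻¹` -/
theorem eta_inv' (h : SubHyp M W₁ U W₂ mu dl η) (ω : WChar W₁ W₂) :
    η ω⁻¹ = conjFun (η ω) :=
  Cfsg.Agent.Lib.Helper25.PFCyc.eta_inv h.hP.selfNormalizing h.oddW η h.hη ω

theorem conjFun_eta (h : SubHyp M W₁ U W₂ mu dl η) (ω : WChar W₁ W₂) :
    conjFun (η ω⁻¹) = η ω := by
  rw [eta_inv' h ω, Cfsg.Agent.Lib.Helper64.conjFun_involutive]

/-- an irreducible member of `calS M`: the Dade image of `χ - conj χ` -/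
theorem irr_member (h : SubHyp M W₁ U W₂ mu dl η) {χ : ↥M → ℂ} (hχ : χ ∈ calS M)
    (hirr : IsIrrCharacter ↥M χ) :
    ∃ ν : G → ℂ, IsIrrCharacter G ν ∧ tauM M (χ - conjFun χ) = ν - conjFun ν ∧
      classInner ν (conjFun ν) = 0 ∧
      ∀ ω, classInner ν (η ω) = 0 ∧ classInner (conjFun ν) (η ω) = 0 := by
  classical
  obtain ⟨hS, hvan⟩ := calS_char h
  have hsupp : ∀ x : ↥M, x ≠ 1 → (x : G) ∉ litA0 M → χ x = 0 := by
    intro x hx1 hx
    apply hvan χ hχ x
    intro hc
    exact hx (mem_litA0_of_mem_der h _ hc (fun hc1 => hx1 (Subtype.ext hc1)))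
  obtain ⟨ν, hν, hτ0⟩ := Cfsg.Agent.S1518.result (litA0 M) M (supportR M) h.hD χ hirr hsupp
  have hτ : tauM M (χ - conjFun χ) = ν - conjFun ν := hτ0
  have hcν : IsIrrCharacter G (conjFun ν) := Cfsg.Agent.Lib.Helper81.isIrrCharacter_conj hν
  have hcχ : IsIrrCharacter ↥M (conjFun χ) := Cfsg.Agent.Lib.Helper81.isIrrCharacter_conj hirr
  have hmem := sub_conj_mem h hχ
  -- the norm of `χ - conj χ` is `2`
  have hn2 : classInner (χ - conjFun χ) (χ - conjFun χ) = 2 := by
    have h1 : classInner χ (conjFun χ) = 0 :=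
      Cfsg.Agent.Lib.Helper78.classInner_irr_ne hirr hcχ (fun hc => conj_ne_self_of_mem h hχ hc.symm)
    have h2 : classInner (conjFun χ) χ = 0 := by
      rw [← classInner_conj_symm, h1, map_zero]
    rw [classInner_sub_left, classInner_sub_right, classInner_sub_right,
      Cfsg.Agent.Lib.Helper78.classInner_irr_self hirr,
      Cfsg.Agent.Lib.Helper78.classInner_irr_self hcχ, h1, h2]
    norm_num
  have hn2' : classInner (ν - conjFun ν) (ν - conjFun ν) = 2 := by
    rw [← hτ, isom_inner (calS_isometry h).1 hmem hmem, hn2]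
  have horth : classInner ν (conjFun ν) = 0 := by
    by_contra hne
    have h1 : classInner ν (conjFun ν) = 1 := by
      rw [Cfsg.Agent.Lib.Helper78.classInner_irr hν hcν] at hne ⊢
      split_ifs at hne ⊢ with heq
      · rfl
      · exact absurd rfl hne
    have h2 : classInner (conjFun ν) ν = 1 := by
      rw [← classInner_conj_symm, h1, map_one]
    rw [classInner_sub_left, classInner_sub_right, classInner_sub_right,
      Cfsg.Agent.Lib.Helper78.classInner_irr_self hν,
      Cfsg.Agent.Lib.Helper78.classInner_irr_self hcν, h1, h2] at hn2'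
    norm_num at hn2'
  have hne : conjFun ν ≠ ν := by
    intro hc
    rw [hc, Cfsg.Agent.Lib.Helper78.classInner_irr_self hν] at horth
    exact one_ne_zero horth
  -- vanishing at a generator of `W`
  obtain ⟨g, hg, hg₁, hg₂⟩ := exists_generator_W h.hP.selfNormalizing
  have hcf : IsClassFunction ↥M (χ - conjFun χ) := by
    have h1 := Cfsg.Agent.Lib.Helper78.IsCharacter.isClassFunction (hS χ hχ)
    intro a x
    show χ (x * a * x⁻¹) - conjFun χ (x * a * x⁻¹) = χ a - conjFun χ a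
    rw [h1 a x, isClassFunction_conjFun h1 a x]
  have hvan' : ∀ m : ↥M, (m : G) ∉ ⁅M, M⁆ → (χ - conjFun χ) m = 0 := by
    intro m hm
    show χ m - conj (χ m) = 0
    rw [hvan χ hχ m hm, map_zero, sub_zero]
  have hzero : ν (g : G) - conj (ν (g : G)) = 0 := by
    have := tauM_vanish_W h _ hcf hvan' g hg₁ hg₂
    rw [hτ] at this
    exact this
  have key : ∀ ω, classInner ν (η ω) = 0 := by
    intro ω
    by_contra hne0
    -- `ν = ± η ω`
    have hcases : ν = η ω ∨ ν = -η ω := by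
      rcases h.hη.irr_or_neg ω with hi | hi
      · left
        rw [Cfsg.Agent.Lib.Helper78.classInner_irr hν hi] at hne0
        by_contra hc
        exact hne0 (if_neg hc)
      · right
        have h1 : classInner ν (η ω) = -classInner ν (-η ω) := by
          rw [classInner_neg_right, neg_neg]
        rw [h1, Cfsg.Agent.Lib.Helper78.classInner_irr hν hi] at hne0
        by_contra hc
        apply hne0
        rw [if_neg hc, neg_zero]
    have hval : η ω (g : G) = conj (η ω (g : G)) := by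
      rcases hcases with hc | hc
      · rw [hc] at hzero
        exact sub_eq_zero.mp hzero
      · rw [hc] at hzero
        simp only [Pi.neg_apply, map_neg] at hzero
        have : -η ω (g : G) = -conj (η ω (g : G)) := sub_eq_zero.mp hzero
        exact neg_injective this
    have hval2 : η ω (g : G) = η ω⁻¹ (g : G) := by
      rw [eta_inv' h ω]
      exact hval
    rw [h.hη.eq_on ω g hg₁ hg₂, h.hη.eq_on ω⁻¹ g hg₁ hg₂] at hval2
    have hωg : ω g = ω⁻¹ g := Units.ext hval2
    have hωω : ω = ω⁻¹ := wchar_ext_generator hg hωg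
    have hηη : conjFun (η ω) = η ω := by
      rw [← eta_inv' h ω, ← hωω]
    apply hne
    rcases hcases with hc | hc
    · rw [hc, hηη]
    · rw [hc, Cfsg.Agent.Lib.Helper64.conjFun_neg, hηη]
  refine ⟨ν, hν, hτ, horth, fun ω => ⟨key ω, ?_⟩⟩
  rw [← conjFun_eta h ω, Cfsg.Agent.Lib.Helper64.classInner_conjFun_conjFun, key ω⁻¹, map_zero]

end Cfsg.Agent.Lib.Helper51.PF10
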