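/-
helper51: Peterfalvi (10.2)-type subcoherence of `calS M` for the Dade isometry `tauM M`
(module PF10-[SUBCOH]), part D: the coherence system.

`subcoherent : SubHyp M W₁ U W₂ mu dl η → ∃ R, IsCoherenceSystem (calS M) (tauM M) R ∧ ...`
-/
import Mathlib
import Cfsg.Agent.Lib.Helper51.PFTenSubcohC
import Cfsg.Agent.Lib.Helper1.PFElevenGalB

set_option autoImplicit false
set_option linter.unusedVariables false
set_option linter.unusedSectionVars false

namespace Cfsg.Agent.Lib.Helper51.PF10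

open Cfsg Cfsg.Agent.Lib.Helper24.PFCyc Cfsg.Agent.Lib.Helper4.PF Cfsg.Agent.Lib.Helper26
open Cfsg.Agent.Lib.Helper51.PFCyc
open scoped ComplexConjugate

universe u

variable {G : Type u} [Group G] [Fintype G] {M W₁ U W₂ : Subgroup G} [Fintype M]
  {mu : WChar W₁ W₂ → (↥M → ℂ)} {dl : WChar W₁ W₂ → ℂ} {η : WChar W₁ W₂ → (G → ℂ)}

/-- what is asked of the irreducible character `ν` attached to an irreducible `χ ∈ calS M` -/
def NuSpec (η : WChar W₁ W₂ → (G → ℂ)) (M : Subgroup G) (χ : ↥M → ℂ) (ν : G → ℂ) : Prop :=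
  IsIrrCharacter G ν ∧ tauM M (χ - conjFun χ) = ν - conjFun ν ∧
    classInner ν (conjFun ν) = 0 ∧
    ∀ ω, classInner ν (η ω) = 0 ∧ classInner (conjFun ν) (η ω) = 0

open Classical in
/-- the chosen `ν` -/
noncomputable def nuOf (η : WChar W₁ W₂ → (G → ℂ)) (M : Subgroup G) (χ : ↥M → ℂ) : G → ℂ :=
  if h : ∃ ν : G → ℂ, NuSpec η M χ ν then Classical.choose h else 0

theorem nuOf_spec (h : SubHyp M W₁ U W₂ mu dl η) {χ : ↥M → ℂ} (hχ : χ ∈ calS M)
    (hirr : IsIrrCharacter ↥M χ) : NuSpec η M χ (nuOf η M χ) := by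
  have hex : ∃ ν : G → ℂ, NuSpec η M χ ν := irr_member h hχ hirr
  unfold nuOf
  rw [dif_pos hex]
  exact Classical.choose_spec hex

open Classical in
/-- the sets `R χ` -/
noncomputable def Rsub (M : Subgroup G) [Fintype M] (mu : WChar W₁ W₂ → (↥M → ℂ))
    (dl : WChar W₁ W₂ → ℂ) (η : WChar W₁ W₂ → (G → ℂ)) (χ : ↥M → ℂ) : Finset (G → ℂ) :=
  if IsIrrCharacter ↥M χ then {nuOf η M χ, -conjFun (nuOf η M χ)}
  else if h : ∃ ψ : WChar W₁ W₂, TrivOn W₁ ψ ∧ ψ ≠ 1 ∧ χ = muSum mu ψ then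
    Rmu dl η (Classical.choose h)
  else ∅

open Classical in
theorem Rsub_irr {χ : ↥M → ℂ} (hirr : IsIrrCharacter ↥M χ) :
    Rsub M mu dl η χ = {nuOf η M χ, -conjFun (nuOf η M χ)} := by
  unfold Rsub
  rw [if_pos hirr]

theorem Rsub_mu (h : SubHyp M W₁ U W₂ mu dl η) {ψ : WChar W₁ W₂} (hψ : TrivOn W₁ ψ)
    (hψ1 : ψ ≠ 1) : Rsub M mu dl η (muSum mu ψ) = Rmu dl η ψ := by
  classical
  have hex : ∃ ψ' : WChar W₁ W₂, TrivOn W₁ ψ' ∧ ψ' ≠ 1 ∧ muSum mu ψ = muSum mu ψ' :=
    ⟨ψ, hψ, hψ1, rfl⟩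
  unfold Rsub
  rw [if_neg (muSum_not_irr h hψ), dif_pos hex]
  obtain ⟨h1, h2, h3⟩ := Classical.choose_spec hex
  rw [← muSum_injective h hψ h1 h3]

/-- facts about a pair `{ν, - conj ν}` -/
theorem pair_facts {ν : G → ℂ} (hν : IsIrrCharacter G ν) (h0 : classInner ν (conjFun ν) = 0) :
    IsIrrCharacter G (conjFun ν) ∧ classInner (conjFun ν) ν = 0 ∧ ν ≠ -conjFun ν ∧
      conjFun ν ≠ ν := by
  have hc : IsIrrCharacter G (conjFun ν) := Cfsg.Agent.Lib.Helper81.isIrrCharacter_conj hν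
  refine ⟨hc, ?_, ?_, ?_⟩
  · rw [← classInner_conj_symm, h0, map_zero]
  · intro hc'
    have h1 : classInner ν ν = classInner ν (-conjFun ν) := by rw [← hc']
    rw [Cfsg.Agent.Lib.Helper78.classInner_irr_self hν, classInner_neg_right, h0, neg_zero] at h1
    exact one_ne_zero h1
  · intro hc'
    rw [hc', Cfsg.Agent.Lib.Helper78.classInner_irr_self hν] at h0
    exact one_ne_zero h0

theorem eta_gen (h : SubHyp M W₁ U W₂ mu dl η) (ω : WChar W₁ W₂) :
    IsGeneralizedCharacter G (η ω) := by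
  rcases h.hη.irr_or_neg ω with hi | hi
  · exact isGeneralizedCharacter_of_isCharacter
      (Cfsg.Agent.Lib.Helper78.IsIrrCharacter.isCharacter hi)
  · have := gen_neg (isGeneralizedCharacter_of_isCharacter
      (Cfsg.Agent.Lib.Helper78.IsIrrCharacter.isCharacter hi))
    rwa [neg_neg] at this

theorem signed_eta_gen (h : SubHyp M W₁ U W₂ mu dl η) {s : ℂ} (hs : s = 1 ∨ s = -1)
    (ω : WChar W₁ W₂) : IsGeneralizedCharacter G (s • η ω) := by
  rcases hs with h1 | h1
  · rw [h1, one_smul]; exact eta_gen h ω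
  · rw [h1, neg_one_smul]; exact gen_neg (eta_gen h ω)

/-- the two kinds of members of `calS M` -/
theorem calS_cases' (h : SubHyp M W₁ U W₂ mu dl η) {χ : ↥M → ℂ} (hχ : χ ∈ calS M) :
    IsIrrCharacter ↥M χ ∨ ∃ ψ : WChar W₁ W₂, TrivOn W₁ ψ ∧ ψ ≠ 1 ∧ χ = muSum mu ψ := by
  rcases calS_cases h.hP h.hodd h.md χ hχ with h1 | h1
  · exact Or.inl h1.1
  · exact Or.inr h1

/-- orthogonality of `R φ` and `R χ` for two irreducible members -/
theorem disjoint_irr_irr (h : SubHyp M W₁ U W₂ mu dl η) {χ φ : ↥M → ℂ} (hχ : χ ∈ calS M)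
    (hφ : φ ∈ calS M) (hχi : IsIrrCharacter ↥M χ) (hφi : IsIrrCharacter ↥M φ)
    (h1 : classInner φ χ = 0) (h2 : classInner φ (conjFun χ) = 0) {ν ν' : G → ℂ}
    (hν : NuSpec η M φ ν) (hν' : NuSpec η M χ ν') :
    classInner ν ν' = 0 ∧ classInner ν (conjFun ν') = 0 ∧ classInner (conjFun ν) ν' = 0 ∧
      classInner (conjFun ν) (conjFun ν') = 0 := by
  classical
  obtain ⟨hνi, hντ, hν0, -⟩ := hν
  obtain ⟨hν'i, hν'τ, hν'0, -⟩ := hν'
  obtain ⟨hcν, -, -, -⟩ := pair_facts hνi hν0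
  obtain ⟨hcν', -, -, hne'⟩ := pair_facts hν'i hν'0
  have hiso := isom_inner (calS_isometry h).1 (sub_conj_mem h hφ) (sub_conj_mem h hχ)
  have h3 : classInner (conjFun φ) (conjFun χ) = 0 := by
    rw [Cfsg.Agent.Lib.Helper64.classInner_conjFun_conjFun, h1, map_zero]
  have h4 : classInner (conjFun φ) χ = 0 := by
    have := Cfsg.Agent.Lib.Helper64.classInner_conjFun_conjFun φ (conjFun χ)
    rw [Cfsg.Agent.Lib.Helper64.conjFun_involutive, h2, map_zero] at this
    exact this
  rw [hντ, hν'τ, classInner_sub_left, classInner_sub_right, classInner_sub_right,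
    classInner_sub_left, classInner_sub_right, classInner_sub_right, h1, h2, h3, h4] at hiso
  have hd : classInner (conjFun ν) (conjFun ν') = conj (classInner ν ν') :=
    Cfsg.Agent.Lib.Helper64.classInner_conjFun_conjFun ν ν'
  have hc : classInner (conjFun ν) ν' = conj (classInner ν (conjFun ν')) := by
    have := Cfsg.Agent.Lib.Helper64.classInner_conjFun_conjFun ν (conjFun ν')
    rw [Cfsg.Agent.Lib.Helper64.conjFun_involutive] at this
    exact this
  rw [hd, hc] at hiso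
  have ha := Cfsg.Agent.Lib.Helper78.classInner_irr hνi hν'i
  have hb := Cfsg.Agent.Lib.Helper78.classInner_irr hνi hcν'
  by_cases e1 : ν = ν'
  · exfalso
    rw [if_pos e1] at ha
    by_cases e2 : ν = conjFun ν'
    · exact hne' (e2.symm.trans e1)
    · rw [if_neg e2] at hb
      rw [ha, hb] at hiso
      norm_num at hiso
  · rw [if_neg e1] at ha
    by_cases e2 : ν = conjFun ν'
    · exfalso
      rw [if_pos e2] at hb
      rw [ha, hb] at hiso
      norm_num at hiso
    · rw [if_neg e2] at hb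
      refine ⟨ha, hb, ?_, ?_⟩
      · rw [hc, hb, map_zero]
      · rw [hd, ha, map_zero]

open Classical in
/-- **Peterfalvi (10.2)-type subcoherence**: `calS M` with the Dade isometry of `A₀(M)` is a
coherence system. -/
theorem subcoherent (h : SubHyp M W₁ U W₂ mu dl η) :
    ∃ R : (↥M → ℂ) → Finset (G → ℂ), IsCoherenceSystem (calS M) (tauM M) R ∧
      (∀ ψ : WChar W₁ W₂, TrivOn W₁ ψ → ψ ≠ 1 →
        R (muSum mu ψ) = (trivSet W₁ W₂ W₂).image (fun φ => dl ψ • η (φ * ψ)) ∪
          (trivSet W₁ W₂ W₂).image (fun φ => -(dl ψ • η (φ * ψ⁻¹)))) ∧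
      (∀ χ ∈ calS M, IsIrrCharacter ↥M χ → ∃ ν : G → ℂ, IsIrrCharacter G ν ∧
        R χ = {ν, -conjFun ν} ∧ tauM M (χ - conjFun χ) = ν - conjFun ν ∧
        ∀ ω, classInner ν (η ω) = 0) := by
  have hW := h.hP.selfNormalizing
  refine ⟨Rsub M mu dl η, ?_, ?_, ?_⟩
  · refine
      { nonempty := ?_
        isCharacter := (calS_char h).1
        conj_mem := fun χ hχ => conj_mem_calS h hχ
        conj_ne := fun χ hχ => conj_ne_self_of_mem h hχ
        isometry := (calS_isometry h).1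
        map_one := (calS_isometry h).2
        orthogonal := fun χ hχ φ hφ hne => calS_orth' h hχ hφ hne
        orthonormal := ?_
        virtual := ?_
        sum_eq := ?_
        disjoint := ?_ }
    · -- nonempty
      have h1 : 1 < (trivSet W₁ W₂ W₁).card := by
        rw [Cfsg.Agent.Lib.Helper1.PF11GalB.card_trivSet_W₁ hW]
        exact (Subgroup.one_lt_card_iff_ne_bot W₂).mpr hW.2.1
      obtain ⟨ψ, hψ, hψ1⟩ := Finset.exists_mem_ne h1 1
      exact ⟨muSum mu ψ, muSum_mem_calS h.hP h.hodd h.md ψ (mem_trivSet.mp hψ) hψ1⟩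
    · -- orthonormal
      intro χ hχ α hα β hβ
      rcases calS_cases' h hχ with hirr | ⟨ψ, hψ, hψ1, rfl⟩
      · rw [Rsub_irr hirr] at hα hβ
        obtain ⟨hνi, -, hν0, -⟩ := nuOf_spec h hχ hirr
        obtain ⟨hcν, hν0', hne, -⟩ := pair_facts hνi hν0
        rw [Finset.mem_insert, Finset.mem_singleton] at hα hβ
        rcases hα with rfl | rfl <;> rcases hβ with rfl | rfl
        · rw [if_pos rfl, Cfsg.Agent.Lib.Helper78.classInner_irr_self hνi]
        · rw [if_neg hne, classInner_neg_right, hν0, neg_zero]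
        · rw [if_neg (fun hc => hne hc.symm), classInner_neg_left, hν0', neg_zero]
        · rw [if_pos rfl, classInner_neg_left, classInner_neg_right, neg_neg,
            Cfsg.Agent.Lib.Helper78.classInner_irr_self hcν]
      · rw [Rsub_mu h hψ hψ1] at hα hβ
        exact Rmu_orthonormal h hψ hψ1 α hα β hβ
    · -- virtual
      intro χ hχ α hα
      rcases calS_cases' h hχ with hirr | ⟨ψ, hψ, hψ1, rfl⟩
      · rw [Rsub_irr hirr] at hα
        obtain ⟨hνi, -, hν0, -⟩ := nuOf_spec h hχ hirr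
        obtain ⟨hcν, -, -, -⟩ := pair_facts hνi hν0
        rw [Finset.mem_insert, Finset.mem_singleton] at hα
        rcases hα with rfl | rfl
        · exact isGeneralizedCharacter_of_isCharacter
            (Cfsg.Agent.Lib.Helper78.IsIrrCharacter.isCharacter hνi)
        · exact gen_neg (isGeneralizedCharacter_of_isCharacter
            (Cfsg.Agent.Lib.Helper78.IsIrrCharacter.isCharacter hcν))
      · rw [Rsub_mu h hψ hψ1] at hα
        obtain ⟨s, φ, ψ₀, hs, -, -, rfl⟩ := Rmu_form h hα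
        exact signed_eta_gen h hs _
    · -- sum_eq
      intro χ hχ
      rcases calS_cases' h hχ with hirr | ⟨ψ, hψ, hψ1, rfl⟩
      · obtain ⟨hνi, hντ, hν0, -⟩ := nuOf_spec h hχ hirr
        obtain ⟨-, -, hne, -⟩ := pair_facts hνi hν0
        rw [Rsub_irr hirr, Finset.sum_pair hne, hντ, sub_eq_add_neg]
      · rw [Rsub_mu h hψ hψ1]
        exact tau_muSum_sub_conj h hψ hψ1
    · -- disjoint
      intro χ hχ φ hφ h1 h2 α hα β hβ
      rcases calS_cases' h hφ with hφi | ⟨ψ', hψ', hψ'1, rfl⟩ <;>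
        rcases calS_cases' h hχ with hχi | ⟨ψ, hψ, hψ1, rfl⟩
      · -- irr / irr
        rw [Rsub_irr hφi] at hα
        rw [Rsub_irr hχi] at hβ
        obtain ⟨e1, e2, e3, e4⟩ := disjoint_irr_irr h hχ hφ hχi hφi h1 h2
          (nuOf_spec h hφ hφi) (nuOf_spec h hχ hχi)
        rw [Finset.mem_insert, Finset.mem_singleton] at hα hβ
        rcases hα with rfl | rfl <;> rcases hβ with rfl | rfl
        · exact e1
        · rw [classInner_neg_right, e2, neg_zero]
        · rw [classInner_neg_left, e3, neg_zero]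
        · rw [classInner_neg_left, classInner_neg_right, e4, neg_zero, neg_zero]
      · -- irr / mu
        rw [Rsub_irr hφi] at hα
        rw [Rsub_mu h hψ hψ1] at hβ
        obtain ⟨-, -, -, hη0⟩ := nuOf_spec h hφ hφi
        obtain ⟨s, φ₂, ψ₀, hs, -, -, rfl⟩ := Rmu_form h hβ
        rw [Finset.mem_insert, Finset.mem_singleton] at hα
        rcases hα with rfl | rfl
        · rw [classInner_smul_right, (hη0 _).1, mul_zero]
        · rw [classInner_neg_left, classInner_smul_right, (hη0 _).2, mul_zero, neg_zero]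
      · -- mu / irr
        rw [Rsub_mu h hψ' hψ'1] at hα
        rw [Rsub_irr hχi] at hβ
        obtain ⟨-, -, -, hη0⟩ := nuOf_spec h hχ hχi
        obtain ⟨s, φ₁, ψ₀, hs, -, -, rfl⟩ := Rmu_form h hα
        rw [Finset.mem_insert, Finset.mem_singleton] at hβ
        rcases hβ with rfl | rfl
        · rw [← classInner_conj_symm, classInner_smul_right, (hη0 _).1, mul_zero, map_zero]
        · rw [← classInner_conj_symm, classInner_neg_left, classInner_smul_right, (hη0 _).2,
            mul_zero, neg_zero, map_zero]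
      · -- mu / mu
        rw [Rsub_mu h hψ' hψ'1] at hα
        rw [Rsub_mu h hψ hψ1] at hβ
        have hne1 : ψ' ≠ ψ := by
          intro hc
          rw [inner_muSum_muSum h hψ' hψ, if_pos hc] at h1
          exact card_W₁_ne_zero h1
        have hne2 : ψ' ≠ ψ⁻¹ := by
          intro hc
          rw [conj_muSum h ψ, inner_muSum_muSum h hψ' hψ.inv, if_pos hc] at h2
          exact card_W₁_ne_zero h2
        obtain ⟨s, φ₁, ψ₁, hs, hφ₁, hψ₁, rfl⟩ := Rmu_form h hα
        obtain ⟨s', φ₂, ψ₂, hs', hφ₂, hψ₂, rfl⟩ := Rmu_form h hβ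
        rw [inner_signed_eta h hs hs', if_neg]
        intro hc
        have hT₁ : TrivOn W₁ ψ₁ := by
          rcases hψ₁ with rfl | rfl
          · exact hψ'
          · exact hψ'.inv
        have hT₂ : TrivOn W₁ ψ₂ := by
          rcases hψ₂ with rfl | rfl
          · exact hψ
          · exact hψ.inv
        have heq := (wchar_split hW hφ₁ hφ₂ hT₁ hT₂ hc).2
        rcases hψ₁ with rfl | rfl <;> rcases hψ₂ with rfl | rfl
        · exact hne1 heq
        · exact hne2 heq
        · apply hne2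
          rw [← heq, wchar_inv_inv]
        · apply hne1
          have := congrArg (fun x : WChar W₁ W₂ => x⁻¹) heq
          rwa [wchar_inv_inv, wchar_inv_inv] at this
  · intro ψ hψ hψ1
    rw [Rsub_mu h hψ hψ1]
    rfl
  · intro χ hχ hirr
    obtain ⟨hνi, hντ, hν0, hη0⟩ := nuOf_spec h hχ hirr
    exact ⟨nuOf η M χ, hνi, Rsub_irr hirr, hντ, fun ω => (hη0 ω).1⟩

end Cfsg.Agent.Lib.Helper51.PF10
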