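/-
helper51: subcoherence of a conjugation-closed sub-family `Z ⊆ calS M` whose members vanish off
`A(M) ∪ {1}` (module PF10-[SUBCOH-Z], helper16 #4538; covers Type II), part A: hypotheses
`SubHypZ` (= `SubHyp` without `hA`), basic facts, irreducible members.
-/
import Mathlib
import Cfsg.Agent.Lib.Helper51.PFTenSubcoh

set_option autoImplicit false
set_option linter.unusedVariables false
set_option linter.unusedSectionVars false

namespace Cfsg.Agent.Lib.Helper51.PF10Z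

open Cfsg Cfsg.Agent.Lib.Helper24.PFCyc Cfsg.Agent.Lib.Helper4.PF Cfsg.Agent.Lib.Helper26
open Cfsg.Agent.Lib.Helper51.PFCyc Cfsg.Agent.Lib.Helper51.PF10
open scoped ComplexConjugate

universe u

variable {G : Type u} [Group G] [Fintype G] {M W₁ U W₂ : Subgroup G} [Fintype M]
  {mu : WChar W₁ W₂ → (↥M → ℂ)} {dl : WChar W₁ W₂ → ℂ} {η : WChar W₁ W₂ → (G → ℂ)}

/-- `SubHyp` without `hA : litA M = M' ∖ {1}`. -/
structure SubHypZ (M W₁ U W₂ : Subgroup G) [Fintype M] (mu : WChar W₁ W₂ → (↥M → ℂ))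
    (dl : WChar W₁ W₂ → ℂ) (η : WChar W₁ W₂ → (G → ℂ)) : Prop where
  hP : IsTypePWith M W₁ U W₂
  hodd : Odd (Nat.card M)
  hD : DadeHypothesis (litA0 M) M (supportR M)
  md : MuData M W₁ W₂ mu dl
  hη : IsCyclicTIFamily W₁ W₂ η
  /-- [LITA0] -/
  hA0 : ∀ w ∈ W₁ ⊔ W₂, w ∉ W₁ → w ∉ W₂ → ∀ m ∈ M, m * w * m⁻¹ ∈ litA0 M ∧
      supportR M (m * w * m⁻¹) = ⊥
  /-- [B2] -/
  musub : ∀ ψ ψ' : WChar W₁ W₂, TrivOn W₁ ψ → TrivOn W₁ ψ' → ψ ≠ 1 → ψ' ≠ 1 → ψ ≠ ψ' →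
    tauM M (muSum mu ψ - muSum mu ψ') = dl ψ • (etaSum η ψ - etaSum η ψ')

theorem _root_.Cfsg.Agent.Lib.Helper51.PF10.SubHyp.toZ (h : SubHyp M W₁ U W₂ mu dl η) :
    SubHypZ M W₁ U W₂ mu dl η :=
  { hP := h.hP, hodd := h.hodd, hD := h.hD, md := h.md, hη := h.hη, hA0 := h.hA0,
    musub := h.musub }

theorem SubHypZ.hWM (h : SubHypZ M W₁ U W₂ mu dl η) : W₁ ⊔ W₂ ≤ M :=
  sup_le h.hP.W₁_compl.2.1
    (((h.hP.W₂_le.trans inf_le_left).trans h.hP.U_compl.1).trans h.hP.W₁_compl.1)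

theorem SubHypZ.oddW (h : SubHypZ M W₁ U W₂ mu dl η) : Odd (Nat.card ↥(W₁ ⊔ W₂)) := by
  have h1 : Nat.card ↥(W₁ ⊔ W₂) ∣ Nat.card ↥M := Subgroup.card_dvd_of_le h.hWM
  exact h.hodd.of_dvd_nat h1

/-- The sub-family: `Z ⊆ calS M` closed under conjugation, members vanish off `A(M) ∪ {1}`. -/
structure ZHyp (M : Subgroup G) [Fintype M] (Z : Set (↥M → ℂ)) : Prop where
  sub : Z ⊆ calS M
  ne : Z.Nonempty
  conj_mem : ∀ χ ∈ Z, conjFun χ ∈ Z
  dom : ∀ χ ∈ Z, ∀ x : ↥M, x ≠ 1 → (x : G) ∉ litA M → χ x = 0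

/-- members of `Z` are characters vanishing off `M'` and off `A(M) ∪ {1}` -/
theorem Z_char {Z : Set (↥M → ℂ)} (z : ZHyp M Z) :
    (∀ χ ∈ Z, IsCharacter ↥M χ) ∧
      (∀ χ ∈ Z, ∀ x : ↥M, (x : G) ∉ ((⁅M, M⁆ : Subgroup G) : Set G) → χ x = 0) ∧
      ∀ χ ∈ Z, ∀ x : ↥M, (x : G) ∉ (litA M ∪ {1} : Set G) → χ x = 0 := by
  classical
  have hKn := KM_normal M
  have hall : ∀ χ ∈ calS M, IsCharacter ↥M χ ∧
      ∀ x : ↥M, (x : G) ∉ ((⁅M, M⁆ : Subgroup G) : Set G) → χ x = 0 := by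
    intro χ hχ
    obtain ⟨θ, hθ, hθ1, rfl⟩ := (Cfsg.Agent.Lib.Helper74.mem_inducedIrrAbove_bot_iff _).mp hχ
    refine ⟨Cfsg.Agent.S0148.result (KM M) θ
      (Cfsg.Agent.Lib.Helper78.IsIrrCharacter.isCharacter hθ), ?_⟩
    intro x hx
    apply indFun_vanish_off_normal (KM M) θ
    intro hc
    exact hx (Subgroup.mem_subgroupOf.mp hc)
  refine ⟨fun χ hχ => (hall χ (z.sub hχ)).1, fun χ hχ => (hall χ (z.sub hχ)).2, ?_⟩
  intro χ hχ x hx
  apply z.dom χ hχ x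
  · intro hc
    apply hx
    right
    rw [hc]
    rfl
  · intro hc
    exact hx (Or.inl hc)

/-- the Dade map is a linear isometry on the degree-zero part of `ℤ[Z]` -/
theorem Z_isometry (h : SubHypZ M W₁ U W₂ mu dl η) {Z : Set (↥M → ℂ)} (z : ZHyp M Z) :
    IsLinearIsometryOn (zspanOn Z {1}ᶜ) (tauM M) ∧
      (∀ α ∈ zspanOn Z ({1}ᶜ : Set ↥M), tauM M α 1 = 0) := by
  obtain ⟨hS, -, hvan⟩ := Z_char z
  refine Cfsg.Agent.Lib.Helper74.PF12.dade_isLinearIsometryOn h.hD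
    (litA M ∪ {1} : Set G) ?_ Z hS hvan
  intro x hx hx1
  rcases hx with hx | hx
  · exact Or.inl hx
  · exact absurd hx hx1

/-- an element of `W ∖ W₂` is not in `M'` -/
theorem not_mem_der_of_mem_W (h : SubHypZ M W₁ U W₂ mu dl η) {w : G} (hw : w ∈ W₁ ⊔ W₂)
    (hw₂ : w ∉ W₂) : w ∉ ⁅M, M⁆ := by
  intro hwK
  have hW := h.hP.selfNormalizing
  have hcomm := hW.2.2.2.1
  have hW₂K : W₂ ≤ ⁅M, M⁆ := (h.hP.W₂_le.trans inf_le_left).trans h.hP.U_compl.1
  obtain ⟨a, ha, b, hb, rfl⟩ : ∃ a ∈ W₁, ∃ b ∈ W₂, w = a * b := by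
    refine Cfsg.Agent.Lib.Helper3.Dade.mem_sup_decomp W₂ W₁ ?_ (by rwa [sup_comm])
    intro k hk u hu
    rw [hcomm k hk u hu, mul_inv_cancel_right]
    exact hu
  have haK : a ∈ ⁅M, M⁆ := by
    have : a = a * b * b⁻¹ := by group
    rw [this]
    exact Subgroup.mul_mem _ hwK (Subgroup.inv_mem _ (hW₂K hb))
  have ha1 : a = 1 := by
    have : a ∈ ⁅M, M⁆ ⊓ W₁ := ⟨haK, ha⟩
    rw [h.hP.W₁_compl.2.2.1] at this
    exact Subgroup.mem_bot.mp this
  apply hw₂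
  rw [ha1, one_mul]
  exact hb

/-- the Dade image of a class function vanishing off `M'` vanishes on `W ∖ (W₁ ∪ W₂)` -/
theorem tauM_vanish_W (h : SubHypZ M W₁ U W₂ mu dl η) (α : ↥M → ℂ) (hα : IsClassFunction ↥M α)
    (hαK : ∀ m : ↥M, (m : G) ∉ ⁅M, M⁆ → α m = 0)
    (w : ↥(W₁ ⊔ W₂)) (hw₁ : (w : G) ∉ W₁) (hw₂ : (w : G) ∉ W₂) : tauM M α (w : G) = 0 := by
  have hlit := h.hA0 (w : G) w.2 hw₁ hw₂ 1 (Subgroup.one_mem M)
  rw [one_mul, inv_one, mul_one] at hlit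
  have hwM : (w : G) ∈ M := h.hWM w.2
  have hrel : Cfsg.Agent.Lib.Helper3.Dade.Rel (litA0 M) M (supportR M) (w : G) ⟨(w : G), hwM⟩ :=
    ⟨hlit.1, 1, 1, Subgroup.one_mem _, by simp⟩
  have := Cfsg.Agent.Lib.Helper3.Dade.dade_eq h.hD hα hrel
  unfold tauM
  rw [this]
  exact hαK _ (not_mem_der_of_mem_W h w.2 hw₂)

/-- `χ - conj χ` for `χ ∈ Z` -/
theorem sub_conj_mem {Z : Set (↥M → ℂ)} (z : ZHyp M Z) {χ : ↥M → ℂ} (hχ : χ ∈ Z) :
    χ - conjFun χ ∈ zspanOn Z ({1}ᶜ : Set ↥M) := by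
  rw [mem_zspanOn_compl_one]
  refine ⟨zspan_sub (subset_zspan _ hχ) (subset_zspan _ (z.conj_mem χ hχ)), ?_⟩
  obtain ⟨n, hn⟩ := Cfsg.Agent.Lib.Helper78.IsCharacter.exists_apply_one ((Z_char z).1 χ hχ)
  show χ 1 - conj (χ 1) = 0
  rw [hn, Complex.conj_natCast, sub_self]

theorem conj_ne_self_of_mem (h : SubHypZ M W₁ U W₂ mu dl η) {χ : ↥M → ℂ} (hχ : χ ∈ calS M) :
    conjFun χ ≠ χ := by
  have hKn := KM_normal M
  obtain ⟨θ, hθ, hθ1, rfl⟩ := (Cfsg.Agent.Lib.Helper74.mem_inducedIrrAbove_bot_iff _).mp hχ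
  exact indFun_conj_ne_self (KM M) h.hodd hθ hθ1

theorem calS_orth' {χ φ : ↥M → ℂ} (hχ : χ ∈ calS M)
    (hφ : φ ∈ calS M) (hne : χ ≠ φ) : classInner χ φ = 0 := by
  have hKn := KM_normal M
  obtain ⟨θ', hθ', -, rfl⟩ := (Cfsg.Agent.Lib.Helper74.mem_inducedIrrAbove_bot_iff _).mp hχ
  obtain ⟨θ'', hθ'', -, rfl⟩ := (Cfsg.Agent.Lib.Helper74.mem_inducedIrrAbove_bot_iff _).mp hφ
  exact inducedIrr_orth (KM M) hθ' hθ'' hne

/-- the conjugate of `η ω` is `η ω⁻¹` -/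
theorem eta_inv' (h : SubHypZ M W₁ U W₂ mu dl η) (ω : WChar W₁ W₂) :
    η ω⁻¹ = conjFun (η ω) :=
  Cfsg.Agent.Lib.Helper25.PFCyc.eta_inv h.hP.selfNormalizing h.oddW η h.hη ω

theorem conjFun_eta (h : SubHypZ M W₁ U W₂ mu dl η) (ω : WChar W₁ W₂) :
    conjFun (η ω⁻¹) = η ω := by
  rw [eta_inv' h ω, Cfsg.Agent.Lib.Helper64.conjFun_involutive]

/-- an irreducible member of `Z`: the Dade image of `χ - conj χ` -/
theorem irr_member (h : SubHypZ M W₁ U W₂ mu dl η) {Z : Set (↥M → ℂ)} (z : ZHyp M Z)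
    {χ : ↥M → ℂ} (hχ : χ ∈ Z) (hirr : IsIrrCharacter ↥M χ) :
    ∃ ν : G → ℂ, IsIrrCharacter G ν ∧ tauM M (χ - conjFun χ) = ν - conjFun ν ∧
      classInner ν (conjFun ν) = 0 ∧
      ∀ ω, classInner ν (η ω) = 0 ∧ classInner (conjFun ν) (η ω) = 0 := by
  classical
  obtain ⟨hS, hvan, hvanA⟩ := Z_char z
  have hsupp : ∀ x : ↥M, x ≠ 1 → (x : G) ∉ litA0 M → χ x = 0 := by
    intro x hx1 hx
    apply z.dom χ hχ x hx1
    intro hc
    exact hx (Or.inl hc)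
  obtain ⟨ν, hν, hτ0⟩ := Cfsg.Agent.S1518.result (litA0 M) M (supportR M) h.hD χ hirr hsupp
  have hτ : tauM M (χ - conjFun χ) = ν - conjFun ν := hτ0
  have hcν : IsIrrCharacter G (conjFun ν) := Cfsg.Agent.Lib.Helper81.isIrrCharacter_conj hν
  have hcχ : IsIrrCharacter ↥M (conjFun χ) := Cfsg.Agent.Lib.Helper81.isIrrCharacter_conj hirr
  have hmem := sub_conj_mem z hχ
  -- the norm of `χ - conj χ` is `2`
  have hn2 : classInner (χ - conjFun χ) (χ - conjFun χ) = 2 := by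
    have h1 : classInner χ (conjFun χ) = 0 :=
      Cfsg.Agent.Lib.Helper78.classInner_irr_ne hirr hcχ
        (fun hc => conj_ne_self_of_mem h (z.sub hχ) hc.symm)
    have h2 : classInner (conjFun χ) χ = 0 := by
      rw [← classInner_conj_symm, h1, map_zero]
    rw [classInner_sub_left, classInner_sub_right, classInner_sub_right,
      Cfsg.Agent.Lib.Helper78.classInner_irr_self hirr,
      Cfsg.Agent.Lib.Helper78.classInner_irr_self hcχ, h1, h2]
    norm_num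
  have hn2' : classInner (ν - conjFun ν) (ν - conjFun ν) = 2 := by
    rw [← hτ, isom_inner (Z_isometry h z).1 hmem hmem, hn2]
  have horth : classInner ν (conjFun ν) = 0 := by
    by_contra hne
    have h1 : classInner ν (conjFun ν) = 1 := by
      rw [Cfsg.Agent.Lib.Helper78.classInner_irr hν hcν] at hne ⊢
      split_ifs at hne ⊢ with heq
      · rfl
      · exact absurd rfl hne
    have h2 : classInner (conjFun ν) ν = 1 := by
      rw [← classInner_conj_symm, h1, map_one]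
    rw [classInner_sub_left, classInner_sub_right, classInner_sub_right,
      Cfsg.Agent.Lib.Helper78.classInner_irr_self hν,
      Cfsg.Agent.Lib.Helper78.classInner_irr_self hcν, h1, h2] at hn2'
    norm_num at hn2'
  have hne : conjFun ν ≠ ν := by
    intro hc
    rw [hc, Cfsg.Agent.Lib.Helper78.classInner_irr_self hν] at horth
    exact one_ne_zero horth
  -- vanishing at a generator of `W`
  obtain ⟨g, hg, hg₁, hg₂⟩ := exists_generator_W h.hP.selfNormalizing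
  have hcf : IsClassFunction ↥M (χ - conjFun χ) := by
    have h1 := Cfsg.Agent.Lib.Helper78.IsCharacter.isClassFunction (hS χ hχ)
    intro a x
    show χ (x * a * x⁻¹) - conjFun χ (x * a * x⁻¹) = χ a - conjFun χ a
    rw [h1 a x, isClassFunction_conjFun h1 a x]
  have hvan' : ∀ m : ↥M, (m : G) ∉ ⁅M, M⁆ → (χ - conjFun χ) m = 0 := by
    intro m hm
    show χ m - conj (χ m) = 0
    rw [hvan χ hχ m hm, map_zero, sub_zero]
  have hzero : ν (g : G) - conj (ν (g : G)) = 0 := by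
    have := tauM_vanish_W h _ hcf hvan' g hg₁ hg₂
    rw [hτ] at this
    exact this
  have key : ∀ ω, classInner ν (η ω) = 0 := by
    intro ω
    by_contra hne0
    -- `ν = ± η ω`
    have hcases : ν = η ω ∨ ν = -η ω := by
      rcases h.hη.irr_or_neg ω with hi | hi
      · left
        rw [Cfsg.Agent.Lib.Helper78.classInner_irr hν hi] at hne0
        by_contra hc
        exact hne0 (if_neg hc)
      · right
        have h1 : classInner ν (η ω) = -classInner ν (-η ω) := by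
          rw [classInner_neg_right, neg_neg]
        rw [h1, Cfsg.Agent.Lib.Helper78.classInner_irr hν hi] at hne0
        by_contra hc
        apply hne0
        rw [if_neg hc, neg_zero]
    have hval : η ω (g : G) = conj (η ω (g : G)) := by
      rcases hcases with hc | hc
      · rw [hc] at hzero
        exact sub_eq_zero.mp hzero
      · rw [hc] at hzero
        simp only [Pi.neg_apply, map_neg] at hzero
        have : -η ω (g : G) = -conj (η ω (g : G)) := sub_eq_zero.mp hzero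
        exact neg_injective this
    have hval2 : η ω (g : G) = η ω⁻¹ (g : G) := by
      rw [eta_inv' h ω]
      exact hval
    rw [h.hη.eq_on ω g hg₁ hg₂, h.hη.eq_on ω⁻¹ g hg₁ hg₂] at hval2
    have hωg : ω g = ω⁻¹ g := Units.ext hval2
    have hωω : ω = ω⁻¹ := wchar_ext_generator hg hωg
    have hηη : conjFun (η ω) = η ω := by
      rw [← eta_inv' h ω, ← hωω]
    apply hne
    rcases hcases with hc | hc
    · rw [hc, hηη]
    · rw [hc, Cfsg.Agent.Lib.Helper64.conjFun_neg, hηη]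
  refine ⟨ν, hν, hτ, horth, fun ω => ⟨key ω, ?_⟩⟩
  rw [← conjFun_eta h ω, Cfsg.Agent.Lib.Helper64.classInner_conjFun_conjFun, key ω⁻¹, map_zero]

end Cfsg.Agent.Lib.Helper51.PF10Z
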