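/-
helper51: subcoherence of a sub-family `Z ⊆ calS M` (module PF10-[SUBCOH-Z], helper16 #4538),
part C: the reducible members `μ_ψ` under `SubHypZ` (same proofs as `PFTenSubcohC.lean`).
-/
import Mathlib
import Cfsg.Agent.Lib.Helper51.PFTenSubcohZA

set_option autoImplicit false
set_option linter.unusedVariables false
set_option linter.unusedSectionVars false

namespace Cfsg.Agent.Lib.Helper51.PF10Z

open Cfsg Cfsg.Agent.Lib.Helper24.PFCyc Cfsg.Agent.Lib.Helper4.PF Cfsg.Agent.Lib.Helper26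
open Cfsg.Agent.Lib.Helper51.PFCyc Cfsg.Agent.Lib.Helper51.PF10
open scoped ComplexConjugate

universe u

variable {G : Type u} [Group G] [Fintype G] {M W₁ U W₂ : Subgroup G} [Fintype M]
  {mu : WChar W₁ W₂ → (↥M → ℂ)} {dl : WChar W₁ W₂ → ℂ} {η : WChar W₁ W₂ → (G → ℂ)}

/-! ### characters of `W` -/

/-! ### `μ_ψ` -/

/-- `conj μ_ω = μ_{ω⁻¹}` -/
theorem conj_mu (h : SubHypZ M W₁ U W₂ mu dl η) (ω : WChar W₁ W₂) :
    conjFun (mu ω) = mu ω⁻¹ := by
  have := (Cfsg.Agent.Lib.Helper9.PFCyc.mu_galChar h.hP h.hodd h.md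
    (Complex.conjAe.toRingEquiv) ω).1
  rw [Cfsg.Agent.Lib.Helper25.PFCyc.galChar_conj] at this
  rw [this]
  rfl

/-- `conj μ_ψ = μ_{ψ⁻¹}` for the sums -/
theorem conj_muSum (h : SubHypZ M W₁ U W₂ mu dl η) (ψ : WChar W₁ W₂) :
    conjFun (muSum mu ψ) = muSum mu ψ⁻¹ := by
  classical
  unfold muSum
  have h1 : conjFun (∑ φ ∈ trivSet W₁ W₂ W₂, mu (φ * ψ)) =
      ∑ φ ∈ trivSet W₁ W₂ W₂, mu (φ⁻¹ * ψ⁻¹) := by
    funext m
    show conj ((∑ φ ∈ trivSet W₁ W₂ W₂, mu (φ * ψ)) m) = _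
    rw [Finset.sum_apply, map_sum, Finset.sum_apply]
    apply Finset.sum_congr rfl
    intro φ _
    have := congrFun (conj_mu h (φ * ψ)) m
    rw [wchar_mul_inv] at this
    exact this
  rw [h1]
  exact Finset.sum_nbij' (fun φ => φ⁻¹) (fun φ => φ⁻¹)
    (fun φ hφ => mem_trivSet.mpr (mem_trivSet.mp hφ).inv)
    (fun φ hφ => mem_trivSet.mpr (mem_trivSet.mp hφ).inv)
    (fun φ _ => wchar_inv_inv φ) (fun φ _ => wchar_inv_inv φ) (fun φ _ => rfl)

open Classical in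
/-- inner products of the `μ_ψ` -/
theorem inner_muSum_muSum (h : SubHypZ M W₁ U W₂ mu dl η) {ψ ψ' : WChar W₁ W₂}
    (hψ : TrivOn W₁ ψ) (hψ' : TrivOn W₁ ψ') :
    classInner (muSum mu ψ) (muSum mu ψ') = if ψ = ψ' then (Nat.card W₁ : ℂ) else 0 := by
  classical
  have hW := h.hP.selfNormalizing
  unfold muSum
  rw [classInner_sum_left]
  have h1 : ∀ φ ∈ trivSet W₁ W₂ W₂,
      classInner (mu (φ * ψ)) (∑ φ' ∈ trivSet W₁ W₂ W₂, mu (φ' * ψ')) =
        if ψ = ψ' then 1 else 0 := by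
    intro φ hφ
    rw [classInner_sum_right]
    by_cases hψψ : ψ = ψ'
    · rw [if_pos hψψ, Finset.sum_eq_single φ]
      · rw [hψψ]
        exact Cfsg.Agent.Lib.Helper78.classInner_irr_self (h.md.irr _)
      · intro φ' hφ' hne
        apply Cfsg.Agent.Lib.Helper78.classInner_irr_ne (h.md.irr _) (h.md.irr _)
        intro hc
        have := (wchar_split hW (mem_trivSet.mp hφ) (mem_trivSet.mp hφ') hψ hψ' (h.md.inj hc)).1
        exact hne this.symm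
      · intro hc
        exact absurd hφ hc
    · rw [if_neg hψψ]
      apply Finset.sum_eq_zero
      intro φ' hφ'
      apply Cfsg.Agent.Lib.Helper78.classInner_irr_ne (h.md.irr _) (h.md.irr _)
      intro hc
      exact hψψ (wchar_split hW (mem_trivSet.mp hφ) (mem_trivSet.mp hφ') hψ hψ' (h.md.inj hc)).2
  rw [Finset.sum_congr rfl h1, Finset.sum_const, card_trivSet_W₂ hW]
  split_ifs <;> simp

theorem muSum_injective (h : SubHypZ M W₁ U W₂ mu dl η) {ψ ψ' : WChar W₁ W₂}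
    (hψ : TrivOn W₁ ψ) (hψ' : TrivOn W₁ ψ') (heq : muSum mu ψ = muSum mu ψ') : ψ = ψ' := by
  by_contra hne
  have h1 := inner_muSum_muSum h hψ hψ'
  rw [if_neg hne, heq, inner_muSum_muSum h hψ' hψ', if_pos rfl] at h1
  exact card_W₁_ne_zero h1

theorem muSum_not_irr (h : SubHypZ M W₁ U W₂ mu dl η) {ψ : WChar W₁ W₂} (hψ : TrivOn W₁ ψ) :
    ¬ IsIrrCharacter ↥M (muSum mu ψ) := by
  intro hirr
  have h1 := inner_muSum_muSum h hψ hψ
  rw [if_pos rfl, Cfsg.Agent.Lib.Helper78.classInner_irr_self hirr] at h1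
  have h2 : Nat.card W₁ = 1 := by exact_mod_cast h1.symm
  have h3 : 1 < Nat.card W₁ := (Subgroup.one_lt_card_iff_ne_bot W₁).mpr h.hP.W₁_ne
  omega

/-! ### the sets `R(μ_ψ)` -/

/-- every member of `R(μ_ψ)` is `± η ω` with `ω ∈ Φψ ∪ Φψ⁻¹` -/
theorem Rmu_form (h : SubHypZ M W₁ U W₂ mu dl η) {ψ : WChar W₁ W₂} {α : G → ℂ}
    (hα : α ∈ Rmu dl η ψ) :
    ∃ (s : ℂ) (φ : WChar W₁ W₂) (ψ₀ : WChar W₁ W₂), (s = 1 ∨ s = -1) ∧ TrivOn W₂ φ ∧
      (ψ₀ = ψ ∨ ψ₀ = ψ⁻¹) ∧ α = s • η (φ * ψ₀) := by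
  classical
  unfold Rmu at hα
  rw [Finset.mem_union, Finset.mem_image, Finset.mem_image] at hα
  rcases hα with ⟨φ, hφ, rfl⟩ | ⟨φ, hφ, rfl⟩
  · exact ⟨dl ψ, φ, ψ, h.md.sign ψ, mem_trivSet.mp hφ, Or.inl rfl, rfl⟩
  · refine ⟨-dl ψ, φ, ψ⁻¹, ?_, mem_trivSet.mp hφ, Or.inr rfl, ?_⟩
    · rcases h.md.sign ψ with hs | hs
      · right; rw [hs]
      · left; rw [hs, neg_neg]
    · rw [neg_smul]

open Classical in
/-- inner products of signed members of the cyclic TI family -/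
theorem inner_signed_eta (h : SubHypZ M W₁ U W₂ mu dl η) {s s' : ℂ} (hs : s = 1 ∨ s = -1)
    (hs' : s' = 1 ∨ s' = -1) (ω ω' : WChar W₁ W₂) :
    classInner (s • η ω) (s' • η ω') = if ω = ω' then s * s' else 0 := by
  have hc : conj s' = s' := by
    rcases hs' with h1 | h1 <;> rw [h1] <;> simp
  rw [classInner_smul_left, classInner_smul_right, hc, h.hη.orthonormal]
  split_ifs <;> ring

open Classical in
/-- `R(μ_ψ)` is orthonormal -/
theorem Rmu_orthonormal (h : SubHypZ M W₁ U W₂ mu dl η) {ψ : WChar W₁ W₂} (hψ : TrivOn W₁ ψ)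
    (hψ1 : ψ ≠ 1) :
    ∀ α ∈ Rmu dl η ψ, ∀ β ∈ Rmu dl η ψ, classInner α β = if α = β then 1 else 0 := by
  classical
  have hW := h.hP.selfNormalizing
  intro α hα β hβ
  by_cases hαβ : α = β
  · rw [if_pos hαβ, ← hαβ]
    obtain ⟨s, φ, ψ₀, hs, -, -, rfl⟩ := Rmu_form h hα
    rw [inner_signed_eta h hs hs, if_pos rfl, sq_sign hs]
  · rw [if_neg hαβ]
    unfold Rmu at hα hβ
    rw [Finset.mem_union, Finset.mem_image, Finset.mem_image] at hα hβ
    have hsgn := h.md.sign ψ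
    have hsgn' : -dl ψ = 1 ∨ -dl ψ = -1 := by
      rcases hsgn with hs | hs
      · right; rw [hs]
      · left; rw [hs, neg_neg]
    rcases hα with ⟨φ, hφ, rfl⟩ | ⟨φ, hφ, rfl⟩ <;> rcases hβ with ⟨φ', hφ', rfl⟩ | ⟨φ', hφ', rfl⟩
    · rw [inner_signed_eta h hsgn hsgn, if_neg]
      intro hc
      apply hαβ
      rw [hc]
    · rw [← neg_smul, inner_signed_eta h hsgn hsgn', if_neg]
      intro hc
      have := (wchar_split hW (mem_trivSet.mp hφ) (mem_trivSet.mp hφ') hψ hψ.inv hc).2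
      exact wchar_inv_ne_self h.oddW hψ1 this.symm
    · rw [← neg_smul, inner_signed_eta h hsgn' hsgn, if_neg]
      intro hc
      have := (wchar_split hW (mem_trivSet.mp hφ) (mem_trivSet.mp hφ') hψ.inv hψ hc).2
      exact wchar_inv_ne_self h.oddW hψ1 this
    · rw [← neg_smul, ← neg_smul, inner_signed_eta h hsgn' hsgn', if_neg]
      intro hc
      apply hαβ
      rw [hc]

/-- the sum of `R(μ_ψ)` -/
theorem Rmu_sum (h : SubHypZ M W₁ U W₂ mu dl η) {ψ : WChar W₁ W₂} (hψ : TrivOn W₁ ψ)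
    (hψ1 : ψ ≠ 1) :
    ∑ α ∈ Rmu dl η ψ, α = dl ψ • (etaSum η ψ - etaSum η ψ⁻¹) := by
  classical
  have hW := h.hP.selfNormalizing
  have hsgn := h.md.sign ψ
  have hsgn' : -dl ψ = 1 ∨ -dl ψ = -1 := by
    rcases hsgn with hs | hs
    · right; rw [hs]
    · left; rw [hs, neg_neg]
  have hnorm : ∀ {s : ℂ}, (s = 1 ∨ s = -1) → ∀ ω, s • η ω ≠ 0 := by
    intro s hs ω hc
    have h1 := inner_signed_eta h hs hs ω ω
    rw [if_pos rfl, sq_sign hs, hc, classInner_zero_left] at h1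
    exact zero_ne_one h1
  unfold Rmu
  rw [Finset.sum_union, Finset.sum_image, Finset.sum_image]
  · unfold etaSum
    rw [smul_sub, Finset.smul_sum, Finset.smul_sum, Finset.sum_neg_distrib, sub_eq_add_neg]
  · intro φ hφ φ' hφ' hc
    by_contra hne
    have h1 := inner_signed_eta h hsgn' hsgn' (φ * ψ⁻¹) (φ' * ψ⁻¹)
    rw [if_neg (fun hcc => hne (mul_right_cancel hcc))] at h1
    simp only [neg_smul] at h1
    simp only at hc
    rw [hc] at h1
    have h2 := inner_signed_eta h hsgn' hsgn' (φ' * ψ⁻¹) (φ' * ψ⁻¹)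
    rw [if_pos rfl, sq_sign hsgn', neg_smul] at h2
    rw [h1] at h2
    exact zero_ne_one h2
  · intro φ hφ φ' hφ' hc
    by_contra hne
    have h1 := inner_signed_eta h hsgn hsgn (φ * ψ) (φ' * ψ)
    rw [if_neg (fun hcc => hne (mul_right_cancel hcc))] at h1
    simp only at hc
    rw [hc] at h1
    have h2 := inner_signed_eta h hsgn hsgn (φ' * ψ) (φ' * ψ)
    rw [if_pos rfl, sq_sign hsgn] at h2
    rw [h1] at h2
    exact zero_ne_one h2
  · rw [Finset.disjoint_left]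
    intro α hα hα'
    rw [Finset.mem_image] at hα hα'
    obtain ⟨φ, hφ, rfl⟩ := hα
    obtain ⟨φ', hφ', hc⟩ := hα'
    have h1 := inner_signed_eta h hsgn' hsgn (φ' * ψ⁻¹) (φ * ψ)
    rw [if_neg, neg_smul, hc] at h1
    · have h2 := inner_signed_eta h hsgn hsgn (φ * ψ) (φ * ψ)
      rw [if_pos rfl, sq_sign hsgn, h1] at h2
      exact zero_ne_one h2
    · intro hcc
      have := (wchar_split hW (mem_trivSet.mp hφ') (mem_trivSet.mp hφ) hψ.inv hψ hcc).2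
      exact wchar_inv_ne_self h.oddW hψ1 this

/-- the Dade image of `μ_ψ - conj μ_ψ` -/
theorem tau_muSum_sub_conj (h : SubHypZ M W₁ U W₂ mu dl η) {ψ : WChar W₁ W₂} (hψ : TrivOn W₁ ψ)
    (hψ1 : ψ ≠ 1) :
    tauM M (muSum mu ψ - conjFun (muSum mu ψ)) = ∑ α ∈ Rmu dl η ψ, α := by
  rw [conj_muSum h ψ, Rmu_sum h hψ hψ1]
  exact h.musub ψ ψ⁻¹ hψ hψ.inv hψ1 (wchar_inv_ne_one hψ1)
    (fun hc => wchar_inv_ne_self h.oddW hψ1 hc.symm)

end Cfsg.Agent.Lib.Helper51.PF10Z
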