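/-
helper51: PF sec.13 wave 2 (helper16 #4669), module PF13-[IRRORTH]: for a coherent extension `τ₁`
of the Dade map on `calZ S`, the image of an irreducible member is orthogonal to all `η ω`.
-/
import Mathlib
import Cfsg.Agent.Lib.Helper51.PF13ZFacts
import Cfsg.Agent.Lib.Helper51.PF13IrrOrthA
import Cfsg.Agent.Lib.Helper54.PFCycLitA
import Cfsg.Agent.Lib.Helper25.Norm3

set_option autoImplicit false
set_option linter.unusedVariables false
set_option linter.unusedSectionVars false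

namespace Cfsg.Agent.Lib.Helper51.PF13

open Cfsg Cfsg.Agent.Lib.Helper24.PFCyc Cfsg.Agent.Lib.Helper4.PF Cfsg.Agent.Lib.Helper16.PF13
open Cfsg.Agent.Lib.Helper26
open scoped ComplexConjugate

universe u

variable {G : Type u} [Group G] [Fintype G] {S W₁ U W₂ : Subgroup G} [Fintype S]
  {mu : WChar W₁ W₂ → (↥S → ℂ)} {dl : WChar W₁ W₂ → ℂ} {η : WChar W₁ W₂ → (G → ℂ)}

theorem hyp0_of (h : PSide S W₁ U W₂ mu dl η) : Hyp0 S W₁ U W₂ η where
  hP := h.hP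
  hodd := oddS_of h
  hD := h.hD
  hη := h.hη
  hA0 := litA0_facts h.hP

theorem zHyp_of (h : PSide S W₁ U W₂ mu dl η) {ζ : ↥S → ℂ} (hζ : ζ ∈ calZ S) :
    Cfsg.Agent.Lib.Helper51.PF10Z.ZHyp S (calZ S) where
  sub := (calZ_facts h).1
  ne := ⟨ζ, hζ⟩
  conj_mem := fun χ hχ => ((calZ_facts h).2.1 χ hχ).2.1
  dom := (calZ_facts h).2.2.2.1

/-- the Dade image of `ζ - conj ζ` for an irreducible `ζ ∈ calZ S` -/
theorem irr_member_calZ (h : PSide S W₁ U W₂ mu dl η) {ζ : ↥S → ℂ} (hζ : ζ ∈ calZ S)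
    (hζi : IsIrrCharacter ↥S ζ) :
    ∃ ν : G → ℂ, IsIrrCharacter G ν ∧ tauM S (ζ - conjFun ζ) = ν - conjFun ν ∧
      classInner ν (conjFun ν) = 0 ∧
      ∀ ω, classInner ν (η ω) = 0 ∧ classInner (conjFun ν) (η ω) = 0 :=
  irr_member0 (hyp0_of h) (zHyp_of h hζ) hζ hζi

/-- MODULE PF13-[IRRORTH] -/
theorem tau1_irr_orth (h : PSide S W₁ U W₂ mu dl η) {τ₁ : (↥S → ℂ) → (G → ℂ)}
    (hτ₁ : IsLinearIsometryOn (zspan (calZ S)) τ₁)
    (hext : ∀ α ∈ zspanOn (calZ S) ({1}ᶜ : Set ↥S), τ₁ α = tauM S α)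
    (ζ : ↥S → ℂ) (hζ : ζ ∈ calZ S) (hζi : IsIrrCharacter ↥S ζ) (ω : WChar W₁ W₂) :
    classInner (τ₁ ζ) (η ω) = 0 := by
  classical
  have z := zHyp_of h hζ
  obtain ⟨ν, hν, hτ, -, hη0⟩ := irr_member_calZ h hζ hζi
  have hcζ : conjFun ζ ∈ calZ S := z.conj_mem ζ hζ
  have hζS : ζ ∈ zspan (calZ S) := subset_zspan _ hζ
  have hcζS : conjFun ζ ∈ zspan (calZ S) := subset_zspan _ hcζ
  have hcirr : IsIrrCharacter ↥S (conjFun ζ) := Cfsg.Agent.Lib.Helper81.isIrrCharacter_conj hζi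
  have hne : conjFun ζ ≠ ζ := ((calZ_facts h).2.1 ζ hζ).2.2
  -- `X - Y = ν - conj ν`
  have hXY : τ₁ ζ - τ₁ (conjFun ζ) = ν - conjFun ν := by
    rw [← isom_sub (isZClosed_zspan _) hτ₁ hζS hcζS,
      hext _ (Cfsg.Agent.Lib.Helper51.PF10Z.sub_conj_mem z hζ), hτ]
  -- norms
  have hX : Cfsg.Agent.Lib.Helper25.SIrr G (τ₁ ζ) := by
    apply Cfsg.Agent.Lib.Helper25.sirr_of_norm_one (isom_gen hτ₁ hζS)
    rw [isom_inner hτ₁ hζS hζS, Cfsg.Agent.Lib.Helper78.classInner_irr_self hζi]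
  have hY : Cfsg.Agent.Lib.Helper25.SIrr G (τ₁ (conjFun ζ)) := by
    apply Cfsg.Agent.Lib.Helper25.sirr_of_norm_one (isom_gen hτ₁ hcζS)
    rw [isom_inner hτ₁ hcζS hcζS, Cfsg.Agent.Lib.Helper78.classInner_irr_self hcirr]
  have hXYorth : classInner (τ₁ ζ) (τ₁ (conjFun ζ)) = 0 := by
    rw [isom_inner hτ₁ hζS hcζS]
    exact Cfsg.Agent.Lib.Helper78.classInner_irr_ne hζi hcirr (fun hc => hne hc.symm)
  have hE : Cfsg.Agent.Lib.Helper25.SIrr G (η ω) := h.hη.irr_or_neg ω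
  -- the coefficients of `η ω` in `X` and `Y` agree
  have hcoef : classInner (τ₁ ζ) (η ω) = classInner (τ₁ (conjFun ζ)) (η ω) := by
    have h1 : classInner (τ₁ ζ - τ₁ (conjFun ζ)) (η ω) = 0 := by
      rw [hXY, classInner_sub_left, (hη0 ω).1, (hη0 ω).2, sub_zero]
    rw [classInner_sub_left] at h1
    exact sub_eq_zero.mp h1
  by_contra hne0
  have hne0' : classInner (τ₁ (conjFun ζ)) (η ω) ≠ 0 := by rwa [← hcoef]
  -- `X = ± η ω` and `Y = ± η ω`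
  have hXe : τ₁ ζ = η ω ∨ τ₁ ζ = -η ω := by
    rcases hX.inner_tri hE with ⟨-, h1⟩ | ⟨-, h1⟩ | h1
    · exact Or.inl h1
    · exact Or.inr h1
    · exact absurd h1 hne0
  have hYe : τ₁ (conjFun ζ) = η ω ∨ τ₁ (conjFun ζ) = -η ω := by
    rcases hY.inner_tri hE with ⟨-, h1⟩ | ⟨-, h1⟩ | h1
    · exact Or.inl h1
    · exact Or.inr h1
    · exact absurd h1 hne0'
  have hnE := hE.norm
  rcases hXe with h1 | h1 <;> rcases hYe with h2 | h2 <;> rw [h1, h2] at hXYorth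
  · rw [hnE] at hXYorth; exact one_ne_zero hXYorth
  · rw [classInner_neg_right, hnE] at hXYorth; norm_num at hXYorth
  · rw [classInner_neg_left, hnE] at hXYorth; norm_num at hXYorth
  · rw [classInner_neg_left, classInner_neg_right, hnE] at hXYorth; norm_num at hXYorth

end Cfsg.Agent.Lib.Helper51.PF13
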