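/-
helper51: PF13-[IRRORTH] for a conjugation-closed sub-family `Z' ⊆ calZ S` (helper4 #4813 (b)).
-/
import Mathlib
import Cfsg.Agent.Lib.Helper51.PF13IrrOrth

set_option autoImplicit false
set_option linter.unusedVariables false
set_option linter.unusedSectionVars false

namespace Cfsg.Agent.Lib.Helper51.PF13

open Cfsg Cfsg.Agent.Lib.Helper24.PFCyc Cfsg.Agent.Lib.Helper4.PF Cfsg.Agent.Lib.Helper16.PF13
open Cfsg.Agent.Lib.Helper26
open scoped ComplexConjugate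

universe u

variable {G : Type u} [Group G] [Fintype G] {S W₁ U W₂ : Subgroup G} [Fintype S]
  {mu : WChar W₁ W₂ → (↥S → ℂ)} {dl : WChar W₁ W₂ → ℂ} {η : WChar W₁ W₂ → (G → ℂ)}

theorem zHyp_sub_of (h : PSide S W₁ U W₂ mu dl η) {Z' : Set (↥S → ℂ)} (hZ' : Z' ⊆ calZ S)
    (hconj : ∀ χ ∈ Z', conjFun χ ∈ Z') {ζ : ↥S → ℂ} (hζ : ζ ∈ Z') :
    Cfsg.Agent.Lib.Helper51.PF10Z.ZHyp S Z' where
  sub := hZ'.trans (calZ_facts h).1
  ne := ⟨ζ, hζ⟩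
  conj_mem := hconj
  dom := fun χ hχ => (calZ_facts h).2.2.2.1 χ (hZ' hχ)

/-- PF13-[IRRORTH] for a conjugation-closed sub-family of `calZ S` -/
theorem tau1_irr_orth_sub (h : PSide S W₁ U W₂ mu dl η) {Z' : Set (↥S → ℂ)}
    (hZ' : Z' ⊆ calZ S) (hconj : ∀ χ ∈ Z', conjFun χ ∈ Z')
    {τ₁ : (↥S → ℂ) → (G → ℂ)}
    (hτ₁ : IsLinearIsometryOn (zspan Z') τ₁)
    (hext : ∀ α ∈ zspanOn Z' ({1}ᶜ : Set ↥S), τ₁ α = tauM S α)
    (ζ : ↥S → ℂ) (hζ : ζ ∈ Z') (hζi : IsIrrCharacter ↥S ζ) (ω : WChar W₁ W₂) :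
    classInner (τ₁ ζ) (η ω) = 0 := by
  classical
  have z := zHyp_sub_of h hZ' hconj hζ
  obtain ⟨ν, hν, hτ, -, hη0⟩ := irr_member_calZ h (hZ' hζ) hζi
  have hcζ : conjFun ζ ∈ Z' := hconj ζ hζ
  have hζS : ζ ∈ zspan Z' := subset_zspan _ hζ
  have hcζS : conjFun ζ ∈ zspan Z' := subset_zspan _ hcζ
  have hcirr : IsIrrCharacter ↥S (conjFun ζ) := Cfsg.Agent.Lib.Helper81.isIrrCharacter_conj hζi
  have hne : conjFun ζ ≠ ζ := ((calZ_facts h).2.1 ζ (hZ' hζ)).2.2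
  have hXY : τ₁ ζ - τ₁ (conjFun ζ) = ν - conjFun ν := by
    rw [← isom_sub (isZClosed_zspan _) hτ₁ hζS hcζS,
      hext _ (Cfsg.Agent.Lib.Helper51.PF10Z.sub_conj_mem z hζ), hτ]
  have hX : Cfsg.Agent.Lib.Helper25.SIrr G (τ₁ ζ) := by
    apply Cfsg.Agent.Lib.Helper25.sirr_of_norm_one (isom_gen hτ₁ hζS)
    rw [isom_inner hτ₁ hζS hζS, Cfsg.Agent.Lib.Helper78.classInner_irr_self hζi]
  have hY : Cfsg.Agent.Lib.Helper25.SIrr G (τ₁ (conjFun ζ)) := by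
    apply Cfsg.Agent.Lib.Helper25.sirr_of_norm_one (isom_gen hτ₁ hcζS)
    rw [isom_inner hτ₁ hcζS hcζS, Cfsg.Agent.Lib.Helper78.classInner_irr_self hcirr]
  have hXYorth : classInner (τ₁ ζ) (τ₁ (conjFun ζ)) = 0 := by
    rw [isom_inner hτ₁ hζS hcζS]
    exact Cfsg.Agent.Lib.Helper78.classInner_irr_ne hζi hcirr (fun hc => hne hc.symm)
  have hE : Cfsg.Agent.Lib.Helper25.SIrr G (η ω) := h.hη.irr_or_neg ω
  have hcoef : classInner (τ₁ ζ) (η ω) = classInner (τ₁ (conjFun ζ)) (η ω) := by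
    have h1 : classInner (τ₁ ζ - τ₁ (conjFun ζ)) (η ω) = 0 := by
      rw [hXY, classInner_sub_left, (hη0 ω).1, (hη0 ω).2, sub_zero]
    rw [classInner_sub_left] at h1
    exact sub_eq_zero.mp h1
  by_contra hne0
  have hne0' : classInner (τ₁ (conjFun ζ)) (η ω) ≠ 0 := by rwa [← hcoef]
  have hXe : τ₁ ζ = η ω ∨ τ₁ ζ = -η ω := by
    rcases hX.inner_tri hE with ⟨-, h1⟩ | ⟨-, h1⟩ | h1
    · exact Or.inl h1
    · exact Or.inr h1
    · exact absurd h1 hne0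
  have hYe : τ₁ (conjFun ζ) = η ω ∨ τ₁ (conjFun ζ) = -η ω := by
    rcases hY.inner_tri hE with ⟨-, h1⟩ | ⟨-, h1⟩ | h1
    · exact Or.inl h1
    · exact Or.inr h1
    · exact absurd h1 hne0'
  have hnE := hE.norm
  rcases hXe with h1 | h1 <;> rcases hYe with h2 | h2 <;> rw [h1, h2] at hXYorth
  · rw [hnE] at hXYorth; exact one_ne_zero hXYorth
  · rw [classInner_neg_right, hnE] at hXYorth; norm_num at hXYorth
  · rw [classInner_neg_left, hnE] at hXYorth; norm_num at hXYorth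
  · rw [classInner_neg_left, classInner_neg_right, hnE] at hXYorth; norm_num at hXYorth

end Cfsg.Agent.Lib.Helper51.PF13
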