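/-
helper51: PF sec.13: subcoherence (Peterfalvi (10.2)-type coherence system) of `calZ S` and of its
conjugation-closed sub-families, from `PSide` (uses helper49's [MUSUB]).
-/
import Mathlib
import Cfsg.Agent.Lib.Helper51.PF13IrrOrthSub
import Cfsg.Agent.Lib.Helper51.PFTenSubcohZ
import Cfsg.Agent.Lib.Helper49.PF13MuSub

set_option autoImplicit false
set_option linter.unusedVariables false
set_option linter.unusedSectionVars false

namespace Cfsg.Agent.Lib.Helper51.PF13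

open Cfsg Cfsg.Agent.Lib.Helper24.PFCyc Cfsg.Agent.Lib.Helper4.PF Cfsg.Agent.Lib.Helper16.PF13
open Cfsg.Agent.Lib.Helper26

universe u

variable {G : Type u} [Group G] [Fintype G] {S W₁ U W₂ : Subgroup G} [Fintype S]
  {mu : WChar W₁ W₂ → (↥S → ℂ)} {dl : WChar W₁ W₂ → ℂ} {η : WChar W₁ W₂ → (G → ℂ)}

/-- `PSide` gives the hypotheses of `PF10Z.subcoherent_sub` -/
theorem subHypZ_of (h : PSide S W₁ U W₂ mu dl η) :
    Cfsg.Agent.Lib.Helper51.PF10Z.SubHypZ S W₁ U W₂ mu dl η where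
  hP := h.hP
  hodd := oddS_of h
  hD := h.hD
  md := h.md
  hη := h.hη
  hA0 := litA0_facts h.hP
  musub := by
    intro ψ ψ' hψ hψ' hψ1 hψ'1 hne
    obtain ⟨δ, -, hδ, hsub⟩ := Cfsg.Agent.Lib.Helper49.PF13.musub_pair h
    rw [hδ ψ hψ hψ1]
    exact hsub ψ ψ' hψ hψ' hψ1 hψ'1 hne

open Classical in
/-- **Subcoherence of a sub-family of `calZ S`** (Peterfalvi (10.2) in the sec.13 context): a
nonempty conjugation-closed `Z' ⊆ calZ S`, with the Dade isometry of `A₀(S)`, is a coherence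
system; the `R`-sets are explicit on the `μ_j` and `{ν, -conj ν}` (orthogonal to all `η ω`) on the
irreducible members. -/
theorem subcoherent_calZ_sub (h : PSide S W₁ U W₂ mu dl η) (Z' : Set (↥S → ℂ))
    (hZ' : Z' ⊆ calZ S) (hne : Z'.Nonempty) (hconj : ∀ χ ∈ Z', conjFun χ ∈ Z') :
    ∃ R : (↥S → ℂ) → Finset (G → ℂ), IsCoherenceSystem Z' (tauM S) R ∧
      (∀ ψ : WChar W₁ W₂, TrivOn W₁ ψ → ψ ≠ 1 →
        R (muSum mu ψ) = (trivSet W₁ W₂ W₂).image (fun φ => dl ψ • η (φ * ψ)) ∪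
          (trivSet W₁ W₂ W₂).image (fun φ => -(dl ψ • η (φ * ψ⁻¹)))) ∧
      (∀ χ ∈ Z', IsIrrCharacter ↥S χ → ∃ ν : G → ℂ, IsIrrCharacter G ν ∧
        R χ = {ν, -conjFun ν} ∧ tauM S (χ - conjFun χ) = ν - conjFun ν ∧
        ∀ ω, classInner ν (η ω) = 0) :=
  Cfsg.Agent.Lib.Helper51.PF10Z.subcoherent_sub (subHypZ_of h) Z'
    (hZ'.trans (calZ_facts h).1) hne hconj
    (fun χ hχ => (calZ_facts h).2.2.2.1 χ (hZ' hχ))

open Classical in
/-- the case `Z' = calZ S` -/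
theorem subcoherent_calZ (h : PSide S W₁ U W₂ mu dl η) (hne : (calZ S).Nonempty) :
    ∃ R : (↥S → ℂ) → Finset (G → ℂ), IsCoherenceSystem (calZ S) (tauM S) R ∧
      (∀ ψ : WChar W₁ W₂, TrivOn W₁ ψ → ψ ≠ 1 →
        R (muSum mu ψ) = (trivSet W₁ W₂ W₂).image (fun φ => dl ψ • η (φ * ψ)) ∪
          (trivSet W₁ W₂ W₂).image (fun φ => -(dl ψ • η (φ * ψ⁻¹)))) ∧
      (∀ χ ∈ calZ S, IsIrrCharacter ↥S χ → ∃ ν : G → ℂ, IsIrrCharacter G ν ∧
        R χ = {ν, -conjFun ν} ∧ tauM S (χ - conjFun χ) = ν - conjFun ν ∧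
        ∀ ω, classInner ν (η ω) = 0) :=
  subcoherent_calZ_sub h (calZ S) subset_rfl hne
    (fun χ hχ => ((calZ_facts h).2.1 χ hχ).2.1)

end Cfsg.Agent.Lib.Helper51.PF13
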