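import Cfsg.Agent.Lib.Helper51.BGTwelveB
import Cfsg.Agent.Lib.Helper54.Transitivity
import Cfsg.Agent.Lib.Helper54.UqEight
import Cfsg.Agent.S1394
import Cfsg.Agent.S1395

/-!
# Bender–Glauberman Proposition 10.11, first half (helper51)

If `A` satisfies the transitivity hypothesis, `q ∣ |C_G(A)|` and `Q ∈ И*(A; q)`, then some Sylow
`p`-subgroup `S ⊇ A` of `G` lies in `N_G(Q)'`.
-/

set_option autoImplicit false

namespace Cfsg.Agent.Lib.Helper51.BG12

open Cfsg
open scoped Pointwise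
open Cfsg.Agent.Lib.Helper54

variable {G : Type*} [Group G]

theorem exists_sylow_le_commutator_normalizer [Finite G] (hG : IsMinSimpleOddOrder G)
    (h1411 : ∀ (q : ℕ) [Fact q.Prime] (P : Sylow q G),
      (P : Subgroup G) ≤ ⁅Subgroup.normalizer ((P : Subgroup G) : Set G),
        Subgroup.normalizer ((P : Subgroup G) : Set G)⁆)
    (p : ℕ) [Fact p.Prime] (A : Subgroup G) (hAp : IsPGroup p A)
    (hA : TransitivityHypothesis A)
    (hZ : ¬ RankLE 1 ↥(A ⊓ Subgroup.centralizer (A : Set G)))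
    (q : ℕ) (hq : q.Prime) (hqp : q ≠ p)
    (hqC : q ∣ Nat.card (Subgroup.centralizer (A : Set G)))
    (Q : Subgroup G) (hQ : Q ∈ maxInvSubgroups ⊤ A {q}) :
    ∃ S : Sylow p G, A ≤ (S : Subgroup G) ∧
      (S : Subgroup G) ≤ ⁅Subgroup.normalizer (Q : Set G), Subgroup.normalizer (Q : Set G)⁆ := by
  have hp : p.Prime := Fact.out
  have hs : IsSimpleGroup G := hG.2.1
  have hA1 : A ≠ ⊥ := hA.1
  have hqA : ¬ q ∣ Nat.card A := by
    intro h
    obtain ⟨k, hk⟩ := IsPGroup.iff_card.mp hAp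
    rw [hk] at h
    exact hqp ((Nat.prime_dvd_prime_iff_eq hq hp).mp (hq.dvd_of_dvd_pow h))
  have htr := Cfsg.Agent.S1394.result hG A hA hZ q hq hqA hqC
  obtain ⟨S0, hAS0⟩ := hAp.exists_le_sylow
  have hS0top : (S0 : Subgroup G) ≠ ⊤ := ne_top_of_isPGroup hs hG.2.2.1 S0.isPGroup'
  have hS0π : ∀ r : ℕ, r.Prime → r ∣ Nat.card (S0 : Subgroup G) → r ∣ Nat.card A := by
    intro r hr hrd
    obtain ⟨k, hk⟩ := IsPGroup.iff_card.mp S0.isPGroup'
    rw [hk] at hrd
    have h1 : r = p := (Nat.prime_dvd_prime_iff_eq hr hp).mp (hr.dvd_of_dvd_pow hrd)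
    rw [h1]
    exact dvd_card_of_isPGroup_ne_bot hAp hA1
  have hsn : (A.subgroupOf (S0 : Subgroup G)).IsSubnormal := by
    have : Group.IsNilpotent ↥(S0 : Subgroup G) := S0.isPGroup'.isNilpotent
    exact isSubnormal_of_nilpotent _
  obtain ⟨-, -, hsub, hQ'⟩ := Cfsg.Agent.S1395.result hG A hA q hq hqA (S0 : Subgroup G) hS0top
    hS0π hAS0 hsn htr
  have hbot : (⊥ : Subgroup G) ∈ invSubgroups ⊤ (S0 : Subgroup G) {q} := by
    refine ⟨bot_le, ?_, ?_⟩
    · intro r hr hrd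
      rw [Subgroup.card_bot] at hrd
      exact absurd (Nat.dvd_one.mp hrd) hr.one_lt.ne'
    · intro g _
      rw [Subgroup.mem_normalizer_iff]
      intro x
      simp [Subgroup.mem_bot]
  obtain ⟨Q', hQ'mem, -⟩ := exists_maxInv_ge (S0 : Subgroup G) q hbot
  have hQ'A := hsub hQ'mem
  obtain ⟨k, hk, hQk⟩ := htr Q' hQ'A Q hQ
  have hkC : k ∈ Subgroup.centralizer (A : Set G) := (Subgroup.map_subtype_le _) hk
  have h1 : (S0 : Subgroup G) ≤
      ⁅Subgroup.normalizer (Q' : Set G), Subgroup.normalizer (Q' : Set G)⁆ :=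
    (le_inf le_rfl (h1411 p S0)).trans (hQ' Q' hQ'mem).1
  refine ⟨k • S0, ?_, ?_⟩
  · rw [Sylow.smul_def, Sylow.pointwise_smul_def]
    intro a ha
    rw [mem_conj_smul_iff]
    have h2 : k⁻¹ * a * k = a := by
      have := Subgroup.mem_centralizer_iff.mp hkC a ha
      rw [mul_assoc, this, ← mul_assoc, inv_mul_cancel, one_mul]
    rw [h2]
    exact hAS0 ha
  · rw [Sylow.smul_def, Sylow.pointwise_smul_def]
    have h2 : Q = MulAut.conj k • Q' := hQk
    rw [h2, normalizer_conj_smul]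
    have h3 := conj_smul_le_conj_smul (g := k) h1
    refine h3.trans (le_of_eq ?_)
    exact Subgroup.map_commutator _ _ _

end Cfsg.Agent.Lib.Helper51.BG12
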