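import Cfsg.Agent.Lib.Helper51.BGTwelveF
import Cfsg.Agent.Lib.Helper51.BGTwelveG
import Cfsg.Agent.Lib.Helper23.BGTen7
import Cfsg.Agent.Lib.Helper55.BGElevenD

/-!
# Bender–Glauberman Proposition 12.4 = statement S1416 (helper51), assembly

`s1416_of`: the literal conclusion of S1416 from the Uniqueness Theorem (S1403), `p`-length one
(S1410), S1406 and BG Theorem 11.5 (`H117`).
-/

set_option autoImplicit false

namespace Cfsg.Agent.Lib.Helper51.BG12

open Cfsg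
open scoped Pointwise
open Cfsg.Agent.Lib.Helper34 (UniquenessThm)
open Cfsg.Agent.Lib.Helper54

variable {G : Type*} [Group G]

/-- **Bender–Glauberman Proposition 12.4** (statement S1416), conditionally. -/
theorem s1416_of [Finite G] (hG : IsMinSimpleOddOrder G) (hU : UniquenessThm G)
    (h117 : H117 G)
    (hPL : ∀ (q : ℕ) [Fact q.Prime] (H : Subgroup G), H ≠ ⊤ → PLengthLE q 1 H)
    (h1406 : H1406 G)
    (M : Subgroup G) (hM : IsCoatom M) (p : ℕ) [Fact p.Prime] (A : Subgroup G)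
    (hA : A ≤ M ∧ IsElementaryAbelian p A ∧ Nat.card A = p ^ 2) :
    Subgroup.centralizer (A : Set G) ≤ M ∧
      ((∀ A₀ : Subgroup G, A₀ ≤ A → Nat.card A₀ = p →
          ¬ (Subgroup.normalizer (A₀ : Set G) ≤ M ∧ ∀ L : Subgroup G, IsCoatom L →
            Subgroup.normalizer (A₀ : Set G) ≤ L → L = M)) →
        p ∈ sigma M ∧ alphaCore M = ⊥ ∧ Group.IsNilpotent (sigmaCore M)) := by
  obtain ⟨hAM, hAe, hAc⟩ := hA
  have hAp : IsPGroup p A := Cfsg.Agent.Lib.Helper34.isPGroup_of_isElementaryAbelian hAe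
  have h1411 : ∀ (q : ℕ) [Fact q.Prime] (P : Sylow q G),
      (P : Subgroup G) ≤ ⁅Subgroup.normalizer ((P : Subgroup G) : Set G),
        Subgroup.normalizer ((P : Subgroup G) : Set G)⁆ :=
    fun q _ P => Cfsg.Agent.Lib.Helper23.sylow_le_commutator_normalizer
      (fun r _ H hH => hPL r H hH) hG q P
  by_cases hex : ∃ A₀ : Subgroup G, A₀ ≤ A ∧ Nat.card A₀ = p ∧
      (Subgroup.normalizer (A₀ : Set G) ≤ M ∧ ∀ L : Subgroup G, IsCoatom L →
        Subgroup.normalizer (A₀ : Set G) ≤ L → L = M)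
  · obtain ⟨A₀, hA₀, hc, hN, hu⟩ := hex
    refine ⟨?_, fun h => absurd ⟨hN, hu⟩ (h A₀ hA₀ hc)⟩
    exact (Subgroup.centralizer_le hA₀).trans ((Subgroup.centralizer_le_normalizer _).trans hN)
  · have hNU : NoUniqLine M p A := fun A₀ hA₀ hc h => hex ⟨A₀, hA₀, hc, h⟩
    have hH : HLine M p A := hLine_of_noUniqLine hG hAp hNU
    have hpα := not_mem_alpha_of_hLine hG hU M hM p A hAM hAe hAc hH
    have hα := alphaCore_eq_bot_of_hLine hG hU h117 p (hPL p) M hM A hAM hAe hAc hH hpα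
      (h1406 M hM A hAM)
    obtain ⟨hnM, hnσ⟩ := isNilpotent_of_alphaCore_eq_bot hG hU h1411 M hM hα
    have hσ1 := Cfsg.Agent.Lib.Helper55.BGEleven.sigmaCore_ne_bot hG hU M hM
    have hpσ := mem_sigma_of_hLine hG hU h117 M hM hσ1 hnσ hnM p (hPL p) A hAM hAe hAc hH
      (fun hTH hZ q hq hqp hqC Q hQ =>
        exists_sylow_le_commutator_normalizer hG h1411 p A hAp hTH hZ q hq hqp hqC Q hQ)
    exact ⟨centralizer_le_of_mem_sigma hG hU M hM hnσ p hpσ hpα A hAM hAe hAc hH,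
      fun _ => ⟨hpσ, hα, hnσ⟩⟩

end Cfsg.Agent.Lib.Helper51.BG12
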