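import Cfsg.Agent.Lib.Helper51.BGTwelveA
import Cfsg.Agent.Lib.Helper54.BGElevenC

/-!
# Bender–Glauberman Lemma 12.3 (helper51), part B

Lemma N (`le_normalizer_sigmaCore_sup`), and the two parts of Lemma 12.3:
`alphaCore_inf_le_centralizer` (12.3(b)) and `sigmaCore_inf_le_centralizer` (12.3(a), nilpotent case).
Hypothesis `H117` is BG Theorem 11.5 (`M_σ A ⊴ M` for exceptional `M`).
-/

set_option autoImplicit false

namespace Cfsg.Agent.Lib.Helper51.BG12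

open Cfsg
open scoped Pointwise
open Cfsg.Agent.Lib.Helper34 (UniquenessThm)
open Cfsg.Agent.Lib.Helper54

variable {G : Type*} [Group G]

/-- BG Theorem 11.5 (called 11.7 on the board): for exceptional `M`, `M_σ A ⊴ M`. -/
def H117 (G : Type*) [Group G] : Prop :=
  ∀ (M : Subgroup G) (p : ℕ) [Fact p.Prime] (A₀ A : Subgroup G), IsExceptional M p A₀ A →
    M ≤ Subgroup.normalizer ((sigmaCore M ⊔ A : Subgroup G) : Set G)

/-- hypothesis (H) of BG 12.4 in the form in which it is used. -/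
def HLine (M : Subgroup G) (p : ℕ) (A : Subgroup G) : Prop :=
  ∀ A₀ : Subgroup G, A₀ ≤ A → Nat.card A₀ = p →
    ∃ Ms : Subgroup G, IsCoatom Ms ∧ Ms ≠ M ∧ Subgroup.normalizer (A₀ : Set G) ≤ Ms

theorem cj_eq_smul (g : G) (M : Subgroup G) : cj g M = MulAut.conj g • M := rfl

theorem le_centralizer_of_le_of_comm {A A₀ : Subgroup G} (hA₀ : A₀ ≤ A)
    (hc : ∀ x ∈ A, ∀ y ∈ A, x * y = y * x) : A ≤ Subgroup.centralizer (A₀ : Set G) := by
  intro a ha
  rw [Subgroup.mem_centralizer_iff]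
  intro y hy
  exact hc y (hA₀ hy) a ha

theorem le_normalizer_of_le_of_comm {A A₀ : Subgroup G} (hA₀ : A₀ ≤ A)
    (hc : ∀ x ∈ A, ∀ y ∈ A, x * y = y * x) : A ≤ Subgroup.normalizer (A₀ : Set G) :=
  (le_centralizer_of_le_of_comm hA₀ hc).trans (Subgroup.centralizer_le_normalizer _)

theorem hLine_of_noUniqLine [Finite G] (hG : IsMinSimpleOddOrder G) {M : Subgroup G}
    {p : ℕ} [Fact p.Prime] {A : Subgroup G} (hAp : IsPGroup p A) (h : NoUniqLine M p A) :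
    HLine M p A := by
  intro A₀ hA₀ hc
  have hp : p.Prime := Fact.out
  have hA₀p : IsPGroup p A₀ := hAp.to_le hA₀
  have h1 : A₀ ≠ ⊥ := by
    intro h0
    rw [h0, Subgroup.card_bot] at hc
    exact hp.one_lt.ne hc
  have h2 : A₀ ≠ ⊤ := ne_top_of_isPGroup hG.2.1 hG.2.2.1 hA₀p
  have h3 := normalizer_ne_top_of_simple hG.2.1 h1 h2
  have h4 := h A₀ hA₀ hc
  by_cases h5 : Subgroup.normalizer (A₀ : Set G) ≤ M
  · have h6 : ¬ ∀ L : Subgroup G, IsCoatom L → Subgroup.normalizer (A₀ : Set G) ≤ L → L = M :=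
      fun h7 => h4 ⟨h5, h7⟩
    push Not at h6
    obtain ⟨L, hL, hNL, hne⟩ := h6
    exact ⟨L, hL, hne, hNL⟩
  · obtain ⟨L, hL, hNL⟩ := exists_isCoatom_ge h3
    refine ⟨L, hL, ?_, hNL⟩
    rintro rfl
    exact h5 hNL

/-! ### Lemma N -/

theorem isPi_of_card_eq_pow [Finite G] {p k : ℕ} [Fact p.Prime] {A : Subgroup G}
    (hAc : Nat.card A = p ^ k) {π : Set ℕ} (hp : p ∈ π) :
    ∀ r : ℕ, r.Prime → r ∣ Nat.card A → r ∈ π := by
  intro r hr hrd
  rw [hAc] at hrd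
  have hpp : p.Prime := Fact.out
  have := (Nat.prime_dvd_prime_iff_eq hr hpp).mp (hr.dvd_of_dvd_pow hrd)
  rw [this]
  exact hp

/-- Lemma N: if `N_G(A₀) ≤ M*` for some `A₀ ≤ A` of order `p`, `A ∈ E_p^2(M*)`, then `M*_σ A ⊴ M*`. -/
theorem le_normalizer_sigmaCore_sup [Finite G] (hG : IsMinSimpleOddOrder G) (hU : UniquenessThm G)
    (h117 : H117 G) (Ms : Subgroup G) (hMs : IsCoatom Ms) (p : ℕ) [Fact p.Prime]
    (A₀ A : Subgroup G) (hAMs : A ≤ Ms) (hAe : IsElementaryAbelian p A)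
    (hAc : Nat.card A = p ^ 2) (hA₀ : A₀ ≤ A) (hA₀c : Nat.card A₀ = p)
    (hN : Subgroup.normalizer (A₀ : Set G) ≤ Ms) :
    Ms ≤ Subgroup.normalizer ((sigmaCore Ms ⊔ A : Subgroup G) : Set G) := by
  by_cases hpσ : p ∈ sigma Ms
  · have h1 : A ≤ sigmaCore Ms :=
      le_sigmaCore_of_isPi hG hU Ms hMs hAMs (isPi_of_card_eq_pow hAc hpσ)
    rw [sup_eq_left.mpr h1]
    exact le_normalizer_sigmaCore Ms
  · exact h117 Ms p A₀ A ⟨hMs, hpσ, hAMs, hAe, hAc, hA₀, hA₀c, hN⟩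

/-! ### Lemma 12.3 -/

theorem sigma_conj_smul (g : G) (M : Subgroup G) : sigma (MulAut.conj g • M) = sigma M :=
  sigma_cj g M

/-- The conjugate case of Lemma 12.3: if `M* = M^g ≠ M` and `p ∉ σ(M)`, then `M ∩ M*_σ = 1`. -/
theorem inf_sigmaCore_eq_bot_of_conj [Finite G] (hG : IsMinSimpleOddOrder G) (hU : UniquenessThm G)
    (p : ℕ) [Fact p.Prime] (hPL : ∀ H : Subgroup G, H ≠ ⊤ → PLengthLE p 1 H)
    (M Ms : Subgroup G) (hMs : IsCoatom Ms) (hne : Ms ≠ M) (hpσ : p ∉ sigma M)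
    (A₀ A : Subgroup G) (hAM : A ≤ M) (hAMs : A ≤ Ms) (hAe : IsElementaryAbelian p A)
    (hAc : Nat.card A = p ^ 2) (hA₀ : A₀ ≤ A) (hA₀c : Nat.card A₀ = p)
    (hN : Subgroup.normalizer (A₀ : Set G) ≤ Ms) (g : G) (hg : MulAut.conj g • M = Ms) :
    M ⊓ sigmaCore Ms = ⊥ := by
  have hpσ' : p ∉ sigma Ms := by rw [← hg, sigma_conj_smul]; exact hpσ
  have hexc : IsExceptional Ms p A₀ A := ⟨hMs, hpσ', hAMs, hAe, hAc, hA₀, hA₀c, hN⟩
  have hM' : MulAut.conj g⁻¹ • Ms = M := by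
    rw [← hg, ← mul_smul, ← map_mul, inv_mul_cancel, map_one, one_smul]
  have hgMs : g⁻¹ ∉ Ms := by
    intro h
    apply hne
    have h1 : MulAut.conj g⁻¹ • Ms = Ms :=
      mem_normalizer_iff_conj_smul.mp (Subgroup.le_normalizer h)
    rw [← h1, hM']
  have h2 := exceptional_sigmaCore_inf_conj hG hU p hPL Ms A₀ A hexc g⁻¹ hgMs (by rw [hM']; exact hAM)
  rw [hM'] at h2
  rw [inf_comm]
  exact h2

/-- **Bender–Glauberman Lemma 12.3(b).** -/
theorem alphaCore_inf_le_centralizer [Finite G] (hG : IsMinSimpleOddOrder G) (hU : UniquenessThm G)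
    (h117 : H117 G) (p : ℕ) [Fact p.Prime] (hPL : ∀ H : Subgroup G, H ≠ ⊤ → PLengthLE p 1 H)
    (M Ms : Subgroup G) (hM : IsCoatom M) (hMs : IsCoatom Ms) (hne : Ms ≠ M) (hpα : p ∉ alpha M)
    (A₀ A : Subgroup G) (hAM : A ≤ M) (hAe : IsElementaryAbelian p A)
    (hAc : Nat.card A = p ^ 2) (hA₀ : A₀ ≤ A) (hA₀c : Nat.card A₀ = p)
    (hN : Subgroup.normalizer (A₀ : Set G) ≤ Ms) :
    alphaCore M ⊓ Ms ≤ Subgroup.centralizer (A : Set G) := by
  have hp : p.Prime := Fact.out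
  have hcomm : ∀ x ∈ A, ∀ y ∈ A, x * y = y * x := fun _ hx _ hy =>
    Cfsg.Agent.Lib.Helper45.IsElementaryAbelian_comm hAe hx hy
  have hAMs : A ≤ Ms := (le_normalizer_of_le_of_comm hA₀ hcomm).trans hN
  have hAp : IsPGroup p A := Cfsg.Agent.Lib.Helper34.isPGroup_of_isElementaryAbelian hAe
  have hNs := le_normalizer_sigmaCore_sup hG hU h117 Ms hMs p A₀ A hAMs hAe hAc hA₀ hA₀c hN
  have hDM : alphaCore M ≤ M := Subgroup.map_subtype_le _
  have hAD : A ≤ Subgroup.normalizer (alphaCore M : Set G) :=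
    hAM.trans (le_normalizer_piCoreOf (alpha M) M)
  have hDp : ¬ p ∣ Nat.card (alphaCore M) := fun h => hpα (alphaCore_isPi M p hp h)
  apply inf_le_centralizer_of_inf_sigmaCore_eq_bot hNs hAp hAMs hAD hDp
  by_cases hc : ∃ g : G, MulAut.conj g • M = Ms
  · obtain ⟨g, hg⟩ := hc
    by_cases hpσ : p ∈ sigma M
    · exfalso
      have hA₀p : IsPGroup p A₀ := hAp.to_le hA₀
      have hA₀1 : A₀ ≠ ⊥ := by
        intro h0
        rw [h0, Subgroup.card_bot] at hA₀c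
        exact hp.one_lt.ne hA₀c
      exact not_conj_of_normalizer_le hG hU M Ms hM p A₀ hA₀p hA₀1 (hA₀.trans hAM) hN
        (Or.inl ⟨hpσ, hne.symm⟩) g hg
    · have h1 := inf_sigmaCore_eq_bot_of_conj hG hU p hPL M Ms hMs hne hpσ A₀ A hAM hAMs hAe hAc
        hA₀ hA₀c hN g hg
      rw [eq_bot_iff, ← h1]
      exact inf_le_inf_right _ hDM
  · push Not at hc
    exact (sigma_disjoint hG hU M Ms hM hMs hc).1.2

/-- **Bender–Glauberman Lemma 12.3(a)**, in the case where `M_σ` is nilpotent. -/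
theorem sigmaCore_inf_le_centralizer [Finite G] (hG : IsMinSimpleOddOrder G) (hU : UniquenessThm G)
    (h117 : H117 G) (p : ℕ) [Fact p.Prime] (hPL : ∀ H : Subgroup G, H ≠ ⊤ → PLengthLE p 1 H)
    (M Ms : Subgroup G) (hM : IsCoatom M) (hMs : IsCoatom Ms) (hne : Ms ≠ M) (hpσ : p ∉ sigma M)
    (hnil : Group.IsNilpotent (sigmaCore M))
    (A₀ A : Subgroup G) (hAM : A ≤ M) (hAe : IsElementaryAbelian p A)
    (hAc : Nat.card A = p ^ 2) (hA₀ : A₀ ≤ A) (hA₀c : Nat.card A₀ = p)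
    (hN : Subgroup.normalizer (A₀ : Set G) ≤ Ms) :
    sigmaCore M ⊓ Ms ≤ Subgroup.centralizer (A : Set G) := by
  have hp : p.Prime := Fact.out
  have hcomm : ∀ x ∈ A, ∀ y ∈ A, x * y = y * x := fun _ hx _ hy =>
    Cfsg.Agent.Lib.Helper45.IsElementaryAbelian_comm hAe hx hy
  have hAMs : A ≤ Ms := (le_normalizer_of_le_of_comm hA₀ hcomm).trans hN
  have hAp : IsPGroup p A := Cfsg.Agent.Lib.Helper34.isPGroup_of_isElementaryAbelian hAe
  have hNs := le_normalizer_sigmaCore_sup hG hU h117 Ms hMs p A₀ A hAMs hAe hAc hA₀ hA₀c hN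
  have hDM : sigmaCore M ≤ M := sigmaCore_le M
  have hAD : A ≤ Subgroup.normalizer (sigmaCore M : Set G) :=
    hAM.trans (le_normalizer_sigmaCore M)
  have hDp : ¬ p ∣ Nat.card (sigmaCore M) := fun h => hpσ (sigmaCore_isPi M p hp h)
  apply inf_le_centralizer_of_inf_sigmaCore_eq_bot hNs hAp hAMs hAD hDp
  by_cases hc : ∃ g : G, MulAut.conj g • M = Ms
  · obtain ⟨g, hg⟩ := hc
    have h1 := inf_sigmaCore_eq_bot_of_conj hG hU p hPL M Ms hMs hne hpσ A₀ A hAM hAMs hAe hAc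
      hA₀ hA₀c hN g hg
    rw [eq_bot_iff, ← h1]
    exact inf_le_inf_right _ hDM
  · push Not at hc
    exact ((sigma_disjoint hG hU M Ms hM hMs hc).2 hnil).2

end Cfsg.Agent.Lib.Helper51.BG12
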