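import Mathlib
import Cfsg.Agent.Lib.Helper54.Coprime

/-!
# BG 13.8, special case (AS): pure group theory lemmas, part A  (helper51)

* `exists_mem_centralizer_of_fixed_coset`: lifting of fixed points of a coprime action through an
  invariant normal subgroup `N`, assuming only `(|A|, |N|) = 1`.
* `exists_sylow_map_le`: a Sylow `r`-subgroup of `C` lying in `B`.
-/

set_option autoImplicit false

namespace Cfsg.Agent.Lib.Helper51.BGAsym

open scoped Pointwise
open Cfsg.Agent.Lib.Helper54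

variable {G : Type*} [Group G]

/-- Lifting of fixed points: `A` normalizes `N`, `(|A|,|N|) = 1`, `k` normalizes `N` and the coset
`k N` is `A`-invariant.  Then the coset contains an element centralized by `A`. -/
theorem exists_mem_centralizer_of_fixed_coset [Finite G] (A N : Subgroup G)
    (hNA : A ≤ Subgroup.normalizer (N : Set G))
    (hcop : (Nat.card A).Coprime (Nat.card N)) (hsolv : Group.IsSolvable A ∨ Group.IsSolvable N)
    (k : G) (hk : k ∈ Subgroup.normalizer (N : Set G))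
    (hfix : ∀ a ∈ A, a * k * a⁻¹ * k⁻¹ ∈ N) :
    ∃ c ∈ Subgroup.centralizer (A : Set G), k⁻¹ * c ∈ N := by
  have hdisjNA : N ⊓ A = ⊥ := (Subgroup.disjoint_of_coprime_natCard hcop.symm).eq_bot
  have hcopN : (Nat.card N).Coprime (Nat.card A) := hcop.symm
  have hkinv : k⁻¹ ∈ Subgroup.normalizer (N : Set G) := Subgroup.inv_mem _ hk
  -- the conjugate `k⁻¹ A k` lies in `N A`
  have hBM : MulAut.conj k⁻¹ • A ≤ N ⊔ A := by
    intro x hx
    rw [mem_conj_smul_iff, inv_inv] at hx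
    have hn := hfix _ hx
    have hn' : k⁻¹ * (k * x * k⁻¹ * k * (k * x * k⁻¹)⁻¹ * k⁻¹) * k⁻¹⁻¹ ∈ N :=
      (Subgroup.mem_normalizer_iff.mp hkinv _).mp hn
    have hx' : x = (k⁻¹ * (k * x * k⁻¹ * k * (k * x * k⁻¹)⁻¹ * k⁻¹) * k⁻¹⁻¹) * (k * x * k⁻¹) := by
      group
    rw [hx']
    exact Subgroup.mul_mem_sup hn' hx
  obtain ⟨l, hlN, hl⟩ := sz_conj_rel (N ⊔ A) N A (MulAut.conj k⁻¹ • A) le_sup_left
    (sup_le Subgroup.le_normalizer hNA) le_sup_right hBM
    (card_sup_of_le_normalizer hNA hdisjNA).symm (card_conj_smul _ _) hcopN hsolv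
  have hcn : k * l ∈ Subgroup.normalizer (A : Set G) := by
    rw [mem_normalizer_iff_conj_smul, map_mul, mul_smul, hl, map_inv, smul_inv_smul]
  refine ⟨k * l, ?_, by simpa using hlN⟩
  rw [Subgroup.mem_centralizer_iff]
  intro a ha
  have h1 : a * (k * l) * a⁻¹ * (k * l)⁻¹ ∈ A := by
    have h2 : (k * l) * a⁻¹ * (k * l)⁻¹ ∈ A :=
      (Subgroup.mem_normalizer_iff.mp hcn a⁻¹).mp (A.inv_mem ha)
    have : a * (k * l) * a⁻¹ * (k * l)⁻¹ = a * ((k * l) * a⁻¹ * (k * l)⁻¹) := by group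
    rw [this]
    exact A.mul_mem ha h2
  have h2 : a * (k * l) * a⁻¹ * (k * l)⁻¹ ∈ N := by
    have h3 : a * l * a⁻¹ ∈ N := (Subgroup.mem_normalizer_iff.mp (hNA ha) l).mp hlN
    have h4 : a * l * a⁻¹ * l⁻¹ ∈ N := N.mul_mem h3 (N.inv_mem hlN)
    have h5 : k * (a * l * a⁻¹ * l⁻¹) * k⁻¹ ∈ N := (Subgroup.mem_normalizer_iff.mp hk _).mp h4
    have : a * (k * l) * a⁻¹ * (k * l)⁻¹ = (a * k * a⁻¹ * k⁻¹) * (k * (a * l * a⁻¹ * l⁻¹) * k⁻¹) := by
      group
    rw [this]
    exact N.mul_mem (hfix a ha) h5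
  have h3 : a * (k * l) * a⁻¹ * (k * l)⁻¹ ∈ N ⊓ A := ⟨h2, h1⟩
  rw [hdisjNA, Subgroup.mem_bot] at h3
  calc a * (k * l) = (a * (k * l) * a⁻¹ * (k * l)⁻¹) * ((k * l) * a) := by group
    _ = (k * l) * a := by rw [h3, one_mul]

/-- A Sylow `r`-subgroup of `C` lying in `B`: every `r`-subgroup of `M` lies in `B`, centralizers of
subgroups of order `r` of `B` lie in `M`, and `r` divides `|B ∩ C|`. -/
theorem exists_sylow_map_le [Finite G] {r : ℕ} [Fact r.Prime] (C B M : Subgroup G)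
    (hB : ∀ R : Subgroup G, IsPGroup r R → R ≤ M → R ≤ B)
    (hX : ∀ X : Subgroup G, X ≤ B → Nat.card X = r → Subgroup.centralizer (X : Set G) ≤ M)
    (hr : r ∣ Nat.card ↥(B ⊓ C)) :
    ∃ Q : Sylow r C, (Q : Subgroup C).map C.subtype ≤ B := by
  have hrp : r.Prime := Fact.out
  -- an element of order `r` in `B ⊓ C`
  obtain ⟨x, hx⟩ := exists_prime_orderOf_dvd_card' (G := ↥(B ⊓ C)) r hr
  set X : Subgroup G := Subgroup.zpowers (x : G) with hXdef
  have hxo : orderOf (x : G) = r := by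
    rw [← hx]; exact (Subgroup.orderOf_coe x)
  have hXcard : Nat.card X = r := by rw [hXdef, Nat.card_zpowers, hxo]
  have hXB : X ≤ B := by
    rw [hXdef, Subgroup.zpowers_le]; exact x.2.1
  have hXC : X ≤ C := by
    rw [hXdef, Subgroup.zpowers_le]; exact x.2.2
  have hXp : IsPGroup r X := IsPGroup.of_card (n := 1) (by rw [hXcard, pow_one])
  -- a Sylow `r`-subgroup of `C` containing `X`
  have hXp' : IsPGroup r (X.subgroupOf C) := hXp.comap_subtype
  obtain ⟨Q, hQ⟩ := hXp'.exists_le_sylow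
  refine ⟨Q, ?_⟩
  set R₁ : Subgroup G := (Q : Subgroup C).map C.subtype with hR₁
  have hR₁p : IsPGroup r R₁ := Q.isPGroup'.map _
  have hXR₁ : X ≤ R₁ := by
    intro y hy
    exact ⟨⟨y, hXC hy⟩, hQ (Subgroup.mem_subgroupOf.mpr hy), rfl⟩
  have hXne : Nontrivial X := by
    rw [← Finite.one_lt_card_iff_nontrivial, hXcard]; exact hrp.one_lt
  have hR₁ne : Nontrivial R₁ := by
    obtain ⟨a, b, hab⟩ := hXne
    exact ⟨⟨a.1, hXR₁ a.2⟩, ⟨b.1, hXR₁ b.2⟩, fun h => hab (Subtype.ext (Subtype.mk.inj h))⟩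
  -- an element of order `r` in the centre of `R₁`
  have hcn : Nontrivial (Subgroup.center R₁) := hR₁p.center_nontrivial
  have hcp : IsPGroup r (Subgroup.center R₁) := hR₁p.to_subgroup _
  have hrc : r ∣ Nat.card (Subgroup.center R₁) := by
    rcases hcp.card_eq_or_dvd with h | h
    · exact absurd h (Finite.one_lt_card_iff_nontrivial.mpr hcn).ne'
    · exact h
  obtain ⟨z, hz⟩ := exists_prime_orderOf_dvd_card' (G := ↥(Subgroup.center R₁)) r hrc
  set z' : G := ((z : R₁) : G) with hz'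
  have hz'o : orderOf z' = r := by
    rw [← hz, hz', Subgroup.orderOf_coe, Subgroup.orderOf_coe]
  have hzcomm : ∀ y ∈ R₁, z' * y = y * z' := by
    intro y hy
    have h1 := Subgroup.mem_center_iff.mp z.2 ⟨y, hy⟩
    have h2 := congrArg Subtype.val h1
    simpa [hz'] using h2.symm
  set X' : Subgroup G := Subgroup.zpowers z' with hX'def
  have hX'card : Nat.card X' = r := by rw [hX'def, Nat.card_zpowers, hz'o]
  have hX'p : IsPGroup r X' := IsPGroup.of_card (n := 1) (by rw [hX'card, pow_one])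
  have hz'M : z' ∈ M := by
    apply hX X hXB hXcard
    rw [Subgroup.mem_centralizer_iff]
    intro y hy
    exact (hzcomm y (hXR₁ hy)).symm
  have hX'M : X' ≤ M := by
    rw [hX'def, Subgroup.zpowers_le]; exact hz'M
  have hX'B : X' ≤ B := hB X' hX'p hX'M
  have hR₁M : R₁ ≤ M := by
    refine le_trans ?_ (hX X' hX'B hX'card)
    intro y hy
    rw [Subgroup.mem_centralizer_iff]
    intro h hh
    rw [hX'def, SetLike.mem_coe, Subgroup.mem_zpowers_iff] at hh
    obtain ⟨n, rfl⟩ := hh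
    have hc : Commute z' y := hzcomm y hy
    exact (hc.zpow_left n)
  exact hB R₁ hR₁p hR₁M

end Cfsg.Agent.Lib.Helper51.BGAsym
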