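import Mathlib
import Cfsg.Prelude.Def_OddOrderLocal
import Cfsg.Agent.S1403
import Cfsg.Agent.S1405
import Cfsg.Agent.S1407
import Cfsg.Agent.S1414
import Cfsg.Agent.S1423
import Cfsg.Agent.S1350
import Cfsg.Agent.Lib.Helper54.BGTwelveSeventeenD
import Cfsg.Agent.Lib.Helper54.BGElevenB
import Cfsg.Agent.Lib.Helper10.BGThirteenG
import Cfsg.Agent.Lib.Helper96.BGFourteenTwoB
import Cfsg.Agent.Lib.Helper30.BGAsymA
import Cfsg.Agent.Lib.Helper55.FrobFixedPoints

/-!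
# BG 13.8 (asymmetry lemma): one side of the configuration and its first consequences  (helper51)

`Side M Mstar q Q p P`: `M`, `M*` maximal and not conjugate, `p ∈ τ₁(M) ∩ τ₁(M*)`, `P ≤ M ∩ M*` of
order `p`, `Q ≤ M ∩ M*` a nontrivial Sylow `q`-subgroup of `M` with `q ∈ σ(M*)`, `N_M(Q) ≤ M*`, and `P`
normalizes `Q` and acts fixed point freely on it.
-/

set_option autoImplicit false

namespace Cfsg.Agent.Lib.Helper51.BGAsym

open Cfsg
open scoped Pointwise
open Cfsg.Agent.Lib.Helper34 (UniquenessThm)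

variable {G : Type*} [Group G]

/-- One side of the configuration of BG 13.8. -/
structure Side (M Mstar : Subgroup G) (q : ℕ) (Q : Subgroup G) (p : ℕ) (P : Subgroup G) :
    Prop where
  hM : IsCoatom M
  hMs : IsCoatom Mstar
  hnc : ∀ g : G, MulAut.conj g • Mstar ≠ M
  hp : p ∈ tau1 M
  hps : p ∈ tau1 Mstar
  hPD : P ≤ M ⊓ Mstar
  hP : Nat.card P = p
  hq : q.Prime
  hQ : IsPGroup q Q
  hQne : Q ≠ ⊥
  hQD : Q ≤ M ⊓ Mstar
  hQsyl : ¬ q ∣ Q.relIndex M
  hqσ : q ∈ sigma Mstar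
  hNQ : M ⊓ Subgroup.normalizer (Q : Set G) ≤ Mstar
  hPQ : P ≤ Subgroup.normalizer (Q : Set G)
  hfpf : Q ⊓ Subgroup.centralizer (P : Set G) = ⊥

theorem uniquenessThm [Finite G] (hG : IsMinSimpleOddOrder G) : UniquenessThm G :=
  fun K hK h1 h3 => Cfsg.Agent.S1403.result hG K hK h1 h3

/-- `M_β = O_{β(M)}(M)`. -/
abbrev Mb (M : Subgroup G) : Subgroup G := piCoreOf (beta M) M

theorem Mb_le (M : Subgroup G) : Mb M ≤ M :=
  Cfsg.Agent.Lib.Helper54.piCoreOf_le (beta M) M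

theorem le_normalizer_Mb (M : Subgroup G) :
    M ≤ Subgroup.normalizer ((Mb M : Subgroup G) : Set G) :=
  Cfsg.Agent.Lib.Helper54.le_normalizer_piCoreOf (beta M) M

theorem Mb_isPi [Finite G] (M : Subgroup G) :
    ∀ r : ℕ, r.Prime → r ∣ Nat.card (Mb M) → r ∈ beta M :=
  Cfsg.Agent.Lib.Helper54.piCoreOf_isPi (beta M) M

theorem Mb_le_alphaCore [Finite G] (M : Subgroup G) : Mb M ≤ alphaCore M :=
  Cfsg.Agent.Lib.Helper54.le_piCoreOf (alpha M) (Mb_le M) (le_normalizer_Mb M)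
    (fun r hr hd => (Mb_isPi M r hr hd).1)

theorem coprime_Mb [Finite G] (M : Subgroup G) {t : ℕ} (ht : t.Prime) (h : t ∉ beta M) :
    (Nat.card (Mb M)).Coprime t := by
  rw [Nat.coprime_comm, Nat.Prime.coprime_iff_not_dvd ht]
  exact fun hd => h (Mb_isPi M t ht hd)

theorem isSolvable_of_le_coatom (hG : IsMinSimpleOddOrder G) {M H : Subgroup G} (hM : IsCoatom M)
    (hHM : H ≤ M) : Group.IsSolvable H := by
  apply hG.2.2.2 H
  rintro rfl
  exact hM.1 (top_le_iff.mp hHM)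

theorem pRankLE_two_of_one {H : Type*} [Group H] {t : ℕ} (ht : 0 < t) (h : PRankLE t 1 H) :
    PRankLE t 2 H := by
  intro A hA hexp
  exact (h A hA hexp).trans (Nat.pow_le_pow_right ht (by norm_num))

/-- A normal subgroup of `M` of index prime to `r` contains every `r`-subgroup of `M`. -/
theorem le_of_isPGroup_of_not_dvd_relIndex [Finite G] {r : ℕ} [Fact r.Prime] {N M R : Subgroup G}
    (hNM : N ≤ M) (hMN : M ≤ Subgroup.normalizer (N : Set G)) (hR : IsPGroup r R) (hRM : R ≤ M)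
    (hidx : ¬ r ∣ N.relIndex M) : R ≤ N := by
  have hrp : r.Prime := Fact.out
  have h1 : N.relIndex (R ⊔ N) = N.relIndex R :=
    Cfsg.Agent.Lib.Helper54.relIndex_sup_of_le_normalizer (hRM.trans hMN)
  have h2 : N.relIndex (R ⊔ N) ∣ N.relIndex M := by
    have := Subgroup.relIndex_mul_relIndex N (R ⊔ N) M le_sup_right (sup_le hRM hNM)
    exact Dvd.intro _ this
  obtain ⟨n, hn⟩ := hR.index (N.subgroupOf R)
  have h3 : N.relIndex R = r ^ n := hn
  rw [h1, h3] at h2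
  have hn0 : n = 0 := by
    by_contra hne
    exact hidx ((dvd_pow_self r hne).trans h2)
  rw [hn0, pow_zero] at h3
  exact Subgroup.relIndex_eq_one.mp h3

/-- `r`-subgroups of `M` lie in `M_β` for `r ∈ β(M)`. -/
theorem le_Mb_of_isPGroup [Finite G] (hG : IsMinSimpleOddOrder G) {M : Subgroup G}
    (hM : IsCoatom M) {r : ℕ} [Fact r.Prime] (hr : r ∈ beta M) {R : Subgroup G}
    (hR : IsPGroup r R) (hRM : R ≤ M) : R ≤ Mb M :=
  le_of_isPGroup_of_not_dvd_relIndex (Mb_le M) (le_normalizer_Mb M) hR hRM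
    ((Cfsg.Agent.S1414.result hG M hM).1.2.2 r Fact.out hr)

theorem beta_subset_sigma [Finite G] (hG : IsMinSimpleOddOrder G) {M : Subgroup G}
    (hM : IsCoatom M) : beta M ⊆ sigma M :=
  fun _ h => Cfsg.Agent.Lib.Helper50.alpha_subset_sigma hG
    (Cfsg.Agent.Lib.Helper54.uniqThree_of_uniquenessThm (uniquenessThm hG)) M hM h.1

/-- Subgroups of prime order of `M_β` have centralizer and normalizer in `M` (S1423). -/
theorem normalizer_le_of_le_Mb [Finite G] (hG : IsMinSimpleOddOrder G) {M : Subgroup G}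
    (hM : IsCoatom M) {X : Subgroup G} (hX : X ≤ Mb M) {r : ℕ} (hrp : r.Prime)
    (hr : Nat.card X = r) :
    Subgroup.centralizer (X : Set G) ≤ M ∧ Subgroup.normalizer (X : Set G) ≤ M := by
  have : Fact r.Prime := ⟨hrp⟩
  have hrβ : r ∈ beta M :=
    Mb_isPi M r hrp (hr ▸ Subgroup.card_dvd_of_le hX)
  obtain ⟨T⟩ : Nonempty (Sylow r ↥(sigmaCore M)) := inferInstance
  obtain ⟨⟨h1, h2⟩, -, -⟩ := Cfsg.Agent.S1423.result hG M hM r (beta_subset_sigma hG hM hrβ) X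
    (hX.trans (Mb_le M)) hr T (Or.inl hrβ)
  refine ⟨h1, ?_⟩
  have hXbot : X ≠ ⊥ := by
    intro h
    rw [h, Subgroup.card_bot] at hr
    exact hrp.one_lt.ne hr
  have hXtop : X ≠ ⊤ := by
    rintro rfl
    exact hM.1 (top_le_iff.mp (hX.trans (Mb_le M)))
  have hN := Cfsg.Agent.Lib.Helper54.normalizer_ne_top_of_simple hG.2.1 hXbot hXtop
  obtain ⟨L, hL, hNL⟩ := (eq_top_or_exists_le_coatom _).resolve_left hN
  have hLM := h2 L hL ((Subgroup.centralizer_le_normalizer _).trans hNL)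
  rw [← hLM]; exact hNL

namespace Side

variable {M Mstar : Subgroup G} {q : ℕ} {Q : Subgroup G} {p : ℕ} {P : Subgroup G}

theorem hnc' (d : Side M Mstar q Q p P) : ∀ g : G, MulAut.conj g • M ≠ Mstar := by
  intro g hg
  apply d.hnc g⁻¹
  rw [← hg, ← mul_smul, ← map_mul, inv_mul_cancel, map_one, one_smul]

theorem ne (d : Side M Mstar q Q p P) : M ≠ Mstar := by
  intro h
  apply d.hnc 1
  rw [map_one, one_smul, h]

theorem p_prime (d : Side M Mstar q Q p P) : p.Prime := d.hp.1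

theorem p_ne_q (d : Side M Mstar q Q p P) : p ≠ q := by
  rintro rfl
  exact d.hps.2.1 d.hqσ

theorem P_isPGroup (d : Side M Mstar q Q p P) : IsPGroup p P := by
  have : Fact p.Prime := ⟨d.p_prime⟩
  exact IsPGroup.of_card (n := 1) (by rw [d.hP, pow_one])

theorem not_dvd_card_Q [Finite G] (d : Side M Mstar q Q p P) : ¬ p ∣ Nat.card Q := by
  have : Fact q.Prime := ⟨d.hq⟩
  obtain ⟨n, hn⟩ := d.hQ.exists_card_eq
  rw [hn]
  intro h
  exact d.p_ne_q ((Nat.prime_dvd_prime_iff_eq d.p_prime d.hq).mp (d.p_prime.dvd_of_dvd_pow h))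

theorem comm_eq [Finite G] (d : Side M Mstar q Q p P) : ⁅Q, P⁆ = Q := by
  have : Fact p.Prime := ⟨d.p_prime⟩
  exact Cfsg.Agent.Lib.Helper30.BGAsym.commutator_eq_of_inf_centralizer_eq_bot d.P_isPGroup
    d.not_dvd_card_Q d.hPQ d.hfpf

theorem Q_le_comm [Finite G] (d : Side M Mstar q Q p P) : Q ≤ ⁅M, M⁆ := by
  rw [← d.comm_eq]
  exact Subgroup.commutator_mono (d.hQD.trans inf_le_left) (d.hPD.trans inf_le_left)

/-- `M = M_β (M ∩ M*)`. -/
theorem fact [Finite G] (hG : IsMinSimpleOddOrder G) (d : Side M Mstar q Q p P) :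
    M = Mb M ⊔ (M ⊓ Mstar) := by
  have : Fact q.Prime := ⟨d.hq⟩
  obtain ⟨h1, -, ⟨H, hH, hHn⟩, -, -⟩ := Cfsg.Agent.S1414.result hG M d.hM
  have h := Cfsg.Agent.Lib.Helper54.subgroupOf_sup_piCore_eq_top M Mstar Q (beta M) q h1 H hH hHn
    d.hQ d.Q_le_comm d.hQsyl d.hNQ
  have h2 := Cfsg.Agent.Lib.Helper54.eq_piCoreOf_sup_inf M Mstar (beta M) h
  rwa [inf_comm] at h2

theorem disj [Finite G] (hG : IsMinSimpleOddOrder G) (d : Side M Mstar q Q p P) :
    (∀ r ∈ alpha M, r ∉ sigma Mstar) ∧ alphaCore M ⊓ sigmaCore Mstar = ⊥ :=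
  (Cfsg.Agent.Lib.Helper54.sigma_disjoint hG (uniquenessThm hG) M Mstar d.hM d.hMs d.hnc').1

theorem disj' [Finite G] (hG : IsMinSimpleOddOrder G) (d : Side M Mstar q Q p P) :
    (∀ r ∈ alpha Mstar, r ∉ sigma M) ∧ alphaCore Mstar ⊓ sigmaCore M = ⊥ :=
  (Cfsg.Agent.Lib.Helper54.sigma_disjoint hG (uniquenessThm hG) Mstar M d.hMs d.hM d.hnc).1

theorem p_not_beta (d : Side M Mstar q Q p P) : p ∉ beta M :=
  fun h => h.1.2 (pRankLE_two_of_one d.p_prime.pos d.hp.2.2.2.2)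

theorem q_not_beta [Finite G] (hG : IsMinSimpleOddOrder G) (d : Side M Mstar q Q p P) :
    q ∉ beta M :=
  fun h => (d.disj hG).1 q h.1 d.hqσ

theorem Mb_ne_bot [Finite G] (hG : IsMinSimpleOddOrder G) (d : Side M Mstar q Q p P) :
    Mb M ≠ ⊥ := by
  intro h
  have h1 := d.fact hG
  rw [h, bot_sup_eq] at h1
  have h2 : M ≤ Mstar := by rw [h1]; exact inf_le_right
  rcases d.hM.le_iff.mp h2 with h3 | h3
  · exact d.hMs.1 h3
  · exact d.ne h3.symm

theorem alphaCore_ne_bot [Finite G] (hG : IsMinSimpleOddOrder G) (d : Side M Mstar q Q p P) :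
    alphaCore M ≠ ⊥ := by
  intro h
  apply d.Mb_ne_bot hG
  rw [← le_bot_iff, ← h]
  exact Mb_le_alphaCore M

/-- **Lemma A**: `C_{M_β}(P)` is not contained in `C_G(Q)`. -/
theorem lemmaA [Finite G] (hG : IsMinSimpleOddOrder G) (d : Side M Mstar q Q p P)
    (h : Mb M ⊓ Subgroup.centralizer (P : Set G) ≤ Subgroup.centralizer (Q : Set G)) : False := by
  have : Fact q.Prime := ⟨d.hq⟩
  have : Fact p.Prime := ⟨d.p_prime⟩
  have hQM : Q ≤ M := d.hQD.trans inf_le_left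
  have hPM : P ≤ M := d.hPD.trans inf_le_left
  have h1 : Mb M ≤ Subgroup.centralizer (Q : Set G) :=
    Cfsg.Agent.Lib.Helper55.FrobFixedPoints.le_centralizer_of_fixed_points hG.1 d.p_ne_q Q P (Mb M)
      d.hQ d.hP d.hPQ (hQM.trans (le_normalizer_Mb M)) (hPM.trans (le_normalizer_Mb M))
      (isSolvable_of_le_coatom hG d.hM (Mb_le M)) (coprime_Mb M d.hq (d.q_not_beta hG))
      (coprime_Mb M d.p_prime d.p_not_beta) d.hfpf h
  have h2 : Mb M ≤ Mstar :=
    le_trans (le_inf (Mb_le M) (h1.trans (Subgroup.centralizer_le_normalizer _))) d.hNQ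
  have h3 : M ≤ Mstar := by
    rw [d.fact hG]
    exact sup_le h2 inf_le_right
  rcases d.hM.le_iff.mp h3 with h4 | h4
  · exact d.hMs.1 h4
  · exact d.ne h4.symm

/-- `C_{M_α}(P)` is a Z-group (S1407). -/
theorem isZGroup [Finite G] (hG : IsMinSimpleOddOrder G) (d : Side M Mstar q Q p P) :
    IsZGroup ↥(alphaCore M ⊓ Subgroup.centralizer (P : Set G)) := by
  have hpp : p.Prime := d.p_prime
  have : Fact p.Prime := ⟨hpp⟩
  have hPM : P ≤ M := d.hPD.trans inf_le_left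
  have hp2 : p ≠ 2 := Cfsg.Agent.Lib.Helper96.BG142.ne_two_of_dvd_card hG d.hp.2.2.1
  -- a Sylow `p`-subgroup of `M` containing `P`
  have hP' : IsPGroup p (P.subgroupOf M) := d.P_isPGroup.comap_subtype
  obtain ⟨P₀, hP₀⟩ := hP'.exists_le_sylow
  have hcyc : IsCyclic (P₀ : Subgroup M) :=
    Cfsg.Agent.Lib.Helper96.BG142.isCyclic_sylow_of_rank_one (le_refl M) hp2 d.hp.2.2.2.2 P₀
  obtain ⟨x, hx, hxo, hZ, -⟩ :=
    Cfsg.Agent.S1407.result hG M d.hM (d.alphaCore_ne_bot hG) p d.hp.2.2.1 d.hp.2.1 P₀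
  set Z : Subgroup G := (P₀ : Subgroup M).map M.subtype with hZdef
  have hZc : IsCyclic Z := by
    have := hcyc
    exact isCyclic_of_surjective _ (M.subtype.subgroupMap_surjective (P₀ : Subgroup M))
  have hPZ : P ≤ Z := by
    intro y hy
    exact ⟨⟨y, hPM hy⟩, hP₀ (Subgroup.mem_subgroupOf.mpr hy), rfl⟩
  have hxZ : x ∈ Z := by
    obtain ⟨y, hy, rfl⟩ := hx
    obtain ⟨z, -, rfl⟩ := hy
    exact ⟨z, z.2, rfl⟩
  have hxP : x ∈ P :=
    Cfsg.Agent.Lib.Helper10.BG13.mem_of_pow_eq_one_of_isCyclic hpp hZc hPZ d.hP hxZ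
      (by rw [← hxo]; exact pow_orderOf_eq_one x)
  have hzP : Subgroup.zpowers x = P := by
    apply Subgroup.eq_of_le_of_card_ge ((Subgroup.zpowers_le).mpr hxP)
    rw [Nat.card_zpowers, hxo, d.hP]
  have hcent : Subgroup.centralizer ({x} : Set G) = Subgroup.centralizer (P : Set G) := by
    rw [← hzP, Subgroup.zpowers_eq_closure, Subgroup.centralizer_closure]
  rw [← hcent]
  exact hZ

/-- `r`-subgroups of `C_{M_β}(P)` are cyclic. -/
theorem isCyclic_of_le [Finite G] (hG : IsMinSimpleOddOrder G) (d : Side M Mstar q Q p P)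
    {r : ℕ} [Fact r.Prime] {R : Subgroup G} (hR : IsPGroup r R)
    (hRle : R ≤ Mb M ⊓ Subgroup.centralizer (P : Set G)) : IsCyclic R := by
  have hle : R ≤ alphaCore M ⊓ Subgroup.centralizer (P : Set G) :=
    hRle.trans (inf_le_inf_right _ (Mb_le_alphaCore M))
  have := d.isZGroup hG
  have h1 : IsPGroup r (R.subgroupOf (alphaCore M ⊓ Subgroup.centralizer (P : Set G))) :=
    hR.comap_subtype
  have h2 := h1.isCyclic_of_isZGroup
  exact isCyclic_of_surjective _ (Subgroup.subgroupOfEquivOfLe hle).surjective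

end Side

end Cfsg.Agent.Lib.Helper51.BGAsym
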