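import Mathlib
import Cfsg.Agent.Lib.Helper51.BGAsymA
import Cfsg.Agent.Lib.Helper51.BGAsymB
import Cfsg.Agent.Lib.Helper55.HallCyclic

/-!
# BG 13.8 (asymmetry lemma): steps 1-3  (helper51)
-/

set_option autoImplicit false

namespace Cfsg.Agent.Lib.Helper51.BGAsym

open Cfsg
open scoped Pointwise

variable {G : Type*} [Group G]

/-- Powers of elements in the same coset of a normal subgroup `N` of `M` are in the same coset. -/
theorem pow_inv_mul_pow_mem {N M : Subgroup G} (hMN : M ≤ Subgroup.normalizer (N : Set G))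
    {u v : G} (hu : u ∈ M) (huv : u⁻¹ * v ∈ N) (m : ℕ) : (u ^ m)⁻¹ * v ^ m ∈ N := by
  induction m with
  | zero => simp
  | succ k ih =>
    have h1 : u⁻¹ * ((u ^ k)⁻¹ * v ^ k) * u⁻¹⁻¹ ∈ N :=
      (Subgroup.mem_normalizer_iff.mp (hMN (M.inv_mem hu)) _).mp ih
    have h2 : (u ^ (k + 1))⁻¹ * v ^ (k + 1) = (u⁻¹ * ((u ^ k)⁻¹ * v ^ k) * u⁻¹⁻¹) * (u⁻¹ * v) := by
      rw [pow_succ, pow_succ]; group
    rw [h2]
    exact N.mul_mem h1 huv

namespace Side

variable {M Mstar : Subgroup G} {q : ℕ} {Q : Subgroup G} {p : ℕ} {P : Subgroup G}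

/-- **Step 3**: a prime `t ∉ β(M)`, `t ≠ p`, dividing `|C_M(P)|` divides `|C_{M ∩ M*}(P)|`. -/
theorem step3 [Finite G] (hG : IsMinSimpleOddOrder G) (d : Side M Mstar q Q p P) {t : ℕ}
    (ht : t.Prime) (htd : t ∣ Nat.card ↥(M ⊓ Subgroup.centralizer (P : Set G)))
    (htβ : t ∉ beta M) :
    ∃ x ∈ (M ⊓ Mstar) ⊓ Subgroup.centralizer (P : Set G), orderOf x = t := by
  have : Fact t.Prime := ⟨ht⟩
  have hPM : P ≤ M := d.hPD.trans inf_le_left
  have hDM : M ⊓ Mstar ≤ M := inf_le_left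
  have hMbn := le_normalizer_Mb M
  -- an element `y` of order `t` in `C_M(P)`
  obtain ⟨y', hy'⟩ := exists_prime_orderOf_dvd_card' (G := ↥(M ⊓ Subgroup.centralizer (P : Set G))) t htd
  set y : G := (y' : G) with hydef
  have hyo : orderOf y = t := by rw [← hy', hydef, Subgroup.orderOf_coe]
  have hyM : y ∈ M := y'.2.1
  have hyC : y ∈ Subgroup.centralizer (P : Set G) := y'.2.2
  -- `y = b n`
  have hyfact : y ∈ ((Mb M ⊔ (M ⊓ Mstar) : Subgroup G) : Set G) := by
    rw [← d.fact hG]; exact hyM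
  rw [Subgroup.coe_mul_of_right_le_normalizer_left (Mb M) (M ⊓ Mstar) (hDM.trans hMbn)] at hyfact
  obtain ⟨b, hb, n, hn, hbn⟩ := Set.mem_mul.mp hyfact
  have hnM : n ∈ M := hDM hn
  set N₁ : Subgroup G := (M ⊓ Mstar) ⊓ Mb M with hN₁
  have hDN₁ : M ⊓ Mstar ≤ Subgroup.normalizer (N₁ : Set G) :=
    Cfsg.Agent.Lib.Helper54.le_normalizer_inf Subgroup.le_normalizer (hDM.trans hMbn)
  have hfix : ∀ a ∈ P, a * n * a⁻¹ * n⁻¹ ∈ N₁ := by
    intro a ha
    have haD : a ∈ M ⊓ Mstar := d.hPD ha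
    refine ⟨Subgroup.mul_mem _ (Subgroup.mul_mem _ (Subgroup.mul_mem _ haD hn)
      (Subgroup.inv_mem _ haD)) (Subgroup.inv_mem _ hn), ?_⟩
    have hay : a * y * a⁻¹ = y := by
      have := (Subgroup.mem_centralizer_iff.mp hyC) a ha
      rw [this, mul_inv_cancel_right]
    have h1 : a * b⁻¹ * a⁻¹ ∈ Mb M :=
      (Subgroup.mem_normalizer_iff.mp (hMbn (hPM ha)) _).mp (Subgroup.inv_mem _ hb)
    have h2 : a * n * a⁻¹ * n⁻¹ = (a * b⁻¹ * a⁻¹) * b := by
      have hn' : n = b⁻¹ * y := by rw [← hbn]; group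
      calc a * n * a⁻¹ * n⁻¹ = a * b⁻¹ * a⁻¹ * (a * y * a⁻¹) * n⁻¹ := by rw [hn']; group
        _ = a * b⁻¹ * a⁻¹ * y * n⁻¹ := by rw [hay]
        _ = (a * b⁻¹ * a⁻¹) * b := by rw [← hbn]; group
    rw [h2]
    exact Subgroup.mul_mem _ h1 hb
  have hcop : (Nat.card P).Coprime (Nat.card N₁) := by
    rw [d.hP]
    exact ((coprime_Mb M d.p_prime d.p_not_beta).coprime_dvd_left
      (Subgroup.card_dvd_of_le inf_le_right)).symm
  obtain ⟨c, hcC, hcn⟩ := exists_mem_centralizer_of_fixed_coset P N₁ (d.hPD.trans hDN₁) hcop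
    (Or.inl (isSolvable_of_le_coatom hG d.hM hPM)) n (hDN₁ hn) hfix
  have hcD : c ∈ M ⊓ Mstar := by
    have : c = n * (n⁻¹ * c) := by group
    rw [this]
    exact Subgroup.mul_mem _ hn hcn.1
  -- `c` and `y` are in the same coset of `M_β`
  have hyc : y⁻¹ * c ∈ Mb M := by
    have h1 : n⁻¹ * b⁻¹ * n⁻¹⁻¹ ∈ Mb M :=
      (Subgroup.mem_normalizer_iff.mp (hMbn (M.inv_mem hnM)) _).mp (Subgroup.inv_mem _ hb)
    have : y⁻¹ * c = (n⁻¹ * b⁻¹ * n⁻¹⁻¹) * (n⁻¹ * c) := by rw [← hbn]; group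
    rw [this]
    exact Subgroup.mul_mem _ h1 hcn.2
  -- `t` divides the order of `c`
  have hdvd : t ∣ orderOf c := by
    by_contra hnd
    have h1 := pow_inv_mul_pow_mem hMbn hyM hyc (orderOf c)
    rw [pow_orderOf_eq_one, mul_one] at h1
    have h2 : y ^ orderOf c ∈ Mb M := by
      have := Subgroup.inv_mem _ h1
      rwa [inv_inv] at this
    have hcop' : (orderOf y).Coprime (orderOf c) := by
      rw [hyo]; exact (Nat.Prime.coprime_iff_not_dvd ht).mpr hnd
    have h3 : Subgroup.zpowers (y ^ orderOf c) = Subgroup.zpowers y := by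
      apply Subgroup.eq_of_le_of_card_ge
      · rw [Subgroup.zpowers_le]; exact Subgroup.pow_mem _ (Subgroup.mem_zpowers y) _
      · rw [Nat.card_zpowers, Nat.card_zpowers, hcop'.orderOf_pow]
    have h4 : Subgroup.zpowers y ≤ Mb M := by
      rw [← h3, Subgroup.zpowers_le]; exact h2
    have h5 : t ∣ Nat.card (Mb M) := by
      have := Subgroup.card_dvd_of_le h4
      rwa [Nat.card_zpowers, hyo] at this
    exact htβ (Mb_isPi M t ht h5)
  refine ⟨c ^ (orderOf c / t), ⟨Subgroup.pow_mem _ hcD _, Subgroup.pow_mem _ hcC _⟩, ?_⟩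
  exact orderOf_pow_orderOf_div (orderOf_pos c).ne' hdvd

end Side

/-- **Steps 1-2**. -/
theorem step12 [Finite G] (hG : IsMinSimpleOddOrder G) {M Mstar : Subgroup G} {q qs p : ℕ}
    {Q Qs P : Subgroup G} (d : Side M Mstar q Q p P) (ds : Side Mstar M qs Qs p P) {r rs : ℕ}
    (hr : r.Prime) (hrs : rs.Prime)
    (hrd : r ∣ Nat.card ↥(Mb M ⊓ Subgroup.centralizer (P : Set G)))
    (hrsd : rs ∣ Nat.card ↥(Mb Mstar ⊓ Subgroup.centralizer (P : Set G))) :
    rs ∣ Nat.card ↥(M ⊓ Subgroup.centralizer (P : Set G)) ∨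
      r ∣ Nat.card ↥(Mstar ⊓ Subgroup.centralizer (P : Set G)) := by
  have : Fact r.Prime := ⟨hr⟩
  have : Fact rs.Prime := ⟨hrs⟩
  set C : Subgroup G := Subgroup.centralizer (P : Set G) with hC
  have hrβ : r ∈ beta M := Mb_isPi M r hr (hrd.trans (Subgroup.card_dvd_of_le inf_le_left))
  have hrsβ : rs ∈ beta Mstar :=
    Mb_isPi Mstar rs hrs (hrsd.trans (Subgroup.card_dvd_of_le inf_le_left))
  have hne : r ≠ rs := by
    rintro rfl
    exact (d.disj hG).1 r hrβ.1 (beta_subset_sigma hG d.hMs hrsβ)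
  -- `C` is solvable
  have hPbot : P ≠ ⊥ := by
    intro h
    have := d.hP
    rw [h, Subgroup.card_bot] at this
    exact d.p_prime.one_lt.ne this
  have hPtop : P ≠ ⊤ := by
    rintro rfl
    exact d.hM.1 (top_le_iff.mp (d.hPD.trans inf_le_left))
  have hCtop : C ≠ ⊤ := by
    intro h
    apply Cfsg.Agent.Lib.Helper54.normalizer_ne_top_of_simple hG.2.1 hPbot hPtop
    rw [eq_top_iff, ← h]
    exact Subgroup.centralizer_le_normalizer _
  have hCsolv : Group.IsSolvable ↥C := hG.2.2.2 C hCtop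
  -- Sylow subgroups of `C` inside `M_β`, `M*_β`
  obtain ⟨Qr, hQr⟩ := exists_sylow_map_le C (Mb M) M
    (fun R hR hRM => le_Mb_of_isPGroup hG d.hM hrβ hR hRM)
    (fun X hX hXc => (normalizer_le_of_le_Mb hG d.hM hX hr hXc).1) hrd
  obtain ⟨Qrs, hQrs⟩ := exists_sylow_map_le C (Mb Mstar) Mstar
    (fun R hR hRM => le_Mb_of_isPGroup hG d.hMs hrsβ hR hRM)
    (fun X hX hXc => (normalizer_le_of_le_Mb hG d.hMs hX hrs hXc).1) hrsd
  have hQrc : IsCyclic (Qr : Subgroup C) := by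
    have h1 : IsCyclic ((Qr : Subgroup C).map C.subtype) :=
      d.isCyclic_of_le hG (Qr.isPGroup'.map _) (le_inf hQr (Subgroup.map_subtype_le _))
    exact isCyclic_of_surjective _
      ((Qr : Subgroup C).equivMapOfInjective C.subtype C.subtype_injective).symm.surjective
  have hQrsc : IsCyclic (Qrs : Subgroup C) := by
    have h1 : IsCyclic ((Qrs : Subgroup C).map C.subtype) :=
      ds.isCyclic_of_le hG (Qrs.isPGroup'.map _) (le_inf hQrs (Subgroup.map_subtype_le _))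
    exact isCyclic_of_surjective _
      ((Qrs : Subgroup C).equivMapOfInjective C.subtype C.subtype_injective).symm.surjective
  have hrC : r ∣ Nat.card ↥C := hrd.trans (Subgroup.card_dvd_of_le inf_le_right)
  have hrsC : rs ∣ Nat.card ↥C := hrsd.trans (Subgroup.card_dvd_of_le inf_le_right)
  have hQr1 : (Qr : Subgroup C) ≠ ⊥ := Qr.ne_bot_of_dvd_card hrC
  have hQrs1 : (Qrs : Subgroup C) ≠ ⊥ := Qrs.ne_bot_of_dvd_card hrsC
  rcases Cfsg.Agent.Lib.Helper55.HallCyclic.exists_sylow_le_normalizer_of_cyclic hne Qr Qrs hQrc hQrsc hQr1 hQrs1 with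
    ⟨X, hXQ, hXc, R, hR⟩ | ⟨X, hXQ, hXc, R, hR⟩
  · left
    set X' : Subgroup G := X.map C.subtype with hX'
    have hX'c : Nat.card X' = r := by
      rw [hX', Subgroup.card_map_of_injective C.subtype_injective, hXc]
    have hX'le : X' ≤ Mb M := (Subgroup.map_mono hXQ).trans hQr
    have hN := (normalizer_le_of_le_Mb hG d.hM hX'le hr hX'c).2
    have hR' : (R : Subgroup C).map C.subtype ≤ M ⊓ C := by
      refine le_inf (le_trans ?_ hN) (Subgroup.map_subtype_le _)
      exact (Subgroup.map_mono hR).trans (Subgroup.le_normalizer_map _)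
    have h1 : rs ∣ Nat.card ((R : Subgroup C).map C.subtype) := by
      rw [Subgroup.card_map_of_injective C.subtype_injective]
      exact R.dvd_card_of_dvd_card hrsC
    exact h1.trans (Subgroup.card_dvd_of_le hR')
  · right
    set X' : Subgroup G := X.map C.subtype with hX'
    have hX'c : Nat.card X' = rs := by
      rw [hX', Subgroup.card_map_of_injective C.subtype_injective, hXc]
    have hX'le : X' ≤ Mb Mstar := (Subgroup.map_mono hXQ).trans hQrs
    have hN := (normalizer_le_of_le_Mb hG d.hMs hX'le hrs hX'c).2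
    have hR' : (R : Subgroup C).map C.subtype ≤ Mstar ⊓ C := by
      refine le_inf (le_trans ?_ hN) (Subgroup.map_subtype_le _)
      exact (Subgroup.map_mono hR).trans (Subgroup.le_normalizer_map _)
    have h1 : r ∣ Nat.card ((R : Subgroup C).map C.subtype) := by
      rw [Subgroup.card_map_of_injective C.subtype_injective]
      exact R.dvd_card_of_dvd_card hrC
    exact h1.trans (Subgroup.card_dvd_of_le hR')

end Cfsg.Agent.Lib.Helper51.BGAsym
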