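import Mathlib
import Cfsg.Agent.Lib.Helper51.BGAsymC
import Cfsg.Agent.Lib.Helper97.BGTwelveCor
import Cfsg.Agent.Lib.Helper30.BGNonab

/-!
# BG 13.8 (asymmetry lemma): step 4 and the final statements  (helper51)

* `false_of_sides`: the two-sided configuration is impossible (given the literal statement of S1428).
* `h138_of`: the general asymmetry lemma in the shape `H138` of helper68 (board #2587).
* `asym_special`: the special case (AS) in the shape `hAS` of helper34 (board #2474).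
-/

set_option autoImplicit false

namespace Cfsg.Agent.Lib.Helper51.BGAsym

open Cfsg
open scoped Pointwise

variable {G : Type*} [Group G]

/-- The literal statement of S1428 (BG Theorem 13.4) for the group `G`. -/
def Stmt1428 (G : Type*) [Group G] : Prop :=
  ∀ (M : Subgroup G) (_ : IsCoatom M) (E : Subgroup G) (_ : IsComplIn E (sigmaCore M) M) (p : ℕ)
    (_ : p ∈ tau1 M) (P : Subgroup G) (_ : P ≤ E) (_ : Nat.card P = p) (R : Subgroup G)
    (_ : R ≤ E ⊓ Subgroup.centralizer (P : Set G)) (_ : (Nat.card R).Prime),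
    sigmaCore M ⊓ Subgroup.centralizer (P : Set G) ≤ sigmaCore M ⊓ Subgroup.centralizer (R : Set G)

namespace Side

variable {M Mstar : Subgroup G} {q : ℕ} {Q : Subgroup G} {p : ℕ} {P : Subgroup G}

/-- **Step 4**: no element of order `t ∈ β(M*)` in `C_{M ∩ M*}(P)`. -/
theorem step4 [Finite G] (hG : IsMinSimpleOddOrder G) (h1428 : Stmt1428 G)
    (d : Side M Mstar q Q p P) {t : ℕ} (htβ : t ∈ beta Mstar) {x : G}
    (hx : x ∈ (M ⊓ Mstar) ⊓ Subgroup.centralizer (P : Set G)) (hxo : orderOf x = t) : False := by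
  have ht : t.Prime := htβ.1.1
  have : Fact t.Prime := ⟨ht⟩
  have : Fact q.Prime := ⟨d.hq⟩
  have hPM : P ≤ M := d.hPD.trans inf_le_left
  have hQM : Q ≤ M := d.hQD.trans inf_le_left
  have hQMs : Q ≤ Mstar := d.hQD.trans inf_le_right
  set X : Subgroup G := Subgroup.zpowers x with hXdef
  have hXc : Nat.card X = t := by rw [hXdef, Nat.card_zpowers, hxo]
  have hXM : X ≤ M := by rw [hXdef, Subgroup.zpowers_le]; exact hx.1.1
  have hXMs : X ≤ Mstar := by rw [hXdef, Subgroup.zpowers_le]; exact hx.1.2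
  have hXC : X ≤ Subgroup.centralizer (P : Set G) := by
    rw [hXdef, Subgroup.zpowers_le]; exact hx.2
  have hXp : IsPGroup t X := IsPGroup.of_card (n := 1) (by rw [hXc, pow_one])
  have hXb : X ≤ Mb Mstar := le_Mb_of_isPGroup hG d.hMs htβ hXp hXMs
  have hCX : Subgroup.centralizer (X : Set G) ≤ Mstar :=
    (normalizer_le_of_le_Mb hG d.hMs hXb ht hXc).1
  have htσ : t ∉ sigma M := (d.disj' hG).1 t htβ.1
  have hpt : p ≠ t := by
    rintro rfl
    exact htβ.1.2 (pRankLE_two_of_one d.p_prime.pos d.hps.2.2.2.2)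
  -- the subgroup `K = P X`
  set K : Subgroup G := P ⊔ X with hK
  have hKM : K ≤ M := sup_le hPM hXM
  have hdisj : P ⊓ X = ⊥ := by
    apply (Subgroup.disjoint_of_coprime_natCard _).eq_bot
    rw [d.hP, hXc]
    exact (Nat.coprime_primes d.p_prime ht).mpr hpt
  have hKcard : Nat.card K = p * t := by
    rw [hK, Cfsg.Agent.Lib.Helper54.card_sup_of_le_normalizer
      (hXC.trans (Subgroup.centralizer_le_normalizer _)) hdisj, d.hP, hXc]
  have hKσ : ∀ r : ℕ, r.Prime → r ∣ Nat.card K → r ∉ sigma M := by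
    intro r hr hrd
    rw [hKcard] at hrd
    rcases (Nat.Prime.dvd_mul hr).mp hrd with h | h
    · rw [(Nat.prime_dvd_prime_iff_eq hr d.p_prime).mp h]; exact d.hp.2.1
    · rw [(Nat.prime_dvd_prime_iff_eq hr ht).mp h]; exact htσ
  have hHall := (Cfsg.Agent.S1350.result hG M d.hM).1
  obtain ⟨E, hE, hKE⟩ := Cfsg.Agent.Lib.Helper97.BGTwelve.exists_complIn_ge
    (isSolvable_of_le_coatom hG d.hM (le_refl M)) hHall hKM hKσ
  have h13 := h1428 M d.hM E hE p d.hp P (le_sup_left.trans hKE) d.hP X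
    (le_inf (le_sup_right.trans hKE) hXC) (by rw [hXc]; exact ht)
  have hMbσ : Mb M ≤ sigmaCore M :=
    (Mb_le_alphaCore M).trans (Cfsg.Agent.S1405.result hG M d.hM).2.2.1
  have hQσ : Q ≤ sigmaCore Mstar :=
    Cfsg.Agent.Lib.Helper30.BGNonab.le_sigmaCore_of_isPGroup Mstar
      (Cfsg.Agent.S1350.result hG Mstar d.hMs).1 d.hqσ d.hQ hQMs
  have hσn : Mstar ≤ Subgroup.normalizer ((sigmaCore Mstar : Subgroup G) : Set G) :=
    Cfsg.Agent.Lib.Helper54.le_normalizer_piCoreOf (sigma Mstar) Mstar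
  apply d.lemmaA hG
  intro z hz
  have hzMs : z ∈ Mstar := hCX (h13 ⟨hMbσ hz.1, hz.2⟩).2
  rw [Subgroup.mem_centralizer_iff]
  intro g hg
  have h1 : z * g * z⁻¹ * g⁻¹ ∈ Mb M := by
    have h2 : g * z⁻¹ * g⁻¹ ∈ Mb M :=
      (Subgroup.mem_normalizer_iff.mp (le_normalizer_Mb M (hQM hg)) _).mp
        (Subgroup.inv_mem _ hz.1)
    have : z * g * z⁻¹ * g⁻¹ = z * (g * z⁻¹ * g⁻¹) := by group
    rw [this]
    exact Subgroup.mul_mem _ hz.1 h2
  have h2 : z * g * z⁻¹ * g⁻¹ ∈ sigmaCore Mstar := by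
    have h3 : z * g * z⁻¹ ∈ sigmaCore Mstar :=
      (Subgroup.mem_normalizer_iff.mp (hσn hzMs) _).mp (hQσ hg)
    exact Subgroup.mul_mem _ h3 (Subgroup.inv_mem _ (hQσ hg))
  have h3 : z * g * z⁻¹ * g⁻¹ ∈ alphaCore M ⊓ sigmaCore Mstar := ⟨Mb_le_alphaCore M h1, h2⟩
  rw [(d.disj hG).2, Subgroup.mem_bot] at h3
  calc g * z = (z * g * z⁻¹ * g⁻¹)⁻¹ * (z * g) := by group
    _ = z * g := by rw [h3, inv_one, one_mul]

/-- `C_{M_β}(P) ≠ 1`. -/
theorem exists_prime_dvd [Finite G] (hG : IsMinSimpleOddOrder G) (d : Side M Mstar q Q p P) :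
    ∃ r : ℕ, r.Prime ∧ r ∣ Nat.card ↥(Mb M ⊓ Subgroup.centralizer (P : Set G)) := by
  apply Nat.exists_prime_and_dvd
  intro h
  apply d.lemmaA hG
  rw [Subgroup.card_eq_one.mp h]
  exact bot_le

end Side

/-- The two-sided configuration of BG 13.8 is impossible. -/
theorem false_of_sides [Finite G] (hG : IsMinSimpleOddOrder G) (h1428 : Stmt1428 G)
    {M Mstar : Subgroup G} {q qs p : ℕ} {Q Qs P : Subgroup G} (d : Side M Mstar q Q p P)
    (ds : Side Mstar M qs Qs p P) : False := by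
  obtain ⟨r, hr, hrd⟩ := d.exists_prime_dvd hG
  obtain ⟨rs, hrs, hrsd⟩ := ds.exists_prime_dvd hG
  have hrβ : r ∈ beta M := Mb_isPi M r hr (hrd.trans (Subgroup.card_dvd_of_le inf_le_left))
  have hrsβ : rs ∈ beta Mstar :=
    Mb_isPi Mstar rs hrs (hrsd.trans (Subgroup.card_dvd_of_le inf_le_left))
  rcases step12 hG d ds hr hrs hrd hrsd with h | h
  · have h1 : rs ∉ beta M := fun h2 => (d.disj' hG).1 rs hrsβ.1 (beta_subset_sigma hG d.hM h2)
    obtain ⟨x, hx, hxo⟩ := d.step3 hG hrs h h1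
    exact d.step4 hG h1428 hrsβ hx hxo
  · have h1 : r ∉ beta Mstar := fun h2 => (d.disj hG).1 r hrβ.1 (beta_subset_sigma hG d.hMs h2)
    obtain ⟨x, hx, hxo⟩ := ds.step3 hG hr h h1
    exact ds.step4 hG h1428 hrβ hx hxo

theorem conj_smul_eq_map (g : G) (H : Subgroup G) :
    MulAut.conj g • H = H.map (MulAut.conj g).toMonoidHom := rfl

/-- **BG Lemma 13.8** (asymmetry), general form, in the shape `H138` of board #2587. -/
theorem h138_of [Finite G] (hG : IsMinSimpleOddOrder G) (h1428 : Stmt1428 G) :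
    ∀ (M Mstar : Subgroup G), IsCoatom M → IsCoatom Mstar →
    (∀ g : G, Mstar.map (MulAut.conj g).toMonoidHom ≠ M) →
    ∀ (p : ℕ), p ∈ tau1 M → p ∈ tau1 Mstar → ∀ P : Subgroup G, P ≤ M ⊓ Mstar → Nat.card P = p →
    ∀ (q : ℕ) [Fact q.Prime] (Q : Subgroup G), IsPGroup q Q → Q ≠ ⊥ → Q ≤ M ⊓ Mstar →
      ¬ q ∣ Q.relIndex M → q ∈ sigma Mstar → M ⊓ Subgroup.normalizer (Q : Set G) ≤ Mstar →
      P ≤ Subgroup.normalizer (Q : Set G) → Q ⊓ Subgroup.centralizer (P : Set G) = ⊥ →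
    ∀ (qs : ℕ) [Fact qs.Prime] (Qs : Subgroup G), IsPGroup qs Qs → Qs ≠ ⊥ → Qs ≤ M ⊓ Mstar →
      ¬ qs ∣ Qs.relIndex Mstar → qs ∈ sigma M → Mstar ⊓ Subgroup.normalizer (Qs : Set G) ≤ M →
      P ≤ Subgroup.normalizer (Qs : Set G) → Qs ⊓ Subgroup.centralizer (P : Set G) = ⊥ → False := by
  intro M Mstar hM hMs hnc p hp hps P hPD hP q hq Q hQ hQne hQD hQsyl hqσ hNQ hPQ hfpf
    qs hqs Qs hQs hQsne hQsD hQssyl hqsσ hNQs hPQs hfpfs
  have hnc1 : ∀ g : G, MulAut.conj g • Mstar ≠ M := fun g => by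
    rw [conj_smul_eq_map]; exact hnc g
  have d : Side M Mstar q Q p P :=
    ⟨hM, hMs, hnc1, hp, hps, hPD, hP, hq.out, hQ, hQne, hQD, hQsyl, hqσ, hNQ, hPQ, hfpf⟩
  have ds : Side Mstar M qs Qs p P :=
    ⟨hMs, hM, d.hnc', hps, hp, by rwa [inf_comm], hP, hqs.out, hQs, hQsne, by rwa [inf_comm],
      hQssyl, hqsσ, hNQs, hPQs, hfpfs⟩
  exact false_of_sides hG h1428 d ds

/-- **BG Lemma 13.8**, special case (AS), in the shape `hAS` of board #2474. -/
theorem asym_special [Finite G] (hG : IsMinSimpleOddOrder G) (h1428 : Stmt1428 G) :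
    ∀ (M Mstar : Subgroup G), IsCoatom M → IsCoatom Mstar →
    (∀ g : G, Mstar.map (MulAut.conj g).toMonoidHom ≠ M) →
    ∀ (q : ℕ) [Fact q.Prime] (S : Sylow q G),
    Subgroup.normalizer ((S : Subgroup G) : Set G) ≤ M ⊓ Mstar →
    ∀ p, p ∈ tau1 M → p ∈ tau1 Mstar → ∀ P : Subgroup G,
    P ≤ Subgroup.normalizer ((S : Subgroup G) : Set G) → Nat.card P = p →
    Subgroup.centralizer (P : Set G) ⊓ (S : Subgroup G) = ⊥ → False := by
  intro M Mstar hM hMs hnc q hq S hN p hp hps P hPN hP hfpf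
  have hSD : (S : Subgroup G) ≤ M ⊓ Mstar := Subgroup.le_normalizer.trans hN
  have hSne : (S : Subgroup G) ≠ ⊥ := by
    intro h
    have h1 : Subgroup.normalizer ((S : Subgroup G) : Set G) = ⊤ := by
      rw [h]; exact Subgroup.normalizer_eq_top (⊥ : Subgroup G)
    have h2 : M = ⊤ := by
      rw [eq_top_iff, ← h1]; exact hN.trans inf_le_left
    exact hM.1 h2
  have hqd : q ∣ Nat.card (S : Subgroup G) := by
    rcases S.isPGroup'.card_eq_or_dvd with h | h
    · exact absurd (Subgroup.card_eq_one.mp h) hSne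
    · exact h
  have hidx : ∀ L : Subgroup G, (S : Subgroup G) ≤ L → ¬ q ∣ (S : Subgroup G).relIndex L :=
    fun L hL h => S.not_dvd_index (h.trans (Subgroup.relIndex_dvd_index_of_le hL))
  have hσ : ∀ L : Subgroup G, (S : Subgroup G) ≤ L →
      Subgroup.normalizer ((S : Subgroup G) : Set G) ≤ L → q ∈ sigma L := by
    intro L hL hNL
    refine ⟨hq.out, hqd.trans (Subgroup.card_dvd_of_le hL), ?_⟩
    have hq' : IsPGroup q ((S : Subgroup G).subgroupOf L) := S.isPGroup'.comap_subtype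
    have hidx' : ¬ q ∣ ((S : Subgroup G).subgroupOf L).index := hidx L hL
    refine ⟨hq'.toSylow hidx', ?_⟩
    rw [IsPGroup.toSylow_coe, Subgroup.map_subgroupOf_eq_of_le hL]
    exact hNL
  have hfpf' : (S : Subgroup G) ⊓ Subgroup.centralizer (P : Set G) = ⊥ := by
    rw [inf_comm]; exact hfpf
  exact h138_of hG h1428 M Mstar hM hMs hnc p hp hps P (hPN.trans hN) hP
    q (S : Subgroup G) S.isPGroup' hSne hSD (hidx M (hSD.trans inf_le_left))
    (hσ Mstar (hSD.trans inf_le_right) (hN.trans inf_le_right))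
    (inf_le_right.trans (hN.trans inf_le_right)) hPN hfpf'
    q (S : Subgroup G) S.isPGroup' hSne hSD (hidx Mstar (hSD.trans inf_le_right))
    (hσ M (hSD.trans inf_le_left) (hN.trans inf_le_left))
    (inf_le_right.trans (hN.trans inf_le_left)) hPN hfpf'

end Cfsg.Agent.Lib.Helper51.BGAsym
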