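import Mathlib
import Cfsg.Agent.S1428
import Cfsg.Agent.Lib.Helper51.BGAsymMain

/-!
# BG 13.8 (asymmetry lemma), unconditional forms  (helper51)
-/

set_option autoImplicit false

namespace Cfsg.Agent.Lib.Helper51.BGAsym

open Cfsg
open scoped Pointwise

variable {G : Type*} [Group G]

/-- The literal statement of S1428, from the landed row. -/
theorem stmt1428 [Finite G] (hG : IsMinSimpleOddOrder G) : Stmt1428 G :=
  fun M hM E hE p hp P hPE hP R hRE hR =>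
    Cfsg.Agent.S1428.result hG M hM E hE p hp P hPE hP R hRE hR

/-- **BG Lemma 13.8** (asymmetry), general form, unconditional. -/
theorem h138 [Finite G] (hG : IsMinSimpleOddOrder G) :
    ∀ (M Mstar : Subgroup G), IsCoatom M → IsCoatom Mstar →
    (∀ g : G, Mstar.map (MulAut.conj g).toMonoidHom ≠ M) →
    ∀ (p : ℕ), p ∈ tau1 M → p ∈ tau1 Mstar → ∀ P : Subgroup G, P ≤ M ⊓ Mstar → Nat.card P = p →
    ∀ (q : ℕ) [Fact q.Prime] (Q : Subgroup G), IsPGroup q Q → Q ≠ ⊥ → Q ≤ M ⊓ Mstar →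
      ¬ q ∣ Q.relIndex M → q ∈ sigma Mstar → M ⊓ Subgroup.normalizer (Q : Set G) ≤ Mstar →
      P ≤ Subgroup.normalizer (Q : Set G) → Q ⊓ Subgroup.centralizer (P : Set G) = ⊥ →
    ∀ (qs : ℕ) [Fact qs.Prime] (Qs : Subgroup G), IsPGroup qs Qs → Qs ≠ ⊥ → Qs ≤ M ⊓ Mstar →
      ¬ qs ∣ Qs.relIndex Mstar → qs ∈ sigma M → Mstar ⊓ Subgroup.normalizer (Qs : Set G) ≤ M →
      P ≤ Subgroup.normalizer (Qs : Set G) → Qs ⊓ Subgroup.centralizer (P : Set G) = ⊥ → False :=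
  h138_of hG (stmt1428 hG)

/-- **BG Lemma 13.8**, special case (AS), unconditional. -/
theorem asym_special_uncond [Finite G] (hG : IsMinSimpleOddOrder G) :
    ∀ (M Mstar : Subgroup G), IsCoatom M → IsCoatom Mstar →
    (∀ g : G, Mstar.map (MulAut.conj g).toMonoidHom ≠ M) →
    ∀ (q : ℕ) [Fact q.Prime] (S : Sylow q G),
    Subgroup.normalizer ((S : Subgroup G) : Set G) ≤ M ⊓ Mstar →
    ∀ p, p ∈ tau1 M → p ∈ tau1 Mstar → ∀ P : Subgroup G,
    P ≤ Subgroup.normalizer ((S : Subgroup G) : Set G) → Nat.card P = p →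
    Subgroup.centralizer (P : Set G) ⊓ (S : Subgroup G) = ⊥ → False :=
  asym_special hG (stmt1428 hG)

end Cfsg.Agent.Lib.Helper51.BGAsym
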