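import Mathlib

/-!
# BG 15.7, part A: elements acting on cyclic `q`-groups  (helper51)

`pow_pred_centralizes_cyclic`: if `u` normalizes a finite cyclic `q`-subgroup `C` and the order of `u`
is prime to `q`, then `u ^ (q - 1)` centralizes `C`.
-/

set_option autoImplicit false

namespace Cfsg.Agent.Lib.Helper51.BGFifteenSeven

theorem pow_pred_centralizes_cyclic {G : Type*} [Group G] (q : ℕ) [hq : Fact q.Prime]
    (C : Subgroup G) [Finite C] (hC : IsCyclic C) (hCq : IsPGroup q C) (u : G)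
    (hu : u ∈ Subgroup.normalizer (C : Set G)) (hcop : (orderOf u).Coprime q) :
    ∀ c ∈ C, u ^ (q - 1) * c = c * u ^ (q - 1) := by
  let Y : Subgroup G := Subgroup.normalizer (C : Set G)
  let H : Subgroup Y := C.subgroupOf Y
  have hHn : H.Normal := Subgroup.normal_in_normalizer
  let e : H ≃* C := Subgroup.subgroupOfEquivOfLe Subgroup.le_normalizer
  have hHc : IsCyclic H := isCyclic_of_surjective e.symm e.symm.surjective
  have hHfin : Finite H := Finite.of_equiv C e.symm.toEquiv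
  have hcardH : Nat.card H = Nat.card C := Nat.card_congr e.toEquiv
  let σ : MulAut H := MulAut.conjNormal (⟨u, hu⟩ : Y)
  have h1 : σ ^ orderOf u = 1 := by
    show (MulAut.conjNormal (⟨u, hu⟩ : Y) : MulAut H) ^ orderOf u = 1
    rw [← map_pow]
    have : (⟨u, hu⟩ : Y) ^ orderOf u = 1 := by
      apply Subtype.ext
      rw [Subgroup.coe_pow, Subgroup.coe_one]
      exact pow_orderOf_eq_one u
    rw [this, map_one]
  have hfinAut : Finite (MulAut H) := inferInstance
  have h2 : σ ^ Nat.totient (Nat.card C) = 1 := by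
    rw [← hcardH, ← IsCyclic.card_mulAut]
    exact pow_card_eq_one'
  obtain ⟨n, hn⟩ := IsPGroup.iff_card.mp hCq
  have h3 : σ ^ (q - 1) = 1 := by
    have hd1 : orderOf σ ∣ orderOf u := orderOf_dvd_of_pow_eq_one h1
    have hd2 : orderOf σ ∣ Nat.totient (Nat.card C) := orderOf_dvd_of_pow_eq_one h2
    have hd3 : orderOf σ ∣ q - 1 := by
      rw [hn] at hd2
      rcases Nat.eq_zero_or_pos n with h0 | hpos
      · rw [h0, pow_zero, Nat.totient_one] at hd2
        rw [Nat.dvd_one.mp hd2]; exact one_dvd _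
      · rw [Nat.totient_prime_pow hq.out hpos] at hd2
        have hc : (orderOf σ).Coprime (q ^ (n - 1)) :=
          Nat.Coprime.pow_right _ (Nat.Coprime.coprime_dvd_left hd1 hcop)
        exact hc.dvd_of_dvd_mul_left hd2
    exact orderOf_dvd_iff_pow_eq_one.mp hd3
  intro c hc
  have hcY : c ∈ Y := Subgroup.le_normalizer hc
  have hpow : (MulAut.conjNormal ((⟨u, hu⟩ : Y) ^ (q - 1)) : MulAut H) = 1 := by
    rw [map_pow]; exact h3
  have h4 : (MulAut.conjNormal ((⟨u, hu⟩ : Y) ^ (q - 1)) : MulAut H) ⟨⟨c, hcY⟩, hc⟩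
      = ⟨⟨c, hcY⟩, hc⟩ := by rw [hpow]; rfl
  have h5 := congrArg (fun t : H => ((t : Y) : G)) h4
  simp only [MulAut.conjNormal_apply] at h5
  have h6 : u ^ (q - 1) * c * (u ^ (q - 1))⁻¹ = c := by
    simpa using h5
  calc u ^ (q - 1) * c = u ^ (q - 1) * c * (u ^ (q - 1))⁻¹ * u ^ (q - 1) := by group
    _ = c * u ^ (q - 1) := by rw [h6]

end Cfsg.Agent.Lib.Helper51.BGFifteenSeven
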