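import Mathlib
import Cfsg.Prelude.Def_OddOrderLocal
import Cfsg.Agent.S1350
import Cfsg.Agent.S1372
import Cfsg.Agent.S1374
import Cfsg.Agent.S1375
import Cfsg.Agent.S1426
import Cfsg.Agent.S1439
import Cfsg.Agent.Lib.Helper23.BGFifteenB
import Cfsg.Agent.Lib.Helper68.BGThirteenD7
import Cfsg.Agent.Lib.Helper54.UqEight
import Cfsg.Agent.Lib.Helper54.CNGroup
import Cfsg.Agent.Lib.Helper46.BGTenB

/-!
# BG 15.7, part B: first reductions  (helper51)

`M` maximal, `g ∉ M`, `X = F(M) ∩ F(M)^g ≠ 1`.  Then `X ≤ M_σ ∩ M^g` is cyclic, `F(M)` is not a TI-subset,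
and for `x ∈ X` of prime order `C_G(x) ≰ M`.
-/

set_option autoImplicit false

namespace Cfsg.Agent.Lib.Helper51.BGFifteenSeven

open Cfsg
open Cfsg.Agent.Lib.Helper33 (cj mem_cj conj_mem_cj cj_mono mem_normalizer_iff_cj_eq)
open Cfsg.Agent.Lib.Helper34 (UniquenessThm)

variable {G : Type*} [Group G] [Finite G]

theorem uThm (hG : IsMinSimpleOddOrder G) : UniquenessThm G :=
  fun K hK h1 h2 => Cfsg.Agent.S1403.result hG K hK h1 h2

/-- An element of prime order `r ∉ σ(M)` of `F(M)` is only fused into `F(M)` by elements of `M`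
(its cyclic group is normal in `M`). -/
theorem mem_of_conj_mem_fittingOf (hG : IsMinSimpleOddOrder G) {M : Subgroup G} (hM : IsCoatom M)
    {r : ℕ} (hr : r.Prime) (hrσ : r ∉ sigma M) {y g : G} (hyF : y ∈ fittingOf M)
    (hyo : orderOf y = r) (hgy : g * y * g⁻¹ ∈ fittingOf M) : g ∈ M := by
  have hs : IsSimpleGroup G := hG.2.1
  have hU : UniquenessThm G := uThm hG
  have h12 : Cfsg.Agent.Lib.Helper34.Tau2Omega M := by
    intro p _ hp A hAM hAe hAc P hAP
    exact ((Cfsg.Agent.S1417.result hG M hM p hp A ⟨hAM, hAe, hAc⟩).2.1 P).2 hAP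
  have : Fact r.Prime := ⟨hr⟩
  have hOc : IsCyclic ↥(Cfsg.Agent.Lib.Helper34.pCoreOf r M) :=
    Cfsg.Agent.Lib.Helper34.isCyclic_pCoreOf_of_not_mem_sigma hG.1 hU hM h12 hrσ
  have hYcard : Nat.card (Subgroup.zpowers y) = r := by rw [Nat.card_zpowers, hyo]
  have hYp : IsPGroup r (Subgroup.zpowers y) :=
    IsPGroup.of_card (n := 1) (by rw [hYcard, pow_one])
  have hYO : Subgroup.zpowers y ≤ Cfsg.Agent.Lib.Helper34.pCoreOf r M :=
    Cfsg.Agent.Lib.Helper34.le_pCoreOf_of_le_fittingOf hYp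
      (by rw [Subgroup.zpowers_le]; exact hyF)
  have hY'eq : Subgroup.zpowers (g * y * g⁻¹) = cj g (Subgroup.zpowers y) := by
    unfold cj
    rw [MonoidHom.map_zpowers]
    rfl
  have hY'card : Nat.card (Subgroup.zpowers (g * y * g⁻¹)) = r := by
    rw [hY'eq, Cfsg.Agent.Lib.Helper33.card_cj, hYcard]
  have hY'p : IsPGroup r (Subgroup.zpowers (g * y * g⁻¹)) :=
    IsPGroup.of_card (n := 1) (by rw [hY'card, pow_one])
  have hY'O : Subgroup.zpowers (g * y * g⁻¹) ≤ Cfsg.Agent.Lib.Helper34.pCoreOf r M :=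
    Cfsg.Agent.Lib.Helper34.le_pCoreOf_of_le_fittingOf hY'p
      (by rw [Subgroup.zpowers_le]; exact hgy)
  have heq : Subgroup.zpowers (g * y * g⁻¹) = Subgroup.zpowers y :=
    Cfsg.Agent.Lib.Helper82.NilAbel.eq_of_card_eq_of_le_cyclic hOc hY'O hYO
      (by rw [hY'card, hYcard])
  have hgN : g ∈ Subgroup.normalizer ((Subgroup.zpowers y : Subgroup G) : Set G) :=
    mem_normalizer_iff_cj_eq.mpr (by rw [← hY'eq, heq])
  have hMN : M ≤ Subgroup.normalizer ((Subgroup.zpowers y : Subgroup G) : Set G) :=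
    fun m hm => Cfsg.Agent.Lib.Helper82.NilAbel.mem_normalizer_of_le_cyclic hOc hYO
      (Cfsg.Agent.Lib.Helper34.le_normalizer_pCoreOf r M hm)
  have hY1 : Subgroup.zpowers y ≠ ⊥ := by
    intro h
    rw [h, Subgroup.card_bot] at hYcard
    exact hr.one_lt.ne hYcard
  have hYM : Subgroup.zpowers y ≤ M := hYO.trans (Cfsg.Agent.Lib.Helper34.pCoreOf_le r M)
  exact Cfsg.Agent.Lib.Helper34.normalizer_le_of_le_normalizer hM hY1 hYM hMN hgN

omit [Finite G] in
/-- membership in a conjugate, in the Prelude's form -/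
theorem mem_map_conj_iff {g x : G} {P : Subgroup G} :
    x ∈ P.map (MulAut.conj g).toMonoidHom ↔ g⁻¹ * x * g ∈ P := mem_cj (g := g) (x := x) (P := P)

/-- `F(M) ∩ F(M)^g ≤ M_σ` for `g ∉ M`. -/
theorem inter_le_sigmaCore (hG : IsMinSimpleOddOrder G) {M : Subgroup G} (hM : IsCoatom M)
    {g : G} (hg : g ∉ M) :
    fittingOf M ⊓ (fittingOf M).map (MulAut.conj g).toMonoidHom ≤ sigmaCore M := by
  apply Cfsg.Agent.Lib.Helper68.BG13D.le_sigmaCore_of hG M hM
    (inf_le_left.trans (Cfsg.Agent.Lib.Helper34.fittingOf_le M))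
  intro q hq hqd
  by_contra hqσ
  have : Fact q.Prime := ⟨hq⟩
  obtain ⟨y, hyo⟩ := exists_prime_orderOf_dvd_card' q hqd
  have hyo' : orderOf (y : G) = q := by rw [Subgroup.orderOf_coe]; exact hyo
  have hy := y.2
  rw [Subgroup.mem_inf] at hy
  obtain ⟨hy1, hy2⟩ := hy
  rw [mem_map_conj_iff] at hy2
  have hyo2 : orderOf (g⁻¹ * (y : G) * g) = q := by
    have : g⁻¹ * (y : G) * g = MulAut.conj g⁻¹ (y : G) := by simp
    rw [this, MulEquiv.orderOf_eq]; exact hyo'
  apply hg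
  apply mem_of_conj_mem_fittingOf hG hM hq hqσ hy2 hyo2
  have : g * (g⁻¹ * (y : G) * g) * g⁻¹ = (y : G) := by group
  rw [this]; exact hy1

/-- `F(M)` is not a TI-subset when `F(M) ∩ F(M)^g ≠ 1` for some `g ∉ M`. -/
theorem not_isTISubset_fittingOf (hG : IsMinSimpleOddOrder G) {M : Subgroup G} (hM : IsCoatom M)
    {g : G} (hg : g ∉ M)
    (hX : fittingOf M ⊓ (fittingOf M).map (MulAut.conj g).toMonoidHom ≠ ⊥) :
    ¬ IsTISubset (fittingOf M : Set G) := by
  intro hTI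
  have hs : IsSimpleGroup G := hG.2.1
  obtain ⟨y, hy1⟩ := (Subgroup.ne_bot_iff_exists_ne_one).mp hX
  have hyX := y.2
  rw [Subgroup.mem_inf] at hyX
  obtain ⟨hyF, hyF'⟩ := hyX
  rw [mem_map_conj_iff] at hyF'
  have hF1 : fittingOf M ≠ ⊥ := by
    intro h
    apply hX
    rw [h]; simp
  have hN := Cfsg.Agent.Lib.Helper54.normalizer_fittingOf_eq hs hM hF1
  have hgN : g ∉ Subgroup.normalizer (fittingOf M : Set G) := by rw [hN]; exact hg
  have h1 := hTI g hgN (g⁻¹ * (y : G) * g) hyF' (by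
    have : g * (g⁻¹ * (y : G) * g) * g⁻¹ = (y : G) := by group
    rw [this]; exact hyF)
  apply hy1
  have h2 : (y : G) = g * (g⁻¹ * (y : G) * g) * g⁻¹ := by group
  apply Subtype.ext
  rw [h2, h1]; simp

end Cfsg.Agent.Lib.Helper51.BGFifteenSeven
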