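import Mathlib
import Cfsg.Prelude.Def_OddOrderLocal
import Cfsg.Agent.S1430
import Cfsg.Agent.S1432
import Cfsg.Agent.S1417
import Cfsg.Agent.S1418
import Cfsg.Agent.S1420
import Cfsg.Agent.S1422
import Cfsg.Agent.Lib.Helper62.PiHall
import Cfsg.Agent.Lib.Helper24.SigmaEmbed
import Cfsg.Agent.Lib.Helper30.BGSigmaE
import Cfsg.Agent.Lib.Helper68.BGThirteenD4
import Cfsg.Agent.Lib.Helper97.BGTwelveCor
import Cfsg.Agent.Lib.Helper51.BGFifteenSevenB

/-!
# BG 15.7, part C: the second maximal subgroup `N ⊇ C_G(x)` and the subgroup `A`  (helper51)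
-/

set_option autoImplicit false

namespace Cfsg.Agent.Lib.Helper51.BGFifteenSeven

open Cfsg
open Cfsg.Agent.Lib.Helper33 (cj mem_cj conj_mem_cj cj_mono mem_normalizer_iff_cj_eq)
open Cfsg.Agent.Lib.Helper34 (UniquenessThm)

variable {G : Type*} [Group G] [Finite G]

/-- `C_G(x) ≰ M` for `1 ≠ x ∈ M_σ ∩ M^g`, `g ∉ M` (B&G 14.4(e)). -/
theorem centralizer_not_le (hG : IsMinSimpleOddOrder G) {M : Subgroup G} (hM : IsCoatom M)
    {g : G} (hg : g ∉ M) {x : G} (hxσ : x ∈ sigmaCore M) (hx1 : x ≠ 1)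
    (hxg : x ∈ M.map (MulAut.conj g).toMonoidHom) :
    ¬ Subgroup.centralizer ({x} : Set G) ≤ M := by
  intro hC
  have hs : IsSimpleGroup G := hG.2.1
  obtain ⟨-, R, -, hcompl, huniq⟩ := Cfsg.Agent.S1374.result hG M hM x hxσ hx1
  have hR : R = ⊥ := by
    obtain ⟨-, h2, h3, -⟩ := hcompl
    rw [eq_bot_iff]
    intro r hr
    have : r ∈ (M ⊓ Subgroup.centralizer ({x} : Set G)) ⊓ R := ⟨⟨hC (h2 hr), h2 hr⟩, hr⟩
    rw [h3] at this; exact this
  obtain ⟨r, ⟨hrR, hr⟩, -⟩ := huniq g hxg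
  rw [hR, Subgroup.mem_bot] at hrR
  subst hrR
  have hMg : cj g M = M := by
    show M.map (MulAut.conj g).toMonoidHom = M
    rw [← hr]
    ext y
    simp
  have hgN : g ∈ Subgroup.normalizer (M : Set G) := mem_normalizer_iff_cj_eq.mpr hMg
  have hM1 : M ≠ ⊥ := by
    intro h
    have : x ∈ M := Cfsg.Agent.Lib.Helper54.sigmaCore_le M hxσ
    rw [h, Subgroup.mem_bot] at this
    exact hx1 this
  rw [Cfsg.Agent.Lib.Helper46.BGTen.normalizer_eq_self_of_isCoatom hs hM hM1] at hgN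
  exact hg hgN

/-- An element `x ∈ N` of prime order `p` with `N_G(⟨x⟩) ≤ N` and `x ∉ N_σ` has `p ∉ κ(N)` (B&G 14.2(d)
via S1430). -/
theorem not_mem_kappa_of_normalizer_le (hG : IsMinSimpleOddOrder G) {N : Subgroup G}
    (hN : IsCoatom N) {x : G} {p : ℕ} (hp : p.Prime) (hxo : orderOf x = p) (hxN : x ∈ N)
    (hNx : Subgroup.normalizer ((Subgroup.zpowers x : Subgroup G) : Set G) ≤ N)
    (hxσ : x ∉ sigmaCore N) : p ∉ kappa N := by
  intro hκ
  have : Fact p.Prime := ⟨hp⟩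
  have hsolv : Group.IsSolvable N := hG.2.2.2 N hN.1
  obtain ⟨K, hK⟩ := Cfsg.Agent.Lib.Helper62.exists_isPiHallOf (kappa N) N hsolv
  have hKN : K ≤ N := hK.1
  have hidx : ¬ p ∣ K.relIndex N := hK.2.2 p hp hκ
  have hpK : p ∣ Nat.card K := by
    have h1 : Nat.card K * K.relIndex N = Nat.card N :=
      Cfsg.Agent.Lib.Helper54.card_mul_relIndex hKN
    have h2 : p ∣ Nat.card K * K.relIndex N := by rw [h1]; exact hκ.2.1
    rcases (Nat.Prime.dvd_mul hp).mp h2 with h | h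
    · exact h
    · exact absurd h hidx
  have hK1 : K ≠ ⊥ := by
    intro h
    rw [h, Subgroup.card_bot] at hpK
    exact hp.one_lt.ne' (Nat.dvd_one.mp hpK)
  have hXp : IsPGroup p (Subgroup.zpowers x) :=
    IsPGroup.of_card (n := 1) (by rw [Nat.card_zpowers, hxo, pow_one])
  have hXN : Subgroup.zpowers x ≤ N := by rw [Subgroup.zpowers_le]; exact hxN
  obtain ⟨l, hl, hle⟩ :=
    Cfsg.Agent.Lib.Helper24.exists_conj_le_of_not_dvd_relIndex p hXN hXp hidx
  have h30 := (Cfsg.Agent.S1430.result hG N hN K hK hK1).2.2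
    ((Subgroup.zpowers x).map (MulAut.conj l).toMonoidHom) hle (by
      rw [Subgroup.card_map_of_injective (MulAut.conj l).injective, Nat.card_zpowers, hxo]
      exact hp)
  have hnorm : Subgroup.normalizer
      (((Subgroup.zpowers x).map (MulAut.conj l).toMonoidHom : Subgroup G) : Set G) ≤ N := by
    have h := Subgroup.map_equiv_normalizer_eq (Subgroup.zpowers x) (MulAut.conj l)
    have h' : Subgroup.normalizer
        (((Subgroup.zpowers x).map (MulAut.conj l).toMonoidHom : Subgroup G) : Set G) =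
        (Subgroup.normalizer ((Subgroup.zpowers x : Subgroup G) : Set G)).map
          (MulAut.conj l).toMonoidHom := h.symm
    rw [h']
    intro y hy
    obtain ⟨z, hz, rfl⟩ := hy
    have hzN : z ∈ N := hNx hz
    show l * z * l⁻¹ ∈ N
    exact N.mul_mem (N.mul_mem hl hzN) (N.inv_mem hl)
  have hX0 := h30.2.2 N hN hnorm
  have hlx : l * x * l⁻¹ ∈ sigmaCore N :=
    hX0 ⟨x, Subgroup.mem_zpowers x, rfl⟩
  apply hxσ
  have hln := Cfsg.Agent.Lib.Helper54.le_normalizer_sigmaCore N (N.inv_mem hl)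
  have := (Subgroup.mem_normalizer_iff.mp hln (l * x * l⁻¹)).mp hlx
  have e : l⁻¹ * (l * x * l⁻¹) * l⁻¹⁻¹ = x := by group
  rw [e] at this
  exact this


/-- The configuration of B&G 15.7 after the first step: `x ∈ M_σ` of prime order `p` with
`C_G(x) ≤ N`, `C_G(x) ≰ M`, `M ∩ N` a complement of `N_σ` in `N`, `p ∈ τ₂(N)` and `x ∈ A ≤ M ∩ N`
elementary abelian of order `p ^ 2`. -/
structure Cfg (M N : Subgroup G) (x : G) (p : ℕ) (A : Subgroup G) : Prop where
  hM : IsCoatom M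
  hN : IsCoatom N
  hp : p.Prime
  hxσ : x ∈ sigmaCore M
  hxo : orderOf x = p
  hCN : Subgroup.centralizer ({x} : Set G) ≤ N
  hCM : ¬ Subgroup.centralizer ({x} : Set G) ≤ M
  hcompl : IsComplIn (M ⊓ N) (sigmaCore N) N
  htau : p ∈ tau2 N
  hAE : A ≤ M ⊓ N
  hAe : IsElementaryAbelian p A
  hAc : Nat.card A = p ^ 2
  hxA : x ∈ A

/-- existence of the configuration -/
theorem exists_cfg (hG : IsMinSimpleOddOrder G) {M : Subgroup G} (hM : IsCoatom M)
    {g : G} (hg : g ∉ M) {x : G} (hxσ : x ∈ sigmaCore M)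
    (hxg : x ∈ M.map (MulAut.conj g).toMonoidHom) {p : ℕ} (hp : p.Prime) (hxo : orderOf x = p) :
    ∃ N A : Subgroup G, Cfg M N x p A := by
  have hs : IsSimpleGroup G := hG.2.1
  have : Fact p.Prime := ⟨hp⟩
  have hx1 : x ≠ 1 := by
    rintro rfl
    rw [orderOf_one] at hxo
    exact hp.one_lt.ne hxo
  have hCM := centralizer_not_le hG hM hg hxσ hx1 hxg
  obtain ⟨N, ⟨hN, hCN⟩, huniq, -, -, hcomplC, hcompl, -⟩ :=
    Cfsg.Agent.S1375.result hG M hM x hxσ hx1 hCM
  have hxM : x ∈ M := Cfsg.Agent.Lib.Helper54.sigmaCore_le M hxσ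
  have hxC : x ∈ Subgroup.centralizer ({x} : Set G) :=
    Subgroup.mem_centralizer_singleton_iff.mpr rfl
  have hxN : x ∈ N := hCN hxC
  have hxE : x ∈ M ⊓ N := ⟨hxM, hxN⟩
  have hxNσ : x ∉ sigmaCore N := by
    intro h
    have h1 : x ∈ (M ⊓ N) ⊓ sigmaCore N := ⟨hxE, h⟩
    rw [hcompl.2.2.1, Subgroup.mem_bot] at h1
    exact hx1 h1
  have hHallN := (Cfsg.Agent.S1350.result hG N hN).1
  have hpσ : p ∉ sigma N := fun h =>
    hxNσ (Cfsg.Agent.Lib.Helper23.mem_sigmaCore_of_orderOf_mem_sigma hHallN h hxN hxo)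
  have hCx : sigmaCore N ⊓ Subgroup.centralizer ({x} : Set G) ≠ ⊥ := by
    intro h
    apply hCM
    intro c hc
    obtain ⟨a, ha, b, hb, rfl⟩ := hcomplC.2.2.2 c hc
    rw [h, Subgroup.mem_bot] at hb
    rw [hb, mul_one]; exact ha.1
  obtain ⟨z, hz1⟩ := (Subgroup.ne_bot_iff_exists_ne_one).mp hCx
  have hzσ : (z : G) ∈ sigmaCore N := z.2.1
  have hzc : (z : G) * x = x * (z : G) := Subgroup.mem_centralizer_singleton_iff.mp z.2.2
  have hz1' : (z : G) ≠ 1 := fun h => hz1 (Subtype.ext h)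
  -- the normalizer of `⟨x⟩` lies in `N`
  have hX1 : Subgroup.zpowers x ≠ ⊥ := by
    rw [Ne, Subgroup.zpowers_eq_bot]; exact hx1
  have hXp : IsPGroup p (Subgroup.zpowers x) :=
    IsPGroup.of_card (n := 1) (by rw [Nat.card_zpowers, hxo, pow_one])
  have hXtop : Subgroup.zpowers x ≠ ⊤ :=
    Cfsg.Agent.Lib.Helper54.ne_top_of_isPGroup hs hG.2.2.1 hXp
  have hNxtop := Cfsg.Agent.Lib.Helper54.normalizer_ne_top_of_simple hs hX1 hXtop
  have hNx : Subgroup.normalizer ((Subgroup.zpowers x : Subgroup G) : Set G) ≤ N := by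
    rcases eq_top_or_exists_le_coatom
      (Subgroup.normalizer ((Subgroup.zpowers x : Subgroup G) : Set G)) with h | ⟨L, hL, hle⟩
    · exact absurd h hNxtop
    · have hCL : Subgroup.centralizer ({x} : Set G) ≤ L := by
        rw [← Cfsg.Agent.Lib.Helper23.centralizer_zpowers_eq]
        exact (Subgroup.centralizer_le_normalizer _).trans hle
      rw [← huniq L hL hCL]; exact hle
  have hκ : p ∉ kappa N := not_mem_kappa_of_normalizer_le hG hN hp hxo hxN hNx hxNσ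
  have hσ' : ∀ q : ℕ, q.Prime → q ∣ orderOf x → q ∉ sigma N := by
    intro q hq hqd
    rw [hxo] at hqd
    rw [(Nat.prime_dvd_prime_iff_eq hq hp).mp hqd]; exact hpσ
  have h32 := Cfsg.Agent.S1432.result hG N hN (z : G) hzσ hz1' x
    ⟨hxN, Subgroup.mem_centralizer_singleton_iff.mpr hzc.symm⟩ hx1 hσ'
  have htau : p ∈ tau2 N := by
    rcases h32 with ⟨h, -⟩ | ⟨h, -⟩
    · exact absurd (h p hp (by rw [hxo])) hκ
    · exact h p hp (by rw [hxo])
  -- the subgroup `A`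
  obtain ⟨B, hBN, hBe, hBc⟩ :=
    Cfsg.Agent.Lib.Helper97.BGTwelve.exists_elemAb_sq_of_not_pRankLE_one N htau.2.2.2
  have hBp : IsPGroup p B := Cfsg.Agent.Lib.Helper34.isPGroup_of_isElementaryAbelian hBe
  have hidx : ¬ p ∣ (M ⊓ N).relIndex N := by
    rw [Cfsg.Agent.Lib.Helper30.BGSigmaE.relIndex_eq_card_of_isComplIn
      (Cfsg.Agent.Lib.Helper68.BG13D.isComplIn_symm hcompl)]
    intro h
    exact hpσ (Cfsg.Agent.Lib.Helper54.sigmaCore_isPi N p hp h)
  obtain ⟨l, hl, hle⟩ :=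
    Cfsg.Agent.Lib.Helper24.exists_conj_le_of_not_dvd_relIndex p hBN hBp hidx
  set A : Subgroup G := B.map (MulAut.conj l).toMonoidHom with hA
  have hAc : Nat.card A = p ^ 2 := by
    rw [hA, Subgroup.card_map_of_injective (MulAut.conj l).injective, hBc]
  have hAe : IsElementaryAbelian p A := by
    constructor
    · constructor
      constructor
      rintro ⟨a, b, hb, rfl⟩ ⟨a', b', hb', rfl⟩
      apply Subtype.ext
      have hcomm : b * b' = b' * b := by
        have := hBe.1.is_comm.comm ⟨b, hb⟩ ⟨b', hb'⟩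
        exact congrArg Subtype.val this
      show (MulAut.conj l) b * (MulAut.conj l) b' = (MulAut.conj l) b' * (MulAut.conj l) b
      rw [← map_mul, ← map_mul, hcomm]
    · rintro a ⟨b, hb, rfl⟩
      show (MulAut.conj l) b ^ p = 1
      rw [← map_pow, hBe.2 b hb, map_one]
  have h18 := (Cfsg.Agent.S1418.result hG N hN (M ⊓ N) hcompl p htau A ⟨hle, hAe, hAc⟩).1.2
  have hxA : x ∈ A := by
    have := h18 (Subgroup.zpowers x) (by rw [Subgroup.zpowers_le]; exact hxE)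
      (by rw [Nat.card_zpowers, hxo])
    exact this (Subgroup.mem_zpowers x)
  exact ⟨N, A, ⟨hM, hN, hp, hxσ, hxo, hCN, hCM, hcompl, htau, hle, hAe, hAc, hxA⟩⟩

end Cfsg.Agent.Lib.Helper51.BGFifteenSeven
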