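import Mathlib
import Cfsg.Prelude.Def_OddOrderLocal
import Cfsg.Agent.Lib.Helper45.RankTools
import Cfsg.Agent.Lib.Helper51.BGFifteenSevenC

/-!
# BG 15.7, part D: consequences of the configuration `Cfg`  (helper51)
-/

set_option autoImplicit false

namespace Cfsg.Agent.Lib.Helper51.BGFifteenSeven

open Cfsg
open Cfsg.Agent.Lib.Helper34 (UniquenessThm)

variable {G : Type*} [Group G] [Finite G]

namespace Cfg

variable {M N : Subgroup G} {x : G} {p : ℕ} {A : Subgroup G}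

omit [Finite G] in
theorem hx1 (c : Cfg M N x p A) : x ≠ 1 := by
  rintro rfl
  have := c.hxo
  rw [orderOf_one] at this
  exact c.hp.one_lt.ne this

omit [Finite G] in
theorem hxM (c : Cfg M N x p A) : x ∈ M := Cfsg.Agent.Lib.Helper54.sigmaCore_le M c.hxσ

omit [Finite G] in
theorem hxN (c : Cfg M N x p A) : x ∈ N :=
  c.hCN (Subgroup.mem_centralizer_singleton_iff.mpr rfl)

omit [Finite G] in
theorem ne (c : Cfg M N x p A) : N ≠ M := by
  rintro rfl
  exact c.hCM c.hCN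

theorem hallN (hG : IsMinSimpleOddOrder G) (c : Cfg M N x p A) :
    IsPiHallOf (sigma N) (sigmaCore N) N := (Cfsg.Agent.S1350.result hG N c.hN).1

theorem hallM (hG : IsMinSimpleOddOrder G) (c : Cfg M N x p A) :
    IsPiHallOf (sigma M) (sigmaCore M) M := (Cfsg.Agent.S1350.result hG M c.hM).1

theorem not_sigma_of_dvd (hG : IsMinSimpleOddOrder G) (c : Cfg M N x p A) {q : ℕ} (hq : q.Prime)
    (hqd : q ∣ Nat.card ↥(M ⊓ N)) : q ∉ sigma N :=
  fun h => Cfsg.Agent.Lib.Helper97.BGTwelve.not_dvd_card_of_isComplIn c.hcompl (c.hallN hG) hq h hqd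

theorem hAp (c : Cfg M N x p A) : IsPGroup p A :=
  Cfsg.Agent.Lib.Helper34.isPGroup_of_isElementaryAbelian c.hAe

theorem normalizes (hG : IsMinSimpleOddOrder G) (c : Cfg M N x p A) :
    M ⊓ N ≤ Subgroup.normalizer (A : Set G) := by
  have : Fact p.Prime := ⟨c.hp⟩
  exact (Cfsg.Agent.S1418.result hG N c.hN (M ⊓ N) c.hcompl p c.htau A ⟨c.hAE, c.hAe, c.hAc⟩).1.1

theorem sub_le (hG : IsMinSimpleOddOrder G) (c : Cfg M N x p A) :
    ∀ X : Subgroup G, X ≤ M ⊓ N → Nat.card X = p → X ≤ A := by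
  have : Fact p.Prime := ⟨c.hp⟩
  exact (Cfsg.Agent.S1418.result hG N c.hN (M ⊓ N) c.hcompl p c.htau A ⟨c.hAE, c.hAe, c.hAc⟩).1.2

theorem cent_le (hG : IsMinSimpleOddOrder G) (c : Cfg M N x p A) :
    Subgroup.centralizer (A : Set G) ≤ M ⊓ N := by
  have : Fact p.Prime := ⟨c.hp⟩
  have h := (Cfsg.Agent.S1418.result hG N c.hN (M ⊓ N) c.hcompl p c.htau A
    ⟨c.hAE, c.hAe, c.hAc⟩).2.1
  exact h.1.trans (le_of_eq h.2.1)

/-- nilpotent subgroups of `M ∩ N` are abelian -/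
theorem abelian_of_le (hG : IsMinSimpleOddOrder G) (c : Cfg M N x p A) {R : Subgroup G}
    (hR : R ≤ M ⊓ N) (hnil : Group.IsNilpotent R) : IsMulCommutative R :=
  (Cfsg.Agent.S1420.result hG N c.hN (M ⊓ N) c.hcompl).1 R (hR.trans inf_le_right) hnil
    (fun q hq hqd => c.not_sigma_of_dvd hG hq (hqd.trans (Subgroup.card_dvd_of_le hR)))

/-- a nonabelian `r`-subgroup of `M` does not lie in `N` -/
theorem not_le_of_nonabelian (hG : IsMinSimpleOddOrder G) (c : Cfg M N x p A) (r : ℕ)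
    [Fact r.Prime] {R : Subgroup G} (hRp : IsPGroup r R) (hna : ¬ IsMulCommutative R)
    (hRM : R ≤ M) : ¬ R ≤ N := by
  intro hRN
  obtain ⟨L, -, huniq⟩ := Cfsg.Agent.S1422.result hG r R hRp hna
  have h1 : M = L := huniq M ⟨c.hM, hRM⟩
  have h2 : N = L := huniq N ⟨c.hN, hRN⟩
  exact c.ne (h2.trans h1.symm)

/-- in a `p`-subgroup of `N` containing `A`, the elements of order dividing `p` lie in `A` -/
theorem mem_of_pow_eq_one (hG : IsMinSimpleOddOrder G) (c : Cfg M N x p A) {B : Subgroup G}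
    (hBN : B ≤ N) (hBp : IsPGroup p B) (hAB : A ≤ B) {y : G} (hy : y ∈ B) (hyp : y ^ p = 1) :
    y ∈ A := by
  have : Fact p.Prime := ⟨c.hp⟩
  obtain ⟨S, hS⟩ := Cfsg.Agent.Lib.Helper34.exists_sylow_map_ge hBp hBN
  have h := ((Cfsg.Agent.S1417.result hG N c.hN p c.htau A
    ⟨c.hAE.trans inf_le_right, c.hAe, c.hAc⟩).2.1 S).2 (hAB.trans hS)
  exact (h.1 y (hS hy)).mp hyp

theorem p_mem_sigma (c : Cfg M N x p A) : p ∈ sigma M := by
  apply Cfsg.Agent.Lib.Helper54.sigmaCore_isPi M p c.hp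
  have h1 : orderOf (⟨x, c.hxσ⟩ : ↥(sigmaCore M)) = p :=
    (Subgroup.orderOf_mk x c.hxσ).trans c.hxo
  rw [← h1]
  exact orderOf_dvd_natCard _

theorem A_le_sigmaCore (hG : IsMinSimpleOddOrder G) (c : Cfg M N x p A) : A ≤ sigmaCore M := by
  have : Fact p.Prime := ⟨c.hp⟩
  exact Cfsg.Agent.Lib.Helper68.BG13D.le_sigmaCore_of_isPGroup hG M c.hM c.p_mem_sigma
    (c.hAE.trans inf_le_left) c.hAp

theorem pRankLE_two (hG : IsMinSimpleOddOrder G) (c : Cfg M N x p A) {q : ℕ} (hq : q.Prime)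
    (hqd : q ∣ Nat.card ↥(M ⊓ N)) : PRankLE q 2 ↥N := by
  have : Fact q.Prime := ⟨hq⟩
  have : IsSimpleGroup G := hG.2.1
  exact Cfsg.Agent.Lib.Helper34.pRankLE_two_of_not_mem_sigma (uThm hG) c.hN
    (c.not_sigma_of_dvd hG hq hqd)

/-- centralizers of elementary abelian subgroups of order `q ^ 2` of `M ∩ N` lie in `N` -/
theorem cent_sq_le (hG : IsMinSimpleOddOrder G) (c : Cfg M N x p A) {q : ℕ} (hq : q.Prime)
    {B : Subgroup G} (hB : B ≤ M ⊓ N) (hBe : IsElementaryAbelian q B)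
    (hBc : Nat.card B = q ^ 2) : Subgroup.centralizer (B : Set G) ≤ N := by
  have : Fact q.Prime := ⟨hq⟩
  have hqd : q ∣ Nat.card ↥(M ⊓ N) := by
    have h1 : q ∣ Nat.card B := by rw [hBc]; exact dvd_pow_self q (by norm_num)
    exact h1.trans (Subgroup.card_dvd_of_le hB)
  have hτ : q ∈ tau2 N := by
    refine ⟨hq, c.not_sigma_of_dvd hG hq hqd, c.pRankLE_two hG hq hqd, ?_⟩
    rw [Cfsg.Agent.Lib.Helper45.not_pRankLE_subgroup_iff]
    refine ⟨B, hB.trans inf_le_right, hBe, ?_⟩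
    rw [hBc]
    exact Nat.pow_lt_pow_right hq.one_lt (by norm_num)
  have h := (Cfsg.Agent.S1418.result hG N c.hN (M ⊓ N) c.hcompl q hτ B ⟨hB, hBe, hBc⟩).2.1.1
  exact h.trans inf_le_left

end Cfg

end Cfsg.Agent.Lib.Helper51.BGFifteenSeven
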