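import Mathlib
import Cfsg.Prelude.Def_OddOrderLocal
import Cfsg.Agent.Lib.Helper25.BGNilBridge
import Cfsg.Agent.Lib.Helper54.BGFourteenSixA
import Cfsg.Agent.Lib.Helper51.BGFifteenSevenD

/-!
# BG 15.7, part E: the structure of `H = M_σ` (nilpotent) in the configuration `Cfg`  (helper51)
-/

set_option autoImplicit false

namespace Cfsg.Agent.Lib.Helper51.BGFifteenSeven

open Cfsg
open Cfsg.Agent.Lib.Helper25.NilBridge
open Cfsg.Agent.Lib.Helper54 (omegaCenter)

variable {G : Type*} [Group G] [Finite G]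

/-- `O_q(H)` as a subgroup of `G` -/
abbrev Oq (q : ℕ) (H : Subgroup G) : Subgroup G := (Cfsg.pCore q ↥H).map H.subtype

/-- `O_{q'}(H)` as a subgroup of `G` -/
abbrev Oq' (q : ℕ) (H : Subgroup G) : Subgroup G := (Cfsg.pPrimeCore q ↥H).map H.subtype

omit [Finite G] in
theorem Oq_le (q : ℕ) (H : Subgroup G) : Oq q H ≤ H := Subgroup.map_subtype_le _

omit [Finite G] in
theorem Oq'_le (q : ℕ) (H : Subgroup G) : Oq' q H ≤ H := Subgroup.map_subtype_le _

omit [Finite G] in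
theorem Oq_isPGroup (q : ℕ) [Fact q.Prime] (H : Subgroup G) : IsPGroup q (Oq q H) :=
  (Cfsg.Agent.Lib.Helper55.isPGroup_pCore (G := ↥H) q).map H.subtype

omit [Finite G] in
theorem isMulCommutative_iff {R : Subgroup G} :
    IsMulCommutative R ↔ ∀ a ∈ R, ∀ b ∈ R, a * b = b * a := by
  constructor
  · intro h a ha b hb
    exact congrArg Subtype.val (h.is_comm.comm ⟨a, ha⟩ ⟨b, hb⟩)
  · intro h
    exact ⟨⟨fun a b => Subtype.ext (h a a.2 b b.2)⟩⟩

namespace Cfg

variable {M N : Subgroup G} {x : G} {p : ℕ} {A : Subgroup G}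

theorem A_le_P (hG : IsMinSimpleOddOrder G) (c : Cfg M N x p A)
    (hnil : Group.IsNilpotent ↥(sigmaCore M)) : A ≤ Oq p (sigmaCore M) := by
  have : Fact p.Prime := ⟨c.hp⟩
  exact le_map_pCore_of_isPGroup (sigmaCore M) hnil p (c.A_le_sigmaCore hG) c.hAp

theorem Oq_le_cent (hG : IsMinSimpleOddOrder G) (c : Cfg M N x p A)
    (hnil : Group.IsNilpotent ↥(sigmaCore M)) {r : ℕ} (hr : r.Prime) (hrp : r ≠ p) :
    Oq r (sigmaCore M) ≤ Subgroup.centralizer (A : Set G) := by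
  have : Fact p.Prime := ⟨c.hp⟩
  have : Fact r.Prime := ⟨hr⟩
  intro b hb
  rw [Subgroup.mem_centralizer_iff]
  intro a ha
  exact commute_of_mem_map_pCore (sigmaCore M) p r hrp.symm (c.A_le_P hG hnil ha) hb

theorem Oq_le_inf (hG : IsMinSimpleOddOrder G) (c : Cfg M N x p A)
    (hnil : Group.IsNilpotent ↥(sigmaCore M)) {r : ℕ} (hr : r.Prime) (hrp : r ≠ p) :
    Oq r (sigmaCore M) ≤ M ⊓ N := (c.Oq_le_cent hG hnil hr hrp).trans (c.cent_le hG)

theorem Oq_comm (hG : IsMinSimpleOddOrder G) (c : Cfg M N x p A)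
    (hnil : Group.IsNilpotent ↥(sigmaCore M)) {r : ℕ} (hr : r.Prime) (hrp : r ≠ p) :
    ∀ a ∈ Oq r (sigmaCore M), ∀ b ∈ Oq r (sigmaCore M), a * b = b * a := by
  have : Fact r.Prime := ⟨hr⟩
  by_contra hcon
  exact c.not_le_of_nonabelian hG r (Oq_isPGroup r (sigmaCore M))
    (fun h => hcon (isMulCommutative_iff.mp h))
    ((Oq_le r _).trans (Cfsg.Agent.Lib.Helper54.sigmaCore_le M))
    ((c.Oq_le_inf hG hnil hr hrp).trans inf_le_right)

theorem Oq'_le_cent (hG : IsMinSimpleOddOrder G) (c : Cfg M N x p A)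
    (hnil : Group.IsNilpotent ↥(sigmaCore M)) :
    Oq' p (sigmaCore M) ≤ Subgroup.centralizer (A : Set G) := by
  have : Fact p.Prime := ⟨c.hp⟩
  intro b hb
  rw [Subgroup.mem_centralizer_iff]
  intro a ha
  exact commute_of_mem_map_pCore_pPrimeCore (sigmaCore M) p (c.A_le_P hG hnil ha) hb

theorem Oq'_le_inf (hG : IsMinSimpleOddOrder G) (c : Cfg M N x p A)
    (hnil : Group.IsNilpotent ↥(sigmaCore M)) :
    Oq' p (sigmaCore M) ≤ M ⊓ N := (c.Oq'_le_cent hG hnil).trans (c.cent_le hG)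

/-- **the abelian case** -/
theorem abelian_case (hG : IsMinSimpleOddOrder G) (c : Cfg M N x p A)
    (hnil : Group.IsNilpotent ↥(sigmaCore M))
    (hPab : ∀ a ∈ Oq p (sigmaCore M), ∀ b ∈ Oq p (sigmaCore M), a * b = b * a) :
    sigmaCore M ≤ M ⊓ N ∧ IsMulCommutative ↥(sigmaCore M) ∧ RankLE 2 ↥(sigmaCore M) ∧
      ¬ RankLE 1 ↥(sigmaCore M) := by
  have hPle : Oq p (sigmaCore M) ≤ M ⊓ N := by
    refine le_trans ?_ (c.cent_le hG)
    intro b hb
    rw [Subgroup.mem_centralizer_iff]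
    intro a ha
    exact hPab a (c.A_le_P hG hnil ha) b hb
  have hHle : sigmaCore M ≤ M ⊓ N := by
    apply le_of_forall_map_pCore_le (sigmaCore M) hnil
    intro q hq
    by_cases hqp : q = p
    · subst hqp; exact hPle
    · exact c.Oq_le_inf hG hnil hq hqp
  refine ⟨hHle, c.abelian_of_le hG hHle hnil, ?_, ?_⟩
  · intro q hq
    by_contra hcon
    have : Fact q.Prime := ⟨hq⟩
    obtain ⟨F, hFH, hFe, hFc⟩ :=
      (Cfsg.Agent.Lib.Helper45.not_pRankLE_subgroup_iff 2 (sigmaCore M)).mp hcon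
    have hFp : IsPGroup q F := Cfsg.Agent.Lib.Helper34.isPGroup_of_isElementaryAbelian hFe
    have hF1 : F ≠ ⊥ := by
      intro h0
      rw [h0, Subgroup.card_bot] at hFc
      have : 1 ≤ q ^ 2 := Nat.one_le_pow _ _ hq.pos
      omega
    have hqd : q ∣ Nat.card ↥(M ⊓ N) :=
      (Cfsg.Agent.Lib.Helper34.dvd_card_of_isPGroup_ne_bot hFp hF1).trans
        (Subgroup.card_dvd_of_le (hFH.trans hHle))
    have h2 := c.pRankLE_two hG hq hqd
    exact (Cfsg.Agent.Lib.Helper45.not_pRankLE_subgroup_iff 2 N).mpr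
      ⟨F, (hFH.trans hHle).trans inf_le_right, hFe, hFc⟩ h2
  · intro h1
    have h := h1 p c.hp
    apply (Cfsg.Agent.Lib.Helper45.not_pRankLE_subgroup_iff 1 (sigmaCore M)).mpr _ h
    refine ⟨A, c.A_le_sigmaCore hG, c.hAe, ?_⟩
    rw [c.hAc]
    exact Nat.pow_lt_pow_right c.hp.one_lt (by norm_num)

/-! ### the nonabelian case -/

theorem P_not_le (hG : IsMinSimpleOddOrder G) (c : Cfg M N x p A)
    (hPna : ¬ ∀ a ∈ Oq p (sigmaCore M), ∀ b ∈ Oq p (sigmaCore M), a * b = b * a) :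
    ¬ Oq p (sigmaCore M) ≤ N := by
  have : Fact p.Prime := ⟨c.hp⟩
  exact c.not_le_of_nonabelian hG p (Oq_isPGroup p (sigmaCore M))
    (fun h => hPna (isMulCommutative_iff.mp h))
    ((Oq_le p _).trans (Cfsg.Agent.Lib.Helper54.sigmaCore_le M))

theorem x_not_central (hG : IsMinSimpleOddOrder G) (c : Cfg M N x p A)
    (hPna : ¬ ∀ a ∈ Oq p (sigmaCore M), ∀ b ∈ Oq p (sigmaCore M), a * b = b * a) :
    ¬ ∀ y ∈ Oq p (sigmaCore M), y * x = x * y := by
  intro h
  apply c.P_not_le hG hPna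
  intro y hy
  apply c.hCN
  rw [Subgroup.mem_centralizer_singleton_iff]
  exact h y hy

theorem isCyclic_pPrimeCore (hG : IsMinSimpleOddOrder G) (c : Cfg M N x p A)
    (hnil : Group.IsNilpotent ↥(sigmaCore M))
    (hPna : ¬ ∀ a ∈ Oq p (sigmaCore M), ∀ b ∈ Oq p (sigmaCore M), a * b = b * a) :
    IsCyclic ↥(Cfsg.pPrimeCore p ↥(sigmaCore M)) := by
  have : Fact p.Prime := ⟨c.hp⟩
  have hQle : Oq' p (sigmaCore M) ≤ M ⊓ N := c.Oq'_le_inf hG hnil
  have hQnil : Group.IsNilpotent ↥(Oq' p (sigmaCore M)) := by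
    have := hnil
    exact (Group.isNilpotent_congr (Subgroup.equivMapOfInjective
      (Cfsg.pPrimeCore p ↥(sigmaCore M)) (sigmaCore M).subtype
      (sigmaCore M).subtype_injective)).mp inferInstance
  have hQab : IsMulCommutative ↥(Oq' p (sigmaCore M)) := c.abelian_of_le hG hQle hQnil
  have hQodd : Odd (Nat.card ↥(Oq' p (sigmaCore M))) :=
    Odd.of_dvd_nat hG.1 (Subgroup.card_subgroup_dvd_card _)
  have hrank : ∀ q : ℕ, q.Prime → PRankLE q 1 ↥(Oq' p (sigmaCore M)) := by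
    intro q hq
    by_contra hcon
    have : Fact q.Prime := ⟨hq⟩
    obtain ⟨B, hBQ, hBe, hBc⟩ :=
      Cfsg.Agent.Lib.Helper97.BGTwelve.exists_elemAb_sq_of_not_pRankLE_one _ hcon
    have hcent := c.cent_sq_le hG hq (hBQ.trans hQle) hBe hBc
    apply c.P_not_le hG hPna
    intro y hy
    apply hcent
    rw [Subgroup.mem_centralizer_iff]
    intro b hb
    exact (commute_of_mem_map_pCore_pPrimeCore (sigmaCore M) p hy (hBQ hb)).symm
  have hcyc : IsCyclic ↥(Oq' p (sigmaCore M)) :=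
    isCyclic_of_comm_of_pRankLE_one hQodd (fun a b => hQab.is_comm.comm a b) hrank
  let e : ↥(Cfsg.pPrimeCore p ↥(sigmaCore M)) ≃* ↥(Oq' p (sigmaCore M)) :=
    Subgroup.equivMapOfInjective _ (sigmaCore M).subtype (sigmaCore M).subtype_injective
  exact isCyclic_of_surjective e.symm e.symm.surjective

/-- `A` is a maximal elementary abelian subgroup of `P` -/
theorem A_max (hG : IsMinSimpleOddOrder G) (c : Cfg M N x p A) {B : Subgroup G}
    (hBe : IsElementaryAbelian p B) (hAB : A ≤ B) : B = A := by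
  apply le_antisymm _ hAB
  have hBcent : B ≤ Subgroup.centralizer (A : Set G) := by
    intro b hb
    rw [Subgroup.mem_centralizer_iff]
    intro a ha
    exact Cfsg.Agent.Lib.Helper45.IsElementaryAbelian_comm hBe (hAB ha) hb
  have hBN : B ≤ N := (hBcent.trans (c.cent_le hG)).trans inf_le_right
  intro y hy
  exact c.mem_of_pow_eq_one hG hBN (Cfsg.Agent.Lib.Helper34.isPGroup_of_isElementaryAbelian hBe)
    hAB hy (hBe.2 y hy)

theorem omegaCenter_le_A (hG : IsMinSimpleOddOrder G) (c : Cfg M N x p A)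
    (hnil : Group.IsNilpotent ↥(sigmaCore M)) :
    omegaCenter p (Oq p (sigmaCore M)) ≤ A := by
  have : Fact p.Prime := ⟨c.hp⟩
  intro z hz
  by_cases hz1 : z = 1
  · rw [hz1]; exact A.one_mem
  have hzo : orderOf z = p := orderOf_eq_prime hz.2.2 hz1
  have hzc : z ∈ Subgroup.centralizer (A : Set G) := by
    rw [Subgroup.mem_centralizer_iff]
    intro a ha
    exact hz.2.1 a (c.A_le_P hG hnil ha)
  have hzE : Subgroup.zpowers z ≤ M ⊓ N := by
    rw [Subgroup.zpowers_le]; exact c.cent_le hG hzc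
  exact c.sub_le hG (Subgroup.zpowers z) hzE (by rw [Nat.card_zpowers, hzo])
    (Subgroup.mem_zpowers z)

theorem card_omegaCenter (hG : IsMinSimpleOddOrder G) (c : Cfg M N x p A)
    (hnil : Group.IsNilpotent ↥(sigmaCore M))
    (hPna : ¬ ∀ a ∈ Oq p (sigmaCore M), ∀ b ∈ Oq p (sigmaCore M), a * b = b * a) :
    Nat.card (omegaCenter p (Oq p (sigmaCore M))) = p := by
  have : Fact p.Prime := ⟨c.hp⟩
  have hle := c.omegaCenter_le_A hG hnil
  have hdvd : Nat.card (omegaCenter p (Oq p (sigmaCore M))) ∣ p ^ 2 := by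
    rw [← c.hAc]; exact Subgroup.card_dvd_of_le hle
  obtain ⟨j, hj, hjeq⟩ := (Nat.dvd_prime_pow c.hp).mp hdvd
  have hP1 : Oq p (sigmaCore M) ≠ ⊥ := by
    intro h
    have := c.A_le_P hG hnil c.hxA
    rw [h, Subgroup.mem_bot] at this
    exact c.hx1 this
  have hZ1 := Cfsg.Agent.Lib.Helper54.omegaCenter_ne_bot (Oq p (sigmaCore M))
    (Oq_isPGroup p (sigmaCore M)) hP1
  have hj0 : j ≠ 0 := by
    rintro rfl
    rw [pow_zero] at hjeq
    exact hZ1 (Subgroup.card_eq_one.mp hjeq)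
  have hj2 : j ≠ 2 := by
    rintro rfl
    have heq : omegaCenter p (Oq p (sigmaCore M)) = A :=
      Subgroup.eq_of_le_of_card_ge hle (by rw [hjeq, c.hAc])
    have hxZ : x ∈ omegaCenter p (Oq p (sigmaCore M)) := by rw [heq]; exact c.hxA
    exact c.x_not_central hG hPna (fun y hy => hxZ.2.1 y hy)
  have : j = 1 := by omega
  rw [hjeq, this, pow_one]

theorem le_normalizer_omegaCenter (c : Cfg M N x p A)
    (hnil : Group.IsNilpotent ↥(sigmaCore M)) :
    M ≤ Subgroup.normalizer ((omegaCenter p (Oq p (sigmaCore M)) : Subgroup G) : Set G) := by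
  have : Fact p.Prime := ⟨c.hp⟩
  exact ((Cfsg.Agent.Lib.Helper54.le_normalizer_sigmaCore M).trans
    (normalizer_le_normalizer_map_pCore (sigmaCore M) hnil p)).trans
    (Cfsg.Agent.Lib.Helper54.normalizer_le_normalizer_omegaCenter p _)

end Cfg

end Cfsg.Agent.Lib.Helper51.BGFifteenSeven
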