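import Mathlib
import Cfsg.Prelude.Def_OddOrderLocal
import Cfsg.Agent.S1453
import Cfsg.Agent.Lib.Helper51.BGFifteenSevenE

/-!
# BG 15.7, part F: `x` is not a `p`-th power in `P = O_p(M_σ)` (nonabelian case)  (helper51)
-/

set_option autoImplicit false

namespace Cfsg.Agent.Lib.Helper51.BGFifteenSeven

open Cfsg
open Cfsg.Agent.Lib.Helper25.NilBridge
open Cfsg.Agent.Lib.Helper54 (omegaCenter)

variable {G : Type*} [Group G] [Finite G]

omit [Finite G] in
theorem prime_ne_two (hG : IsMinSimpleOddOrder G) {q : ℕ} (hqd : q ∣ Nat.card G) : q ≠ 2 := by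
  rintro rfl
  have h1 : Odd (Nat.card G) := hG.1
  rw [Nat.odd_iff] at h1
  omega

namespace Cfg

variable {M N : Subgroup G} {x : G} {p : ℕ} {A : Subgroup G}

omit [Finite G] in
theorem p_ne_two (hG : IsMinSimpleOddOrder G) (c : Cfg M N x p A) : p ≠ 2 := by
  apply prime_ne_two hG
  rw [← c.hxo]
  exact orderOf_dvd_natCard x

/-- `P = O_p(M_σ)` is a Sylow `p`-subgroup of `G`. -/
theorem exists_sylow_eq_P (hG : IsMinSimpleOddOrder G) (c : Cfg M N x p A)
    (hnil : Group.IsNilpotent ↥(sigmaCore M)) :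
    ∃ S : Sylow p G, (S : Subgroup G) = Oq p (sigmaCore M) := by
  have : Fact p.Prime := ⟨c.hp⟩
  have hPp : IsPGroup p (Oq p (sigmaCore M)) := Oq_isPGroup p _
  have h1 : ¬ p ∣ (sigmaCore M).index :=
    (Cfsg.Agent.S1350.result hG M c.hM).2.1.2 p c.hp c.p_mem_sigma
  obtain ⟨S', hS'⟩ := exists_sylow_eq_pCore (sigmaCore M) hnil p
  have h2 : ¬ p ∣ (Cfsg.pCore p ↥(sigmaCore M)).index := by
    rw [← hS']; exact S'.not_dvd_index
  have hidx : ¬ p ∣ (Oq p (sigmaCore M)).index := by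
    rw [Subgroup.index_map_subtype]
    intro h
    rcases (Nat.Prime.dvd_mul c.hp).mp h with h | h
    · exact h2 h
    · exact h1 h
  exact ⟨hPp.toSylow hidx, IsPGroup.toSylow_coe hPp hidx⟩

/-- `A` as a maximal elementary abelian subgroup of order `p ^ 2` of the group `↥P`. -/
theorem E_data (hG : IsMinSimpleOddOrder G) (c : Cfg M N x p A)
    (hnil : Group.IsNilpotent ↥(sigmaCore M)) :
    IsElementaryAbelian p (A.subgroupOf (Oq p (sigmaCore M))) ∧
      Nat.card (A.subgroupOf (Oq p (sigmaCore M))) = p ^ 2 ∧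
      ∀ B : Subgroup ↥(Oq p (sigmaCore M)), IsElementaryAbelian p B →
        A.subgroupOf (Oq p (sigmaCore M)) ≤ B → B = A.subgroupOf (Oq p (sigmaCore M)) := by
  have hAP : A ≤ Oq p (sigmaCore M) := c.A_le_P hG hnil
  refine ⟨?_, ?_, ?_⟩
  · refine ⟨⟨⟨fun a b => ?_⟩⟩, fun a ha => ?_⟩
    · apply Subtype.ext
      apply Subtype.ext
      exact Cfsg.Agent.Lib.Helper45.IsElementaryAbelian_comm c.hAe
        (Subgroup.mem_subgroupOf.mp a.2) (Subgroup.mem_subgroupOf.mp b.2)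
    · apply Subtype.ext
      have := c.hAe.2 (a : G) (Subgroup.mem_subgroupOf.mp ha)
      simpa using this
  · rw [← c.hAc]; exact Nat.card_congr (Subgroup.subgroupOfEquivOfLe hAP).toEquiv
  · intro B hB hEB
    have hB' : IsElementaryAbelian p (B.map (Oq p (sigmaCore M)).subtype) := by
      refine ⟨⟨⟨?_⟩⟩, ?_⟩
      · rintro ⟨_, a, ha, rfl⟩ ⟨_, b, hb, rfl⟩
        apply Subtype.ext
        have := hB.1.is_comm.comm ⟨a, ha⟩ ⟨b, hb⟩
        exact congrArg (fun z : ↥B => ((z : ↥(Oq p (sigmaCore M))) : G)) this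
      · rintro _ ⟨a, ha, rfl⟩
        have := hB.2 a ha
        have h2 := congrArg Subtype.val this
        simpa using h2
    have hAB' : A ≤ B.map (Oq p (sigmaCore M)).subtype := by
      intro a ha
      exact ⟨⟨a, hAP ha⟩, hEB (Subgroup.mem_subgroupOf.mpr ha), rfl⟩
    have hBA := c.A_max hG hB' hAB'
    apply le_antisymm _ hEB
    intro b hb
    rw [Subgroup.mem_subgroupOf, ← hBA]
    exact ⟨b, hb, rfl⟩

/-- rank at least three: `x` is not a `p`-th power in `P`. -/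
theorem no_root_of_not_pRankLE (hG : IsMinSimpleOddOrder G) (c : Cfg M N x p A)
    (hnil : Group.IsNilpotent ↥(sigmaCore M))
    (hPna : ¬ ∀ a ∈ Oq p (sigmaCore M), ∀ b ∈ Oq p (sigmaCore M), a * b = b * a)
    (hr : ¬ PRankLE p 2 ↥(Oq p (sigmaCore M))) :
    ¬ ∃ w ∈ Oq p (sigmaCore M), w ^ p = x := by
  rintro ⟨w, hw, hwx⟩
  have : Fact p.Prime := ⟨c.hp⟩
  have hp2 : p ≠ 2 := c.p_ne_two hG
  have hPp : IsPGroup p ↥(Oq p (sigmaCore M)) := Oq_isPGroup p _
  have hAP : A ≤ Oq p (sigmaCore M) := c.A_le_P hG hnil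
  set E : Subgroup ↥(Oq p (sigmaCore M)) := A.subgroupOf (Oq p (sigmaCore M)) with hEdef
  obtain ⟨hE, hE2, hEmax⟩ := c.E_data hG hnil
  have hnotET := Cfsg.Agent.S1453.not_E_le_centralizer_omW p hp2 hPp hr E hE hE2 hEmax
  have hcZ := Cfsg.Agent.S1453.card_omZ p hPp hr E hE hE2 hEmax
  have hidx := Cfsg.Agent.S1453.index_centralizer_omW p hp2 hPp hr E hE hE2 hEmax
  have hZE := Cfsg.Agent.S1453.omZ_le_E p E hE hEmax
  have hWchar : (Cfsg.Agent.S1453.omW p ↥(Oq p (sigmaCore M))).Characteristic :=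
    Cfsg.Agent.S1453.omW_characteristic p
  set T : Subgroup ↥(Oq p (sigmaCore M)) := Subgroup.centralizer
    ((Cfsg.Agent.S1453.omW p ↥(Oq p (sigmaCore M)) : Subgroup ↥(Oq p (sigmaCore M))) :
      Set ↥(Oq p (sigmaCore M))) with hT
  have hTchar : T.Characteristic := Subgroup.characteristic_centralizer
  have hTn : T.Normal := Subgroup.normal_of_characteristic T
  have hwT : (⟨w, hw⟩ : ↥(Oq p (sigmaCore M))) ^ p ∈ T := by
    have := Subgroup.pow_index_mem T (⟨w, hw⟩ : ↥(Oq p (sigmaCore M)))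
    rwa [hidx] at this
  have hxP : x ∈ Oq p (sigmaCore M) := hAP c.hxA
  have hxT : (⟨x, hxP⟩ : ↥(Oq p (sigmaCore M))) ∈ T := by
    have h : (⟨w, hw⟩ : ↥(Oq p (sigmaCore M))) ^ p = ⟨x, hxP⟩ := Subtype.ext (by simpa using hwx)
    rwa [h] at hwT
  have hxE : (⟨x, hxP⟩ : ↥(Oq p (sigmaCore M))) ∈ E := Subgroup.mem_subgroupOf.mpr c.hxA
  have hZT : Cfsg.Agent.S1453.omZ p ↥(Oq p (sigmaCore M)) ≤ T :=
    (Cfsg.Agent.S1453.omZ_le_center p).trans (Subgroup.center_le_centralizer _)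
  have hETcard : Nat.card ↥(E ⊓ T) ≤ p := by
    have hdvd : Nat.card ↥(E ⊓ T) ∣ p ^ 2 := by
      rw [← hE2]; exact Subgroup.card_dvd_of_le inf_le_left
    obtain ⟨j, hj, hjeq⟩ := (Nat.dvd_prime_pow c.hp).mp hdvd
    have hj1 : j ≤ 1 := by
      by_contra hcon
      have hj2 : j = 2 := by omega
      rw [hj2] at hjeq
      have h3 : E ⊓ T = E := Subgroup.eq_of_le_of_card_ge inf_le_left (by rw [hjeq, hE2])
      exact hnotET (h3 ▸ inf_le_right)
    rw [hjeq]
    calc p ^ j ≤ p ^ 1 := Nat.pow_le_pow_right c.hp.pos hj1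
      _ = p := pow_one p
  have hZeq : Cfsg.Agent.S1453.omZ p ↥(Oq p (sigmaCore M)) = E ⊓ T :=
    Subgroup.eq_of_le_of_card_ge (le_inf hZE hZT) (by rw [hcZ]; exact hETcard)
  have hxZ : (⟨x, hxP⟩ : ↥(Oq p (sigmaCore M))) ∈ Cfsg.Agent.S1453.omZ p ↥(Oq p (sigmaCore M)) := by
    rw [hZeq]; exact ⟨hxE, hxT⟩
  have hxc := Cfsg.Agent.S1453.omZ_le_center p hxZ
  apply c.x_not_central hG hPna
  intro y hy
  have := Subgroup.mem_center_iff.mp hxc ⟨y, hy⟩
  exact congrArg Subtype.val this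

end Cfg

end Cfsg.Agent.Lib.Helper51.BGFifteenSeven
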