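import Mathlib
import Cfsg.Prelude.Def_OddOrderLocal
import Cfsg.Agent.Lib.Helper66.BGRankTwoFacts
import Cfsg.Agent.Lib.Helper51.BGFifteenSevenF

/-!
# BG 15.7, part G: rank at most two, `|X| = p`  (helper51)
-/

set_option autoImplicit false

namespace Cfsg.Agent.Lib.Helper51.BGFifteenSeven

open Cfsg
open Cfsg.Agent.Lib.Helper25.NilBridge
open Cfsg.Agent.Lib.Helper54 (omegaCenter)

variable {G : Type*} [Group G] [Finite G]

namespace Cfg

variable {M N : Subgroup G} {x : G} {p : ℕ} {A : Subgroup G}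

/-- the facts on a nonabelian Sylow subgroup of rank at most two, for `P = O_p(M_σ)` -/
theorem rankTwo_facts (hG : IsMinSimpleOddOrder G) (c : Cfg M N x p A)
    (hnil : Group.IsNilpotent ↥(sigmaCore M))
    (hPna : ¬ ∀ a ∈ Oq p (sigmaCore M), ∀ b ∈ Oq p (sigmaCore M), a * b = b * a)
    (hr : PRankLE p 2 ↥(Oq p (sigmaCore M))) :
    (∀ w ∈ Oq p (sigmaCore M), ∀ y ∈ Oq p (sigmaCore M), w ^ p * y = y * w ^ p) ∧
    (∀ a ∈ Oq p (sigmaCore M), ∀ b ∈ Oq p (sigmaCore M), ∀ y ∈ Oq p (sigmaCore M),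
        (a * b * a⁻¹ * b⁻¹) * y = y * (a * b * a⁻¹ * b⁻¹)) ∧
    (∀ a ∈ Oq p (sigmaCore M), ∀ b ∈ Oq p (sigmaCore M), (a * b * a⁻¹ * b⁻¹) ^ p = 1) ∧
    ((∀ z ∈ Oq p (sigmaCore M), (∀ y ∈ Oq p (sigmaCore M), z * y = y * z) → z ^ p = 1) →
        Nat.card (Oq p (sigmaCore M)) = p ^ 3) := by
  have : Fact p.Prime := ⟨c.hp⟩
  obtain ⟨S, hS⟩ := c.exists_sylow_eq_P hG hnil
  have h := Cfsg.Agent.Lib.Helper66.BGRankTwo.rankTwo_sylow_facts hG p S
    (by rw [hS]; exact hr) (by rw [hS]; exact fun h => hPna (isMulCommutative_iff.mp h))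
  rw [hS] at h
  exact h

/-- `x` is not a `p`-th power in `P`. -/
theorem no_root (hG : IsMinSimpleOddOrder G) (c : Cfg M N x p A)
    (hnil : Group.IsNilpotent ↥(sigmaCore M))
    (hPna : ¬ ∀ a ∈ Oq p (sigmaCore M), ∀ b ∈ Oq p (sigmaCore M), a * b = b * a) :
    ¬ ∃ w ∈ Oq p (sigmaCore M), w ^ p = x := by
  by_cases hr : PRankLE p 2 ↥(Oq p (sigmaCore M))
  · rintro ⟨w, hw, hwx⟩
    have h := (c.rankTwo_facts hG hnil hPna hr).1 w hw
    rw [hwx] at h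
    exact c.x_not_central hG hPna (fun y hy => (h y hy).symm)
  · exact c.no_root_of_not_pRankLE hG hnil hPna hr

end Cfg

/-- In a nontrivial finite cyclic subgroup there is an element `x` of prime order `p` which is a
`p`-th power as soon as `p ^ 2` divides the order. -/
theorem exists_prime_order_root (X : Subgroup G) (hc : IsCyclic X) (hX : X ≠ ⊥) :
    ∃ x ∈ X, ∃ p : ℕ, p.Prime ∧ orderOf x = p ∧ (p ^ 2 ∣ Nat.card X → ∃ w ∈ X, w ^ p = x) := by
  obtain ⟨w₀, hw₀⟩ := hc.exists_generator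
  have hn : orderOf w₀ = Nat.card X := orderOf_eq_card_of_forall_mem_zpowers hw₀
  have hn1 : Nat.card X ≠ 1 := fun h => hX (Subgroup.card_eq_one.mp h)
  set n := Nat.card X with hndef
  have hp : n.minFac.Prime := Nat.minFac_prime hn1
  have hpn : n.minFac ∣ n := Nat.minFac_dvd n
  set p := n.minFac with hpdef
  have hn0 : n ≠ 0 := Nat.card_pos.ne'
  obtain ⟨k, hk⟩ := hpn
  have hk0 : k ≠ 0 := by
    rintro rfl
    rw [mul_zero] at hk
    exact hn0 hk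
  have hxo : orderOf (w₀ ^ k) = p := by
    rw [orderOf_pow_of_dvd hk0 ⟨p, by rw [hn, hk, mul_comm]⟩, hn, hk]
    exact Nat.mul_div_cancel _ (Nat.pos_of_ne_zero hk0)
  refine ⟨((w₀ ^ k : ↥X) : G), (w₀ ^ k).2, p, hp, ?_, ?_⟩
  · rw [Subgroup.orderOf_coe]; exact hxo
  · intro hp2
    have hpk : p ∣ k := by
      rw [hk, sq] at hp2
      exact (Nat.mul_dvd_mul_iff_left hp.pos).mp hp2
    obtain ⟨j, hj⟩ := hpk
    refine ⟨((w₀ ^ j : ↥X) : G), (w₀ ^ j).2, ?_⟩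
    rw [← Subgroup.coe_pow, ← pow_mul, hj, mul_comm]

/-- A subgroup of a nilpotent `H` meeting every `O_q(H)`, `q ≠ p`, trivially is a `p`-group. -/
theorem isPGroup_of_inf_Oq_eq_bot (H : Subgroup G) (hnil : Group.IsNilpotent ↥H) (p : ℕ)
    [Fact p.Prime] {D : Subgroup G} (hDH : D ≤ H)
    (h : ∀ q : ℕ, q.Prime → q ≠ p → D ⊓ Oq q H = ⊥) : IsPGroup p D := by
  apply Cfsg.Agent.Lib.Helper24.isPGroup_of_forall_coprime_eq_one
  intro y hy hcop
  by_contra hy1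
  have hn1 : orderOf y ≠ 1 := by rwa [Ne, orderOf_eq_one_iff]
  have hn0 : orderOf y ≠ 0 := (orderOf_pos y).ne'
  obtain ⟨q, hq, hqn⟩ := Nat.exists_prime_and_dvd hn1
  have hqp : q ≠ p := by
    rintro rfl
    have := Nat.Coprime.eq_one_of_dvd hcop.symm hqn
    exact hq.one_lt.ne' this
  obtain ⟨k, hk⟩ := hqn
  have hk0 : k ≠ 0 := by
    rintro rfl
    rw [mul_zero] at hk
    exact hn0 hk
  have hyo : orderOf (y ^ k) = q := by
    rw [orderOf_pow_of_dvd hk0 ⟨q, by rw [hk, mul_comm]⟩, hk]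
    exact Nat.mul_div_cancel _ (Nat.pos_of_ne_zero hk0)
  have : Fact q.Prime := ⟨hq⟩
  have hYp : IsPGroup q (Subgroup.zpowers (y ^ k)) :=
    IsPGroup.of_card (n := 1) (by rw [Nat.card_zpowers, hyo, pow_one])
  have hYH : Subgroup.zpowers (y ^ k) ≤ H := by
    rw [Subgroup.zpowers_le]; exact hDH (D.pow_mem hy k)
  have hle := le_map_pCore_of_isPGroup H hnil q hYH hYp
  have hmem : y ^ k ∈ D ⊓ Oq q H := ⟨D.pow_mem hy k, hle (Subgroup.mem_zpowers _)⟩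
  rw [h q hq hqp, Subgroup.mem_bot] at hmem
  rw [hmem, orderOf_one] at hyo
  exact hq.one_lt.ne hyo

end Cfsg.Agent.Lib.Helper51.BGFifteenSeven
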