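import Mathlib
import Cfsg.Prelude.Def_OddOrderLocal
import Cfsg.Agent.Lib.Helper24.RankTwo
import Cfsg.Agent.Lib.Helper24.RankTwoPrelude
import Cfsg.Agent.Lib.Helper51.BGAsymB
import Cfsg.Agent.Lib.Helper51.BGFifteenSevenA
import Cfsg.Agent.Lib.Helper51.BGFifteenSevenG

/-!
# BG 15.7, part H: general lemmas for the exponent and the derived subgroup  (helper51)
-/

set_option autoImplicit false

namespace Cfsg.Agent.Lib.Helper51.BGFifteenSeven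

open Cfsg
open scoped commutatorElement
open Cfsg.Agent.Lib.Helper25.NilBridge
open Cfsg.Agent.Lib.Helper54 (omegaCenter)

variable {G : Type*} [Group G] [Finite G]

/-- `u ^ (q - 1)` lies in `M̂_σ` when `u ∈ M` of order prime to `q` normalizes a nontrivial cyclic
`q`-subgroup of `M_σ`. -/
theorem pow_pred_mem_sigmaHat {M C : Subgroup G} (q : ℕ) [Fact q.Prime] (hCσ : C ≤ sigmaCore M)
    (hC1 : C ≠ ⊥) (hCc : IsCyclic C) (hCq : IsPGroup q C)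
    (hMC : M ≤ Subgroup.normalizer (C : Set G)) {u : G} (huM : u ∈ M)
    (hcop : (orderOf u).Coprime q) : u ^ (q - 1) ∈ sigmaHat M := by
  obtain ⟨y, hy1⟩ := (Subgroup.ne_bot_iff_exists_ne_one).mp hC1
  refine ⟨M.pow_mem huM _, (y : G), hCσ y.2, fun h => hy1 (Subtype.ext h), ?_⟩
  exact pow_pred_centralizes_cyclic q C hCc hCq u (hMC huM) hcop (y : G) y.2

omit [Finite G] in
/-- exponent of `M / M_F` from a complement -/
theorem exponent_quotient_dvd {M E : Subgroup G} (hE : IsComplIn E (fittingHallOf M) M) {n : ℕ}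
    (h : ∀ e ∈ E, e ^ n = 1) : Monoid.exponent (↥M ⧸ fittingHall ↥M) ∣ n := by
  apply Monoid.exponent_dvd_of_forall_pow_eq_one
  intro g
  induction g using QuotientGroup.induction_on with
  | H m =>
    obtain ⟨e, he, b, hb, hm⟩ := hE.2.2.2 (m : G) m.2
    obtain ⟨b', hb', rfl⟩ := hb
    have hm' : m = ⟨e, hE.1 he⟩ * b' := Subtype.ext hm
    have h1 : ((b' : ↥M) : ↥M ⧸ fittingHall ↥M) = 1 := (QuotientGroup.eq_one_iff b').mpr hb'
    have h2 : ((⟨e, hE.1 he⟩ : ↥M) : ↥M ⧸ fittingHall ↥M) ^ n = 1 := by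
      rw [← QuotientGroup.mk_pow]
      have : (⟨e, hE.1 he⟩ : ↥M) ^ n = 1 := Subtype.ext (by simpa using h e he)
      rw [this]; rfl
    rw [hm', QuotientGroup.mk_mul, h1, mul_one, h2]

omit [Finite G] in
/-- `M' ≤ N` for `N ⊴ M` with `M = E N` and `[E, E] ≤ N`. -/
theorem commutator_le_of_compl {M N E : Subgroup G} (hNM : N ≤ M)
    (hMN : M ≤ Subgroup.normalizer (N : Set G))
    (hprod : ∀ m ∈ M, ∃ e ∈ E, ∃ b ∈ N, m = e * b) (hEM : E ≤ M)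
    (hEE : ∀ e₁ ∈ E, ∀ e₂ ∈ E, ⁅e₁, e₂⁆ ∈ N) : ⁅M, M⁆ ≤ N := by
  rw [Subgroup.commutator_le]
  intro m₁ hm₁ m₂ hm₂
  have hn : (N.subgroupOf M).Normal :=
    (Subgroup.normal_subgroupOf_iff_le_normalizer hNM).mpr hMN
  obtain ⟨e₁, he₁, b₁, hb₁, h1⟩ := hprod m₁ hm₁
  obtain ⟨e₂, he₂, b₂, hb₂, h2⟩ := hprod m₂ hm₂
  let π := QuotientGroup.mk' (N.subgroupOf M)
  have hπb : ∀ b (hb : b ∈ N), π ⟨b, hNM hb⟩ = 1 := by
    intro b hb
    exact (QuotientGroup.eq_one_iff _).mpr (Subgroup.mem_subgroupOf.mpr hb)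
  have e1 : (⟨m₁, hm₁⟩ : ↥M) = ⟨e₁, hEM he₁⟩ * ⟨b₁, hNM hb₁⟩ := Subtype.ext h1
  have e2 : (⟨m₂, hm₂⟩ : ↥M) = ⟨e₂, hEM he₂⟩ * ⟨b₂, hNM hb₂⟩ := Subtype.ext h2
  have hπ1 : π ⟨m₁, hm₁⟩ = π ⟨e₁, hEM he₁⟩ := by rw [e1, map_mul, hπb b₁ hb₁, mul_one]
  have hπ2 : π ⟨m₂, hm₂⟩ = π ⟨e₂, hEM he₂⟩ := by rw [e2, map_mul, hπb b₂ hb₂, mul_one]
  have hc : π ⁅(⟨m₁, hm₁⟩ : ↥M), ⟨m₂, hm₂⟩⁆ = 1 := by
    rw [map_commutatorElement, hπ1, hπ2, ← map_commutatorElement]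
    have hmem : ⁅(⟨e₁, hEM he₁⟩ : ↥M), ⟨e₂, hEM he₂⟩⁆ ∈ N.subgroupOf M := by
      rw [Subgroup.mem_subgroupOf]
      have := hEE e₁ he₁ e₂ he₂
      simpa [commutatorElement_def] using this
    exact (QuotientGroup.eq_one_iff _).mpr hmem
  have hmem := (QuotientGroup.eq_one_iff _).mp hc
  rw [Subgroup.mem_subgroupOf] at hmem
  simpa [commutatorElement_def] using hmem

omit [Finite G] in
/-- monotonicity of the `p`-rank for subgroups -/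
theorem pRankLE_of_le {q k : ℕ} {R N : Subgroup G} (hRN : R ≤ N) (h : PRankLE q k ↥N) :
    PRankLE q k ↥R := by
  by_contra hcon
  obtain ⟨F, hFR, hFe, hFc⟩ := (Cfsg.Agent.Lib.Helper45.not_pRankLE_subgroup_iff k R).mp hcon
  exact (Cfsg.Agent.Lib.Helper45.not_pRankLE_subgroup_iff k N).mpr ⟨F, hFR.trans hRN, hFe, hFc⟩ h

/-- commutators of a `q'`-subgroup `U` of odd order normalizing a `q`-subgroup `R` of rank at most
two centralize `R` -/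
theorem comm_centralizes_of_rank (hG : IsMinSimpleOddOrder G) {M U R : Subgroup G}
    (hM : IsCoatom M) (hUM : U ≤ M) (q : ℕ) [Fact q.Prime] (hq2 : q ≠ 2) (hRq : IsPGroup q R)
    (hr : PRankLE q 2 ↥R) (hUR : U ≤ Subgroup.normalizer (R : Set G))
    (hcop : ¬ q ∣ Nat.card U) {u₁ u₂ : G} (h1 : u₁ ∈ U) (h2 : u₂ ∈ U) :
    ∀ r ∈ R, ⁅u₁, u₂⁆ * r = r * ⁅u₁, u₂⁆ := by
  have : Group.IsSolvable ↥U := Cfsg.Agent.Lib.Helper51.BGAsym.isSolvable_of_le_coatom hG hM hUM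
  have hodd : Odd (Nat.card ↥U) := Odd.of_dvd_nat hG.1 (Subgroup.card_subgroup_dvd_card _)
  have hmem : ⁅u₁, u₂⁆ ∈ ⁅U, U⁆ := Subgroup.commutator_mem_commutator h1 h2
  have hU : ⁅u₁, u₂⁆ ∈ U := by
    rw [commutatorElement_def]
    exact U.mul_mem (U.mul_mem (U.mul_mem h1 h2) (U.inv_mem h1)) (U.inv_mem h2)
  have hco : (orderOf ⁅u₁, u₂⁆).Coprime q := by
    have hd : orderOf ⁅u₁, u₂⁆ ∣ Nat.card U := by
      rw [← Subgroup.orderOf_mk _ hU]; exact orderOf_dvd_natCard _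
    exact (Nat.Coprime.coprime_dvd_left hd
      ((Nat.Prime.coprime_iff_not_dvd (Fact.out : q.Prime)).mpr hcop).symm)
  exact Cfsg.Agent.Lib.Helper24.centralizes_of_rankLETwo q hq2 U hodd R hRq
    (Cfsg.Agent.Lib.Helper24.rankLETwo_of_pRankLE q R hr) hUR _ hmem hco

end Cfsg.Agent.Lib.Helper51.BGFifteenSeven
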