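import Mathlib
import Cfsg.Prelude.Def_OddOrderLocal
import Cfsg.Agent.S1359
import Cfsg.Agent.Lib.Helper67.NarrowCore
import Cfsg.Agent.Lib.Helper26.BGTypesB
import Cfsg.Agent.Lib.Helper51.BGFifteenSevenH

/-!
# BG 15.7, part I: the case `K = 1`: exponent of `U`, and `M' ≤ F(M)`  (helper51)
-/

set_option autoImplicit false

namespace Cfsg.Agent.Lib.Helper51.BGFifteenSeven

open Cfsg
open scoped commutatorElement
open Cfsg.Agent.Lib.Helper25.NilBridge
open Cfsg.Agent.Lib.Helper54 (omegaCenter)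

variable {G : Type*} [Group G] [Finite G]

theorem le_normalizer_Oq {M : Subgroup G} (hnil : Group.IsNilpotent ↥(sigmaCore M)) (q : ℕ)
    [Fact q.Prime] : M ≤ Subgroup.normalizer ((Oq q (sigmaCore M) : Subgroup G) : Set G) :=
  (Cfsg.Agent.Lib.Helper54.le_normalizer_sigmaCore M).trans
    (normalizer_le_normalizer_map_pCore (sigmaCore M) hnil q)

omit [Finite G] in
theorem le_normalizer_of_conj_mem {M D : Subgroup G}
    (h : ∀ m ∈ M, ∀ d ∈ D, m * d * m⁻¹ ∈ D) : M ≤ Subgroup.normalizer (D : Set G) := by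
  intro m hm
  rw [Subgroup.mem_normalizer_iff]
  intro d
  refine ⟨h m hm d, fun hd => ?_⟩
  have := h m⁻¹ (M.inv_mem hm) _ hd
  simpa [mul_assoc] using this

namespace Cfg

variable {M N : Subgroup G} {x : G} {p : ℕ} {A : Subgroup G}

theorem isCyclic_Oq (hG : IsMinSimpleOddOrder G) (c : Cfg M N x p A)
    (hnil : Group.IsNilpotent ↥(sigmaCore M))
    (hPna : ¬ ∀ a ∈ Oq p (sigmaCore M), ∀ b ∈ Oq p (sigmaCore M), a * b = b * a)
    {q : ℕ} (hq : q.Prime) (hqp : q ≠ p) : IsCyclic ↥(Oq q (sigmaCore M)) := by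
  have : Fact p.Prime := ⟨c.hp⟩
  have : Fact q.Prime := ⟨hq⟩
  have hcyc := c.isCyclic_pPrimeCore hG hnil hPna
  have hle : Cfsg.pCore q ↥(sigmaCore M) ≤ Cfsg.pPrimeCore p ↥(sigmaCore M) := by
    apply Cfsg.Agent.Lib.Helper55.le_pPrimeCore (Cfsg.Agent.Lib.Helper55.pCore_normal' q)
    obtain ⟨k, hk⟩ := IsPGroup.iff_card.mp
      (Cfsg.Agent.Lib.Helper55.isPGroup_pCore (G := ↥(sigmaCore M)) q)
    rw [hk]
    exact Nat.Coprime.pow_left k ((Nat.coprime_primes hq c.hp).mpr hqp)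
  have h1 : IsCyclic ↥(Cfsg.pCore q ↥(sigmaCore M)) := Subgroup.isCyclic_of_le hle
  let e := Subgroup.equivMapOfInjective (Cfsg.pCore q ↥(sigmaCore M)) (sigmaCore M).subtype
    (sigmaCore M).subtype_injective
  exact isCyclic_of_surjective e e.surjective

/-- every element of `X'X^(p-1)`, `X = M`, of order prime to `p` centralizes `P` when `P` has rank at
least three -/
theorem verbal_centralizes (hG : IsMinSimpleOddOrder G) (c : Cfg M N x p A)
    (hnil : Group.IsNilpotent ↥(sigmaCore M)) (hr : ¬ PRankLE p 2 ↥(Oq p (sigmaCore M)))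
    {k : G} (hkM : k ∈ M)
    (hk : (⟨k, hkM⟩ : ↥M) ∈ Cfsg.Agent.Lib.Helper67.verbalPow ↥M (p - 1))
    (hcop : (orderOf k).Coprime p) : ∀ r ∈ Oq p (sigmaCore M), k * r = r * k := by
  have : Fact p.Prime := ⟨c.hp⟩
  obtain ⟨hE, hE2, hEmax⟩ := c.E_data hG hnil
  have hPM : Oq p (sigmaCore M) ≤ M := (Oq_le p _).trans (Cfsg.Agent.Lib.Helper54.sigmaCore_le M)
  have hn : (Subgroup.inclusion hPM).range.Normal := by
    rw [Subgroup.inclusion_range]
    exact (Subgroup.normal_subgroupOf_iff_le_normalizer hPM).mpr (le_normalizer_Oq hnil p)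
  intro r hr'
  have hcop' : (orderOf (⟨k, hkM⟩ : ↥M)).Coprime p := by
    rw [Subgroup.orderOf_mk]; exact hcop
  have := Cfsg.Agent.Lib.Helper67.verbalPow_centralizes_of_maxElemAb p (c.p_ne_two hG)
    (Oq_isPGroup p _) hr _ hE hE2 hEmax (Subgroup.inclusion hPM)
    (Subgroup.inclusion_injective hPM) hn ⟨k, hkM⟩ hk hcop' ⟨r, hr'⟩
  exact congrArg Subtype.val this

theorem not_dvd_card_compl (hG : IsMinSimpleOddOrder G) (c : Cfg M N x p A) {E : Subgroup G}
    (hE : IsComplIn E (sigmaCore M) M) {q : ℕ} (hq : q.Prime)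
    (hqd : q ∣ Nat.card (sigmaCore M)) : ¬ q ∣ Nat.card E :=
  Cfsg.Agent.Lib.Helper97.BGTwelve.not_dvd_card_of_isComplIn hE (c.hallM hG) hq
    (Cfsg.Agent.Lib.Helper54.sigmaCore_isPi M q hq hqd)

/-- commutators of a complement `U` centralize `O_q(M_σ)` if `O_q(M_σ) ≤ M ∩ N` -/
theorem comm_centralizes_Oq_of_le (hG : IsMinSimpleOddOrder G) (c : Cfg M N x p A)
    (hnil : Group.IsNilpotent ↥(sigmaCore M)) {U : Subgroup G}
    (hU : IsComplIn U (sigmaCore M) M) {q : ℕ} (hq : q.Prime)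
    (hle : Oq q (sigmaCore M) ≤ M ⊓ N) {u₁ u₂ : G} (h1 : u₁ ∈ U) (h2 : u₂ ∈ U) :
    ∀ r ∈ Oq q (sigmaCore M), ⁅u₁, u₂⁆ * r = r * ⁅u₁, u₂⁆ := by
  have : Fact q.Prime := ⟨hq⟩
  by_cases hbot : Oq q (sigmaCore M) = ⊥
  · intro r hr
    rw [hbot, Subgroup.mem_bot] at hr
    rw [hr, mul_one, one_mul]
  have hqd' : q ∣ Nat.card (Oq q (sigmaCore M)) :=
    Cfsg.Agent.Lib.Helper34.dvd_card_of_isPGroup_ne_bot (Oq_isPGroup q _) hbot
  have hqd : q ∣ Nat.card ↥(M ⊓ N) := hqd'.trans (Subgroup.card_dvd_of_le hle)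
  have hqσ : q ∣ Nat.card (sigmaCore M) := hqd'.trans (Subgroup.card_dvd_of_le (Oq_le q _))
  have hr := pRankLE_of_le (hle.trans inf_le_right) (c.pRankLE_two hG hq hqd)
  have hq2 : q ≠ 2 := prime_ne_two hG (hqσ.trans (Subgroup.card_subgroup_dvd_card _))
  exact comm_centralizes_of_rank hG c.hM hU.1 q hq2 (Oq_isPGroup q _) hr
    (hU.1.trans (le_normalizer_Oq hnil q)) (c.not_dvd_card_compl hG hU hq hqσ) h1 h2

/-- commutators of a complement `U` centralize `P = O_p(M_σ)` (nonabelian case) -/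
theorem comm_centralizes_P (hG : IsMinSimpleOddOrder G) (c : Cfg M N x p A)
    (hnil : Group.IsNilpotent ↥(sigmaCore M)) {U : Subgroup G}
    (hU : IsComplIn U (sigmaCore M) M) {u₁ u₂ : G} (h1 : u₁ ∈ U) (h2 : u₂ ∈ U) :
    ∀ r ∈ Oq p (sigmaCore M), ⁅u₁, u₂⁆ * r = r * ⁅u₁, u₂⁆ := by
  have : Fact p.Prime := ⟨c.hp⟩
  have hpσ : p ∣ Nat.card (sigmaCore M) := by
    have h1 : orderOf (⟨x, c.hxσ⟩ : ↥(sigmaCore M)) = p :=
      (Subgroup.orderOf_mk x c.hxσ).trans c.hxo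
    rw [← h1]; exact orderOf_dvd_natCard _
  have hcopU := c.not_dvd_card_compl hG hU c.hp hpσ
  by_cases hr : PRankLE p 2 ↥(Oq p (sigmaCore M))
  · exact comm_centralizes_of_rank hG c.hM hU.1 p (c.p_ne_two hG) (Oq_isPGroup p _) hr
      (hU.1.trans (le_normalizer_Oq hnil p)) hcopU h1 h2
  · have hUc : ⁅u₁, u₂⁆ ∈ U := by
      rw [commutatorElement_def]
      exact U.mul_mem (U.mul_mem (U.mul_mem h1 h2) (U.inv_mem h1)) (U.inv_mem h2)
    have hk : (⟨⁅u₁, u₂⁆, hU.1 hUc⟩ : ↥M) ∈ Cfsg.Agent.Lib.Helper67.verbalPow ↥M (p - 1) := by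
      have := Cfsg.Agent.Lib.Helper67.commutator_mem_verbalPow (G := ↥M) (p - 1)
        ⟨u₁, hU.1 h1⟩ ⟨u₂, hU.1 h2⟩
      exact this
    have hco : (orderOf ⁅u₁, u₂⁆).Coprime p := by
      have hd : orderOf ⁅u₁, u₂⁆ ∣ Nat.card U := by
        rw [← Subgroup.orderOf_mk _ hUc]; exact orderOf_dvd_natCard _
      exact Nat.Coprime.coprime_dvd_left hd
        ((Nat.Prime.coprime_iff_not_dvd c.hp).mpr hcopU).symm
    exact c.verbal_centralizes hG hnil hr (hU.1 hUc) hk hco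

/-- `P ≤ M ∩ N` when `P` is abelian -/
theorem P_le_inf_of_comm (hG : IsMinSimpleOddOrder G) (c : Cfg M N x p A)
    (hnil : Group.IsNilpotent ↥(sigmaCore M))
    (hPab : ∀ a ∈ Oq p (sigmaCore M), ∀ b ∈ Oq p (sigmaCore M), a * b = b * a) :
    Oq p (sigmaCore M) ≤ M ⊓ N := by
  refine le_trans ?_ (c.cent_le hG)
  intro b hb
  rw [Subgroup.mem_centralizer_iff]
  intro a ha
  exact hPab a (c.A_le_P hG hnil ha) b hb

/-- commutators of a complement `U` of `M_σ` centralize `M_σ` -/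
theorem comm_centralizes (hG : IsMinSimpleOddOrder G) (c : Cfg M N x p A)
    (hnil : Group.IsNilpotent ↥(sigmaCore M)) {U : Subgroup G}
    (hU : IsComplIn U (sigmaCore M) M) {u₁ u₂ : G} (h1 : u₁ ∈ U) (h2 : u₂ ∈ U) :
    sigmaCore M ≤ Subgroup.centralizer ({⁅u₁, u₂⁆} : Set G) := by
  apply le_of_forall_map_pCore_le (sigmaCore M) hnil
  intro q hq r hr
  rw [Subgroup.mem_centralizer_singleton_iff]
  by_cases hqp : q = p
  · subst hqp
    by_cases hPab : ∀ a ∈ Oq q (sigmaCore M), ∀ b ∈ Oq q (sigmaCore M), a * b = b * a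
    · exact (c.comm_centralizes_Oq_of_le hG hnil hU hq (c.P_le_inf_of_comm hG hnil hPab) h1 h2
        r hr).symm
    · exact (c.comm_centralizes_P hG hnil hU h1 h2 r hr).symm
  · exact (c.comm_centralizes_Oq_of_le hG hnil hU hq (c.Oq_le_inf hG hnil hq hqp) h1 h2 r hr).symm

/-- `M' ≤ F(M)` in the case `K = 1` -/
theorem commutator_le_fittingOf_U (hG : IsMinSimpleOddOrder G) (c : Cfg M N x p A)
    (hnil : Group.IsNilpotent ↥(sigmaCore M)) {U : Subgroup G}
    (hU : IsComplIn U (sigmaCore M) M)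
    (h59 : IsMulCommutative (Subgroup.closure ((U : Set G) ∩ sigmaHat M))) :
    ⁅M, M⁆ ≤ fittingOf M := by
  have hσF : sigmaCore M ≤ fittingOf M :=
    Cfsg.Agent.Lib.Helper34.le_fittingOf (Cfsg.Agent.Lib.Helper54.sigmaCore_le M)
      (Cfsg.Agent.Lib.Helper54.le_normalizer_sigmaCore M) hnil
  set D : Subgroup G := U ⊓ Subgroup.centralizer ((sigmaCore M : Subgroup G) : Set G) with hD
  have hDM : D ≤ M := inf_le_left.trans hU.1
  have hDn : M ≤ Subgroup.normalizer (D : Set G) := by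
    apply le_normalizer_of_conj_mem
    intro m hm d hd
    obtain ⟨u, hu, b, hb, rfl⟩ := hU.2.2.2 m hm
    have hdc := Subgroup.mem_centralizer_iff.mp hd.2
    have e1 : u * b * d * (u * b)⁻¹ = u * d * u⁻¹ := by
      have : b * d = d * b := hdc b hb
      calc u * b * d * (u * b)⁻¹ = u * (b * d) * b⁻¹ * u⁻¹ := by group
        _ = u * (d * b) * b⁻¹ * u⁻¹ := by rw [this]
        _ = u * d * u⁻¹ := by group
    rw [e1]
    refine Subgroup.mem_inf.mpr ⟨U.mul_mem (U.mul_mem hu hd.1) (U.inv_mem hu), ?_⟩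
    rw [Subgroup.mem_centralizer_iff]
    intro s hs
    have hs' : u⁻¹ * s * u⁻¹⁻¹ ∈ sigmaCore M :=
      (Subgroup.mem_normalizer_iff.mp (Cfsg.Agent.Lib.Helper54.le_normalizer_sigmaCore M
        (M.inv_mem (hU.1 hu))) s).mp hs
    have h3 := hdc _ hs'
    calc s * (u * d * u⁻¹) = u * ((u⁻¹ * s * u⁻¹⁻¹) * d) * u⁻¹ := by group
      _ = u * (d * (u⁻¹ * s * u⁻¹⁻¹)) * u⁻¹ := by rw [h3]
      _ = u * d * u⁻¹ * s := by group
  have hDab : IsMulCommutative ↥D := by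
    rw [isMulCommutative_iff]
    have hDle : D ≤ Subgroup.closure ((U : Set G) ∩ sigmaHat M) := by
      intro d hd
      apply Subgroup.subset_closure
      refine ⟨hd.1, hDM hd, x, c.hxσ, c.hx1, ?_⟩
      exact (Subgroup.mem_centralizer_iff.mp hd.2 x c.hxσ).symm
    intro a ha b hb
    exact (isMulCommutative_iff.mp h59) a (hDle ha) b (hDle hb)
  have hDF : D ≤ fittingOf M :=
    Cfsg.Agent.Lib.Helper34.le_fittingOf hDM hDn
      (Cfsg.Agent.Lib.Helper26.BGTypes.isNilpotent_of_isMulCommutative hDab)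
  apply commutator_le_of_compl (Cfsg.Agent.Lib.Helper34.fittingOf_le M)
    (Cfsg.Agent.Lib.Helper34.le_normalizer_fittingOf M) (E := U) _ hU.1
  · intro u₁ h1 u₂ h2
    apply hDF
    refine Subgroup.mem_inf.mpr ⟨?_, ?_⟩
    · rw [commutatorElement_def]
      exact U.mul_mem (U.mul_mem (U.mul_mem h1 h2) (U.inv_mem h1)) (U.inv_mem h2)
    · rw [Subgroup.mem_centralizer_iff]
      intro s hs
      have := c.comm_centralizes hG hnil hU h1 h2 hs
      exact (Subgroup.mem_centralizer_singleton_iff.mp this)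
  · intro m hm
    obtain ⟨u, hu, b, hb, rfl⟩ := hU.2.2.2 m hm
    exact ⟨u, hu, b, hσF hb, rfl⟩

end Cfg

end Cfsg.Agent.Lib.Helper51.BGFifteenSeven
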