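import Mathlib
import Cfsg.Prelude.Def_OddOrderLocal
import Cfsg.Agent.S1354
import Cfsg.Agent.S1431
import Cfsg.Agent.Lib.Helper24.Omega
import Cfsg.Agent.Lib.Helper12.ExtraspecialCyclic
import Cfsg.Agent.Lib.Helper51.BGFifteenSevenI

/-!
# BG 15.7, part J: the exponent of `U` (case `K = 1`) and the case `K ≠ 1`  (helper51)
-/

set_option autoImplicit false

namespace Cfsg.Agent.Lib.Helper51.BGFifteenSeven

open Cfsg
open scoped commutatorElement
open Cfsg.Agent.Lib.Helper25.NilBridge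
open Cfsg.Agent.Lib.Helper54 (omegaCenter)

variable {G : Type*} [Group G] [Finite G]

omit [Finite G] in
theorem conj_mem_inf_centralizer {P : Subgroup G} {g : G}
    (hg : g ∈ Subgroup.normalizer (P : Set G)) {y : G}
    (hy : y ∈ P ⊓ Subgroup.centralizer (P : Set G)) :
    g * y * g⁻¹ ∈ P ⊓ Subgroup.centralizer (P : Set G) := by
  have hg' := Subgroup.mem_normalizer_iff.mp hg
  refine Subgroup.mem_inf.mpr ⟨(hg' y).mp hy.1, ?_⟩
  rw [Subgroup.mem_centralizer_iff]
  intro t ht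
  have ht' : g⁻¹ * t * g ∈ P := by
    have := (hg' (g⁻¹ * t * g)).mpr (by
      have : g * (g⁻¹ * t * g) * g⁻¹ = t := by group
      rw [this]; exact ht)
    exact this
  have h := Subgroup.mem_centralizer_iff.mp hy.2 _ ht'
  calc t * (g * y * g⁻¹) = g * ((g⁻¹ * t * g) * y) * g⁻¹ := by group
    _ = g * (y * (g⁻¹ * t * g)) * g⁻¹ := by rw [h]
    _ = g * y * g⁻¹ * t := by group

namespace Cfg

variable {M N : Subgroup G} {x : G} {p : ℕ} {A : Subgroup G}

omit [Finite G] in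
theorem p_dvd_card_sigmaCore (c : Cfg M N x p A) : p ∣ Nat.card (sigmaCore M) := by
  have h1 : orderOf (⟨x, c.hxσ⟩ : ↥(sigmaCore M)) = p :=
    (Subgroup.orderOf_mk x c.hxσ).trans c.hxo
  rw [← h1]; exact orderOf_dvd_natCard _

theorem coprime_orderOf_compl (hG : IsMinSimpleOddOrder G) (c : Cfg M N x p A) {E : Subgroup G}
    (hE : IsComplIn E (sigmaCore M) M) {q : ℕ} (hq : q.Prime)
    (hqd : q ∣ Nat.card (sigmaCore M)) {u : G} (hu : u ∈ E) : (orderOf u).Coprime q := by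
  have hd : orderOf u ∣ Nat.card E := by
    rw [← Subgroup.orderOf_mk _ hu]; exact orderOf_dvd_natCard _
  exact Nat.Coprime.coprime_dvd_left hd
    ((Nat.Prime.coprime_iff_not_dvd hq).mpr (c.not_dvd_card_compl hG hE hq hqd)).symm

/-- a nontrivial cyclic `q`-subgroup of `M_σ` normalized by `M`, for every prime `q ∣ |M_σ|`
(nonabelian case) -/
theorem exists_cyclic (hG : IsMinSimpleOddOrder G) (c : Cfg M N x p A)
    (hnil : Group.IsNilpotent ↥(sigmaCore M))
    (hPna : ¬ ∀ a ∈ Oq p (sigmaCore M), ∀ b ∈ Oq p (sigmaCore M), a * b = b * a)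
    {q : ℕ} (hq : q.Prime) (hqd : q ∣ Nat.card (sigmaCore M)) :
    ∃ C : Subgroup G, C ≤ sigmaCore M ∧ C ≠ ⊥ ∧ IsCyclic C ∧ IsPGroup q C ∧
      M ≤ Subgroup.normalizer (C : Set G) := by
  have : Fact q.Prime := ⟨hq⟩
  by_cases hqp : q = p
  · subst hqp
    have hcard := c.card_omegaCenter hG hnil hPna
    refine ⟨omegaCenter q (Oq q (sigmaCore M)),
      (Cfsg.Agent.Lib.Helper54.omegaCenter_le _ _).trans (Oq_le _ _), ?_, ?_, ?_,
      c.le_normalizer_omegaCenter hnil⟩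
    · intro h
      rw [h, Subgroup.card_bot] at hcard
      exact hq.one_lt.ne hcard
    · exact isCyclic_of_prime_card hcard
    · exact IsPGroup.of_card (n := 1) (by rw [hcard, pow_one])
  · exact ⟨Oq q (sigmaCore M), Oq_le _ _, map_pCore_ne_bot (sigmaCore M) hnil q hqd,
      c.isCyclic_Oq hG hnil hPna hq hqp, Oq_isPGroup q _, le_normalizer_Oq hnil q⟩

/-- case `K = 1`: the exponent of `U` divides `q - 1` -/
theorem exponent_U (hG : IsMinSimpleOddOrder G) (c : Cfg M N x p A)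
    (hnil : Group.IsNilpotent ↥(sigmaCore M))
    (hPna : ¬ ∀ a ∈ Oq p (sigmaCore M), ∀ b ∈ Oq p (sigmaCore M), a * b = b * a)
    {U : Subgroup G} (hU : IsComplIn U (sigmaCore M) M)
    (h60 : ∃ U₀ : Subgroup G, U₀ ≤ U ∧ Monoid.exponent U₀ = Monoid.exponent U ∧
      ∀ u ∈ U₀, u ∈ sigmaHat M → u = 1)
    {q : ℕ} (hq : q.Prime) (hqd : q ∣ Nat.card (sigmaCore M)) : ∀ u ∈ U, u ^ (q - 1) = 1 := by
  have : Fact q.Prime := ⟨hq⟩
  obtain ⟨U₀, hU₀, hexp, hfree⟩ := h60
  obtain ⟨C, hCσ, hC1, hCc, hCq, hMC⟩ := c.exists_cyclic hG hnil hPna hq hqd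
  have h0 : ∀ u ∈ U₀, u ^ (q - 1) = 1 := by
    intro u hu
    apply hfree _ (U₀.pow_mem hu _)
    exact pow_pred_mem_sigmaHat q hCσ hC1 hCc hCq hMC (hU.1 (hU₀ hu))
      (c.coprime_orderOf_compl hG hU hq hqd (hU₀ hu))
  have h1 : Monoid.exponent ↥U₀ ∣ q - 1 :=
    Monoid.exponent_dvd_of_forall_pow_eq_one (fun g => Subtype.ext (by simpa using h0 g g.2))
  rw [hexp] at h1
  intro u hu
  have h2 : (⟨u, hu⟩ : ↥U) ^ (q - 1) = 1 := by
    obtain ⟨k, hk⟩ := h1
    rw [hk, pow_mul, Monoid.pow_exponent_eq_one, one_pow]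
  simpa using congrArg Subtype.val h2

/-- **the case `K ≠ 1`** -/
theorem K_case (hG : IsMinSimpleOddOrder G) (c : Cfg M N x p A)
    (hnil : Group.IsNilpotent ↥(sigmaCore M))
    (hPna : ¬ ∀ a ∈ Oq p (sigmaCore M), ∀ b ∈ Oq p (sigmaCore M), a * b = b * a)
    {K : Subgroup G} (hKc : IsCyclic K) (hKh : IsPiHallOf (kappa M) K M) (hK1 : K ≠ ⊥)
    (hEK : IsComplIn K (sigmaCore M) M) {g : G} (hg : g ∉ M)
    (hxg : x ∈ M.map (MulAut.conj g).toMonoidHom) :
    (∀ q : ℕ, q.Prime → q ∣ Nat.card (sigmaCore M) → q ≠ p → Nat.card K ∣ q - 1) ∧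
      (Nat.card K ∣ p - 1 ∨ (Nat.card (Oq p (sigmaCore M)) = p ^ 3 ∧ Nat.card K ∣ p + 1)) := by
  have : Fact p.Prime := ⟨c.hp⟩
  have hp2 : p ≠ 2 := c.p_ne_two hG
  set Kst : Subgroup G := sigmaCore M ⊓ Subgroup.centralizer (K : Set G) with hKst
  have h30 := (Cfsg.Agent.S1430.result hG M c.hM K hKh hK1).1
  have h26 := (Cfsg.Agent.S1426.result hG M c.hM K hEK).1
  have h54 := (Cfsg.Agent.S1354.result hG M c.hM K hKc hKh).1
  have h31 := (Cfsg.Agent.S1431.result hG M c.hM K hKh hK1).1 g hg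
  have hxK : x ∉ Kst := by
    intro h
    have h2 : x ∈ Kst ⊓ M.map (MulAut.conj g).toMonoidHom := ⟨h, hxg⟩
    rw [h31, Subgroup.mem_bot] at h2
    exact c.hx1 h2
  have hi : ∀ q : ℕ, q.Prime → q ≠ p → Kst ⊓ Oq q (sigmaCore M) = ⊥ := by
    intro q hq hqp
    have : Fact q.Prime := ⟨hq⟩
    rw [eq_bot_iff]
    intro y hy
    have h1 : y ∈ Oq q (sigmaCore M) ⊓ ⁅sigmaCore M, sigmaCore M⁆ := ⟨hy.2, h26 hy.1⟩
    have h2 := map_pCore_inf_commutator_le (sigmaCore M) hnil q h1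
    have h3 : ⁅Oq q (sigmaCore M), Oq q (sigmaCore M)⁆ = ⊥ := by
      rw [Subgroup.commutator_eq_bot_iff_le_centralizer]
      intro a ha
      rw [Subgroup.mem_centralizer_iff]
      intro b hb
      exact c.Oq_comm hG hnil hq hqp b hb a ha
    rw [h3] at h2
    exact h2
  have hkey : ∀ k ∈ K, k ≠ 1 → ∀ C : Subgroup G, C ≤ sigmaCore M →
      (∀ r ∈ C, k * r = r * k) → C ≤ Kst := by
    intro k hk hk1 C hC hcomm r hr
    rw [hKst, ← h30 k hk hk1]
    exact ⟨hC hr, Subgroup.mem_centralizer_singleton_iff.mpr (hcomm r hr).symm⟩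
  obtain ⟨k₀, hk₀⟩ := hKc.exists_generator
  have hk₀o : orderOf k₀ = Nat.card K := orderOf_eq_card_of_forall_mem_zpowers hk₀
  have hdiv : ∀ n : ℕ, (∀ k ∈ K, k ^ n = 1) → Nat.card K ∣ n := by
    intro n hn
    rw [← hk₀o]
    apply orderOf_dvd_of_pow_eq_one
    apply Subtype.ext
    simpa using hn (k₀ : G) k₀.2
  have hiii : ∀ q : ℕ, q.Prime → q ∣ Nat.card (sigmaCore M) → q ≠ p →
      ∀ k ∈ K, k ^ (q - 1) = 1 := by
    intro q hq hqd hqp k hk
    by_contra hk1
    have : Fact q.Prime := ⟨hq⟩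
    have hcent := pow_pred_centralizes_cyclic q (Oq q (sigmaCore M))
      (c.isCyclic_Oq hG hnil hPna hq hqp) (Oq_isPGroup q _) k
      (le_normalizer_Oq hnil q (hEK.1 hk)) (c.coprime_orderOf_compl hG hEK hq hqd hk)
    have hle := hkey (k ^ (q - 1)) (K.pow_mem hk _) hk1 (Oq q (sigmaCore M)) (Oq_le _ _) hcent
    have h2 : Oq q (sigmaCore M) ≤ Kst ⊓ Oq q (sigmaCore M) := le_inf hle le_rfl
    rw [hi q hq hqp] at h2
    exact map_pCore_ne_bot (sigmaCore M) hnil q hqd (le_bot_iff.mp h2)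
  refine ⟨fun q hq hqd hqp => hdiv _ (hiii q hq hqd hqp), ?_⟩
  by_cases hr : PRankLE p 2 ↥(Oq p (sigmaCore M))
  · -- rank at most two
    obtain ⟨-, f2, f3, f4⟩ := c.rankTwo_facts hG hnil hPna hr
    have hZcard := c.card_omegaCenter hG hnil hPna
    have hKstP : IsPGroup p Kst := isPGroup_of_inf_Oq_eq_bot (sigmaCore M) hnil p inf_le_left hi
    have hKstle : Kst ≤ Oq p (sigmaCore M) :=
      le_map_pCore_of_isPGroup (sigmaCore M) hnil p inf_le_left hKstP
    have hcommZ : ⁅Oq p (sigmaCore M), Oq p (sigmaCore M)⁆ ≤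
        omegaCenter p (Oq p (sigmaCore M)) := by
      rw [Subgroup.commutator_le]
      intro a ha b hb
      rw [commutatorElement_def]
      refine ⟨?_, fun t ht => (f2 a ha b hb t ht).symm, f3 a ha b hb⟩
      exact Subgroup.mul_mem _ (Subgroup.mul_mem _ (Subgroup.mul_mem _ ha hb)
        (Subgroup.inv_mem _ ha)) (Subgroup.inv_mem _ hb)
    have hKstZ : Kst ≤ omegaCenter p (Oq p (sigmaCore M)) := fun y hy =>
      hcommZ (map_pCore_inf_commutator_le (sigmaCore M) hnil p ⟨hKstle hy, h26 hy⟩)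
    have hKstEq : Kst = omegaCenter p (Oq p (sigmaCore M)) := by
      apply Subgroup.eq_of_le_of_card_ge hKstZ
      have hd : Nat.card Kst ∣ p := by rw [← hZcard]; exact Subgroup.card_dvd_of_le hKstZ
      rcases (Nat.dvd_prime c.hp).mp hd with h | h
      · exact absurd (Subgroup.card_eq_one.mp h) h54
      · rw [hZcard, h]
    have hfix : ∀ k ∈ K, k ≠ 1 →
        Oq p (sigmaCore M) ⊓ Subgroup.centralizer ({k} : Set G) =
          omegaCenter p (Oq p (sigmaCore M)) := by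
      intro k hk hk1
      apply le_antisymm
      · intro y hy
        rw [← hKstEq, hKst, ← h30 k hk hk1]
        exact ⟨Oq_le _ _ hy.1, hy.2⟩
      · intro y hy
        refine Subgroup.mem_inf.mpr ⟨Cfsg.Agent.Lib.Helper54.omegaCenter_le _ _ hy, ?_⟩
        have hyK : y ∈ Kst := by rw [hKstEq]; exact hy
        rw [Subgroup.mem_centralizer_singleton_iff]
        exact (Subgroup.mem_centralizer_iff.mp hyK.2 k hk).symm
    have hK1' : ∃ k ∈ K, k ≠ 1 := by
      obtain ⟨k, hk⟩ := (Subgroup.ne_bot_iff_exists_ne_one).mp hK1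
      exact ⟨(k : G), k.2, fun h => hk (Subtype.ext h)⟩
    have hcenter : ∀ z ∈ Oq p (sigmaCore M),
        (∀ y ∈ Oq p (sigmaCore M), z * y = y * z) → z ^ p = 1 := by
      intro z hz hzc
      obtain ⟨k, hk, hk1⟩ := hK1'
      have hCp : IsPGroup p ↥(Oq p (sigmaCore M) ⊓
          Subgroup.centralizer ((Oq p (sigmaCore M) : Subgroup G) : Set G)) :=
        (Oq_isPGroup p (sigmaCore M)).to_le inf_le_left
      have hkN : k ∈ Subgroup.normalizer ((Oq p (sigmaCore M) ⊓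
          Subgroup.centralizer ((Oq p (sigmaCore M) : Subgroup G) : Set G) : Subgroup G) :
            Set G) := by
        have h1 : Subgroup.normalizer ((Oq p (sigmaCore M) : Subgroup G) : Set G) ≤
            Subgroup.normalizer ((Oq p (sigmaCore M) ⊓
              Subgroup.centralizer ((Oq p (sigmaCore M) : Subgroup G) : Set G) : Subgroup G) :
                Set G) :=
          le_normalizer_of_conj_mem (fun m hm d hd => conj_mem_inf_centralizer hm hd)
        exact h1 (le_normalizer_Oq hnil p (hEK.1 hk))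
      have hfixC : ∀ y ∈ Oq p (sigmaCore M) ⊓
          Subgroup.centralizer ((Oq p (sigmaCore M) : Subgroup G) : Set G),
          y ^ p = 1 → k * y = y * k := by
        intro y hy hyp
        have hyZ : y ∈ omegaCenter p (Oq p (sigmaCore M)) :=
          ⟨hy.1, fun t ht => Subgroup.mem_centralizer_iff.mp hy.2 t ht, hyp⟩
        have hyK : y ∈ Kst := by rw [hKstEq]; exact hyZ
        exact Subgroup.mem_centralizer_iff.mp hyK.2 k hk
      have hall := Cfsg.Agent.Lib.Helper24.centralizes_of_centralizes_omega p hp2 k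
        (c.coprime_orderOf_compl hG hEK c.hp c.p_dvd_card_sigmaCore hk) _ hCp hkN hfixC
      have hzC : z ∈ Oq p (sigmaCore M) ⊓
          Subgroup.centralizer ((Oq p (sigmaCore M) : Subgroup G) : Set G) :=
        Subgroup.mem_inf.mpr ⟨hz, Subgroup.mem_centralizer_iff.mpr (fun y hy => (hzc y hy).symm)⟩
      have hzfix : z ∈ Oq p (sigmaCore M) ⊓ Subgroup.centralizer ({k} : Set G) :=
        Subgroup.mem_inf.mpr ⟨hz, Subgroup.mem_centralizer_singleton_iff.mpr (hall z hzC).symm⟩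
      rw [hfix k hk hk1] at hzfix
      exact hzfix.2.2
    have hPcard := f4 hcenter
    have hKp : (Nat.card K).Coprime p :=
      ((Nat.Prime.coprime_iff_not_dvd c.hp).mpr
        (c.not_dvd_card_compl hG hEK c.hp c.p_dvd_card_sigmaCore)).symm
    have hSL := Cfsg.Agent.Lib.Helper12.ExtraspecialCyclic.card_dvd_pred_or_succ p hp2
      (Oq p (sigmaCore M)) K (omegaCenter p (Oq p (sigmaCore M))) hPcard
      (fun h => hPna (isMulCommutative_iff.mp h))
      (hEK.1.trans (le_normalizer_Oq hnil p)) hKc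
      (Odd.of_dvd_nat hG.1 (Subgroup.card_subgroup_dvd_card _)) hKp
      (Cfsg.Agent.Lib.Helper54.omegaCenter_le _ _) hZcard
      (fun z hz y hy => (hz.2.1 y hy).symm) hfix
    rcases hSL with h | h
    · exact Or.inl h
    · exact Or.inr ⟨hPcard, h⟩
  · -- rank at least three
    left
    apply hdiv
    intro k hk
    by_contra hk1
    have hkM : k ^ (p - 1) ∈ M := M.pow_mem (hEK.1 hk) _
    have hv : (⟨k ^ (p - 1), hkM⟩ : ↥M) ∈ Cfsg.Agent.Lib.Helper67.verbalPow ↥M (p - 1) := by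
      have := Cfsg.Agent.Lib.Helper67.pow_mem_verbalPow (G := ↥M) (p - 1) ⟨k, hEK.1 hk⟩
      exact this
    have hco : (orderOf (k ^ (p - 1))).Coprime p :=
      Nat.Coprime.coprime_dvd_left (orderOf_pow_dvd _)
        (c.coprime_orderOf_compl hG hEK c.hp c.p_dvd_card_sigmaCore hk)
    have hcent := c.verbal_centralizes hG hnil hr hkM hv hco
    have hle := hkey (k ^ (p - 1)) (K.pow_mem hk _) hk1 (Oq p (sigmaCore M)) (Oq_le _ _) hcent
    exact hxK (hle (c.A_le_P hG hnil c.hxA))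

end Cfg

end Cfsg.Agent.Lib.Helper51.BGFifteenSeven
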