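import Mathlib
import Cfsg.Prelude.Def_OddOrderLocal
import Cfsg.Agent.S1360
import Cfsg.Agent.S1372
import Cfsg.Agent.Lib.Helper26.BGTypesG
import Cfsg.Agent.Lib.Helper51.BGFifteenSevenJ

/-!
# Bender–Glauberman Theorem 15.7 in book form  (helper51)

`fifteen_seven`: let `M` be a maximal subgroup with standard factorisation `M = K U M_σ`, `g ∉ M` and
`X = F(M) ∩ F(M)^g ≠ 1`.  Then `X ≤ M_F` is cyclic, `M' ≤ F(M) = M_σ O_{σ(M)'}(F(M))`, `M_F = M_σ`,
and one of the three alternatives of the frozen statement S1440 holds.  (The frozen statement has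
`M' = F(M)`, which fails for `K = 1`; the book and this file have `M' ≤ F(M)`.)

The only hypothesis besides landed rows is the TI clause of the row S1357
(`M_F ≠ M_σ → F(M)` is a TI-subset).

`stmt1440w_of`: helper26's `Stmt1440w` from `Stmt1357`.
-/

set_option autoImplicit false

namespace Cfsg.Agent.Lib.Helper51.BGFifteenSeven

open Cfsg
open scoped commutatorElement
open Cfsg.Agent.Lib.Helper25.NilBridge
open Cfsg.Agent.Lib.Helper54 (omegaCenter)

variable {G : Type*} [Group G] [Finite G]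

/-- `K` is a complement of `M_σ` when `U = 1`. -/
theorem isComplIn_K_of_U_bot {M K U : Subgroup G} (hKU : IsSigmaDecomposition M K U)
    (hU : U = ⊥) : IsComplIn K (sigmaCore M) M := by
  refine ⟨hKU.hall.1, Cfsg.Agent.Lib.Helper54.sigmaCore_le M,
    Cfsg.Agent.Lib.Helper26.BGTypes.inf_sigmaCore_eq_bot hKU.hall, ?_⟩
  intro m hm
  obtain ⟨a, ha, b, hb, rfl⟩ := hKU.compl.2.2.2 m hm
  rw [hU, Subgroup.mem_bot] at ha
  rw [sup_comm] at hb
  obtain ⟨s, hs, k, hk, rfl⟩ :=
    Cfsg.Agent.Lib.Helper26.BGTypes.exists_mul_of_mem_sigmaCore_sup hKU.hall.1 hb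
  refine ⟨k, hk, k⁻¹ * s * k⁻¹⁻¹, ?_, ?_⟩
  · exact Cfsg.Agent.Lib.Helper26.BGTypes.conj_mem_sigmaCore M (M.inv_mem (hKU.hall.1 hk)) hs
  · rw [ha]; group

omit [Finite G] in
/-- `U` is a complement of `M_σ` when `K = 1`. -/
theorem isComplIn_U_of_K_bot {M K U : Subgroup G} (hKU : IsSigmaDecomposition M K U)
    (hK : K = ⊥) : IsComplIn U (sigmaCore M) M := by
  have := hKU.compl
  rwa [hK, bot_sup_eq] at this

/-- **Bender–Glauberman, Theorem 15.7** (book form). -/
theorem fifteen_seven (hG : IsMinSimpleOddOrder G)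
    (h57 : ∀ (M : Subgroup G), IsCoatom M → ∀ K U : Subgroup G, IsSigmaDecomposition M K U →
      fittingHallOf M ≠ sigmaCore M → IsTISubset (fittingOf M : Set G))
    (M : Subgroup G) (hM : IsCoatom M) (K U : Subgroup G) (hKU : IsSigmaDecomposition M K U)
    (g : G) (hg : g ∉ M)
    (hX : fittingOf M ⊓ (fittingOf M).map (MulAut.conj g).toMonoidHom ≠ ⊥) :
    (fittingOf M ⊓ (fittingOf M).map (MulAut.conj g).toMonoidHom ≤ fittingHallOf M ∧
        IsCyclic ↥(fittingOf M ⊓ (fittingOf M).map (MulAut.conj g).toMonoidHom)) ∧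
      (⁅M, M⁆ ≤ fittingOf M ∧
        fittingOf M = sigmaCore M ⊔ piCoreOf {q | q.Prime ∧ q ∉ sigma M} (fittingOf M)) ∧
      fittingHallOf M = sigmaCore M ∧
      ((K = ⊥ ∧ IsMulCommutative (fittingHallOf M) ∧ RankLE 2 (fittingHallOf M) ∧
          ¬ RankLE 1 (fittingHallOf M)) ∨
       (∃ p : ℕ, p.Prime ∧
          Nat.card ↥(fittingOf M ⊓ (fittingOf M).map (MulAut.conj g).toMonoidHom) = p ∧
          p ∈ sigma M ∧ p ∉ beta M ∧
          ¬ IsMulCommutative (pCore p ↥(fittingHallOf M)) ∧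
          IsCyclic (pPrimeCore p ↥(fittingHallOf M)) ∧
          ∀ q : ℕ, q.Prime → q ∣ Nat.card (fittingHallOf M) →
            Monoid.exponent (↥M ⧸ fittingHall ↥M) ∣ q - 1) ∨
       (∃ p : ℕ, p.Prime ∧
          Nat.card ↥(fittingOf M ⊓ (fittingOf M).map (MulAut.conj g).toMonoidHom) = p ∧
          p ∈ sigma M ∧ p ∉ beta M ∧
          IsCyclic (pPrimeCore p ↥(fittingHallOf M)) ∧
          Nat.card (pCore p ↥(fittingHallOf M)) = p ^ 3 ∧
          ¬ IsMulCommutative (pCore p ↥(fittingHallOf M)) ∧ K ≠ ⊥ ∧ U = ⊥ ∧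
          (fittingHallOf M).relIndex M ∣ p + 1)) := by
  set X : Subgroup G := fittingOf M ⊓ (fittingOf M).map (MulAut.conj g).toMonoidHom with hXdef
  have hnotTI := not_isTISubset_fittingOf hG hM hg hX
  have hH : fittingHallOf M = sigmaCore M := by
    by_contra hne
    exact hnotTI (h57 M hM K U hKU hne)
  have hnil : Group.IsNilpotent ↥(sigmaCore M) := by
    rw [← hH]; exact Cfsg.Agent.Lib.Helper26.BGTypes.isNilpotent_fittingHallOf M
  have hKorU : K = ⊥ ∨ U = ⊥ := by
    by_contra hcon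
    push Not at hcon
    exact hnotTI (Cfsg.Agent.S1372.result hG M hM K U hKU hcon.1 hcon.2).2.1
  have hXσ : X ≤ sigmaCore M := inter_le_sigmaCore hG hM hg
  have hXg : X ≤ M.map (MulAut.conj g).toMonoidHom :=
    inf_le_right.trans (Subgroup.map_mono (Cfsg.Agent.Lib.Helper34.fittingOf_le M))
  obtain ⟨E₀, hE₀⟩ := Cfsg.Agent.Lib.Helper68.BG13D.exists_compl hG M hM
  obtain ⟨hcycI, hbeta, -⟩ := (Cfsg.Agent.S1426.result hG M hM E₀ hE₀).2.2 g hg
  have hXle : X ≤ sigmaCore M ⊓ M.map (MulAut.conj g).toMonoidHom := le_inf hXσ hXg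
  have hXcyc : IsCyclic ↥X := Subgroup.isCyclic_of_le hXle
  obtain ⟨x, hxX, p, hp, hxo, hroot⟩ := exists_prime_order_root X hXcyc hX
  obtain ⟨N, A, c⟩ := exists_cfg hG hM hg (hXσ hxX) (hXg hxX) hp hxo
  have : Fact p.Prime := ⟨hp⟩
  have hσF : sigmaCore M ≤ fittingOf M :=
    Cfsg.Agent.Lib.Helper34.le_fittingOf (Cfsg.Agent.Lib.Helper54.sigmaCore_le M)
      (Cfsg.Agent.Lib.Helper54.le_normalizer_sigmaCore M) hnil
  have hF : fittingOf M =
      sigmaCore M ⊔ piCoreOf {q | q.Prime ∧ q ∉ sigma M} (fittingOf M) := by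
    have h := (Cfsg.Agent.S1439.result hG M hM).2.2
    rwa [Cfsg.Agent.Lib.Helper54.fittingOf_eq_self_of_isNilpotent (sigmaCore M) hnil] at h
  have hder : ⁅M, M⁆ ≤ fittingOf M := by
    by_cases hK : K = ⊥
    · exact c.commutator_le_fittingOf_U hG hnil (isComplIn_U_of_K_bot hKU hK)
        (Cfsg.Agent.S1359.result hG M hM K U hKU)
    · have hU := hKorU.resolve_left hK
      have hE := isComplIn_K_of_U_bot hKU hU
      apply commutator_le_of_compl (Cfsg.Agent.Lib.Helper34.fittingOf_le M)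
        (Cfsg.Agent.Lib.Helper34.le_normalizer_fittingOf M) (E := K) _ hE.1
      · intro k₁ h1 k₂ h2
        have hc := hKU.cyclic
        have hcomm : k₁ * k₂ = k₂ * k₁ := by
          have := (IsCyclic.commGroup (α := ↥K)).mul_comm ⟨k₁, h1⟩ ⟨k₂, h2⟩
          exact congrArg Subtype.val this
        have : ⁅k₁, k₂⁆ = 1 := commutatorElement_eq_one_iff_mul_comm.mpr hcomm
        rw [this]; exact Subgroup.one_mem _
      · intro m hm
        obtain ⟨k, hk, b, hb, rfl⟩ := hE.2.2.2 m hm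
        exact ⟨k, hk, b, hσF hb, rfl⟩
  refine ⟨⟨by rw [hH]; exact hXσ, hXcyc⟩, ⟨hder, hF⟩, hH, ?_⟩
  by_cases hPab : ∀ a ∈ Oq p (sigmaCore M), ∀ b ∈ Oq p (sigmaCore M), a * b = b * a
  · left
    obtain ⟨-, hHab, hr2, hr1⟩ := c.abelian_case hG hnil hPab
    have hK : K = ⊥ := by
      by_contra hK1
      have hU := hKorU.resolve_left hK1
      have h26 := (Cfsg.Agent.S1426.result hG M hM K (isComplIn_K_of_U_bot hKU hU)).1
      have h54 := (Cfsg.Agent.S1354.result hG M hM K hKU.cyclic hKU.hall).1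
      apply h54
      rw [eq_bot_iff]
      refine h26.trans ?_
      rw [Subgroup.commutator_le]
      intro a ha b hb
      have hcomm := (isMulCommutative_iff.mp hHab) a ha b hb
      rw [commutatorElement_eq_one_iff_mul_comm.mpr hcomm]
      exact Subgroup.one_mem _
    rw [hH]
    exact ⟨hK, hHab, hr2, hr1⟩
  · right
    -- `X` is a `p`-group of order `p`
    have hXp : ∀ q : ℕ, q.Prime → q ∣ Nat.card ↥X → q = p := by
      intro q hq hqd
      by_contra hqp
      have : Fact q.Prime := ⟨hq⟩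
      obtain ⟨y, hyo⟩ := exists_prime_orderOf_dvd_card' q hqd
      have hyo' : orderOf (y : G) = q := by rw [Subgroup.orderOf_coe]; exact hyo
      obtain ⟨N', A', c'⟩ := exists_cfg hG hM hg (hXσ y.2) (hXg y.2) hq hyo'
      exact hPab (c'.Oq_comm hG hnil hp (Ne.symm hqp))
    have hXcard0 : Nat.card ↥X ≠ 0 := Nat.card_pos.ne'
    have hXpow := Nat.eq_prime_pow_of_unique_prime_dvd hXcard0 (fun {d} hd hdd => hXp d hd hdd)
    have hXpg : IsPGroup p ↥X := IsPGroup.of_card hXpow
    have hXP : X ≤ Oq p (sigmaCore M) := le_map_pCore_of_isPGroup (sigmaCore M) hnil p hXσ hXpg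
    have hXcard : Nat.card ↥X = p := by
      set k := (Nat.card ↥X).primeFactorsList.length with hk
      have hk0 : k ≠ 0 := by
        intro h0
        rw [h0, pow_zero] at hXpow
        exact hX (Subgroup.card_eq_one.mp hXpow)
      have hk2 : ¬ 2 ≤ k := by
        intro h2
        have hd : p ^ 2 ∣ Nat.card ↥X := by
          rw [hXpow]; exact pow_dvd_pow p h2
        obtain ⟨w, hw, hwx⟩ := hroot hd
        exact c.no_root hG hnil hPab ⟨w, hXP hw, hwx⟩
      have hk1 : k = 1 := by omega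
      rw [hXpow, hk1, pow_one]
    have hpσ : p ∈ sigma M := c.p_mem_sigma
    have hpβ : p ∉ beta M := by
      apply hbeta p hp
      have h1 : orderOf (⟨x, hXle hxX⟩ :
          ↥(sigmaCore M ⊓ M.map (MulAut.conj g).toMonoidHom)) = p :=
        (Subgroup.orderOf_mk x (hXle hxX)).trans hxo
      rw [← h1]; exact orderOf_dvd_natCard _
    have hna' : ¬ IsMulCommutative (pCore p ↥(fittingHallOf M)) := by
      rw [hH]
      intro h
      apply hPab
      rintro a ⟨a', ha', rfl⟩ b ⟨b', hb', rfl⟩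
      have := h.is_comm.comm ⟨a', ha'⟩ ⟨b', hb'⟩
      exact congrArg (fun z : ↥(pCore p ↥(sigmaCore M)) => ((z : ↥(sigmaCore M)) : G)) this
    have hcyc' : IsCyclic (pPrimeCore p ↥(fittingHallOf M)) := by
      rw [hH]; exact c.isCyclic_pPrimeCore hG hnil hPab
    by_cases hK : K = ⊥
    · left
      refine ⟨p, hp, hXcard, hpσ, hpβ, hna', hcyc', ?_⟩
      intro q hq hqd
      have hEU := isComplIn_U_of_K_bot hKU hK
      have hE : IsComplIn U (fittingHallOf M) M := by rw [hH]; exact hEU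
      apply exponent_quotient_dvd hE
      rw [hH] at hqd
      exact c.exponent_U hG hnil hPab hEU (Cfsg.Agent.S1360.result hG M hM K U hKU) hq hqd
    · have hU := hKorU.resolve_left hK
      have hEK := isComplIn_K_of_U_bot hKU hU
      have hE : IsComplIn K (fittingHallOf M) M := by rw [hH]; exact hEK
      obtain ⟨hq', hp'⟩ := c.K_case hG hnil hPab hKU.cyclic hKU.hall hK hEK hg (hXg hxX)
      have hpowK : ∀ k ∈ K, k ^ Nat.card K = 1 := by
        intro k hk
        have h3 : (⟨k, hk⟩ : ↥K) ^ Nat.card K = 1 := pow_card_eq_one'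
        have h4 := congrArg Subtype.val h3
        rwa [Subgroup.coe_pow, Subgroup.coe_one] at h4
      rcases hp' with h | ⟨hcard, h⟩
      · left
        refine ⟨p, hp, hXcard, hpσ, hpβ, hna', hcyc', ?_⟩
        intro q hq hqd
        apply exponent_quotient_dvd hE
        rw [hH] at hqd
        have hd : Nat.card K ∣ q - 1 := by
          by_cases hqp : q = p
          · rw [hqp]; exact h
          · exact hq' q hq hqd hqp
        intro k hk
        obtain ⟨j, hj⟩ := hd
        rw [hj, pow_mul, hpowK k hk, one_pow]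
      · right
        refine ⟨p, hp, hXcard, hpσ, hpβ, hcyc', ?_, hna', hK, hU, ?_⟩
        · rw [hH, ← hcard]
          exact Nat.card_congr (Subgroup.equivMapOfInjective (pCore p ↥(sigmaCore M))
            (sigmaCore M).subtype (sigmaCore M).subtype_injective).toEquiv
        · rw [hH, Cfsg.Agent.Lib.Helper30.BGSigmaE.relIndex_eq_card_of_isComplIn hEK]
          exact h

/-- helper26's weak form of the row S1440 from the TI clause of the row S1357. -/
theorem stmt1440w_of (hG : IsMinSimpleOddOrder G) (h57 : Cfsg.Agent.Lib.Helper4.PF.Stmt1357 G) :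
    Cfsg.Agent.Lib.Helper26.BGTypes.Stmt1440w G := by
  intro M hM K U hKU g hg hX
  have h := fifteen_seven hG (fun M hM K U hKU hne => (h57 M hM K U hKU hne).2.1)
    M hM K U hKU g hg hX
  exact ⟨h.1.1, h.2.2.2⟩

end Cfsg.Agent.Lib.Helper51.BGFifteenSeven
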