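/-
helper51: Peterfalvi (12.7), module [ORTH] of helper74's plan (#3512):
a generalized character `Φ` of norm 2 whose Dade restriction to `A = K^#` vanishes is orthogonal
to `τ₁ ψ` for `ψ ∈ S(N)` of degree `e = |N : K|`, when `2e + 1 < |K|`.
-/
import Mathlib
import Cfsg.Agent.Lib.Helper74.PF127Defs
import Cfsg.Agent.Lib.Helper74.PFTwelveA
import Cfsg.Agent.Lib.Helper51.PF127OrthA
import Cfsg.Agent.Lib.Helper25.Norm3
import Cfsg.Agent.S1500

set_option autoImplicit false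

namespace Cfsg.Agent.Lib.Helper51.PF127

open Cfsg Cfsg.Agent.Lib.Helper74.PF127
open scoped ComplexConjugate

/-- generalized characters are class functions -/
theorem gen_isClassFunction {G : Type*} [Group G] [Fintype G] {a : G → ℂ}
    (ha : IsGeneralizedCharacter G a) : IsClassFunction G a := by
  obtain ⟨χ1, ψ1, h1, h2, rfl⟩ := ha
  exact Cfsg.Agent.Lib.Helper78.isClassFunction_sub
    (Cfsg.Agent.Lib.Helper78.IsCharacter.isClassFunction h1)
    (Cfsg.Agent.Lib.Helper78.IsCharacter.isClassFunction h2)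

/-- integer Cauchy-Schwarz for generalized characters: `⟨u, Φ⟩² ≤ ⟨u, u⟩ ⟨Φ, Φ⟩` in the special
case `⟨Φ, Φ⟩ = 2`. -/
theorem sq_le_of_norm_two {G : Type*} [Group G] [Fintype G] {u Φ : G → ℂ}
    (hu : IsGeneralizedCharacter G u) (hΦ : IsGeneralizedCharacter G Φ)
    (hΦ2 : classInner Φ Φ = 2) (c : ℕ) (hc : classInner u u = c) (M : ℤ)
    (hM : classInner u Φ = M) : M ^ 2 ≤ 2 * c := by
  have F := Cfsg.Agent.Lib.Helper26.irrFacts G
  obtain ⟨n, hn, hn'⟩ := Cfsg.Agent.Lib.Helper25.inner_int' hu hΦ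
  have hnM : n = M := by
    have : (n : ℂ) = (M : ℂ) := by rw [← hn, hM]
    exact_mod_cast this
  subst hnM
  have hγ : IsGeneralizedCharacter G ((2 : ℤ) • u - n • Φ) :=
    F.gen_sub (F.gen_zsmul 2 hu) (F.gen_zsmul n hΦ)
  obtain ⟨k, hk⟩ := F.norm_nat hγ
  have hnorm : classInner ((2 : ℤ) • u - n • Φ) ((2 : ℤ) • u - n • Φ) =
      4 * (c : ℂ) - 2 * (n : ℂ) ^ 2 := by
    rw [Cfsg.Agent.Lib.Helper26.classInner_sub_left, Cfsg.Agent.Lib.Helper26.classInner_sub_right,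
      Cfsg.Agent.Lib.Helper26.classInner_sub_right,
      Cfsg.Agent.Lib.Helper26.classInner_zsmul_left, Cfsg.Agent.Lib.Helper26.classInner_zsmul_right,
      Cfsg.Agent.Lib.Helper26.classInner_zsmul_left, Cfsg.Agent.Lib.Helper26.classInner_zsmul_right,
      Cfsg.Agent.Lib.Helper26.classInner_zsmul_left, Cfsg.Agent.Lib.Helper26.classInner_zsmul_right,
      Cfsg.Agent.Lib.Helper26.classInner_zsmul_left, Cfsg.Agent.Lib.Helper26.classInner_zsmul_right,
      hc, hn, hn', hΦ2]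
    push_cast
    ring
  rw [hnorm] at hk
  have hk' : (4 * (c : ℤ) - 2 * n ^ 2 : ℤ) = (k : ℤ) := by
    have : ((4 * (c : ℤ) - 2 * n ^ 2 : ℤ) : ℂ) = ((k : ℤ) : ℂ) := by
      push_cast
      exact hk
    exact_mod_cast this
  have : (0 : ℤ) ≤ (k : ℤ) := Int.natCast_nonneg k
  linarith

/-- **MODULE [ORTH]** -/
theorem coherent_orth {G : Type*} [Group G] [Fintype G] (N : Subgroup G) [Fintype N]
    (K : Subgroup N) [K.Normal]
    (A : Set G) (RN : G → Subgroup G) (hDN : DadeHypothesis A N RN)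
    (hA : A = ((K.map N.subtype : Subgroup G) : Set G) \ {1})
    (hSirr : ∀ χ ∈ inducedIrrAbove K ⊥, IsIrrCharacter N χ)
    (τ₁ : (N → ℂ) → (G → ℂ)) (hτ₁ : IsLinearIsometryOn (zspan (inducedIrrAbove K ⊥)) τ₁)
    (hext : ∀ α ∈ zspanOn (inducedIrrAbove K ⊥) {1}ᶜ, τ₁ α = dadeIsometry A N RN α)
    (ψ : N → ℂ) (hψ : ψ ∈ inducedIrrAbove K ⊥) (e : ℕ) (hψ1 : ψ 1 = e)
    (hcard : Nat.card N = e * Nat.card K) (hbig : 2 * e + 1 < Nat.card K)
    (Φ : G → ℂ) (hΦ : IsGeneralizedCharacter G Φ) (hΦ2 : classInner Φ Φ = 2)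
    (hΦ0 : ∀ a ∈ A, dadeAvg RN Φ a = 0) :
    classInner (τ₁ ψ) Φ = 0 := by
  classical
  have FG := Cfsg.Agent.Lib.Helper26.irrFacts G
  -- index = e
  have hidx : K.index = e := by
    have h1 := K.card_mul_index
    rw [hcard] at h1
    have hKpos : 0 < Nat.card K := Nat.card_pos
    exact Nat.eq_of_mul_eq_mul_left hKpos (h1.trans (mul_comm _ _))
  set m : ℕ := Nat.card K - 1 with hm
  have hKpos : 0 < Nat.card K := Nat.card_pos
  have hmK : (m : ℂ) = (Nat.card K : ℂ) - 1 := by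
    rw [hm, Nat.cast_sub hKpos, Nat.cast_one]
  -- properties of the span
  have hSchar : ∀ χ ∈ inducedIrrAbove K ⊥, IsCharacter N χ :=
    fun χ hχ => Cfsg.Agent.Lib.Helper26.IrrFacts.irr_isCharacter (hSirr χ hχ)
  have hSvan : ∀ χ ∈ inducedIrrAbove K ⊥, ∀ x : N,
      (x : G) ∉ ((K.map N.subtype : Subgroup G) : Set G) → χ x = 0 := by
    intro χ hχ x hx
    apply Cfsg.Agent.Lib.Helper74.sibleyS_vanish K hχ x
    intro hxK
    exact hx ⟨x, hxK, rfl⟩
  have hWS : regW K ∈ zspan (inducedIrrAbove K ⊥) := regW_mem_zspan K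
  have hψS : ψ ∈ zspan (inducedIrrAbove K ⊥) := Cfsg.Agent.Lib.Helper26.subset_zspan _ hψ
  have hmψS : (m : ℤ) • ψ ∈ zspan (inducedIrrAbove K ⊥) :=
    Cfsg.Agent.Lib.Helper26.zspan_zsmul _ hψS
  set α : N → ℂ := regW K - (m : ℤ) • ψ with hα
  have hαS : α ∈ zspan (inducedIrrAbove K ⊥) := Cfsg.Agent.Lib.Helper26.zspan_sub hWS hmψS
  have hα1 : α 1 = 0 := by
    show regW K 1 - ((m : ℤ) • ψ) 1 = 0
    rw [Pi.smul_apply, regW_apply_of_mem K 1 K.one_mem, if_pos rfl, hψ1, hidx, zsmul_eq_mul]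
    push_cast
    rw [hmK]
    ring
  have hαon : α ∈ zspanOn (inducedIrrAbove K ⊥) {1}ᶜ := by
    refine ⟨hαS, fun x hx => ?_⟩
    have : x = 1 := by simpa using hx
    rw [this]; exact hα1
  have pα := Cfsg.Agent.Lib.Helper74.PF12.zspan_props _ _ hSchar hSvan hαS
  have hαA : ∀ x : N, (x : G) ∉ A → α x = 0 := by
    intro x hx
    by_cases h1 : x = 1
    · rw [h1]; exact hα1
    · apply pα.2.1 x
      intro hxK
      apply hx
      rw [hA]
      exact ⟨hxK, fun hc => h1 (Subtype.ext hc)⟩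
  -- ⟨τ₁ α, Φ⟩ = 0
  have hΦcf : IsClassFunction G Φ := gen_isClassFunction hΦ
  have h0 : classInner (τ₁ α) Φ = 0 := by
    rw [hext α hαon]
    have h := (Cfsg.Agent.S1500.result A N RN hDN α pα.1 hαA).2 Φ 0 hΦcf (fun a ha => by
      show (0 : ℂ) = dadeAvg RN Φ a
      exact (hΦ0 a ha).symm)
    rw [h]
    exact Cfsg.Agent.Lib.Helper26.classInner_zero_right _
  -- linearity
  have hτα : τ₁ α = τ₁ (regW K) - (m : ℤ) • τ₁ ψ := by
    rw [hα, Cfsg.Agent.Lib.Helper26.isom_sub (Cfsg.Agent.Lib.Helper26.isZClosed_zspan _) hτ₁ hWS hmψS,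
      Cfsg.Agent.Lib.Helper26.isom_zsmul hτ₁ _ hψS]
  obtain ⟨z, hz, -⟩ := Cfsg.Agent.Lib.Helper25.inner_int'
    (Cfsg.Agent.Lib.Helper26.isom_gen hτ₁ hψS) hΦ
  have hWΦ : classInner (τ₁ (regW K)) Φ = (((m : ℤ) * z : ℤ) : ℂ) := by
    rw [hτα, Cfsg.Agent.Lib.Helper26.classInner_sub_left,
      Cfsg.Agent.Lib.Helper26.classInner_zsmul_left, hz] at h0
    push_cast
    linear_combination h0
  have hWW : classInner (τ₁ (regW K)) (τ₁ (regW K)) = ((e * m : ℕ) : ℂ) := by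
    rw [Cfsg.Agent.Lib.Helper26.isom_inner hτ₁ hWS hWS, classInner_regW_regW K, hidx]
    push_cast
    rw [hmK]
  have hineq := sq_le_of_norm_two (Cfsg.Agent.Lib.Helper26.isom_gen hτ₁ hWS) hΦ hΦ2 (e * m) hWW
    ((m : ℤ) * z) hWΦ
  -- arithmetic
  rw [hz]
  have hz0 : z = 0 := by
    by_contra hne
    have hz2 : 1 ≤ z ^ 2 := by
      have : 0 < z ^ 2 := by positivity
      linarith
    have hm2 : (2 * e : ℤ) < m := by
      have : 2 * e + 1 < m + 1 := by omega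
      have : 2 * e < m := by omega
      exact_mod_cast this
    have hmpos : (0 : ℤ) < m := by
      have : (0 : ℤ) ≤ 2 * e := by positivity
      linarith
    have h1 : ((m : ℤ) * z) ^ 2 = (m : ℤ) ^ 2 * z ^ 2 := by ring
    rw [h1] at hineq
    push_cast at hineq
    have h2 : (m : ℤ) ^ 2 ≤ (m : ℤ) ^ 2 * z ^ 2 := by
      have : 0 ≤ (m : ℤ) ^ 2 := by positivity
      nlinarith
    have h3 : (m : ℤ) ^ 2 ≤ 2 * (e * m) := le_trans h2 hineq
    have h4 : (m : ℤ) * m ≤ (2 * e) * m := by nlinarith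
    have h5 : (m : ℤ) ≤ 2 * e := le_of_mul_le_mul_right h4 hmpos
    linarith
  rw [hz0]
  simp

end Cfsg.Agent.Lib.Helper51.PF127
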