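/-
helper51: project REEW2 (helper61), module REEW2-[W2-Z2].
-/
import Mathlib

set_option autoImplicit false

namespace Cfsg.Agent.Lib.Helper51.ReeW2

/-- the two-element group `Multiplicative (ZMod 2)` -/
theorem mz2_eq_of_ne_one : ∀ a b : Multiplicative (ZMod 2), a ≠ 1 → b ≠ 1 → a = b := by decide

theorem mz2_sq : ∀ a : Multiplicative (ZMod 2), a * a = 1 := by decide

theorem mz2_card : Nat.card (Multiplicative (ZMod 2)) = 2 := by
  rw [Nat.card_eq_fintype_card, Fintype.card_multiplicative, ZMod.card]

theorem orderOf_prod_eq_three {L : Type*} [Group L] (a : Multiplicative (ZMod 2)) (v : L) :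
    orderOf ((a, v) : Multiplicative (ZMod 2) × L) = 3 ↔ a = 1 ∧ orderOf v = 3 := by
  rw [Prod.orderOf]
  constructor
  · intro h
    have h1 : orderOf a ∣ 2 := orderOf_dvd_of_pow_eq_one (by rw [pow_two]; exact mz2_sq a)
    have h2 : orderOf a ∣ 3 := by
      have := Nat.dvd_lcm_left (orderOf a) (orderOf v)
      simpa [h] using this
    have h3 : orderOf a = 1 := by
      have : orderOf a ∣ Nat.gcd 2 3 := Nat.dvd_gcd h1 h2
      simpa using this
    have ha : a = 1 := orderOf_eq_one_iff.mp h3
    refine ⟨ha, ?_⟩
    simpa [h3] using h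
  · rintro ⟨rfl, hv⟩
    simp [hv]

theorem z2_prod_facts {L : Type*} [Group L] [Finite L] (hLc : Subgroup.center L = ⊥) {C : Type*} [Group C]
    (e : C ≃* Multiplicative (ZMod 2) × L) (z : C) (hz : orderOf z = 2) (hzc : ∀ x : C, x * z = z * x) :
    Nat.card {u : C // orderOf u = 3} = Nat.card {u : L // orderOf u = 3} ∧
    ∀ t : C, orderOf t = 2 → t ≠ z → ∃ v : L, orderOf v = 2 ∧
      Nat.card ↥(Subgroup.centralizer ({t} : Set C)) = 2 * Nat.card ↥(Subgroup.centralizer ({v} : Set L)) := by
  classical
  constructor
  · -- elements of order 3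
    have h1 : Nat.card {u : C // orderOf u = 3} =
        Nat.card {w : Multiplicative (ZMod 2) × L // orderOf w = 3} :=
      Nat.card_congr (Equiv.subtypeEquiv e.toEquiv (fun u => by
        simp only [MulEquiv.toEquiv_eq_coe, MulEquiv.coe_toEquiv, MulEquiv.orderOf_eq]))
    rw [h1]
    refine Nat.card_congr
      { toFun := fun w => ⟨w.1.2, ((orderOf_prod_eq_three w.1.1 w.1.2).mp w.2).2⟩
        invFun := fun v => ⟨(1, v.1), (orderOf_prod_eq_three 1 v.1).mpr ⟨rfl, v.2⟩⟩
        left_inv := ?_
        right_inv := ?_ }
    · rintro ⟨⟨a, v⟩, hw⟩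
      have ha := ((orderOf_prod_eq_three a v).mp hw).1
      apply Subtype.ext
      simp [ha]
    · rintro ⟨v, hv⟩
      rfl
  · intro t ht htz
    -- `e z = (g, 1)` with `g ≠ 1`
    have hz1 : z ≠ 1 := by
      rintro rfl
      rw [orderOf_one] at hz
      omega
    have hez2 : (e z).2 = 1 := by
      have hc : (e z).2 ∈ Subgroup.center L := by
        rw [Subgroup.mem_center_iff]
        intro l
        have h := hzc (e.symm (1, l))
        have h' := congrArg (fun x => (e x).2) h
        simpa using h'
      rw [hLc] at hc
      exact Subgroup.mem_bot.mp hc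
    have hez1 : (e z).1 ≠ 1 := by
      intro h
      apply hz1
      apply e.injective
      rw [map_one]
      exact Prod.ext h hez2
    -- `e t = (ε, v)` with `v ≠ 1`, `v² = 1`
    have ht1 : t ≠ 1 := by
      rintro rfl
      rw [orderOf_one] at ht
      omega
    have hv1 : (e t).2 ≠ 1 := by
      intro h
      apply htz
      apply e.injective
      refine Prod.ext ?_ (by rw [h, hez2])
      apply mz2_eq_of_ne_one _ _ _ hez1
      intro h1
      apply ht1
      apply e.injective
      rw [map_one]
      exact Prod.ext h1 h
    have hv2 : (e t).2 * (e t).2 = 1 := by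
      have h : t * t = 1 := by
        rw [← pow_two, ← ht]
        exact pow_orderOf_eq_one t
      have h' := congrArg (fun x => (e x).2) h
      simpa using h'
    refine ⟨(e t).2, orderOf_eq_prime (by rw [pow_two]; exact hv2) hv1, ?_⟩
    -- the centralizer
    have hcard : Nat.card ↥(Subgroup.centralizer ({t} : Set C)) =
        Nat.card (Multiplicative (ZMod 2) × ↥(Subgroup.centralizer ({(e t).2} : Set L))) := by
      refine Nat.card_congr
        { toFun := fun x => ((e x.1).1, ⟨(e x.1).2, ?_⟩)
          invFun := fun p => ⟨e.symm (p.1, p.2.1), ?_⟩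
          left_inv := ?_
          right_inv := ?_ }
      · -- (e x).2 centralizes (e t).2
        rw [Subgroup.mem_centralizer_singleton_iff]
        have h := Subgroup.mem_centralizer_singleton_iff.mp x.2
        have h' := congrArg (fun y => (e y).2) h
        simpa using h'
      · rw [Subgroup.mem_centralizer_singleton_iff]
        apply e.injective
        rw [map_mul, map_mul, MulEquiv.apply_symm_apply]
        have h := Subgroup.mem_centralizer_singleton_iff.mp p.2.2
        refine Prod.ext ?_ ?_
        · simp only [Prod.fst_mul]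
          exact mul_comm _ _
        · simp only [Prod.snd_mul]
          exact h
      · intro x
        apply Subtype.ext
        simp
      · rintro ⟨a, ⟨y, hy⟩⟩
        simp
    rw [hcard, Nat.card_prod, mz2_card]

end Cfsg.Agent.Lib.Helper51.ReeW2
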