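import Mathlib
import Cfsg.Agent.Lib.Helper20.ReeD.Defs

/-! # REED-[D-CONST] (helper51): sum of a function constant off the identity -/

set_option autoImplicit false

namespace Cfsg.Agent.Lib.Helper51.ReeD

open Cfsg.Agent.Lib.Helper20.ReeD

/-- [D-CONST] -/
theorem sum_of_const {G : Type*} [Group G] (χ : G → ℂ) (A : Subgroup G) [Fintype A] (c : ℂ)
    (hc : ∀ a ∈ A, a ≠ 1 → χ a = c) : ∑ a : A, χ a = χ 1 + ((Fintype.card A : ℂ) - 1) * c := by
  classical
  rw [← Finset.add_sum_erase Finset.univ (fun a : A => χ a) (Finset.mem_univ (1 : A))]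
  congr 1
  have h1 : ∀ a ∈ (Finset.univ : Finset A).erase 1, χ (a : G) = c := by
    intro a ha
    have hne : a ≠ 1 := (Finset.mem_erase.mp ha).1
    exact hc a a.2 (fun h => hne (Subtype.ext h))
  rw [Finset.sum_congr rfl h1, Finset.sum_const, Finset.card_erase_of_mem (Finset.mem_univ _),
    Finset.card_univ, nsmul_eq_mul, Nat.cast_sub Fintype.card_pos]
  simp

end Cfsg.Agent.Lib.Helper51.ReeD
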