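/-
helper51: PROJECT SIBC (helper22 #4290, sheet `Lib/Helper22/SIBC_MODULES.md`),
module [SIBC-ADD]: `add_rest` (iterate S1516).
-/
import Mathlib
import Cfsg.Agent.Lib.Helper22.SibCDefs
import Cfsg.Agent.S1516

set_option autoImplicit false
set_option linter.unusedVariables false
set_option linter.unusedSectionVars false

namespace Cfsg.Agent.Lib.Helper51.SibC

open Cfsg

universe u v

variable {L : Type u} [Group L] [Fintype L] {G : Type v} [Group G] [Fintype G]

theorem conjFun_conjFun' (χ : L → ℂ) : conjFun (conjFun χ) = χ := by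
  funext x
  unfold conjFun
  simp

/-- MODULE [SIBC-ADD] (generic; iterate S1516). -/
theorem add_rest (S : Set (L → ℂ)) (hSfin : S.Finite) (τ : (L → ℂ) → (G → ℂ))
    (R : (L → ℂ) → Finset (G → ℂ)) (hS : IsCoherenceSystem S τ R)
    (d n : (L → ℂ) → ℕ) (hd : ∀ φ ∈ S, φ 1 = (d φ : ℂ))
    (hn : ∀ φ ∈ S, classInner φ φ = (n φ : ℂ))
    (T : Finset (L → ℂ)) (hT : (↑T : Set (L → ℂ)) ⊆ S) (hTc : ∀ φ ∈ T, conjFun φ ∈ T)
    (hcoh : IsCoherent (↑T : Set (L → ℂ)) ({1}ᶜ : Set L) τ)
    (χ₁ : L → ℂ) (hχ₁ : χ₁ ∈ T)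
    (hadd : ∀ χ ∈ S, χ ∉ T → d χ₁ ∣ d χ ∧
      (2 * d χ * d χ₁ : ℝ) < ∑ φ ∈ T, ((d φ : ℝ) ^ 2 / (n φ : ℝ))) :
    IsCoherent S ({1}ᶜ : Set L) τ := by
  classical
  -- generalize over `T`, induct on the number of members of `S` outside `T`
  have main : ∀ k : ℕ, ∀ T : Finset (L → ℂ), (hSfin.toFinset \ T).card = k →
      (↑T : Set (L → ℂ)) ⊆ S → (∀ φ ∈ T, conjFun φ ∈ T) →
      IsCoherent (↑T : Set (L → ℂ)) ({1}ᶜ : Set L) τ → χ₁ ∈ T →
      (∀ χ ∈ S, χ ∉ T → d χ₁ ∣ d χ ∧
        (2 * d χ * d χ₁ : ℝ) < ∑ φ ∈ T, ((d φ : ℝ) ^ 2 / (n φ : ℝ))) →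
      IsCoherent S ({1}ᶜ : Set L) τ := by
    intro k
    induction k using Nat.strong_induction_on with
    | _ k ih =>
      intro T hk hT hTc hcoh hχ₁ hadd
      by_cases hall : ∀ χ ∈ S, χ ∈ T
      · have hTS : (↑T : Set (L → ℂ)) = S := Set.Subset.antisymm hT (fun χ hχ => hall χ hχ)
        rw [← hTS]
        exact hcoh
      · push Not at hall
        obtain ⟨χ, hχS, hχT⟩ := hall
        have hcχT : conjFun χ ∉ T := by
          intro hc
          have := hTc _ hc
          rw [conjFun_conjFun'] at this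
          exact hχT this
        have hcχS : conjFun χ ∈ S := hS.conj_mem χ hχS
        obtain ⟨hdvd, hineq⟩ := hadd χ hχS hχT
        have hnew := Cfsg.Agent.S1516.result S τ R hS d n hd hn T hT hTc hcoh χ hχS hχT hcχT χ₁ hχ₁
          hdvd hineq
        set T' : Finset (L → ℂ) := insert χ (insert (conjFun χ) T) with hT'
        have hcoe : (↑T' : Set (L → ℂ)) = ↑T ∪ {χ, conjFun χ} := by
          rw [hT', Finset.coe_insert, Finset.coe_insert]
          ext x
          simp only [Set.mem_insert_iff, Set.mem_union, Finset.mem_coe, Set.mem_singleton_iff]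
          tauto
        have hTT' : T ⊆ T' := by
          intro x hx
          rw [hT']
          exact Finset.mem_insert_of_mem (Finset.mem_insert_of_mem hx)
        refine ih (hSfin.toFinset \ T').card ?_ T' rfl ?_ ?_ ?_ (hTT' hχ₁) ?_
        · rw [← hk]
          apply Finset.card_lt_card
          refine ⟨Finset.sdiff_subset_sdiff (Finset.Subset.refl _) hTT', ?_⟩
          intro hsub
          have h1 : χ ∈ hSfin.toFinset \ T := by
            rw [Finset.mem_sdiff, Set.Finite.mem_toFinset]
            exact ⟨hχS, hχT⟩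
          have h2 := hsub h1
          rw [Finset.mem_sdiff] at h2
          exact h2.2 (by rw [hT']; exact Finset.mem_insert_self _ _)
        · rw [hcoe]
          intro x hx
          rcases hx with hx | hx
          · exact hT hx
          · rcases hx with rfl | hx
            · exact hχS
            · rw [Set.mem_singleton_iff] at hx
              rw [hx]; exact hcχS
        · intro φ hφ
          rw [hT', Finset.mem_insert, Finset.mem_insert] at hφ
          rcases hφ with rfl | rfl | hφ
          · rw [hT']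
            exact Finset.mem_insert_of_mem (Finset.mem_insert_self _ _)
          · rw [conjFun_conjFun', hT']
            exact Finset.mem_insert_self _ _
          · exact hTT' (hTc φ hφ)
        · rw [hcoe]
          exact hnew
        · intro χ' hχ'S hχ'T'
          have hχ'T : χ' ∉ T := fun h => hχ'T' (hTT' h)
          obtain ⟨h1, h2⟩ := hadd χ' hχ'S hχ'T
          refine ⟨h1, lt_of_lt_of_le h2 ?_⟩
          apply Finset.sum_le_sum_of_subset_of_nonneg hTT'
          intro φ _ _
          positivity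
  exact main _ T rfl hT hTc hcoh hχ₁ hadd

end Cfsg.Agent.Lib.Helper51.SibC
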