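/-
helper51: PROJECT SIBC (helper22 #4568), module [SIBC-COUNT]: `count_B`.
-/
import Mathlib
import Cfsg.Agent.Lib.Helper22.SibCDefs
import Cfsg.Agent.Lib.Helper25.CohCentral
import Cfsg.Agent.Lib.Helper26.IrrFacts

set_option autoImplicit false
set_option linter.unusedVariables false
set_option linter.unusedSectionVars false

namespace Cfsg.Agent.Lib.Helper51.SibC

open Cfsg Cfsg.Agent.Lib.Helper78 Cfsg.Agent.Lib.Helper75 Cfsg.Agent.Lib.Helper25.CohDescent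
open Cfsg.Agent.Lib.Helper25.CohCentral
open scoped ComplexConjugate

universe u

variable {Λ : Type u} [Group Λ] [Fintype Λ]

/-- the fibre bound: for `φ = Ind θ₀` with `‖φ‖² = n`, `q ∑_{Ind θ = φ} θ(1)² ≤ φ(1)² / n`. -/
theorem fiber_bound (K : Subgroup Λ) [K.Normal] {θ₀ : ↥K → ℂ} (hθ₀ : IsIrrCharacter ↥K θ₀)
    (n : ℕ) (hn : classInner (indFun K θ₀) (indFun K θ₀) = (n : ℂ))
    (F : Finset (IrrCharacter ↥K))
    (hF : ∀ θ ∈ F, indFun K (θ : ↥K → ℂ) = indFun K θ₀) :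
    (K.index : ℝ) * ∑ θ ∈ F, ((charDegree (θ : ↥K → ℂ) : ℝ)) ^ 2 ≤
      (charDegree (indFun K θ₀) : ℝ) ^ 2 / (n : ℝ) := by
  classical
  have : Fintype ↥K := Fintype.ofFinite _
  set φ := indFun K θ₀ with hφ
  have hφc : IsCharacter Λ φ := Cfsg.Agent.S0148.result K θ₀ (IsIrrCharacter.isCharacter hθ₀)
  have hres : IsCharacter ↥K (fun k : ↥K => φ k) := isCharacter_res K hφc
  obtain ⟨m, hm⟩ := (isCharacter_iff_exists_nat_combination _).mp hres
  have hdeg := charDegree_nat_combination m hres hm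
  have hdegres : charDegree (fun k : ↥K => φ k) = charDegree φ := rfl
  rw [hdegres] at hdeg
  have hmψ : ∀ ψ : IrrCharacter ↥K, (m ψ : ℂ) = classInner φ (indFun K (ψ : ↥K → ℂ)) := by
    intro ψ
    rw [frobenius_reciprocity' K _ (IsCharacter.isClassFunction hφc)]
    conv_rhs => rw [hm]
    rw [classInner_nat_combination (fun ψ' => (m ψ' : ℂ)) ψ]
  have hmF : ∀ θ ∈ F, m θ = n := by
    intro θ hθ
    have h1 := hmψ θ
    rw [hF θ hθ, hn] at h1
    exact_mod_cast h1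
  have hdF : ∀ θ ∈ F, charDegree φ = K.index * charDegree (θ : ↥K → ℂ) := by
    intro θ hθ
    rw [← charDegree_indFun K (IsIrrCharacter.isCharacter θ.2), hF θ hθ]
  -- `d > 0`, `n > 0`
  have hdpos : 0 < charDegree φ := by
    rw [hφ, charDegree_indFun K (IsIrrCharacter.isCharacter hθ₀)]
    exact Nat.mul_pos (Nat.pos_of_ne_zero Subgroup.index_ne_zero_of_finite)
      (IsIrrCharacter.charDegree_pos hθ₀)
  have hnpos : 0 < n := by
    rcases Nat.eq_zero_or_pos n with h0 | h0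
    · exfalso
      rw [h0, Nat.cast_zero] at hn
      have hz : φ = 0 := Cfsg.Agent.Lib.Helper26.classInner_self_eq_zero hn
      have h1 : charDegree φ = 0 := by
        rw [hz]
        simp [charDegree]
      omega
    · exact h0
  -- `|F| n ≤ q`
  have hFn : F.card * n ≤ K.index := by
    have h1 : ∑ θ ∈ F, m θ * charDegree (θ : ↥K → ℂ) ≤ charDegree φ := by
      rw [hdeg]
      exact Finset.sum_le_sum_of_subset_of_nonneg (Finset.subset_univ _) (fun _ _ _ => Nat.zero_le _)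
    have h2 : K.index * ∑ θ ∈ F, m θ * charDegree (θ : ↥K → ℂ) = F.card * n * charDegree φ := by
      rw [Finset.mul_sum]
      have : ∀ θ ∈ F, K.index * (m θ * charDegree (θ : ↥K → ℂ)) = n * charDegree φ := by
        intro θ hθ
        rw [hmF θ hθ, hdF θ hθ]
        ring
      rw [Finset.sum_congr rfl this, Finset.sum_const, smul_eq_mul]
      ring
    have h3 : F.card * n * charDegree φ ≤ K.index * charDegree φ := by
      rw [← h2]
      exact Nat.mul_le_mul_left _ h1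
    exact Nat.le_of_mul_le_mul_right h3 hdpos
  -- the sum of squares
  have hsq : (K.index : ℝ) ^ 2 * ∑ θ ∈ F, ((charDegree (θ : ↥K → ℂ) : ℝ)) ^ 2 =
      (F.card : ℝ) * (charDegree φ : ℝ) ^ 2 := by
    rw [Finset.mul_sum]
    have : ∀ θ ∈ F, (K.index : ℝ) ^ 2 * ((charDegree (θ : ↥K → ℂ) : ℝ)) ^ 2 =
        (charDegree φ : ℝ) ^ 2 := by
      intro θ hθ
      rw [hdF θ hθ]
      push_cast
      ring
    rw [Finset.sum_congr rfl this, Finset.sum_const, nsmul_eq_mul]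
  have hqpos : (0 : ℝ) < (K.index : ℝ) := by
    exact_mod_cast Nat.pos_of_ne_zero (Subgroup.index_ne_zero_of_finite (H := K))
  have hnR : (0 : ℝ) < (n : ℝ) := by exact_mod_cast hnpos
  have hFnR : (F.card : ℝ) * (n : ℝ) ≤ (K.index : ℝ) := by exact_mod_cast hFn
  rw [le_div_iff₀ hnR]
  set t := ∑ θ ∈ F, ((charDegree (θ : ↥K → ℂ) : ℝ)) ^ 2 with ht
  have ht0 : 0 ≤ t := Finset.sum_nonneg (fun _ _ => by positivity)
  have hd2 : (0 : ℝ) ≤ (charDegree φ : ℝ) ^ 2 := by positivity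
  -- `q t n ≤ d²` from `q² t = |F| d²` and `|F| n ≤ q`
  have h4 : (K.index : ℝ) * ((K.index : ℝ) * t * (n : ℝ)) ≤
      (K.index : ℝ) * (charDegree φ : ℝ) ^ 2 := by
    calc (K.index : ℝ) * ((K.index : ℝ) * t * (n : ℝ))
        = ((K.index : ℝ) ^ 2 * t) * (n : ℝ) := by ring
      _ = ((F.card : ℝ) * (n : ℝ)) * (charDegree φ : ℝ) ^ 2 := by rw [hsq]; ring
      _ ≤ (K.index : ℝ) * (charDegree φ : ℝ) ^ 2 := mul_le_mul_of_nonneg_right hFnR hd2
  exact le_of_mul_le_mul_left h4 hqpos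

/-- MODULE [SIBC-COUNT] -/
theorem count_B (K Z : Subgroup Λ) [K.Normal] [Z.Normal] (hZK : Z ≤ K) (n : (Λ → ℂ) → ℕ)
    (hn : ∀ φ ∈ inducedIrrAbove K ⊥ \ inducedIrrAbove K Z, classInner φ φ = (n φ : ℂ))
    (Bs : Finset (Λ → ℂ))
    (hBs : (↑Bs : Set (Λ → ℂ)) = inducedIrrAbove K ⊥ \ inducedIrrAbove K Z) :
    (K.index : ℝ) * ((Nat.card ↥K : ℝ) - (Z.relIndex K : ℝ)) ≤
      ∑ φ ∈ Bs, ((charDegree φ : ℝ) ^ 2 / (n φ : ℝ)) := by
  classical
  have : Fintype ↥K := Fintype.ofFinite _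
  set I : Finset (IrrCharacter ↥K) :=
    Finset.univ.filter (fun θ : IrrCharacter ↥K => NT K Z (θ : ↥K → ℂ)) with hI
  -- the sum of squares over `I`
  have hsumI : (∑ θ ∈ I, ((charDegree (θ : ↥K → ℂ) : ℝ)) ^ 2) =
      (Nat.card ↥K : ℝ) - (Z.relIndex K : ℝ) := by
    have htotal : ∑ θ : IrrCharacter ↥K, charDegree (θ : ↥K → ℂ) ^ 2 = Nat.card ↥K :=
      sum_irr_charDegree_sq
    have hsplit : ∑ θ : IrrCharacter ↥K, charDegree (θ : ↥K → ℂ) ^ 2 =
        ∑ θ ∈ I, charDegree (θ : ↥K → ℂ) ^ 2 + Z.relIndex K := by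
      rw [← sum_sq_not_NT K Z]
      exact (Finset.sum_filter_add_sum_filter_not _ _ _).symm
    rw [htotal] at hsplit
    have h1 : ((Nat.card ↥K : ℕ) : ℝ) =
        ((∑ θ ∈ I, charDegree (θ : ↥K → ℂ) ^ 2 + Z.relIndex K : ℕ) : ℝ) := by rw [← hsplit]
    push_cast at h1
    linarith
  -- the fibres
  have hmaps : ∀ θ ∈ I, indFun K (θ : ↥K → ℂ) ∈ Bs := by
    intro θ hθ
    have hmem : indFun K (θ : ↥K → ℂ) ∈ (↑Bs : Set (Λ → ℂ)) := by
      rw [hBs, mem_diff_iff K Z hZK]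
      exact ⟨θ, θ.2, (Finset.mem_filter.mp hθ).2, rfl⟩
    exact hmem
  rw [← hsumI, ← Finset.sum_fiberwise_of_maps_to hmaps, Finset.mul_sum]
  apply Finset.sum_le_sum
  intro φ hφ
  have hφB : φ ∈ inducedIrrAbove K ⊥ \ inducedIrrAbove K Z := by
    rw [← hBs]; exact hφ
  obtain ⟨θ₀, hθ₀, hNT, rfl⟩ := (mem_diff_iff K Z hZK φ).mp hφB
  exact fiber_bound K hθ₀ (n (indFun K θ₀)) (hn _ hφB) _
    (fun θ hθ => (Finset.mem_filter.mp hθ).2)

end Cfsg.Agent.Lib.Helper51.SibC
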