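/-
helper51: PROJECT SIBC (helper22 #4290, sheet `Lib/Helper22/SIBC_MODULES.md`),
module [SIBC-GLUE]: `glue_all`.
-/
import Mathlib
import Cfsg.Agent.Lib.Helper22.SibCDefs
import Cfsg.Agent.Lib.Helper26.IrrFactsInst
import Cfsg.Agent.Lib.Helper26.ZSpan
import Cfsg.Agent.Lib.Helper26.CohExt

set_option autoImplicit false
set_option linter.unusedVariables false
set_option linter.unusedSectionVars false

namespace Cfsg.Agent.Lib.Helper51.SibC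

open Cfsg Cfsg.Agent.Lib.Helper26
open scoped ComplexConjugate

universe u v

section Ortho

variable {L : Type u} [Group L] [Fintype L] {G : Type v} [Group G] [Fintype G]

/-- the coefficient of `θ` along `φ` in an orthogonal family -/
noncomputable def ucoef (φ θ : L → ℂ) : ℂ := classInner θ φ / classInner φ φ

theorem ucoef_add (φ a b : L → ℂ) : ucoef φ (a + b) = ucoef φ a + ucoef φ b := by
  unfold ucoef
  rw [classInner_add_left, add_div]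

theorem ucoef_zsmul (φ : L → ℂ) (k : ℤ) (a : L → ℂ) :
    ucoef φ (k • a) = (k : ℂ) * ucoef φ a := by
  unfold ucoef
  rw [classInner_zsmul_left, mul_div_assoc]

theorem ucoef_zero (φ : L → ℂ) : ucoef φ 0 = 0 := by
  unfold ucoef
  rw [classInner_zero_left, zero_div]

/-- the extension of `Y` from an orthogonal family `T` by coefficients -/
noncomputable def oext (T : Finset (L → ℂ)) (Y : (L → ℂ) → (G → ℂ)) (θ : L → ℂ) : G → ℂ :=
  ∑ φ ∈ T, ucoef φ θ • Y φ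

theorem oext_add (T : Finset (L → ℂ)) (Y : (L → ℂ) → (G → ℂ)) (a b : L → ℂ) :
    oext T Y (a + b) = oext T Y a + oext T Y b := by
  unfold oext
  rw [← Finset.sum_add_distrib]
  apply Finset.sum_congr rfl
  intro φ _
  rw [ucoef_add, add_smul]

theorem oext_zsmul (T : Finset (L → ℂ)) (Y : (L → ℂ) → (G → ℂ)) (k : ℤ) (a : L → ℂ) :
    oext T Y (k • a) = k • oext T Y a := by
  unfold oext
  rw [Finset.smul_sum]
  apply Finset.sum_congr rfl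
  intro φ _
  rw [ucoef_zsmul, mul_smul]
  ext x; simp

theorem oext_zero (T : Finset (L → ℂ)) (Y : (L → ℂ) → (G → ℂ)) : oext T Y 0 = 0 := by
  unfold oext
  apply Finset.sum_eq_zero
  intro φ _
  rw [ucoef_zero, zero_smul]

/-- coefficients of a member of the family -/
theorem ucoef_mem {T : Finset (L → ℂ)}
    (horth : ∀ χ ∈ T, ∀ φ ∈ T, χ ≠ φ → classInner χ φ = 0)
    (h0 : ∀ χ ∈ T, classInner χ χ ≠ 0) {φ₀ φ : L → ℂ} (hφ₀ : φ₀ ∈ T) (hφ : φ ∈ T) :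
    ucoef φ φ₀ = if φ₀ = φ then 1 else 0 := by
  unfold ucoef
  by_cases h : φ₀ = φ
  · rw [if_pos h, h, div_self (h0 φ hφ)]
  · rw [if_neg h, horth φ₀ hφ₀ φ hφ h, zero_div]

theorem oext_mem [DecidableEq (L → ℂ)] {T : Finset (L → ℂ)}
    (horth : ∀ χ ∈ T, ∀ φ ∈ T, χ ≠ φ → classInner χ φ = 0)
    (h0 : ∀ χ ∈ T, classInner χ χ ≠ 0) (Y : (L → ℂ) → (G → ℂ)) {φ₀ : L → ℂ} (hφ₀ : φ₀ ∈ T) :
    oext T Y φ₀ = Y φ₀ := by
  unfold oext
  have : ∀ φ ∈ T, ucoef φ φ₀ • Y φ = if φ₀ = φ then Y φ else 0 := by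
    intro φ hφ
    rw [ucoef_mem horth h0 hφ₀ hφ]
    split_ifs <;> simp
  rw [Finset.sum_congr rfl this, Finset.sum_ite_eq T φ₀, if_pos hφ₀]

/-- expansion of a member of the integer span of an orthogonal family -/
theorem zspan_eq_sum_ucoef {T : Finset (L → ℂ)}
    (horth : ∀ χ ∈ T, ∀ φ ∈ T, χ ≠ φ → classInner χ φ = 0)
    (h0 : ∀ χ ∈ T, classInner χ χ ≠ 0) {θ : L → ℂ} (hθ : θ ∈ zspan (↑T : Set (L → ℂ))) :
    θ = ∑ φ ∈ T, ucoef φ θ • φ := by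
  classical
  unfold zspan at hθ
  induction hθ using Submodule.span_induction with
  | mem φ₀ hφ₀ =>
    have hφ₀' : φ₀ ∈ T := hφ₀
    have : ∀ φ ∈ T, ucoef φ φ₀ • φ = if φ₀ = φ then φ else 0 := by
      intro φ hφ
      rw [ucoef_mem horth h0 hφ₀' hφ]
      split_ifs <;> simp
    rw [Finset.sum_congr rfl this, Finset.sum_ite_eq T φ₀, if_pos hφ₀']
  | zero =>
    symm
    apply Finset.sum_eq_zero
    intro φ _
    rw [ucoef_zero, zero_smul]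
  | add a b _ _ iha ihb =>
    conv_lhs => rw [iha, ihb]
    rw [← Finset.sum_add_distrib]
    apply Finset.sum_congr rfl
    intro φ _
    rw [ucoef_add, add_smul]
  | smul k a _ iha =>
    conv_lhs => rw [iha]
    rw [Finset.smul_sum]
    apply Finset.sum_congr rfl
    intro φ _
    rw [ucoef_zsmul, mul_smul]
    ext x; simp

theorem classInner_sum_smul_sum_smul {X : Type*} [Group X] [Fintype X] {ι : Type*}
    (T : Finset ι) (u v : ι → ℂ) (P Q : ι → (X → ℂ)) :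
    classInner (∑ i ∈ T, u i • P i) (∑ j ∈ T, v j • Q j) =
      ∑ i ∈ T, ∑ j ∈ T, u i * conj (v j) * classInner (P i) (Q j) := by
  rw [classInner_sum_left]
  apply Finset.sum_congr rfl
  intro i _
  rw [classInner_smul_left, classInner_sum_right, Finset.mul_sum]
  apply Finset.sum_congr rfl
  intro j _
  rw [classInner_smul_right]
  ring

/-- the extension by coefficients preserves inner products on the integer span when `Y` has the
same Gram matrix as the family. -/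
theorem oext_inner {T : Finset (L → ℂ)}
    (horth : ∀ χ ∈ T, ∀ φ ∈ T, χ ≠ φ → classInner χ φ = 0)
    (h0 : ∀ χ ∈ T, classInner χ χ ≠ 0) {Y : (L → ℂ) → (G → ℂ)}
    (hgram : ∀ χ ∈ T, ∀ φ ∈ T, classInner (Y χ) (Y φ) = classInner χ φ)
    {a b : L → ℂ} (ha : a ∈ zspan (↑T : Set (L → ℂ))) (hb : b ∈ zspan (↑T : Set (L → ℂ))) :
    classInner (oext T Y a) (oext T Y b) = classInner a b := by
  have e1 : classInner (oext T Y a) (oext T Y b) =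
      ∑ i ∈ T, ∑ j ∈ T, ucoef i a * conj (ucoef j b) * classInner (Y i) (Y j) := by
    unfold oext
    exact classInner_sum_smul_sum_smul T _ _ _ _
  have e2 : classInner a b =
      ∑ i ∈ T, ∑ j ∈ T, ucoef i a * conj (ucoef j b) * classInner i j := by
    conv_lhs => rw [zspan_eq_sum_ucoef horth h0 ha, zspan_eq_sum_ucoef horth h0 hb]
    exact classInner_sum_smul_sum_smul T _ _ _ _
  rw [e1, e2]
  apply Finset.sum_congr rfl
  intro i hi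
  apply Finset.sum_congr rfl
  intro j hj
  rw [hgram i hi j hj]

end Ortho

section Generic

variable {L : Type u} [Group L] [Fintype L] {G : Type v} [Group G] [Fintype G]

/-- MODULE [SIBC-GLUE] (generic; no coherence system needed). -/
theorem glue_all (S : Set (L → ℂ)) (hchar : ∀ χ ∈ S, IsCharacter L χ)
    (horthS : ∀ χ ∈ S, ∀ φ ∈ S, χ ≠ φ → classInner χ φ = 0)
    (hS0 : ∀ χ ∈ S, classInner χ χ ≠ 0)
    (τ : (L → ℂ) → (G → ℂ)) (hτ : IsLinearIsometryOn (zspanOn S ({1}ᶜ : Set L)) τ)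
    (A B : Finset (L → ℂ)) (hA : (↑A : Set (L → ℂ)) ⊆ S) (hB : (↑B : Set (L → ℂ)) ⊆ S)
    (hAB : Disjoint A B)
    (τ₁ : (L → ℂ) → (G → ℂ)) (hτ₁ : IsLinearIsometryOn (zspan (↑A : Set (L → ℂ))) τ₁)
    (hτ₁τ : ∀ α ∈ zspanOn (↑A : Set (L → ℂ)) ({1}ᶜ : Set L), τ₁ α = τ α)
    (ζ₁ : L → ℂ) (hζ₁ : ζ₁ ∈ A) (hζ₁1 : ζ₁ 1 ≠ 0) (hζ₁n : classInner ζ₁ ζ₁ = 1)
    (f : (L → ℂ) → ℤ)
    (hf : ∀ χ ∈ B, χ 1 = (f χ : ℂ) * ζ₁ 1)
    (horth : ∀ χ ∈ B, ∀ ζ ∈ A, classInner (τ (χ - f χ • ζ₁)) (τ₁ ζ) =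
      if ζ = ζ₁ then -(f χ : ℂ) else 0) :
    ∃ τ₂ : (L → ℂ) → (G → ℂ),
      IsLinearIsometryOn (zspan ((↑A : Set (L → ℂ)) ∪ ↑B)) τ₂ ∧
      (∀ α ∈ zspanOn ((↑A : Set (L → ℂ)) ∪ ↑B) ({1}ᶜ : Set L), τ₂ α = τ α) ∧
      ∀ ζ ∈ A, τ₂ ζ = τ₁ ζ := by
  classical
  have IF' := irrFacts G
  set T : Finset (L → ℂ) := A ∪ B with hTdef
  have hcoeT : (↑T : Set (L → ℂ)) = (↑A : Set (L → ℂ)) ∪ ↑B := by
    rw [hTdef, Finset.coe_union]
  have hAS : ∀ ζ ∈ A, ζ ∈ S := fun ζ h => hA (Finset.mem_coe.mpr h)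
  have hBS : ∀ χ ∈ B, χ ∈ S := fun χ h => hB (Finset.mem_coe.mpr h)
  have hTS : ∀ φ ∈ T, φ ∈ S := by
    intro φ hφ
    rw [hTdef, Finset.mem_union] at hφ
    rcases hφ with h | h
    · exact hAS φ h
    · exact hBS φ h
  have horthT : ∀ χ ∈ T, ∀ φ ∈ T, χ ≠ φ → classInner χ φ = 0 :=
    fun χ hχ φ hφ hne => horthS χ (hTS χ hχ) φ (hTS φ hφ) hne
  have h0T : ∀ χ ∈ T, classInner χ χ ≠ 0 := fun χ hχ => hS0 χ (hTS χ hχ)
  have hζ₁S : ζ₁ ∈ S := hAS ζ₁ hζ₁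
  have hBA : ∀ χ ∈ B, χ ∉ A := fun χ hχ hc => (Finset.disjoint_left.mp hAB hc) hχ
  have hneBA : ∀ χ ∈ B, ∀ ζ ∈ A, χ ≠ ζ := by
    intro χ hχ ζ hζ hc
    exact hBA χ hχ (hc ▸ hζ)
  -- the degree-zero differences
  have hγ : ∀ χ ∈ B, χ - f χ • ζ₁ ∈ zspanOn S ({1}ᶜ : Set L) := by
    intro χ hχ
    rw [mem_zspanOn_compl_one]
    refine ⟨zspan_sub (subset_zspan _ (hBS χ hχ)) (zspan_zsmul _ (subset_zspan _ hζ₁S)), ?_⟩
    rw [Pi.sub_apply, Pi.smul_apply, hf χ hχ, zsmul_eq_mul, sub_self]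
  have hmemA : ∀ ζ ∈ A, ζ ∈ zspan (↑A : Set (L → ℂ)) :=
    fun ζ h => subset_zspan _ (Finset.mem_coe.mpr h)
  -- the images
  set Zc : (L → ℂ) → (G → ℂ) := fun χ => τ (χ - f χ • ζ₁) + f χ • τ₁ ζ₁ with hZc
  set Y : (L → ℂ) → (G → ℂ) := fun φ => if φ ∈ A then τ₁ φ else Zc φ with hY
  have hYA : ∀ ζ ∈ A, Y ζ = τ₁ ζ := fun ζ h => by rw [hY]; exact if_pos h
  have hYB : ∀ χ ∈ B, Y χ = Zc χ := fun χ h => by rw [hY]; exact if_neg (hBA χ h)
  -- Gram matrix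
  have gAA : ∀ ζ ∈ A, ∀ ζ' ∈ A, classInner (τ₁ ζ) (τ₁ ζ') = classInner ζ ζ' :=
    fun ζ h ζ' h' => isom_inner hτ₁ (hmemA ζ h) (hmemA ζ' h')
  have gBA : ∀ χ ∈ B, ∀ ζ ∈ A, classInner (Zc χ) (τ₁ ζ) = 0 := by
    intro χ hχ ζ hζ
    rw [hZc]
    simp only
    rw [classInner_add_left, classInner_zsmul_left, horth χ hχ ζ hζ, gAA ζ₁ hζ₁ ζ hζ]
    by_cases h : ζ = ζ₁
    · rw [if_pos h, h, hζ₁n]; ring
    · rw [if_neg h, horthS ζ₁ hζ₁S ζ (hAS ζ hζ) (fun hc => h hc.symm)]; ring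
  have gAB : ∀ ζ ∈ A, ∀ χ ∈ B, classInner (τ₁ ζ) (Zc χ) = 0 := by
    intro ζ hζ χ hχ
    rw [← classInner_conj_symm, gBA χ hχ ζ hζ, map_zero]
  have gBB : ∀ χ ∈ B, ∀ χ' ∈ B, classInner (Zc χ) (Zc χ') = classInner χ χ' := by
    intro χ hχ χ' hχ'
    have h1 : classInner (τ (χ - f χ • ζ₁)) (τ (χ' - f χ' • ζ₁)) =
        classInner χ χ' + (f χ : ℂ) * (f χ' : ℂ) := by
      rw [isom_inner hτ (hγ χ hχ) (hγ χ' hχ'), classInner_sub_left, classInner_sub_right,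
        classInner_sub_right, classInner_zsmul_left, classInner_zsmul_left,
        classInner_zsmul_right, classInner_zsmul_right, hζ₁n,
        horthS χ (hBS χ hχ) ζ₁ hζ₁S (hneBA χ hχ ζ₁ hζ₁),
        horthS ζ₁ hζ₁S χ' (hBS χ' hχ') (fun hc => hneBA χ' hχ' ζ₁ hζ₁ hc.symm)]
      ring
    have h2 : classInner (τ (χ - f χ • ζ₁)) (τ₁ ζ₁) = -(f χ : ℂ) := by
      rw [horth χ hχ ζ₁ hζ₁, if_pos rfl]
    have h3 : classInner (τ₁ ζ₁) (τ (χ' - f χ' • ζ₁)) = -(f χ' : ℂ) := by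
      rw [← classInner_conj_symm, horth χ' hχ' ζ₁ hζ₁, if_pos rfl, map_neg, map_intCast]
    rw [hZc]
    simp only
    rw [classInner_add_left, classInner_add_right, classInner_add_right, classInner_zsmul_left,
      classInner_zsmul_left, classInner_zsmul_right, classInner_zsmul_right, h1, h2, h3,
      gAA ζ₁ hζ₁ ζ₁ hζ₁, hζ₁n]
    ring
  have hgram : ∀ χ ∈ T, ∀ φ ∈ T, classInner (Y χ) (Y φ) = classInner χ φ := by
    intro χ hχ φ hφ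
    rw [hTdef, Finset.mem_union] at hχ hφ
    rcases hχ with hχ | hχ <;> rcases hφ with hφ | hφ
    · rw [hYA χ hχ, hYA φ hφ, gAA χ hχ φ hφ]
    · rw [hYA χ hχ, hYB φ hφ, gAB χ hχ φ hφ,
        horthS χ (hAS χ hχ) φ (hBS φ hφ) (fun hc => hneBA φ hφ χ hχ hc.symm)]
    · rw [hYB χ hχ, hYA φ hφ, gBA χ hχ φ hφ,
        horthS χ (hBS χ hχ) φ (hAS φ hφ) (hneBA χ hχ φ hφ)]
    · rw [hYB χ hχ, hYB φ hφ, gBB χ hχ φ hφ]
  -- the extension
  set τ₂ : (L → ℂ) → (G → ℂ) := oext T Y with hτ₂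
  have hτ₂mem : ∀ φ ∈ T, τ₂ φ = Y φ := fun φ hφ => oext_mem horthT h0T Y hφ
  have h0A : (0 : L → ℂ) ∈ zspan (↑A : Set (L → ℂ)) := zspan_zero _
  have h0S : (0 : L → ℂ) ∈ zspanOn S ({1}ᶜ : Set L) := zspanOn_zero _ _
  -- decomposition of the extension
  have hdec : ∀ α ∈ zspan (↑T : Set (L → ℂ)), ∃ β ∈ zspan (↑A : Set (L → ℂ)),
      ∃ γ ∈ zspanOn S ({1}ᶜ : Set L), α = β + γ ∧ τ₂ α = τ₁ β + τ γ := by
    intro α hα
    unfold zspan at hα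
    induction hα using Submodule.span_induction with
    | mem φ hφ =>
      have hφT : φ ∈ T := hφ
      have hφ' := hφT
      rw [hTdef, Finset.mem_union] at hφ'
      rcases hφ' with h | h
      · refine ⟨φ, hmemA φ h, 0, h0S, (add_zero φ).symm, ?_⟩
        rw [hτ₂mem φ hφT, hYA φ h, isom_zero hτ h0S, add_zero]
      · refine ⟨f φ • ζ₁, zspan_zsmul _ (hmemA ζ₁ hζ₁), φ - f φ • ζ₁, hγ φ h, by abel, ?_⟩
        rw [hτ₂mem φ hφT, hYB φ h, isom_zsmul hτ₁ (f φ) (hmemA ζ₁ hζ₁), hZc]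
        simp only
        abel
    | zero =>
      refine ⟨0, h0A, 0, h0S, (add_zero 0).symm, ?_⟩
      rw [hτ₂, oext_zero, isom_zero hτ₁ h0A, isom_zero hτ h0S, add_zero]
    | add a b _ _ iha ihb =>
      obtain ⟨β, hβ, γ, hγ', hab, hτa⟩ := iha
      obtain ⟨β', hβ', γ', hγ'', hab', hτb⟩ := ihb
      refine ⟨β + β', zspan_add hβ hβ', γ + γ', zspanOn_add hγ' hγ'', ?_, ?_⟩
      · rw [hab, hab']; abel
      · rw [hτ₂, oext_add, ← hτ₂, hτa, hτb, isom_add hτ₁ hβ hβ', isom_add hτ hγ' hγ'']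
        abel
    | smul k a _ iha =>
      obtain ⟨β, hβ, γ, hγ', hab, hτa⟩ := iha
      refine ⟨k • β, zspan_zsmul k hβ, k • γ, zspanOn_zsmul k hγ', ?_, ?_⟩
      · rw [hab, smul_add]
      · rw [hτ₂, oext_zsmul, ← hτ₂, hτa, isom_zsmul hτ₁ k hβ, isom_zsmul hτ k hγ', smul_add]
  refine ⟨τ₂, ?_, ?_, ?_⟩
  · rw [← hcoeT]
    refine ⟨fun a _ b _ => oext_add T Y a b, fun a _ k => oext_zsmul T Y k a,
      fun a ha b hb => oext_inner horthT h0T hgram ha hb, fun a ha => ?_⟩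
    obtain ⟨β, hβ, γ, hγ', -, hτa⟩ := hdec a ha
    rw [hτa]
    exact IF'.gen_add (isom_gen hτ₁ hβ) (isom_gen hτ hγ')
  · rw [← hcoeT]
    intro α hα
    obtain ⟨β, hβ, γ, hγ', hab, hτa⟩ := hdec α hα.1
    have hα1 : α 1 = 0 := hα.2 1 (by simp)
    have hγ1 : γ 1 = 0 := hγ'.2 1 (by simp)
    have hβ1 : β 1 = 0 := by
      have := congrFun hab 1
      rw [Pi.add_apply, hα1, hγ1, add_zero] at this
      exact this.symm
    have hβA : β ∈ zspanOn (↑A : Set (L → ℂ)) ({1}ᶜ : Set L) :=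
      mem_zspanOn_compl_one.mpr ⟨hβ, hβ1⟩
    have hβS : β ∈ zspanOn S ({1}ᶜ : Set L) := zspanOn_mono _ hA hβA
    rw [hτa, hτ₁τ β hβA, ← isom_add hτ hβS hγ', ← hab]
  · intro ζ hζ
    rw [hτ₂mem ζ (by rw [hTdef]; exact Finset.mem_union_left _ hζ), hYA ζ hζ]

end Generic

end Cfsg.Agent.Lib.Helper51.SibC
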