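/-
helper51: Peterfalvi (10.2)-type subcoherence of `calS M` (module PF10-[SUBCOH]): wrappers for
helper64's `Frame` and for helper24's `MCtx0` + `MFacts` / `MCtx` + `MFacts`.
-/
import Mathlib
import Cfsg.Agent.Lib.Helper51.PFTenSubcoh
import Cfsg.Agent.Lib.Helper64.PFElevenFrame
import Cfsg.Agent.Lib.Helper24.PFCycCtx0

set_option autoImplicit false
set_option linter.unusedVariables false
set_option linter.unusedSectionVars false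

namespace Cfsg.Agent.Lib.Helper51.PF10

open Cfsg Cfsg.Agent.Lib.Helper24.PFCyc Cfsg.Agent.Lib.Helper4.PF

universe u

variable {G : Type u} [Group G] [Fintype G] {M W₁ U W₂ : Subgroup G} [Fintype M]
  {mu : WChar W₁ W₂ → (↥M → ℂ)} {dl : WChar W₁ W₂ → ℂ} {η : WChar W₁ W₂ → (G → ℂ)}

theorem subHyp_of_frame {d : ℕ} {δ : ℂ} {n : ℤ}
    (F : Cfsg.Agent.Lib.Helper64.PF11.Frame M W₁ U W₂ mu dl η d δ n) :
    SubHyp M W₁ U W₂ mu dl η where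
  hP := F.hP
  hodd := F.hodd.of_dvd_nat (Subgroup.card_subgroup_dvd_card M)
  hD := F.hD
  md := F.md
  hη := F.hη
  hA := F.hA
  hA0 := F.hA0
  musub := by
    intro ψ ψ' hψ hψ' hψ1 hψ'1 hne
    rw [F.dl_psi ψ hψ hψ1]
    exact F.muSum_sub ψ ψ' hψ hψ' hψ1 hψ'1 hne

theorem subHyp_of_ctx0 {ζ : ↥M → ℂ} (h : MCtx0 M W₁ U W₂ mu dl η ζ)
    (hf : MFacts M W₁ W₂ mu dl η) : SubHyp M W₁ U W₂ mu dl η where
  hP := h.hP
  hodd := h.hodd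
  hD := h.hD
  md := h.md
  hη := h.hη
  hA := h.hA
  hA0 := hf.litA0
  musub := fun ψ ψ' hψ hψ' hψ1 hψ'1 hne => (hf.musub ψ ψ' hψ hψ' hψ1 hψ'1 hne).2

theorem subHyp_of_ctx {τ₁ : (↥M → ℂ) → (G → ℂ)} {ζ : ↥M → ℂ}
    (h : MCtx M W₁ U W₂ mu dl η τ₁ ζ) (hf : MFacts M W₁ W₂ mu dl η) :
    SubHyp M W₁ U W₂ mu dl η :=
  subHyp_of_ctx0 h.to0 hf

open Classical in
/-- (10.2) for helper64's `Frame` -/
theorem subcoherent_of_frame {d : ℕ} {δ : ℂ} {n : ℤ}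
    (F : Cfsg.Agent.Lib.Helper64.PF11.Frame M W₁ U W₂ mu dl η d δ n) :
    ∃ R : (↥M → ℂ) → Finset (G → ℂ),
      IsCoherenceSystem (Cfsg.Agent.Lib.Helper64.PF11.calS M)
        (Cfsg.Agent.Lib.Helper64.PF11.tauM M) R ∧
      (∀ ψ : WChar W₁ W₂, TrivOn W₁ ψ → ψ ≠ 1 →
        R (muSum mu ψ) = (trivSet W₁ W₂ W₂).image (fun φ => δ • η (φ * ψ)) ∪
          (trivSet W₁ W₂ W₂).image (fun φ => -(δ • η (φ * ψ⁻¹)))) ∧
      (∀ χ ∈ Cfsg.Agent.Lib.Helper64.PF11.calS M, IsIrrCharacter ↥M χ →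
        ∃ ν : G → ℂ, IsIrrCharacter G ν ∧ R χ = {ν, -conjFun ν} ∧
          Cfsg.Agent.Lib.Helper64.PF11.tauM M (χ - conjFun χ) = ν - conjFun ν ∧
          ∀ ω, classInner ν (η ω) = 0) := by
  obtain ⟨R, h1, h2, h3⟩ := subcoherent (subHyp_of_frame F)
  refine ⟨R, h1, ?_, h3⟩
  intro ψ hψ hψ1
  rw [h2 ψ hψ hψ1, F.dl_psi ψ hψ hψ1]

open Classical in
/-- (10.2) for helper24's `MCtx0` + `MFacts` -/
theorem subcoherent_of_ctx0 {ζ : ↥M → ℂ} (h : MCtx0 M W₁ U W₂ mu dl η ζ)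
    (hf : MFacts M W₁ W₂ mu dl η) :
    ∃ R : (↥M → ℂ) → Finset (G → ℂ), IsCoherenceSystem (calS M) (tauM M) R ∧
      (∀ ψ : WChar W₁ W₂, TrivOn W₁ ψ → ψ ≠ 1 →
        R (muSum mu ψ) = (trivSet W₁ W₂ W₂).image (fun φ => dl ψ • η (φ * ψ)) ∪
          (trivSet W₁ W₂ W₂).image (fun φ => -(dl ψ • η (φ * ψ⁻¹)))) ∧
      (∀ χ ∈ calS M, IsIrrCharacter ↥M χ → ∃ ν : G → ℂ, IsIrrCharacter G ν ∧
        R χ = {ν, -conjFun ν} ∧ tauM M (χ - conjFun χ) = ν - conjFun ν ∧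
        ∀ ω, classInner ν (η ω) = 0) :=
  subcoherent (subHyp_of_ctx0 h hf)

end Cfsg.Agent.Lib.Helper51.PF10
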