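/-
helper51: PF section 11 end game (helper64 #4162, sheet `Lib/Helper64/PF11_MODULES.md`),
module [TAU1-MU]: `tau1_muSum`.
-/
import Mathlib
import Cfsg.Agent.Lib.Helper64.PFElevenDefs
import Cfsg.Agent.Lib.Helper64.PFElevenAnchor
import Cfsg.Agent.Lib.Helper51.PFElevenDom
import Cfsg.Agent.Lib.Helper51.PFCycCalS
import Cfsg.Agent.Lib.Helper1.PFElevenGalB
import Cfsg.Agent.Lib.Helper25.PFCycEta
import Cfsg.Agent.Lib.Helper26.ZSpan
import Cfsg.Agent.Lib.Helper26.IrrFactsInst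

set_option autoImplicit false
set_option linter.unusedVariables false
set_option linter.unusedSectionVars false

namespace Cfsg.Agent.Lib.Helper51.PF11

open Cfsg Cfsg.Agent.Lib.Helper24.PFCyc Cfsg.Agent.Lib.Helper4.PF Cfsg.Agent.Lib.Helper64.PF11
open Cfsg.Agent.Lib.Helper51.PFCyc
open scoped ComplexConjugate

universe u

variable {G : Type u} [Group G] [Fintype G] {M W₁ U W₂ : Subgroup G} [Fintype M]
  {mu : WChar W₁ W₂ → (↥M → ℂ)} {dl : WChar W₁ W₂ → ℂ} {η : WChar W₁ W₂ → (G → ℂ)}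
  {d : ℕ} {δ : ℂ} {n : ℤ}

/-- `‖etaSum η ω‖² = q` and `⟨X, etaSum η ω⟩ = ∑_φ ⟨X, η (φ ω)⟩` -/
theorem etaSum_norm (F : Frame M W₁ U W₂ mu dl η d δ n) (ω : WChar W₁ W₂) :
    classInner (etaSum η ω) (etaSum η ω) = (Nat.card W₁ : ℂ) := by
  classical
  unfold etaSum
  rw [Cfsg.Agent.Lib.Helper26.classInner_sum_left]
  have h1 : ∀ φ ∈ trivSet W₁ W₂ W₂,
      classInner (η (φ * ω)) (∑ φ' ∈ trivSet W₁ W₂ W₂, η (φ' * ω)) = 1 := by
    intro φ hφ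
    rw [Cfsg.Agent.Lib.Helper26.classInner_sum_right, Finset.sum_eq_single φ]
    · rw [F.hη.orthonormal, if_pos rfl]
    · intro φ' _ hne
      rw [F.hη.orthonormal, if_neg]
      intro hc
      exact hne (mul_right_cancel hc).symm
    · intro hc
      exact absurd hφ hc
  rw [Finset.sum_congr rfl h1, Finset.sum_const, card_trivSet_W₂ F.hP.selfNormalizing]
  simp

/-- an integer is at most its square in absolute value -/
theorem abs_sum_le_sum_sq {ι : Type*} (s : Finset ι) (c : ι → ℤ) :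
    |∑ i ∈ s, (c i : ℝ)| ≤ ∑ i ∈ s, (c i : ℝ) ^ 2 := by
  refine (Finset.abs_sum_le_sum_abs _ _).trans (Finset.sum_le_sum ?_)
  intro i _
  have h : |c i| ≤ (c i) ^ 2 := by
    rcases abs_cases (c i) with ⟨h1, h2⟩ | ⟨h1, h2⟩ <;> rw [h1] <;> nlinarith
  have h2 : ((|c i| : ℤ) : ℝ) ≤ (((c i) ^ 2 : ℤ) : ℝ) := by exact_mod_cast h
  rw [Int.cast_abs, Int.cast_pow] at h2
  exact h2

/-- MODULE [TAU1-MU] -/
theorem tau1_muSum (F : Frame M W₁ U W₂ mu dl η d δ n) (hp5 : 5 ≤ Nat.card W₂)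
    (Z : Set (↥M → ℂ)) (hZ : Z ⊆ calS M)
    (hμZ : ∀ ψ : WChar W₁ W₂, TrivOn W₁ ψ → ψ ≠ 1 → muSum mu ψ ∈ Z)
    (τ₁ : (↥M → ℂ) → (G → ℂ)) (hτ₁ : IsLinearIsometryOn (zspan Z) τ₁)
    (hext : ∀ α ∈ zspanOn Z ({1}ᶜ : Set ↥M), τ₁ α = tauM M α)
    (ψ : WChar W₁ W₂) (hψ : TrivOn W₁ ψ) (hψ1 : ψ ≠ 1) :
    τ₁ (muSum mu ψ) = δ • etaSum η ψ := by
  classical
  have IF := Cfsg.Agent.Lib.Helper26.irrFacts G
  have hW := F.hP.selfNormalizing
  obtain ⟨-, -, -, -, -, -, hcI⟩ := calS0_inner F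
  have : Fintype (WChar W₁ W₂) := Fintype.ofFinite _
  -- the sign is real
  obtain ⟨δr, hδr, hδr2⟩ : ∃ δr : ℝ, δ = (δr : ℂ) ∧ δr ^ 2 = 1 := by
    rcases F.hδ with h | h
    · exact ⟨1, by rw [h]; simp, by norm_num⟩
    · exact ⟨-1, by rw [h]; simp, by norm_num⟩
  have hmemZ : ∀ ψ' : WChar W₁ W₂, TrivOn W₁ ψ' → ψ' ≠ 1 → muSum mu ψ' ∈ zspan Z :=
    fun ψ' h h1 => Cfsg.Agent.Lib.Helper26.subset_zspan _ (hμZ ψ' h h1)
  -- the common difference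
  set D : G → ℂ := τ₁ (muSum mu ψ) - δ • etaSum η ψ with hD
  have hT : ∀ ψ' : WChar W₁ W₂, TrivOn W₁ ψ' → ψ' ≠ 1 →
      τ₁ (muSum mu ψ') = D + δ • etaSum η ψ' := by
    intro ψ' hψ' hψ'1
    by_cases hne : ψ' = ψ
    · rw [hne, hD, sub_add_cancel]
    · have hmem : muSum mu ψ' - muSum mu ψ ∈ zspanOn Z ({1}ᶜ : Set ↥M) := by
        refine ⟨Cfsg.Agent.Lib.Helper26.zspan_sub (hmemZ ψ' hψ' hψ'1) (hmemZ ψ hψ hψ1), ?_⟩
        intro x hx
        have hx1 : x = 1 := by simpa using hx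
        rw [hx1]
        show muSum mu ψ' 1 - muSum mu ψ 1 = 0
        rw [(hcI ψ' hψ' hψ'1).2, (hcI ψ hψ hψ1).2, sub_self]
      have h1 := hext _ hmem
      rw [Cfsg.Agent.Lib.Helper26.isom_sub (Cfsg.Agent.Lib.Helper26.isZClosed_zspan Z) hτ₁
        (hmemZ ψ' hψ' hψ'1) (hmemZ ψ hψ hψ1), F.muSum_sub ψ' ψ hψ' hψ hψ'1 hψ1 hne] at h1
      have h2 : τ₁ (muSum mu ψ') =
          τ₁ (muSum mu ψ) + δ • (etaSum η ψ' - etaSum η ψ) := by
        rw [← h1]; abel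
      rw [h2, hD, smul_sub]
      abel
  -- generalized characters
  have hηgen : ∀ ω, IsGeneralizedCharacter G (η ω) := by
    intro ω
    rcases F.hη.irr_or_neg ω with h | h
    · exact Cfsg.Agent.Lib.Helper26.isGeneralizedCharacter_of_isCharacter
        (Cfsg.Agent.Lib.Helper78.IsIrrCharacter.isCharacter h)
    · have := Cfsg.Agent.Lib.Helper26.gen_neg
        (Cfsg.Agent.Lib.Helper26.isGeneralizedCharacter_of_isCharacter
          (Cfsg.Agent.Lib.Helper78.IsIrrCharacter.isCharacter h))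
      rwa [neg_neg] at this
  have hEgen : ∀ ω, IsGeneralizedCharacter G (etaSum η ω) := by
    intro ω
    unfold etaSum
    exact IF.gen_sum _ _ (fun φ _ => hηgen _)
  have hδE : ∀ ω, IsGeneralizedCharacter G (δ • etaSum η ω) := by
    intro ω
    rcases F.hδ with h | h
    · rw [h, one_smul]; exact hEgen ω
    · rw [h, neg_one_smul]; exact Cfsg.Agent.Lib.Helper26.gen_neg (hEgen ω)
  have hDgen : IsGeneralizedCharacter G D :=
    IF.gen_sub (Cfsg.Agent.Lib.Helper26.isom_gen hτ₁ (hmemZ ψ hψ hψ1)) (hδE ψ)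
  choose c hc using fun ω => Cfsg.Agent.Lib.Helper25.PFCyc.eta_inner_int η F.hη D hDgen ω
  -- the key relation
  set N : ℝ := (classInner D D).re with hN
  have hNN : classInner D D = (N : ℂ) := Cfsg.Agent.Lib.Helper52.BL.classInner_self_eq_re D
  have hkey : ∀ ψ' : WChar W₁ W₂, TrivOn W₁ ψ' → ψ' ≠ 1 →
      N = -2 * δr * ∑ φ ∈ trivSet W₁ W₂ W₂, (c (φ * ψ') : ℝ) := by
    intro ψ' hψ' hψ'1
    have h1 : classInner (τ₁ (muSum mu ψ')) (τ₁ (muSum mu ψ')) = (Nat.card W₁ : ℂ) := by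
      rw [Cfsg.Agent.Lib.Helper26.isom_inner hτ₁ (hmemZ ψ' hψ' hψ'1) (hmemZ ψ' hψ' hψ'1)]
      exact (hcI ψ' hψ' hψ'1).1
    have hDE : classInner D (etaSum η ψ') =
        ((∑ φ ∈ trivSet W₁ W₂ W₂, (c (φ * ψ') : ℝ) : ℝ) : ℂ) := by
      unfold etaSum
      rw [Cfsg.Agent.Lib.Helper26.classInner_sum_right, Complex.ofReal_sum]
      apply Finset.sum_congr rfl
      intro φ _
      rw [hc (φ * ψ')]
      simp
    have hED : classInner (etaSum η ψ') D =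
        ((∑ φ ∈ trivSet W₁ W₂ W₂, (c (φ * ψ') : ℝ) : ℝ) : ℂ) := by
      rw [← Cfsg.Agent.Lib.Helper26.classInner_conj_symm, hDE, Complex.conj_ofReal]
    rw [hT ψ' hψ' hψ'1, Cfsg.Agent.Lib.Helper26.classInner_add_left,
      Cfsg.Agent.Lib.Helper26.classInner_add_right, Cfsg.Agent.Lib.Helper26.classInner_add_right,
      Cfsg.Agent.Lib.Helper26.classInner_smul_left, Cfsg.Agent.Lib.Helper26.classInner_smul_left,
      Cfsg.Agent.Lib.Helper26.classInner_smul_right, Cfsg.Agent.Lib.Helper26.classInner_smul_right,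
      hDE, hED, etaSum_norm F ψ', hNN, hδr, Complex.conj_ofReal] at h1
    have h2 : ((N + δr * (∑ φ ∈ trivSet W₁ W₂ W₂, (c (φ * ψ') : ℝ)) +
        (δr * (∑ φ ∈ trivSet W₁ W₂ W₂, (c (φ * ψ') : ℝ)) +
          δr * (δr * (Nat.card W₁ : ℝ))) : ℝ) : ℂ) = ((Nat.card W₁ : ℝ) : ℂ) := by
      push_cast
      push_cast at h1
      exact h1
    have h3 := Complex.ofReal_injective h2
    have h4 : δr * (δr * (Nat.card W₁ : ℝ)) = (Nat.card W₁ : ℝ) := by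
      rw [← mul_assoc, ← sq, hδr2, one_mul]
    linarith
  -- Bessel
  have hB : ∑ ω : WChar W₁ W₂, ((c ω : ℝ)) ^ 2 ≤ N :=
    bessel_on D η (fun ω => by rw [F.hη.orthonormal, if_pos rfl])
      (fun ω ω' hne => by rw [F.hη.orthonormal, if_neg hne]) (fun ω => (c ω : ℝ))
      (fun ω => by rw [hc ω]; simp)
  set Ψ : Finset (WChar W₁ W₂) := (trivSet W₁ W₂ W₁).erase 1 with hΨ
  have hΨmem : ∀ ψ' ∈ Ψ, TrivOn W₁ ψ' ∧ ψ' ≠ 1 := by
    intro ψ' h
    rw [hΨ, Finset.mem_erase] at h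
    exact ⟨mem_trivSet.mp h.2, h.1⟩
  have hΨcard : 4 ≤ Ψ.card := by
    rw [hΨ, Finset.card_erase_of_mem (mem_trivSet.mpr (trivOn_one W₁)),
      Cfsg.Agent.Lib.Helper1.PF11GalB.card_trivSet_W₁ hW]
    omega
  have hinj : Set.InjOn (fun x : WChar W₁ W₂ × WChar W₁ W₂ => x.1 * x.2)
      ((trivSet W₁ W₂ W₂ ×ˢ Ψ : Finset _) : Set (WChar W₁ W₂ × WChar W₁ W₂)) := by
    rintro ⟨φ₁, ψ₁⟩ h₁ ⟨φ₂, ψ₂⟩ h₂ heq
    rw [Finset.mem_coe, Finset.mem_product] at h₁ h₂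
    simp only at heq h₁ h₂
    have hφ₁ := mem_trivSet.mp h₁.1
    have hφ₂ := mem_trivSet.mp h₂.1
    have hψ₁ := (hΨmem _ h₁.2).1
    have hψ₂ := (hΨmem _ h₂.2).1
    have hpt : ∀ w, φ₁ w * ψ₁ w = φ₂ w * ψ₂ w := by
      intro w
      have := DFunLike.congr_fun heq w
      rwa [MonoidHom.mul_apply, MonoidHom.mul_apply] at this
    have hρ : φ₁ * φ₂⁻¹ = 1 := by
      apply eq_one_of_trivOn hW ?_ (hφ₁.mul hφ₂.inv)
      intro w hw
      have h := hpt w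
      rw [hψ₁ w hw, hψ₂ w hw, mul_one, mul_one] at h
      rw [MonoidHom.mul_apply, MonoidHom.inv_apply, h, mul_inv_cancel]
    have hφ : φ₁ = φ₂ := by
      ext w
      have h := DFunLike.congr_fun hρ w
      rw [MonoidHom.mul_apply, MonoidHom.inv_apply, MonoidHom.one_apply, mul_inv_eq_one] at h
      rw [h]
    have hψe : ψ₁ = ψ₂ := by
      ext w
      have h := hpt w
      rw [hφ] at h
      rw [mul_left_cancel h]
    rw [hφ, hψe]
  have hsum : ∑ ψ' ∈ Ψ, ∑ φ ∈ trivSet W₁ W₂ W₂, ((c (φ * ψ') : ℝ)) ^ 2 ≤ N := by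
    rw [← Finset.sum_product_right (trivSet W₁ W₂ W₂) Ψ
      (fun x : WChar W₁ W₂ × WChar W₁ W₂ => ((c (x.1 * x.2) : ℝ)) ^ 2),
      ← Finset.sum_image (f := fun ω : WChar W₁ W₂ => ((c ω : ℝ)) ^ 2) hinj]
    refine le_trans ?_ hB
    apply Finset.sum_le_sum_of_subset_of_nonneg (Finset.subset_univ _)
    intro ω _ _
    positivity
  have hNnn : 0 ≤ N := Cfsg.Agent.Lib.Helper52.BL.classInner_self_re_nonneg D
  have hlow : ∀ ψ' ∈ Ψ, N / 2 ≤ ∑ φ ∈ trivSet W₁ W₂ W₂, ((c (φ * ψ') : ℝ)) ^ 2 := by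
    intro ψ' h
    obtain ⟨h1, h2⟩ := hΨmem ψ' h
    have hk := hkey ψ' h1 h2
    refine le_trans ?_ (abs_sum_le_sum_sq (trivSet W₁ W₂ W₂) (fun φ => c (φ * ψ')))
    have hδ' : δr = 1 ∨ δr = -1 := by
      have : (δr - 1) * (δr + 1) = 0 := by ring_nf; linarith
      rcases mul_eq_zero.mp this with h | h
      · left; linarith
      · right; linarith
    rcases hδ' with h | h
    · rw [h] at hk
      have : ∑ φ ∈ trivSet W₁ W₂ W₂, (c (φ * ψ') : ℝ) = -(N / 2) := by linarith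
      rw [this, abs_neg, abs_of_nonneg (by linarith)]
    · rw [h] at hk
      have : ∑ φ ∈ trivSet W₁ W₂ W₂, (c (φ * ψ') : ℝ) = N / 2 := by linarith
      rw [this, abs_of_nonneg (by linarith)]
  have hN0 : N ≤ 0 := by
    have h1 : ∑ _ψ' ∈ Ψ, N / 2 ≤ N := le_trans (Finset.sum_le_sum hlow) hsum
    rw [Finset.sum_const, nsmul_eq_mul] at h1
    have h2 : (4 : ℝ) ≤ (Ψ.card : ℝ) := by exact_mod_cast hΨcard
    nlinarith
  have hD0 : D = 0 := Cfsg.Agent.Lib.Helper52.BL.eq_zero_of_classInner_self_re_nonpos hN0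
  rw [hD] at hD0
  exact sub_eq_zero.mp hD0

end Cfsg.Agent.Lib.Helper51.PF11
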