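/-
helper51: helper64's (10.2) modules PF10-[CS-ORTH] and PF10-[CS] (#4460) in their exact shapes, as
corollaries of `Cfsg.Agent.Lib.Helper51.PF10.subcoherent` / `irr_member`.
-/
import Mathlib
import Cfsg.Agent.Lib.Helper51.PFTenSubcohW

set_option autoImplicit false
set_option linter.unusedVariables false
set_option linter.unusedSectionVars false

namespace Cfsg.Agent.Lib.Helper51.PF10

open Cfsg Cfsg.Agent.Lib.Helper24.PFCyc Cfsg.Agent.Lib.Helper4.PF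

universe u

variable {G : Type u} [Group G] [Fintype G] {M W₁ U W₂ : Subgroup G} [Fintype M]
  {mu : WChar W₁ W₂ → (↥M → ℂ)} {dl : WChar W₁ W₂ → ℂ} {η : WChar W₁ W₂ → (G → ℂ)} {ζ : ↥M → ℂ}

/-- MODULE PF10-[CS-ORTH] -/
theorem calS_irr_orth (h : MCtx0 M W₁ U W₂ mu dl η ζ) (hf : MFacts M W₁ W₂ mu dl η)
    (χ : ↥M → ℂ) (hχ : χ ∈ calS M) (hχi : IsIrrCharacter ↥M χ) (ω : WChar W₁ W₂) :
    classInner (tauM M (χ - conjFun χ)) (η ω) = 0 := by
  obtain ⟨ν, -, hτ, -, hη0⟩ := irr_member (subHyp_of_ctx0 h hf) hχ hχi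
  rw [hτ, Cfsg.Agent.Lib.Helper26.classInner_sub_left, (hη0 ω).1, (hη0 ω).2, sub_zero]

/-- MODULE PF10-[CS] (the hypothesis `horth` is not needed) -/
theorem exists_coherenceSystem_of (h : MCtx0 M W₁ U W₂ mu dl η ζ) (hf : MFacts M W₁ W₂ mu dl η)
    (horth : ∀ χ ∈ calS M, IsIrrCharacter ↥M χ → ∀ ω : WChar W₁ W₂,
      classInner (tauM M (χ - conjFun χ)) (η ω) = 0) :
    ∃ R : (↥M → ℂ) → Finset (G → ℂ), IsCoherenceSystem (calS M) (tauM M) R := by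
  obtain ⟨R, hR, -⟩ := subcoherent (subHyp_of_ctx0 h hf)
  exact ⟨R, hR⟩

/-- the one-line corollary -/
theorem exists_coherenceSystem (h : MCtx0 M W₁ U W₂ mu dl η ζ) (hf : MFacts M W₁ W₂ mu dl η) :
    ∃ R : (↥M → ℂ) → Finset (G → ℂ), IsCoherenceSystem (calS M) (tauM M) R := by
  obtain ⟨R, hR, -⟩ := subcoherent (subHyp_of_ctx0 h hf)
  exact ⟨R, hR⟩

end Cfsg.Agent.Lib.Helper51.PF10
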