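/-
helper51: project PGV (S3086, owner helper26), sub-project END2 (sheet
`notes/helper26_END2_SHEET.lean.txt`), modules **[REG-PT]** + **[REG-EV]**: EXACT sheet statements
`exists_pt`, `conj_smul_pt`, `conj_commute`, `ev_bijective` (namespace `Cfsg.Agent.Lib.Helper51.PGVReg`),
plus the induction principle `AA_induction` and auxiliary facts used by the later REG modules.
-/
import Mathlib
import Cfsg.Prelude.Def_Local
import Cfsg.Prelude.Def_Transfer
import Cfsg.Agent.Lib.Helper26.PGV.End2Defs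

set_option autoImplicit false
set_option linter.unusedSectionVars false

namespace Cfsg.Agent.Lib.Helper51.PGVReg

open Cfsg Cfsg.Agent.Lib.Helper26.PGV
open scoped commutatorElement

universe u

variable {H : Type*} {W : Type u} [Group H] [AddCommGroup W] [Module (ZMod 2) W]
variable (r : Representation (ZMod 2) H W) (K B : Subgroup H) (a : H)

theorem apply_inv_apply (g : H) (w : W) : r g⁻¹ (r g w) = w := by
  rw [← Module.End.mul_apply, ← map_mul, inv_mul_cancel, map_one, Module.End.one_apply]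

theorem apply_apply_inv (g : H) (w : W) : r g (r g⁻¹ w) = w := by
  rw [← Module.End.mul_apply, ← map_mul, mul_inv_cancel, map_one, Module.End.one_apply]

theorem mem_AA_of_mem {x : H} (hx : x ∈ K) : r x ∈ AA r K := Algebra.subset_adjoin ⟨x, hx, rfl⟩

/-- induction principle for `AA r K`: it is the additive span of `r K` -/
theorem AA_induction {P : Module.End (ZMod 2) W → Prop} (hgen : ∀ x ∈ K, P (r x)) (h0 : P 0)
    (hadd : ∀ ξ η, ξ ∈ AA r K → η ∈ AA r K → P ξ → P η → P (ξ + η))
    {ξ : Module.End (ZMod 2) W} (hξ : ξ ∈ AA r K) : P ξ := by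
  have hcl : ∀ f ∈ Submonoid.closure {f : Module.End (ZMod 2) W | ∃ x ∈ K, f = r x},
      ∃ x ∈ K, f = r x := by
    intro f hf
    induction hf using Submonoid.closure_induction with
    | mem f hf => exact hf
    | one => exact ⟨1, one_mem _, (map_one r).symm⟩
    | mul f g _ _ hf hg =>
      obtain ⟨x, hx, rfl⟩ := hf
      obtain ⟨y, hy, rfl⟩ := hg
      exact ⟨x * y, mul_mem hx hy, (map_mul r x y).symm⟩
  have hξ' : ξ ∈ Submodule.span (ZMod 2)
      (Submonoid.closure {f : Module.End (ZMod 2) W | ∃ x ∈ K, f = r x} : Set (Module.End (ZMod 2) W)) := by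
    rw [← Algebra.adjoin_eq_span]
    exact hξ
  have hsub : Submodule.span (ZMod 2)
      (Submonoid.closure {f : Module.End (ZMod 2) W | ∃ x ∈ K, f = r x} : Set (Module.End (ZMod 2) W))
      = Subalgebra.toSubmodule (AA r K) := (Algebra.adjoin_eq_span _ _).symm
  have key : ∀ ξ (hξ : ξ ∈ Submodule.span (ZMod 2)
      (Submonoid.closure {f : Module.End (ZMod 2) W | ∃ x ∈ K, f = r x} : Set (Module.End (ZMod 2) W))),
      P ξ := by
    intro ξ hξ
    induction hξ using Submodule.span_induction with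
    | mem f hf =>
      obtain ⟨x, hx, rfl⟩ := hcl f hf
      exact hgen x hx
    | zero => exact h0
    | add ξ η hξ hη ihξ ihη =>
      rw [hsub] at hξ hη
      exact hadd ξ η hξ hη ihξ ihη
    | smul c ξ _ ih =>
      have hc : c = 0 ∨ c = 1 := by revert c; decide
      rcases hc with rfl | rfl
      · rw [zero_smul]; exact h0
      · rw [one_smul]; exact ih
  exact key ξ hξ'

variable {r K B a}

theorem ra_ra (c : Cfg r K B a) (w : W) : r a (r a w) = w := by
  rw [← Module.End.mul_apply, ← map_mul, c.ha2, map_one, Module.End.one_apply]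

/-- `r a` fixes the base point -/
theorem Pt.a_fix (c : Cfg r K B a) {m : W} (hm : Pt r B a m) : r a m = m := by
  obtain ⟨w, rfl⟩ := hm.mem
  rw [map_sub, ra_ra c, ZModModule.sub_eq_add, ZModModule.sub_eq_add, add_comm]

/-- `r a * r x = r x' * r a` -/
theorem ra_mul (x : H) : r a * r x = r (a * x * a⁻¹) * r a := by
  rw [← map_mul, ← map_mul]; congr 1; group

theorem ra_apply (x : H) (w : W) : r a (r x w) = r (a * x * a⁻¹) (r a w) := by
  rw [← Module.End.mul_apply, ra_mul, Module.End.mul_apply]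

/-- a homomorphism from a perfect group with commuting values is trivial -/
theorem perfect_trivial {K' M : Type*} [Group K'] [Monoid M] (hK : Group.IsPerfect K') (f : K' →* M)
    (hf : ∀ x y : K', f x * f y = f y * f x) (x : K') : f x = 1 := by
  have h1 : commutator K' ≤ f.ker := by
    rw [commutator_eq_closure, Subgroup.closure_le]
    rintro _ ⟨u, w, rfl⟩
    show f ⁅u, w⁆ = 1
    rw [commutatorElement_def, map_mul, map_mul, map_mul, hf u w, mul_assoc (f w), ← map_mul,
      mul_inv_cancel, map_one, mul_one, ← map_mul, mul_inv_cancel, map_one]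
  have h2 : x ∈ commutator K' := by rw [hK.commutator_eq_top]; exact Subgroup.mem_top x
  exact h1 h2

/-- step (1): `r a ≠ 1` -/
theorem ra_ne_one (c : Cfg r K B a) : r a ≠ 1 := by
  intro ha1
  have hconj : ∀ x : H, r (a * x * a⁻¹) = r x := by
    intro x
    have : r a⁻¹ = 1 := by
      have := map_mul r a⁻¹ a
      rw [inv_mul_cancel, map_one, ha1, mul_one] at this
      exact this.symm
    rw [map_mul, map_mul, ha1, this, one_mul, mul_one]
  obtain ⟨x, hx, w, hw⟩ := c.hKnt
  apply hw
  have := perfect_trivial c.hKqs.1 (r.comp K.subtype) (fun u w => by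
    show r u.1 * r w.1 = r w.1 * r u.1
    have h1 := congrArg r (c.hcomm u.1 u.2 w.1 w.2)
    rwa [map_mul r u.1 (a * w.1 * a⁻¹), map_mul r (a * w.1 * a⁻¹) u.1, hconj] at h1) ⟨x, hx⟩
  have h2 : r x = 1 := this
  rw [h2, Module.End.one_apply]

-- MODULE PGV-[REG-PT]   step (1)
theorem exists_pt' [Finite H] [Finite W] (c : Cfg r K B a) : ∃ m : W, Pt r B a m := by
  classical
  let R : Submodule (ZMod 2) W := LinearMap.range (r a - 1)
  have hBR : ∀ b ∈ B, ∀ m ∈ R, r b m ∈ R := by
    rintro b hb _ ⟨w, rfl⟩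
    refine ⟨r b w, ?_⟩
    simp only [LinearMap.sub_apply, Module.End.one_apply, map_sub]
    rw [← Module.End.mul_apply, ← Module.End.mul_apply, ← map_mul, ← map_mul, c.hBa b hb]
  let act : MulAction B R :=
    { smul := fun b m => ⟨r b.1 m.1, hBR b.1 b.2 m.1 m.2⟩
      one_smul := fun m => Subtype.ext (by
        show r (1 : H) m.1 = m.1
        rw [map_one, Module.End.one_apply])
      mul_smul := fun b b' m => Subtype.ext (by
        show r (b.1 * b'.1) m.1 = r b.1 (r b'.1 m.1)
        rw [map_mul, Module.End.mul_apply]) }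
  have hsmul : ∀ (b : B) (m : R), ((b • m : R) : W) = r b.1 m.1 := fun _ _ => rfl
  have hBp : IsPGroup 2 B := by
    intro b
    refine ⟨1, ?_⟩
    apply Subtype.ext
    have := c.hB2 b.1 b.2
    simpa [pow_two] using this
  obtain ⟨r0, hr0⟩ : ∃ m : R, m ≠ 0 := by
    by_contra hcon
    push Not at hcon
    apply ra_ne_one c
    have hbot : LinearMap.range (r a - 1) = ⊥ := by
      rw [eq_bot_iff]
      intro w hw
      have := hcon ⟨w, hw⟩
      simpa using congrArg Subtype.val this
    rw [LinearMap.range_eq_bot] at hbot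
    exact sub_eq_zero.1 hbot
  have h2dvd : 2 ∣ Nat.card R := by
    have h1 : addOrderOf r0 = 2 := by
      apply addOrderOf_eq_prime
      · rw [two_nsmul]; exact ZModModule.add_self r0
      · exact hr0
    have h2 := addOrderOf_dvd_natCard r0
    rwa [h1] at h2
  have h0fix : (0 : R) ∈ MulAction.fixedPoints B R := by
    intro b
    apply Subtype.ext
    rw [hsmul]
    simp
  obtain ⟨m, hmfix, hm⟩ := hBp.exists_fixed_point_of_prime_dvd_card_of_fixed_point R h2dvd h0fix
  refine ⟨m.1, ?_, ?_, ?_⟩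
  · intro h0
    apply hm
    exact (Subtype.ext h0).symm
  · obtain ⟨w, hw⟩ := m.2
    refine ⟨w, ?_⟩
    rw [← hw]
    simp
  · intro b hb
    have := hmfix ⟨b, hb⟩
    have h1 := congrArg Subtype.val this
    rwa [hsmul] at h1

-- MODULE PGV-[REG-EV]   steps (2)-(4)
theorem conj_smul_pt' (c : Cfg r K B a) {m : W} (hm : Pt r B a m) {x : H} (hx : x ∈ K) :
    r (a * x * a⁻¹) m = r x⁻¹ m := by
  obtain ⟨w, rfl⟩ := hm.mem
  have h1 := c.hHD x hx w
  rw [map_mul, Module.End.mul_apply] at h1
  have h3 := congrArg (r x⁻¹) h1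
  rwa [apply_inv_apply] at h3

theorem conj_commute' (c : Cfg r K B a) {y : H} (hy : y ∈ K) {ξ : Module.End (ZMod 2) W}
    (hξ : ξ ∈ AA r K) : r (a * y * a⁻¹) * ξ = ξ * r (a * y * a⁻¹) := by
  refine AA_induction r K (P := fun ξ => r (a * y * a⁻¹) * ξ = ξ * r (a * y * a⁻¹)) ?_ ?_ ?_ hξ
  · intro x hx
    rw [← map_mul, ← map_mul, c.hcomm x hx y hy]
  · simp
  · intro ξ η _ _ h1 h2
    rw [mul_add, add_mul, h1, h2]

/-- `r b ξ r b⁻¹ ∈ AA` for `b ∈ B` -/
theorem conj_mem_AA (c : Cfg r K B a) {b : H} (hb : b ∈ B) {ξ : Module.End (ZMod 2) W}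
    (hξ : ξ ∈ AA r K) : r b * ξ * r b⁻¹ ∈ AA r K := by
  refine AA_induction r K (P := fun ξ => r b * ξ * r b⁻¹ ∈ AA r K) ?_ ?_ ?_ hξ
  · intro x hx
    rw [← map_mul, ← map_mul]
    exact mem_AA_of_mem r K (c.hBK b hb x hx)
  · simp
  · intro ξ η _ _ h1 h2
    rw [mul_add, add_mul]
    exact add_mem h1 h2

/-- `r x m = r (x⁻¹)' m` -/
theorem smul_pt_eq (c : Cfg r K B a) {m : W} (hm : Pt r B a m) {x : H} (hx : x ∈ K) :
    r x m = r (a * x⁻¹ * a⁻¹) m := by
  rw [conj_smul_pt' c hm (K.inv_mem hx), inv_inv]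

/-- the evaluation map `ξ ↦ ξ m` -/
def evL (m : W) : AA r K →ₗ[ZMod 2] W where
  toFun ξ := (ξ : Module.End (ZMod 2) W) m
  map_add' ξ η := by simp
  map_smul' c ξ := by simp

theorem evL_apply (m : W) (ξ : AA r K) : evL (r := r) (K := K) m ξ = (ξ : Module.End (ZMod 2) W) m := rfl

/-- step (3): `AA m = W` -/
theorem evL_range (c : Cfg r K B a) {m : W} (hm : Pt r B a m) :
    LinearMap.range (evL (r := r) (K := K) m) = ⊤ := by
  have h := c.hirr (LinearMap.range (evL (r := r) (K := K) m)) ?_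
  · rcases h with h | h
    · exfalso
      apply hm.ne
      have : m ∈ LinearMap.range (evL (r := r) (K := K) m) := ⟨1, by simp [evL_apply]⟩
      rw [h] at this
      simpa using this
    · exact h
  · rintro g hg _ ⟨ξ, rfl⟩
    rcases hg with hg | hg | rfl
    · exact ⟨⟨r g, mem_AA_of_mem r K hg⟩ * ξ, by simp [evL_apply]⟩
    · refine ⟨⟨r g * ξ.1 * r g⁻¹, conj_mem_AA c hg ξ.2⟩, ?_⟩
      have hgm : r g⁻¹ m = m := by
        have := congrArg (r g⁻¹) (hm.fixed g hg)
        rw [apply_inv_apply] at this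
        exact this.symm
      simp only [evL_apply, Module.End.mul_apply, hgm]
    · -- `a`
      have key : ∀ ξ : Module.End (ZMod 2) W, ξ ∈ AA r K →
          r g (ξ m) ∈ LinearMap.range (evL (r := r) (K := K) m) := by
        intro ξ hξ
        refine AA_induction r K
          (P := fun ξ => r g (ξ m) ∈ LinearMap.range (evL (r := r) (K := K) m)) ?_ ?_ ?_ hξ
        · intro x hx
          refine ⟨⟨r x⁻¹, mem_AA_of_mem r K (K.inv_mem hx)⟩, ?_⟩
          rw [evL_apply, ra_apply, Pt.a_fix c hm, conj_smul_pt' c hm hx]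
        · simp
        · intro ξ η _ _ h1 h2
          rw [LinearMap.add_apply, map_add]
          exact add_mem h1 h2
      exact key ξ.1 ξ.2

/-- step (4): `Ann(m) = 0` -/
theorem eq_zero_of_apply_pt (c : Cfg r K B a) {m : W} (hm : Pt r B a m)
    {ξ : Module.End (ZMod 2) W} (hξ : ξ ∈ AA r K) (h0 : ξ m = 0) : ξ = 0 := by
  apply LinearMap.ext
  intro w
  have hw : w ∈ LinearMap.range (evL (r := r) (K := K) m) := by
    rw [evL_range c hm]; trivial
  obtain ⟨η, rfl⟩ := hw
  rw [evL_apply, LinearMap.zero_apply]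
  refine AA_induction r K (P := fun η => ξ (η m) = 0) ?_ ?_ ?_ η.2
  · intro x hx
    rw [smul_pt_eq c hm hx, ← Module.End.mul_apply, ← conj_commute' c (K.inv_mem hx) hξ,
      Module.End.mul_apply, h0, map_zero]
  · simp
  · intro η η' _ _ h1 h2
    rw [LinearMap.add_apply, map_add, h1, h2, add_zero]

theorem ev_bijective' [Finite H] [Finite W] (c : Cfg r K B a) {m : W} (hm : Pt r B a m) :
    Function.Bijective (fun ξ : AA r K => (ξ : Module.End (ZMod 2) W) m) := by
  constructor
  · intro ξ η hξη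
    have h1 : ((ξ - η : AA r K) : Module.End (ZMod 2) W) m = 0 := by
      have : (ξ : Module.End (ZMod 2) W) m = (η : Module.End (ZMod 2) W) m := hξη
      simp [this]
    have h2 := eq_zero_of_apply_pt c hm (ξ - η).2 h1
    have h3 : ξ - η = 0 := Subtype.ext h2
    exact sub_eq_zero.1 h3
  · intro w
    have hw : w ∈ LinearMap.range (evL (r := r) (K := K) m) := by
      rw [evL_range c hm]; trivial
    obtain ⟨η, rfl⟩ := hw
    exact ⟨η, rfl⟩

/-! ## The exact sheet statements (explicit `r K B a`) -/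

section exact

variable (r K B a)

-- MODULE PGV-[REG-PT]   step (1)
theorem exists_pt [Finite H] [Finite W] (c : Cfg r K B a) : ∃ m : W, Pt r B a m :=
  exists_pt' c

-- MODULE PGV-[REG-EV]   steps (2)-(4)
theorem conj_smul_pt (c : Cfg r K B a) {m : W} (hm : Pt r B a m) {x : H} (hx : x ∈ K) :
    r (a * x * a⁻¹) m = r x⁻¹ m :=
  conj_smul_pt' c hm hx

theorem conj_commute (c : Cfg r K B a) {y : H} (hy : y ∈ K) {ξ : Module.End (ZMod 2) W} (hξ : ξ ∈ AA r K) :
    r (a * y * a⁻¹) * ξ = ξ * r (a * y * a⁻¹) :=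
  conj_commute' c hy hξ

theorem ev_bijective [Finite H] [Finite W] (c : Cfg r K B a) {m : W} (hm : Pt r B a m) :
    Function.Bijective (fun ξ : AA r K => (ξ : Module.End (ZMod 2) W) m) :=
  ev_bijective' c hm

end exact

end Cfsg.Agent.Lib.Helper51.PGVReg
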