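/-
helper51: S3282 (abstract Brauer-Suzuki-Wall), modules [F1a] / [F2a] of helper30's #3810,
carrier-free counting core: an irreducible character `Χ` with `Χ 1 = q = 2k+δ`, `Χ = δ` on a set `S`
of `q(k+δ)(k-1)` elements, integer valued on the rest `O` of `G ∖ 1`, `|G| = 2kq(k+δ)`:
then `Χ ∈ {0, -δ}` on `O`, `#{Χ = 0} = q² - 1`, `#{Χ = -δ} = δ q + |S|`.
-/
import Mathlib
import Cfsg.Agent.Lib.Helper78.CharOrtho
import Cfsg.Agent.Lib.Helper78.CharMore

set_option autoImplicit false

namespace Cfsg.Agent.Lib.Helper51.BSW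

open Cfsg
open scoped ComplexConjugate

/-- splitting a sum over `G = {1} ⊔ S ⊔ O` -/
theorem sum_split {G : Type*} [Group G] [Fintype G] [DecidableEq G] (S out : G → Prop)
    [DecidablePred S] [DecidablePred out]
    (hpart : ∀ x, x ≠ 1 → (S x ↔ ¬ out x)) (hout1 : ¬ out 1) (hS1 : ¬ S 1)
    {M : Type*} [AddCommMonoid M] (f : G → M) :
    ∑ x, f x = f 1 + ∑ x ∈ Finset.univ.filter S, f x + ∑ x ∈ Finset.univ.filter out, f x := by
  have h1 : f 1 = ∑ x, if x = 1 then f x else 0 := by
    rw [Finset.sum_ite_eq' Finset.univ (1 : G) f, if_pos (Finset.mem_univ _)]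
  rw [Finset.sum_filter, Finset.sum_filter, h1, ← Finset.sum_add_distrib,
    ← Finset.sum_add_distrib]
  apply Finset.sum_congr rfl
  intro x _
  by_cases hx : x = 1
  · subst hx
    rw [if_pos rfl, if_neg hS1, if_neg hout1, add_zero, add_zero]
  · by_cases ho : out x
    · have : ¬ S x := fun hs => ((hpart x hx).mp hs) ho
      rw [if_neg hx, if_neg this, if_pos ho, zero_add, zero_add]
    · have : S x := (hpart x hx).mpr ho
      rw [if_neg hx, if_pos this, if_neg ho, zero_add, add_zero]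

/-- **counting core** of [F1a] / [F2a] -/
theorem values_aux {G : Type*} [Group G] [Finite G] (k : ℕ) (hk : 4 ≤ k) (δ : ℤ)
    (hδ : δ = 1 ∨ δ = -1) (Χ : G → ℂ) (hirr : IsIrrCharacter G Χ) (S out : G → Prop)
    (hpart : ∀ x, x ≠ 1 → (S x ↔ ¬ out x)) (hout1 : ¬ out 1) (hS1 : ¬ S 1)
    (hdeg : Χ 1 = ((2 * (k : ℤ) + δ : ℤ) : ℂ))
    (hS : ∀ x, S x → Χ x = (δ : ℂ))
    (hcard : (Nat.card G : ℤ) = 2 * (k : ℤ) * (2 * (k : ℤ) + δ) * ((k : ℤ) + δ))
    (hScard : (Nat.card {x : G // S x} : ℤ) = (2 * (k : ℤ) + δ) * ((k : ℤ) + δ) * ((k : ℤ) - 1))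
    (hint : ∀ x, out x → ∃ z : ℤ, Χ x = z) :
    (∀ x, out x → Χ x = 0 ∨ Χ x = ((-δ : ℤ) : ℂ)) ∧
    (Nat.card {x : G // out x ∧ Χ x = 0} : ℤ) = (2 * (k : ℤ) + δ) ^ 2 - 1 ∧
    (Nat.card {x : G // out x ∧ Χ x = ((-δ : ℤ) : ℂ)} : ℤ) =
      δ * (2 * (k : ℤ) + δ) + (2 * (k : ℤ) + δ) * ((k : ℤ) + δ) * ((k : ℤ) - 1) := by
  classical
  have := Fintype.ofFinite G
  have hδ2 : δ * δ = 1 := by rcases hδ with h | h <;> rw [h] <;> norm_num
  -- the integer valued function
  let z : G → ℤ := fun x => if h : out x then (hint x h).choose else 0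
  have hz : ∀ x, out x → Χ x = (z x : ℂ) := by
    intro x hx
    show Χ x = ((if h : out x then (hint x h).choose else 0 : ℤ) : ℂ)
    rw [dif_pos hx]
    exact (hint x hx).choose_spec
  set q : ℤ := 2 * (k : ℤ) + δ with hq
  have hq1 : q ≠ 1 := by
    rcases hδ with h | h <;> rw [hq, h] <;> omega
  -- Χ ≠ 1
  have hne : Χ ≠ (fun _ : G => (1 : ℂ)) := by
    intro hc
    have h1 := congrFun hc 1
    rw [hdeg] at h1
    have : q = 1 := by exact_mod_cast h1
    exact hq1 this
  have hcardC : (Nat.card G : ℂ) ≠ 0 := by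
    have : Nat.card G ≠ 0 := Nat.card_pos.ne'
    exact_mod_cast this
  -- first sum
  have hsum1 : ∑ x : G, Χ x = 0 := by
    have h0 := Cfsg.Agent.Lib.Helper78.classInner_irr_ne hirr
      Cfsg.Agent.Lib.Helper78.isIrrCharacter_one hne
    unfold classInner at h0
    have h1 := (mul_eq_zero.mp h0).resolve_left (inv_ne_zero hcardC)
    refine Eq.trans ?_ h1
    apply Finset.sum_congr rfl
    intro x _
    rw [map_one, mul_one]
  have hsum2 : ∑ x : G, Χ x * conj (Χ x) = (Nat.card G : ℂ) := by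
    have h0 := Cfsg.Agent.Lib.Helper78.classInner_irr_self hirr
    unfold classInner at h0
    field_simp at h0
    exact h0
  -- split the sums
  rw [sum_split S out hpart hout1 hS1] at hsum1 hsum2
  have hT : ((Finset.univ.filter S).card : ℤ) = q * ((k : ℤ) + δ) * ((k : ℤ) - 1) := by
    rw [← hScard, Nat.card_eq_fintype_card, Fintype.card_subtype]
  have e1 : ∑ x ∈ Finset.univ.filter S, Χ x = (δ : ℂ) * ((Finset.univ.filter S).card : ℂ) := by
    rw [Finset.sum_congr rfl (fun x hx => hS x (Finset.mem_filter.mp hx).2), Finset.sum_const,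
      nsmul_eq_mul, mul_comm]
  have e2 : ∑ x ∈ Finset.univ.filter S, Χ x * conj (Χ x) =
      ((Finset.univ.filter S).card : ℂ) := by
    have hpt : ∀ x ∈ Finset.univ.filter S, Χ x * conj (Χ x) = (1 : ℂ) := by
      intro x hx
      rw [hS x (Finset.mem_filter.mp hx).2, map_intCast]
      have : ((δ * δ : ℤ) : ℂ) = 1 := by rw [hδ2]; simp
      push_cast at this
      exact this
    rw [Finset.sum_congr rfl hpt, Finset.sum_const, nsmul_eq_mul, mul_one]
  have e3 : ∑ x ∈ Finset.univ.filter out, Χ x =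
      ((∑ x ∈ Finset.univ.filter out, z x : ℤ) : ℂ) := by
    rw [Finset.sum_congr rfl (fun x hx => hz x (Finset.mem_filter.mp hx).2)]
    push_cast
    rfl
  have e4 : ∑ x ∈ Finset.univ.filter out, Χ x * conj (Χ x) =
      ((∑ x ∈ Finset.univ.filter out, z x * z x : ℤ) : ℂ) := by
    have hpt : ∀ x ∈ Finset.univ.filter out, Χ x * conj (Χ x) = ((z x * z x : ℤ) : ℂ) := by
      intro x hx
      rw [hz x (Finset.mem_filter.mp hx).2, map_intCast]
      push_cast
      rfl
    rw [Finset.sum_congr rfl hpt]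
    push_cast
    rfl
  rw [e1, e3, hdeg] at hsum1
  rw [e2, e4, hdeg, map_intCast] at hsum2
  set T : ℤ := ((Finset.univ.filter S).card : ℤ) with hTdef
  set A : ℤ := ∑ x ∈ Finset.univ.filter out, z x with hA
  set B : ℤ := ∑ x ∈ Finset.univ.filter out, z x * z x with hB
  have i1 : q + δ * T + A = 0 := by
    have : ((q + δ * T + A : ℤ) : ℂ) = 0 := by
      push_cast
      rw [hTdef]
      push_cast
      exact hsum1
    exact_mod_cast this
  have i2 : q * q + T + B = (Nat.card G : ℤ) := by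
    have : ((q * q + T + B : ℤ) : ℂ) = ((Nat.card G : ℤ) : ℂ) := by
      push_cast
      rw [hTdef]
      push_cast
      exact hsum2
    exact_mod_cast this
  rw [hcard] at i2
  -- ∑ (z² + δ z) = 0
  have i3 : ∑ x ∈ Finset.univ.filter out, (z x * z x + δ * z x) = 0 := by
    rw [Finset.sum_add_distrib, ← Finset.mul_sum, ← hA, ← hB]
    have hA' : A = -q - δ * T := by linarith
    have hB' : B = 2 * (k : ℤ) * q * ((k : ℤ) + δ) - q * q - T := by linarith
    rw [hA', hB', hT]
    rcases hδ with h | h <;> rw [hq, h] <;> ring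
  have hnn : ∀ x ∈ Finset.univ.filter out, 0 ≤ z x * z x + δ * z x := by
    intro x _
    rcases hδ with h | h <;> rw [h] <;> nlinarith [sq_nonneg (2 * z x + 1), sq_nonneg (2 * z x - 1),
      Int.emod_two_eq_zero_or_one (z x)]
  have i4 := (Finset.sum_eq_zero_iff_of_nonneg hnn).mp i3
  have hz01 : ∀ x, out x → z x = 0 ∨ z x = -δ := by
    intro x hx
    have h1 := i4 x (Finset.mem_filter.mpr ⟨Finset.mem_univ _, hx⟩)
    have h2 : z x * (z x + δ) = 0 := by linarith
    rcases mul_eq_zero.mp h2 with h | h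
    · left; exact h
    · right; linarith
  have part1 : ∀ x, out x → Χ x = 0 ∨ Χ x = ((-δ : ℤ) : ℂ) := by
    intro x hx
    rcases hz01 x hx with h | h
    · left; rw [hz x hx, h]; simp
    · right; rw [hz x hx, h]
  refine ⟨part1, ?_⟩
  -- the counts
  have hδ0 : δ ≠ 0 := by rcases hδ with h | h <;> rw [h] <;> norm_num
  have c1 : (Nat.card {x : G // out x ∧ Χ x = ((-δ : ℤ) : ℂ)} : ℤ) =
      ((Finset.univ.filter (fun x => out x ∧ z x = -δ)).card : ℤ) := by
    rw [Nat.card_eq_fintype_card, Fintype.card_subtype]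
    congr 2
    ext x
    simp only [Finset.mem_filter, Finset.mem_univ, true_and]
    constructor
    · rintro ⟨h1, h2⟩
      refine ⟨h1, ?_⟩
      rw [hz x h1] at h2
      exact_mod_cast h2
    · rintro ⟨h1, h2⟩
      refine ⟨h1, ?_⟩
      rw [hz x h1, h2]
  have c0 : (Nat.card {x : G // out x ∧ Χ x = 0} : ℤ) =
      ((Finset.univ.filter (fun x => out x ∧ z x = 0)).card : ℤ) := by
    rw [Nat.card_eq_fintype_card, Fintype.card_subtype]
    congr 2
    ext x
    simp only [Finset.mem_filter, Finset.mem_univ, true_and]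
    constructor
    · rintro ⟨h1, h2⟩
      refine ⟨h1, ?_⟩
      rw [hz x h1] at h2
      exact_mod_cast h2
    · rintro ⟨h1, h2⟩
      refine ⟨h1, ?_⟩
      rw [hz x h1, h2]; simp
  -- A = -δ * #{z = -δ}
  have c2 : A = -δ * ((Finset.univ.filter (fun x => out x ∧ z x = -δ)).card : ℤ) := by
    rw [hA, ← Finset.sum_filter_add_sum_filter_not (Finset.univ.filter out) (fun x => z x = -δ)]
    have h1 : ∑ x ∈ (Finset.univ.filter out).filter (fun x => z x = -δ), z x =
        -δ * ((Finset.univ.filter (fun x => out x ∧ z x = -δ)).card : ℤ) := by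
      rw [Finset.filter_filter, Finset.sum_congr rfl (fun x hx => (Finset.mem_filter.mp hx).2.2),
        Finset.sum_const, nsmul_eq_mul, mul_comm]
    have h2 : ∑ x ∈ (Finset.univ.filter out).filter (fun x => ¬ z x = -δ), z x = 0 := by
      apply Finset.sum_eq_zero
      intro x hx
      rw [Finset.mem_filter, Finset.mem_filter] at hx
      rcases hz01 x hx.1.2 with h | h
      · exact h
      · exact absurd h hx.2
    rw [h1, h2, add_zero]
  -- total count of out
  have c3 : ((Finset.univ.filter out).card : ℤ) =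
      ((Finset.univ.filter (fun x => out x ∧ z x = 0)).card : ℤ) +
      ((Finset.univ.filter (fun x => out x ∧ z x = -δ)).card : ℤ) := by
    rw [← Finset.card_filter_add_card_filter_not (s := Finset.univ.filter out)
      (fun x => z x = 0), Finset.filter_filter]
    push_cast
    congr 2
    apply congrArg
    ext x
    simp only [Finset.mem_filter, Finset.mem_univ, true_and]
    constructor
    · rintro ⟨h1, h2⟩
      rcases hz01 x h1 with h | h
      · exact absurd h h2
      · exact ⟨h1, h⟩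
    · rintro ⟨h1, h2⟩
      refine ⟨h1, ?_⟩
      rw [h2]
      intro hc
      exact hδ0 (neg_eq_zero.mp hc)
  have c4 : (1 : ℤ) + T + ((Finset.univ.filter out).card : ℤ) = (Nat.card G : ℤ) := by
    have h1 := sum_split S out hpart hout1 hS1 (fun _ : G => (1 : ℤ))
    simp only [Finset.sum_const, Finset.card_univ, nsmul_eq_mul, mul_one] at h1
    rw [Nat.card_eq_fintype_card, hTdef]
    exact_mod_cast h1.symm
  rw [hcard] at c4
  set N1 : ℤ := ((Finset.univ.filter (fun x => out x ∧ z x = -δ)).card : ℤ) with hN1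
  set N0 : ℤ := ((Finset.univ.filter (fun x => out x ∧ z x = 0)).card : ℤ) with hN0
  have hN1v : N1 = δ * q + T := by
    have h1 : δ * A = -(δ * δ) * N1 := by rw [c2]; ring
    rw [hδ2] at h1
    have h2 : δ * (q + δ * T + A) = 0 := by rw [i1, mul_zero]
    have h3 : δ * q + (δ * δ) * T + δ * A = 0 := by linarith
    rw [hδ2] at h3
    linarith
  refine ⟨?_, ?_⟩
  · rw [c0]
    have h1 : N0 = 2 * (k : ℤ) * q * ((k : ℤ) + δ) - 1 - T - N1 := by linarith
    rw [h1, hN1v, hT]
    rcases hδ with h | h <;> rw [hq, h] <;> ring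
  · rw [c1, hN1v, hT]

end Cfsg.Agent.Lib.Helper51.BSW
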