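/-
helper51: S3282 (abstract Brauer-Suzuki-Wall), modules [F1a] `pos_values` and [F2a] `neg_values`
of helper30's #3810 (exact statements).
-/
import Mathlib
import Cfsg.Agent.Lib.Helper30.BSW.Defs
import Cfsg.Agent.Lib.Helper78.CharOrtho
import Cfsg.Agent.Lib.Helper78.CharMore
import Cfsg.Agent.Lib.Helper79.Integrality
import Cfsg.Agent.Lib.Helper50.BSWCount
import Cfsg.Agent.Lib.Helper51.BSWValuesAux

set_option autoImplicit false

namespace Cfsg.Agent.Lib.Helper51.BSW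

open Cfsg Cfsg.Agent.Lib.Helper30.BSW

variable {G : Type*} [Group G] {t s : G} {K : Subgroup G}

/-- a rational algebraic integer is an integer -/
theorem int_of_rat_integral (c : ℂ) (hc : IsIntegral ℤ c) (r : ℚ) (hr : c = (r : ℂ)) :
    ∃ z : ℤ, c = z := by
  have h1 : (r : ℂ) = algebraMap ℚ ℂ r := by simp
  rw [hr, h1] at hc
  have h2 : IsIntegral ℤ r := (isIntegral_algebraMap_iff (algebraMap ℚ ℂ).injective).mp hc
  obtain ⟨z, hz⟩ := IsIntegrallyClosed.isIntegral_iff.mp h2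
  refine ⟨z, ?_⟩
  rw [hr, ← hz]
  simp

/-- common form of [F1a] and [F2a] -/
theorem values_of_partI [Finite G]
    (hB2 : Nat.card {x : G // x ≠ 1 ∧ ¬ IsOuter K x} * (2 * Nat.card K) =
      Nat.card G * (Nat.card K - 1))
    (hk : 4 ≤ Nat.card K) {δ : ℤ} {Χ : G → ℂ} (p : PartI K δ Χ) :
    (∀ x, IsOuter K x → Χ x = 0 ∨ Χ x = ((-δ : ℤ) : ℂ)) ∧
    (Nat.card {x : G // IsOuter K x ∧ Χ x = 0} : ℤ) = (2 * (Nat.card K : ℤ) + δ) ^ 2 - 1 ∧
    (Nat.card {x : G // IsOuter K x ∧ Χ x = ((-δ : ℤ) : ℂ)} : ℤ) =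
      δ * (2 * (Nat.card K : ℤ) + δ) +
        (2 * (Nat.card K : ℤ) + δ) * ((Nat.card K : ℤ) + δ) * ((Nat.card K : ℤ) - 1) := by
  classical
  have hcf : IsClassFunction G Χ :=
    Cfsg.Agent.Lib.Helper78.IsCharacter.isClassFunction
      (Cfsg.Agent.Lib.Helper78.IsIrrCharacter.isCharacter p.hirr)
  set k : ℕ := Nat.card K with hkdef
  have hkZ : (4 : ℤ) ≤ (k : ℤ) := by exact_mod_cast hk
  apply values_aux k hk δ p.hδ Χ p.hirr (fun x => x ≠ 1 ∧ ¬ IsOuter K x) (IsOuter K)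
  · intro x hx
    exact ⟨fun h => h.2, fun h => ⟨hx, h⟩⟩
  · intro h1
    have := h1 1
    rw [mul_one, mul_inv_cancel] at this
    exact this K.one_mem
  · intro h1
    exact h1.1 rfl
  · exact p.hdeg
  · rintro x ⟨hx1, hxo⟩
    unfold IsOuter at hxo
    push Not at hxo
    obtain ⟨g, hg⟩ := hxo
    rw [← hcf x g]
    apply p.hval _ hg
    intro hc
    apply hx1
    have : x = g⁻¹ * (g * x * g⁻¹) * g := by group
    rw [this, hc]
    group
  · exact p.hcard
  · -- |S|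
    have h1 : ((Nat.card {x : G // x ≠ 1 ∧ ¬ IsOuter K x} * (2 * k) : ℕ) : ℤ) =
        ((Nat.card G * (k - 1) : ℕ) : ℤ) := by rw [hB2]
    have hk1 : 1 ≤ k := by omega
    push_cast [Nat.cast_sub hk1] at h1
    rw [p.hcard] at h1
    have h2 : (2 * (k : ℤ)) ≠ 0 := by omega
    apply mul_right_cancel₀ h2
    rw [h1]
    ring
  · -- integrality
    intro x hx
    obtain ⟨n, ρ, hρirr, hρ⟩ := p.hirr
    have hI : IsIntegral ℤ (Χ x) := by
      rw [← hρ]
      exact Cfsg.Agent.Lib.Helper79.char_isIntegral ρ x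
    have ho := p.hout x hx
    rcases p.hδ with hδ | hδ
    · rw [if_pos hδ] at ho
      apply int_of_rat_integral _ hI (((rinv x : ℚ) - (2 * (k : ℚ) + 1)) / (k : ℚ))
      have hkC : (k : ℂ) ≠ 0 := by
        have : k ≠ 0 := by omega
        exact_mod_cast this
      push_cast at ho ⊢
      field_simp
      linear_combination (-1 : ℂ) * ho
    · have hne : ¬ δ = 1 := by rw [hδ]; norm_num
      rw [if_neg hne] at ho
      apply int_of_rat_integral _ hI ((rinv x : ℚ) / ((k : ℚ) - 1))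
      have hkC : (k : ℂ) - 1 ≠ 0 := by
        intro hc
        have h1 : (k : ℂ) = 1 := by linear_combination hc
        have h2 : k = 1 := by exact_mod_cast h1
        omega
      push_cast
      field_simp
      linear_combination (-1 : ℂ) * ho

/-- **[F1a]** -/
theorem pos_values [Finite G] (h : Hyp t s K) (b : Basic t s K) (hk : 4 ≤ Nat.card K)
    {Χ : G → ℂ} (p : PartI K 1 Χ) :
    (∀ x : G, IsOuter K x → Χ x = 0 ∨ Χ x = -1) ∧
    Nat.card {x : G // IsOuter K x ∧ Χ x = 0} = (2 * Nat.card K + 1) ^ 2 - 1 := by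
  obtain ⟨h1, h2, -⟩ := values_of_partI (Cfsg.Agent.Lib.Helper50.BSW.card_conj_into h b) hk p
  refine ⟨?_, ?_⟩
  · intro x hx
    rcases h1 x hx with h | h
    · left; exact h
    · right; rw [h]; simp
  · have h3 : 1 ≤ (2 * Nat.card K + 1) ^ 2 := Nat.one_le_pow _ _ (by omega)
    have : ((Nat.card {x : G // IsOuter K x ∧ Χ x = 0} : ℕ) : ℤ) =
        (((2 * Nat.card K + 1) ^ 2 - 1 : ℕ) : ℤ) := by
      rw [h2]
      push_cast [Nat.cast_sub h3]
      ring
    exact_mod_cast this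

/-- **[F2a]** -/
theorem neg_values [Finite G] (h : Hyp t s K) (b : Basic t s K) (hk : 4 ≤ Nat.card K)
    {Χ : G → ℂ} (p : PartI K (-1) Χ) :
    (∀ x : G, IsOuter K x → Χ x = 0 ∨ Χ x = 1) ∧
    Nat.card {x : G // IsOuter K x ∧ Χ x = 0} = (2 * Nat.card K - 1) ^ 2 - 1 ∧
    Nat.card {x : G // IsOuter K x ∧ Χ x = 1} =
      (2 * Nat.card K - 1) * Nat.card K * (Nat.card K - 2) := by
  obtain ⟨h1, h2, h3⟩ := values_of_partI (Cfsg.Agent.Lib.Helper50.BSW.card_conj_into h b) hk p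
  have e1 : (((- (-1 : ℤ)) : ℤ) : ℂ) = 1 := by norm_num
  rw [e1] at h1 h3
  refine ⟨h1, ?_, ?_⟩
  · have h4 : 1 ≤ 2 * Nat.card K := by omega
    have h5 : 1 ≤ (2 * Nat.card K - 1) ^ 2 := Nat.one_le_pow _ _ (by omega)
    have : ((Nat.card {x : G // IsOuter K x ∧ Χ x = 0} : ℕ) : ℤ) =
        (((2 * Nat.card K - 1) ^ 2 - 1 : ℕ) : ℤ) := by
      rw [h2]
      push_cast [Nat.cast_sub h5, Nat.cast_sub h4]
      ring
    exact_mod_cast this
  · have h4 : 1 ≤ 2 * Nat.card K := by omega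
    have h5 : 2 ≤ Nat.card K := by omega
    have : ((Nat.card {x : G // IsOuter K x ∧ Χ x = 1} : ℕ) : ℤ) =
        (((2 * Nat.card K - 1) * Nat.card K * (Nat.card K - 2) : ℕ) : ℤ) := by
      rw [h3]
      push_cast [Nat.cast_sub h5, Nat.cast_sub h4]
      ring
    exact_mod_cast this

end Cfsg.Agent.Lib.Helper51.BSW
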