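/-
helper51: module S1936-[END] of helper22's sheet `notes/helper22_S1936_sheet.md` (section F, the
endgame F1-F6), in `_of` form: all inputs from the other modules ([TSTR] C1/C4, [ZJ] E5, [DICH]
D1/D2 for the SE-datum `(T, N(T))`) are explicit hypotheses; the conclusion is `False`.
Mathlib only.
-/
import Mathlib

set_option autoImplicit false
set_option linter.unusedSectionVars false
set_option linter.style.haveILetI false

namespace Cfsg.Agent.Lib.Helper51.S1936End

open Subgroup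
open scoped Pointwise

variable {G : Type*} [Group G]

/-! ### general lemmas -/

theorem mem_smul_sylow_iff {p : ℕ} (P : Sylow p G) (g x : G) :
    x ∈ g • P ↔ g⁻¹ * x * g ∈ P := by
  show x ∈ (MulAut.conj g • (P : Subgroup G)) ↔ g⁻¹ * x * g ∈ (P : Subgroup G)
  rw [Subgroup.mem_pointwise_smul_iff_inv_smul_mem]
  simp [MulAut.smul_def]

theorem smul_eq_iff {p : ℕ} {P : Sylow p G} {g : G} :
    g • P = P ↔ g ∈ normalizer ((P : Subgroup G) : Set G) :=
  Sylow.smul_eq_iff_mem_normalizer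

theorem conj_mem_smul_sylow {p : ℕ} (P : Sylow p G) (g : G) {x : G} (hx : x ∈ P) :
    g * x * g⁻¹ ∈ g • P := by
  rw [mem_smul_sylow_iff]
  have : g⁻¹ * (g * x * g⁻¹) * g = x := by group
  rw [this]; exact hx

/-- An involution normalizing a finite subgroup `K` and commuting with no nonidentity element of
`K` inverts `K`. -/
theorem inverts_of_fpf [Finite G] {u : G} (huu : u * u = 1) (K : Subgroup G)
    (hnorm : ∀ k ∈ K, u * k * u⁻¹ ∈ K) (hfpf : ∀ k ∈ K, u * k = k * u → k = 1) :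
    ∀ k ∈ K, u * k * u⁻¹ = k⁻¹ := by
  let φ : ↥K →* ↥K :=
    { toFun := fun k => ⟨u * k.1 * u⁻¹, hnorm k.1 k.2⟩
      map_one' := by
        apply Subtype.ext
        show u * (1 : G) * u⁻¹ = 1
        group
      map_mul' := by
        intro a b
        apply Subtype.ext
        show u * ((a : G) * (b : G)) * u⁻¹ = u * (a : G) * u⁻¹ * (u * (b : G) * u⁻¹)
        group }
  have hφ : MonoidHom.FixedPointFree φ := by
    intro k hk
    have hk' : u * (k : G) * u⁻¹ = (k : G) := congrArg Subtype.val hk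
    have h1 : (k : G) = 1 := by
      apply hfpf k.1 k.2
      calc u * (k : G) = u * (k : G) * u⁻¹ * u := by group
        _ = (k : G) * u := by rw [hk']
    exact Subtype.ext h1
  have h2 : Function.Involutive φ := by
    intro k
    apply Subtype.ext
    show u * (u * (k : G) * u⁻¹) * u⁻¹ = (k : G)
    calc u * (u * (k : G) * u⁻¹) * u⁻¹ = (u * u) * (k : G) * (u * u)⁻¹ := by group
      _ = (k : G) := by rw [huu]; group
  have key := MonoidHom.FixedPointFree.coe_eq_inv_of_involutive hφ h2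
  intro k hk
  have := congrFun key ⟨k, hk⟩
  exact congrArg Subtype.val this

/-- A subgroup inverted elementwise by an element is commutative. -/
theorem commute_of_inverts {u : G} {D : Subgroup G} (hinv : ∀ d ∈ D, u * d * u⁻¹ = d⁻¹)
    {a b : G} (ha : a ∈ D) (hb : b ∈ D) : a * b = b * a := by
  have h1 : u * (a * b) * u⁻¹ = (a * b)⁻¹ := hinv _ (D.mul_mem ha hb)
  have h2 : u * (a * b) * u⁻¹ = a⁻¹ * b⁻¹ := by
    calc u * (a * b) * u⁻¹ = (u * a * u⁻¹) * (u * b * u⁻¹) := by group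
      _ = a⁻¹ * b⁻¹ := by rw [hinv a ha, hinv b hb]
  have h3 : (a * b)⁻¹ = a⁻¹ * b⁻¹ := by rw [← h1, h2]
  have h4 : a * b = (a⁻¹ * b⁻¹)⁻¹ := by rw [← h3, inv_inv]
  rw [h4]
  group

/-- A `p`-element normalizing a Sylow `p`-subgroup lies in it. -/
theorem mem_sylow_of_mem_normalizer {p : ℕ} [Fact p.Prime] (P : Sylow p G) {x : G}
    (hx : x ∈ normalizer ((P : Subgroup G) : Set G)) (hxp : IsPGroup p (zpowers x)) :
    x ∈ (P : Subgroup G) := by
  have h := hxp.inf_normalizer_sylow P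
  have h1 : x ∈ zpowers x ⊓ normalizer (P : Set G) := ⟨mem_zpowers x, hx⟩
  rw [h] at h1
  exact h1.2

/-- an element with `orderOf x = p ^ k` generates a `p`-group -/
theorem isPGroup_zpowers_of_orderOf {p : ℕ} {x : G} {k : ℕ} (h : orderOf x = p ^ k) :
    IsPGroup p (zpowers x) :=
  IsPGroup.of_card (n := k) (by rw [Nat.card_zpowers, h])

/-- For a finite subgroup, one inclusion suffices for membership in the normalizer. -/
theorem mem_normalizer_of_conj_le [Finite G] (H : Subgroup G) {g : G}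
    (h : ∀ x ∈ H, g * x * g⁻¹ ∈ H) : g ∈ normalizer (H : Set G) := by
  rw [mem_normalizer_iff]
  intro x
  refine ⟨h x, fun hx => ?_⟩
  -- conjugation by g is an injective self-map of the finite set H, hence surjective
  let f : ↥H → ↥H := fun y => ⟨g * y.1 * g⁻¹, h y.1 y.2⟩
  have hf : Function.Injective f := by
    intro y z hyz
    have h1 : g * y.1 * g⁻¹ = g * z.1 * g⁻¹ := congrArg Subtype.val hyz
    apply Subtype.ext
    have h2 : g * y.1 = g * z.1 := mul_right_cancel h1
    exact mul_left_cancel h2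
  obtain ⟨y, hy⟩ := (Finite.injective_iff_surjective.mp hf) ⟨g * x * g⁻¹, hx⟩
  have h1 : g * y.1 * g⁻¹ = g * x * g⁻¹ := congrArg Subtype.val hy
  have h2 : y.1 = x := mul_left_cancel (mul_right_cancel h1)
  rw [← h2]; exact y.2

/-- If `4 ∤ |L|`, any two involutions of `L` are conjugate in `L`. -/
theorem exists_conj_of_not_four_dvd [Finite G] (L : Subgroup G) (h4 : ¬ 4 ∣ Nat.card L)
    {a b : G} (ha : a ∈ L) (hb : b ∈ L) (hoa : orderOf a = 2) (hob : orderOf b = 2) :
    ∃ h ∈ L, h * a * h⁻¹ = b := by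
  have : Fact (Nat.Prime 2) := ⟨Nat.prime_two⟩
  -- a Sylow 2-subgroup of L containing a given involution is {1, that involution}
  have key : ∀ c : ↥L, orderOf c = 2 → ∃ S : Sylow 2 ↥L, c ∈ S ∧ ∀ x ∈ S, x = 1 ∨ x = c := by
    intro c hc
    have hpg : IsPGroup 2 (zpowers c) := isPGroup_zpowers_of_orderOf (k := 1) (by simpa using hc)
    obtain ⟨S, hS⟩ := hpg.exists_le_sylow
    have hcS : c ∈ S := hS (mem_zpowers c)
    refine ⟨S, hcS, ?_⟩
    have hcard : Nat.card (S : Subgroup ↥L) = 2 := by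
      have h1 := S.card_eq_multiplicity
      set n := (Nat.card ↥L).factorization 2 with hn
      have h2 : Nat.card (S : Subgroup ↥L) ∣ Nat.card ↥L := card_subgroup_dvd_card _
      have h3 : n ≤ 1 := by
        by_contra hcon
        push Not at hcon
        apply h4
        calc 4 = 2 ^ 2 := by norm_num
          _ ∣ 2 ^ n := pow_dvd_pow 2 hcon
          _ ∣ Nat.card ↥L := by rw [← h1]; exact h2
      have h5 : 2 ∣ Nat.card (S : Subgroup ↥L) := by
        have h6 : orderOf (⟨c, hcS⟩ : ↥(S : Subgroup ↥L)) = 2 :=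
          (Subgroup.orderOf_mk c hcS).trans hc
        have h7 := orderOf_dvd_natCard (⟨c, hcS⟩ : ↥(S : Subgroup ↥L))
        rwa [h6] at h7
      interval_cases n
      · rw [h1] at h5; norm_num at h5
      · rw [h1]; norm_num
    have heq : zpowers c = (S : Subgroup ↥L) := by
      apply Subgroup.eq_of_le_of_card_ge hS
      rw [Nat.card_zpowers, hc, hcard]
    intro x hx
    have hx' : x ∈ zpowers c := by rw [heq]; exact hx
    obtain ⟨k, rfl⟩ := mem_zpowers_iff.mp hx'
    have hc2 : c ^ (2 : ℤ) = 1 := by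
      have := pow_orderOf_eq_one c
      rw [hc] at this
      exact_mod_cast this
    rcases Int.emod_two_eq_zero_or_one k with hk | hk
    · left
      have : k = 2 * (k / 2) := by omega
      rw [this, zpow_mul, hc2, one_zpow]
    · right
      have : k = 2 * (k / 2) + 1 := by omega
      rw [this, zpow_add, zpow_mul, hc2, one_zpow, one_mul, zpow_one]
  have hoa' : orderOf (⟨a, ha⟩ : ↥L) = 2 := by rw [← hoa]; exact Subgroup.orderOf_mk a ha
  have hob' : orderOf (⟨b, hb⟩ : ↥L) = 2 := by rw [← hob]; exact Subgroup.orderOf_mk b hb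
  obtain ⟨S, haS, -⟩ := key ⟨a, ha⟩ hoa'
  obtain ⟨S', -, hS'⟩ := key ⟨b, hb⟩ hob'
  obtain ⟨h, hh⟩ := MulAction.exists_smul_eq ↥L S S'
  have hmem : h * ⟨a, ha⟩ * h⁻¹ ∈ S' := by
    rw [← hh]
    exact conj_mem_smul_sylow S h haS
  rcases hS' _ hmem with h1 | h1
  · exfalso
    have : (⟨a, ha⟩ : ↥L) = 1 := by
      have h2 : (⟨a, ha⟩ : ↥L) = h⁻¹ * (h * ⟨a, ha⟩ * h⁻¹) * h := by group
      rw [h2, h1]; group
    rw [this, orderOf_one] at hoa'
    norm_num at hoa'
  · refine ⟨h.1, h.2, ?_⟩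
    exact congrArg Subtype.val h1

/-- the number of conjugates of `a` is the index of its centralizer -/
theorem ncard_conjugates (a : G) :
    {x : G | ∃ g : G, g * a * g⁻¹ = x}.ncard = (centralizer {a}).index := by
  have h1 : {x : G | ∃ g : G, g * a * g⁻¹ = x} = MulAction.orbit (ConjAct G) a := by
    ext x
    constructor
    · rintro ⟨g, rfl⟩
      exact ⟨ConjAct.toConjAct g, by simp [ConjAct.smul_def]⟩
    · rintro ⟨g, rfl⟩
      exact ⟨ConjAct.ofConjAct g, by simp [ConjAct.smul_def]⟩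
  rw [h1, ← MulAction.index_stabilizer, Subgroup.centralizer_eq_comap_stabilizer]
  exact (Subgroup.index_comap_of_surjective _ (ConjAct.toConjAct (G := G)).surjective).symm

theorem orderOf_conj_eq (g a : G) : orderOf (g * a * g⁻¹) = orderOf a := by
  have := orderOf_injective (MulAut.conj g).toMonoidHom (MulAut.conj g).injective a
  simpa using this

/-- an element of `N(T)` of order dividing 2 lies in the Sylow 2-subgroup `T` -/
theorem mem_sylow_two_of_sq (T : Sylow 2 G) {t : G}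
    (ht : t ∈ normalizer ((T : Subgroup G) : Set G)) (htt : t * t = 1) : t ∈ T := by
  have : Fact (Nat.Prime 2) := ⟨Nat.prime_two⟩
  apply mem_sylow_of_mem_normalizer T ht
  have h1 : orderOf t ∣ 2 := orderOf_dvd_of_pow_eq_one (by rw [pow_two]; exact htt)
  rcases (Nat.dvd_prime Nat.prime_two).mp h1 with h | h
  · exact isPGroup_zpowers_of_orderOf (k := 0) (by simpa using h)
  · exact isPGroup_zpowers_of_orderOf (k := 1) (by simpa using h)

/-! ### the hypotheses of section F -/

/-- `N(T)` -/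
abbrev NT (T : Sylow 2 G) : Subgroup G := normalizer ((T : Subgroup G) : Set G)

/-- `C(T)` -/
abbrev CT (T : Sylow 2 G) : Subgroup G := centralizer ((T : Subgroup G) : Set G)

/-- The hypotheses of section F of the sheet: `G` simple, not solvable, `p` odd, `T` an elementary
abelian Sylow 2-subgroup of order `p + 1`, `C(a) = C(T)` for `a ∈ T#`, `|N(T) : C(T)| = p`, `N(T)`
transitive on `T#`, and D1, D2 (i)-(iii) for the SE-datum `(T, N(T))`. -/
structure EndHyp (p : ℕ) [Fact p.Prime] (T : Sylow 2 G) : Prop where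
  hsimple : IsSimpleGroup G
  hns : ¬ Group.IsSolvable G
  hp2 : p ≠ 2
  hTexp : ∀ t ∈ T, t ^ 2 = 1
  hTcard : Nat.card (T : Subgroup G) = p + 1
  hCa : ∀ a ∈ T, a ≠ 1 → centralizer {a} = CT T
  hidx : (CT T).relIndex (NT T) = p
  htr : ∀ a ∈ T, ∀ b ∈ T, a ≠ 1 → b ≠ 1 → ∃ n ∈ NT T, n * a * n⁻¹ = b
  hD1 : ∀ L : Subgroup G, L ≠ ⊤ → (T : Subgroup G) ≤ L → L ≤ NT T
  hD2i : ∀ a ∈ T, a ≠ 1 → ∀ u : G, orderOf u = 2 → u ∉ NT T →
    ∀ L : Subgroup G, L ≠ ⊤ → a ∈ L → u ∈ L → ¬ 4 ∣ Nat.card L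
  hD2ii : ∀ a ∈ T, a ≠ 1 → ∀ u : G, orderOf u = 2 → u ∉ NT T → ∃ k : ℕ, orderOf (a * u) = p ^ k
  hD2iii : ∀ a ∈ T, a ≠ 1 → ∀ u : G, orderOf u = 2 → u ∉ NT T →
    ∃ P : Sylow p G, a ∈ normalizer ((P : Subgroup G) : Set G) ∧
      u ∈ normalizer ((P : Subgroup G) : Set G)

namespace EndHyp

variable [Finite G] {p : ℕ} [Fact p.Prime] {T : Sylow 2 G} (H : EndHyp p T)
include H

theorem sq_one {a : G} (ha : a ∈ T) : a * a = 1 := by
  have := H.hTexp a ha
  rwa [pow_two] at this

theorem inv_eq {a : G} (ha : a ∈ T) : a⁻¹ = a :=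
  inv_eq_of_mul_eq_one_right (H.sq_one ha)

theorem comm {s t : G} (hs : s ∈ T) (ht : t ∈ T) : s * t = t * s := by
  have h1 : (s * t) * (s * t) = 1 := H.sq_one (T.mul_mem hs ht)
  have h2 : s * t = (s * t)⁻¹ := (inv_eq_of_mul_eq_one_right h1).symm
  rw [h2, mul_inv_rev, H.inv_eq hs, H.inv_eq ht]

theorem orderOf_eq_two {a : G} (ha : a ∈ T) (ha1 : a ≠ 1) : orderOf a = 2 :=
  orderOf_eq_prime (H.hTexp a ha) ha1

theorem p_odd : Odd p := (Fact.out : p.Prime).odd_of_ne_two H.hp2

theorem T_le_CT : (T : Subgroup G) ≤ CT T := by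
  intro t ht
  rw [mem_centralizer_iff]
  intro s hs
  exact H.comm hs ht

theorem T_le_NT : (T : Subgroup G) ≤ NT T := le_normalizer

theorem CT_le_NT : CT T ≤ NT T := centralizer_le_normalizer _

/-- an element of `N(T)` of order dividing 2 lies in `T` -/
theorem mem_T_of_sq {t : G} (ht : t ∈ NT T) (htt : t * t = 1) : t ∈ T :=
  mem_sylow_two_of_sq T ht htt

theorem not_comm : ¬ ∀ a b : G, a * b = b * a := fun h => H.hns (Group.isSolvable_of_comm h)

theorem center_eq_bot : center G = ⊥ := by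
  haveI := H.hsimple
  rcases (inferInstance : (center G).Normal).eq_bot_or_eq_top with h | h
  · exact h
  · exfalso
    apply H.not_comm
    intro a b
    have ha : a ∈ center G := by rw [h]; exact mem_top a
    exact ((mem_center_iff.mp ha) b).symm

/-- the normalizer of a proper nontrivial subgroup is proper -/
theorem normalizer_ne_top {K : Subgroup G} (hK : K ≠ ⊥) (hK' : K ≠ ⊤) :
    normalizer (K : Set G) ≠ ⊤ := by
  haveI := H.hsimple
  intro h
  have hn : K.Normal := normalizer_eq_top_iff.mp h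
  rcases hn.eq_bot_or_eq_top with h1 | h1
  · exact hK h1
  · exact hK' h1

/-- **F2** -/
theorem F2 {x t : G} (hx : x ∈ NT T) (ht : t ∈ T) (hinv : t * x * t⁻¹ = x⁻¹)
    (hodd : Odd (orderOf x)) : x = 1 := by
  -- x⁻¹ * x⁻¹ = (x⁻¹ t x) t⁻¹ ∈ T
  have h1 : x⁻¹ * t * x⁻¹⁻¹ ∈ (T : Subgroup G) :=
    (mem_normalizer_iff.mp (inv_mem hx) t).mp ht
  have h2 : x⁻¹ * x⁻¹ ∈ (T : Subgroup G) := by
    have : x⁻¹ * x⁻¹ = (x⁻¹ * t * x⁻¹⁻¹) * t⁻¹ := by
      calc x⁻¹ * x⁻¹ = x⁻¹ * (t * x * t⁻¹) := by rw [hinv]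
        _ = (x⁻¹ * t * x⁻¹⁻¹) * t⁻¹ := by group
    rw [this]
    exact mul_mem h1 (inv_mem ht)
  have h3 : (x⁻¹ * x⁻¹) * (x⁻¹ * x⁻¹) = 1 := H.sq_one h2
  have h4 : x ^ 4 = 1 := by
    have : (x ^ 4)⁻¹ = 1 := by
      rw [← h3]; group
    exact inv_eq_one.mp this
  have h5 : orderOf x ∣ 4 := orderOf_dvd_of_pow_eq_one h4
  have h6 : orderOf x = 1 := by
    have h7 : (orderOf x).Coprime 4 := by
      have : (orderOf x).Coprime 2 := Nat.coprime_two_right.mpr hodd
      exact Nat.Coprime.pow_right 2 this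
    exact Nat.Coprime.eq_one_of_dvd h7 h5
  exact orderOf_eq_one_iff.mp h6

/-- **F1**: for `y ∉ N(T)`, `C(T) ∩ C(T^y) = 1`. -/
theorem F1 {y c : G} (hy : y ∉ NT T) (hc : c ∈ CT T)
    (hc' : ∀ t ∈ T, c * (y * t * y⁻¹) = (y * t * y⁻¹) * c) : c = 1 := by
  set L : Subgroup G := (T : Subgroup G) ⊔ ((y • T : Sylow 2 G) : Subgroup G) with hL
  by_cases hLtop : L = ⊤
  · -- c centralizes L = G
    have h1 : L ≤ centralizer {c} := by
      rw [hL]
      apply sup_le
      · intro t ht
        rw [mem_centralizer_iff]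
        intro h hh
        rw [Set.mem_singleton_iff] at hh
        subst hh
        exact ((mem_centralizer_iff.mp hc) t ht).symm
      · intro x hx
        have hx' : y⁻¹ * x * y ∈ T := (mem_smul_sylow_iff T y x).mp hx
        rw [mem_centralizer_iff]
        intro h hh
        rw [Set.mem_singleton_iff] at hh
        subst hh
        have := hc' _ hx'
        have h2 : y * (y⁻¹ * x * y) * y⁻¹ = x := by group
        rw [h2] at this
        exact this
    have h2 : c ∈ center G := by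
      rw [mem_center_iff]
      intro g
      have hg : g ∈ centralizer {c} := h1 (by rw [hLtop]; exact mem_top g)
      exact (mem_centralizer_iff.mp hg) c rfl |>.symm
    rw [H.center_eq_bot] at h2
    exact mem_bot.mp h2
  · exfalso
    have h1 : L ≤ NT T := H.hD1 L hLtop le_sup_left
    apply hy
    apply mem_normalizer_of_conj_le
    intro x hx
    have h2 : y * x * y⁻¹ ∈ NT T := h1 (le_sup_right (a := (T : Subgroup G))
      (conj_mem_smul_sylow T y hx))
    apply H.mem_T_of_sq h2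
    have : y * x * y⁻¹ * (y * x * y⁻¹) = y * (x * x) * y⁻¹ := by group
    rw [this, H.sq_one hx]; group

/-- **F1, consequence**: `C(a) ∩ C(u) = 1` for `a ∈ T#` and an involution `u ∉ N(T)`. -/
theorem F1' {a u c : G} (ha : a ∈ T) (ha1 : a ≠ 1) (hu : orderOf u = 2) (huN : u ∉ NT T)
    (hca : c * a = a * c) (hcu : c * u = u * c) : c = 1 := by
  have : Fact (Nat.Prime 2) := ⟨Nat.prime_two⟩
  have hpg : IsPGroup 2 (zpowers u) := isPGroup_zpowers_of_orderOf (k := 1) (by simpa using hu)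
  obtain ⟨S, hS⟩ := hpg.exists_le_sylow
  obtain ⟨y, hy⟩ := MulAction.exists_smul_eq G T S
  have huS : u ∈ y • T := by rw [hy]; exact hS (mem_zpowers u)
  have ht : y⁻¹ * u * y ∈ T := (mem_smul_sylow_iff T y u).mp huS
  set t := y⁻¹ * u * y with htdef
  have hut : u = y * t * y⁻¹ := by rw [htdef]; group
  have ht1 : t ≠ 1 := by
    intro h
    rw [h] at hut
    have : u = 1 := by rw [hut]; group
    rw [this, orderOf_one] at hu
    norm_num at hu
  have hyN : y ∉ NT T := by
    intro hyN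
    apply huN
    apply H.T_le_NT
    rw [hut]
    exact (mem_normalizer_iff.mp hyN t).mp ht
  have hcC : c ∈ CT T := by
    rw [← H.hCa a ha ha1, mem_centralizer_iff]
    intro h hh
    rw [Set.mem_singleton_iff] at hh
    subst hh
    exact hca.symm
  apply H.F1 hyN hcC
  intro s hs
  -- y⁻¹ c y commutes with t, hence lies in C(T)
  have h1 : y⁻¹ * c * y ∈ CT T := by
    rw [← H.hCa t ht ht1, mem_centralizer_iff]
    intro h hh
    have hh' : h = t := hh
    rw [hh']
    have h2 : c * (y * t * y⁻¹) = (y * t * y⁻¹) * c := by rw [← hut]; exact hcu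
    calc t * (y⁻¹ * c * y) = y⁻¹ * ((y * t * y⁻¹) * c) * y := by group
      _ = y⁻¹ * (c * (y * t * y⁻¹)) * y := by rw [h2]
      _ = y⁻¹ * c * y * t := by group
  have h3 : s * (y⁻¹ * c * y) = (y⁻¹ * c * y) * s := (mem_centralizer_iff.mp h1) s hs
  calc c * (y * s * y⁻¹) = y * ((y⁻¹ * c * y) * s) * y⁻¹ := by group
    _ = y * (s * (y⁻¹ * c * y)) * y⁻¹ := by rw [h3]
    _ = y * s * y⁻¹ * c := by group

/-- the product `a * u` of `a ∈ T#` and an involution `u ∉ N(T)` is a nontrivial element of any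
Sylow `p`-subgroup normalized by both -/
theorem mul_mem_sylow {a u : G} (ha : a ∈ T) (ha1 : a ≠ 1) (hu : orderOf u = 2) (huN : u ∉ NT T)
    (P : Sylow p G) (haP : a ∈ normalizer ((P : Subgroup G) : Set G))
    (huP : u ∈ normalizer ((P : Subgroup G) : Set G)) :
    a * u ∈ P ∧ a * u ≠ 1 := by
  constructor
  · obtain ⟨k, hk⟩ := H.hD2ii a ha ha1 u hu huN
    exact mem_sylow_of_mem_normalizer P (mul_mem haP huP) (isPGroup_zpowers_of_orderOf hk)
  · intro h
    apply huN
    have : u = a⁻¹ := by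
      have := eq_inv_of_mul_eq_one_right h
      exact this
    rw [this, H.inv_eq ha]
    exact H.T_le_NT ha

/-- elements of a Sylow `p`-subgroup have odd order -/
theorem odd_orderOf_of_mem_sylow (P : Sylow p G) {x : G} (hx : x ∈ P) : Odd (orderOf x) := by
  obtain ⟨k, hk⟩ := (IsPGroup.iff_orderOf.mp P.isPGroup') ⟨x, hx⟩
  have : orderOf x = p ^ k := by
    rw [← hk]; exact (Subgroup.orderOf_mk x hx).symm
  rw [this]
  exact H.p_odd.pow

/-- **F3**: `a` inverts `P`. -/
theorem F3 {a u : G} (ha : a ∈ T) (ha1 : a ≠ 1) (hu : orderOf u = 2) (huN : u ∉ NT T)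
    (P : Sylow p G) (haP : a ∈ normalizer ((P : Subgroup G) : Set G))
    (huP : u ∈ normalizer ((P : Subgroup G) : Set G)) :
    ∀ x ∈ P, a * x * a⁻¹ = x⁻¹ := by
  obtain ⟨hzP, hz1⟩ := H.mul_mem_sylow ha ha1 hu huN P haP huP
  set z := a * u with hz
  have huz : u = a⁻¹ * z := by rw [hz]; group
  have haa : a * a = 1 := H.sq_one ha
  have hoa : orderOf a = 2 := H.orderOf_eq_two ha ha1
  -- the centre of P, as a subgroup of G
  set Z : Subgroup G := (P : Subgroup G) ⊓ centralizer ((P : Subgroup G) : Set G) with hZ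
  have hZnorm : ∀ k ∈ Z, a * k * a⁻¹ ∈ Z := by
    intro k hk
    obtain ⟨hk1, hk2⟩ := Subgroup.mem_inf.mp hk
    refine Subgroup.mem_inf.mpr ⟨(mem_normalizer_iff.mp haP k).mp hk1, ?_⟩
    rw [mem_centralizer_iff]
    intro x hx
    have hx' : a⁻¹ * x * a⁻¹⁻¹ ∈ (P : Subgroup G) :=
      (mem_normalizer_iff.mp (inv_mem haP) x).mp hx
    have h1 : (a⁻¹ * x * a⁻¹⁻¹) * k = k * (a⁻¹ * x * a⁻¹⁻¹) :=
      (mem_centralizer_iff.mp hk2) _ hx'
    calc x * (a * k * a⁻¹) = a * ((a⁻¹ * x * a⁻¹⁻¹) * k) * a⁻¹ := by group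
      _ = a * (k * (a⁻¹ * x * a⁻¹⁻¹)) * a⁻¹ := by rw [h1]
      _ = a * k * a⁻¹ * x := by group
  have hZfpf : ∀ k ∈ Z, a * k = k * a → k = 1 := by
    intro k hk hka
    obtain ⟨hk1, hk2⟩ := Subgroup.mem_inf.mp hk
    have h1 : Commute k a := hka.symm
    have h2 : Commute k z := ((mem_centralizer_iff.mp hk2) z hzP).symm
    have h3 : Commute k (a⁻¹ * z) := h1.inv_right.mul_right h2
    apply H.F1' ha ha1 hu huN h1
    rw [huz]; exact h3
  have hZinv := inverts_of_fpf haa Z hZnorm hZfpf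
  -- a nontrivial central element ζ0
  have hPnt : Nontrivial ↥(P : Subgroup G) := ⟨⟨⟨z, hzP⟩, 1, fun h => hz1 (congrArg Subtype.val h)⟩⟩
  have hcnt : Nontrivial ↥(center ↥(P : Subgroup G)) := P.isPGroup'.center_nontrivial
  obtain ⟨⟨ζ, hζc⟩, hζ1⟩ := exists_ne (1 : ↥(center ↥(P : Subgroup G)))
  have hζP : (ζ : G) ∈ (P : Subgroup G) := ζ.2
  have hζ1' : (ζ : G) ≠ 1 := by
    intro h
    apply hζ1
    apply Subtype.ext
    apply Subtype.ext
    exact h
  have hζZ : (ζ : G) ∈ Z := by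
    refine Subgroup.mem_inf.mpr ⟨hζP, ?_⟩
    rw [mem_centralizer_iff]
    intro x hx
    have := (mem_center_iff.mp hζc) ⟨x, hx⟩
    exact congrArg Subtype.val this
  set ζ0 : G := (ζ : G) with hζ0
  have hinvζ : a * ζ0 * a⁻¹ = ζ0⁻¹ := hZinv ζ0 hζZ
  have hoddζ : Odd (orderOf ζ0) := H.odd_orderOf_of_mem_sylow P hζP
  -- the involution u0 = a ζ0
  set u0 := a * ζ0 with hu0
  have hu0sq : u0 * u0 = 1 := by
    have ainv : a⁻¹ = a := H.inv_eq ha
    calc u0 * u0 = (a * ζ0 * a⁻¹) * (a * a) * ζ0 := by rw [hu0]; group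
      _ = 1 := by rw [hinvζ, haa]; group
  have hu0ne : u0 ≠ 1 := by
    intro h
    have h1 : ζ0 = a⁻¹ := (eq_inv_of_mul_eq_one_right h)
    rw [h1, orderOf_inv, hoa] at hoddζ
    exact absurd hoddζ (by decide)
  have hou0 : orderOf u0 = 2 := orderOf_eq_prime (by rw [pow_two]; exact hu0sq) hu0ne
  have hu0N : u0 ∉ NT T := by
    intro h
    apply hζ1'
    have h1 : ζ0 ∈ NT T := by
      have : ζ0 = a⁻¹ * u0 := by rw [hu0]; group
      rw [this]
      exact mul_mem (inv_mem (H.T_le_NT ha)) h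
    exact H.F2 h1 ha hinvζ hoddζ
  -- a acts fixed-point-freely on P
  have hPnorm : ∀ k ∈ (P : Subgroup G), a * k * a⁻¹ ∈ (P : Subgroup G) :=
    fun k hk => (mem_normalizer_iff.mp haP k).mp hk
  have hPfpf : ∀ k ∈ (P : Subgroup G), a * k = k * a → k = 1 := by
    intro k hk hka
    have h1 : Commute k a := hka.symm
    have h2 : Commute k ζ0 := ((mem_centralizer_iff.mp (Subgroup.mem_inf.mp hζZ).2) k hk)
    have h3 : Commute k (a * ζ0) := h1.mul_right h2
    exact H.F1' ha ha1 hou0 hu0N h1 h3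
  exact inverts_of_fpf haa (P : Subgroup G) hPnorm hPfpf

/-- every involution is conjugate into `T` -/
theorem exists_conj_mem_T {u : G} (hu : orderOf u = 2) :
    ∃ y : G, y⁻¹ * u * y ∈ T ∧ y⁻¹ * u * y ≠ 1 := by
  have : Fact (Nat.Prime 2) := ⟨Nat.prime_two⟩
  have hpg : IsPGroup 2 (zpowers u) := isPGroup_zpowers_of_orderOf (k := 1) (by simpa using hu)
  obtain ⟨S, hS⟩ := hpg.exists_le_sylow
  obtain ⟨y, hy⟩ := MulAction.exists_smul_eq G T S
  have huS : u ∈ y • T := by rw [hy]; exact hS (mem_zpowers u)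
  refine ⟨y, (mem_smul_sylow_iff T y u).mp huS, ?_⟩
  intro h
  have : u = 1 := by
    have h2 : u = y * (y⁻¹ * u * y) * y⁻¹ := by group
    rw [h2, h]; group
  rw [this, orderOf_one] at hu
  norm_num at hu

/-- all involutions are conjugate -/
theorem conj_of_invol {s t : G} (hs : orderOf s = 2) (ht : orderOf t = 2) :
    ∃ g : G, g * s * g⁻¹ = t := by
  obtain ⟨y, hy, hy1⟩ := H.exists_conj_mem_T hs
  obtain ⟨w, hw, hw1⟩ := H.exists_conj_mem_T ht
  obtain ⟨n, -, hn⟩ := H.htr _ hy _ hw hy1 hw1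
  refine ⟨w * n * y⁻¹, ?_⟩
  calc w * n * y⁻¹ * s * (w * n * y⁻¹)⁻¹ = w * (n * (y⁻¹ * s * y) * n⁻¹) * w⁻¹ := by group
    _ = w * (w⁻¹ * t * w) * w⁻¹ := by rw [hn]
    _ = t := by group

/-- **F4**: uniqueness of the Sylow `p`-subgroup normalized by `a` and `u`. -/
theorem F4 {a u : G} (ha : a ∈ T) (ha1 : a ≠ 1) (hu : orderOf u = 2) (huN : u ∉ NT T)
    (P₁ P₂ : Sylow p G)
    (ha₁ : a ∈ normalizer ((P₁ : Subgroup G) : Set G))
    (hu₁ : u ∈ normalizer ((P₁ : Subgroup G) : Set G))
    (ha₂ : a ∈ normalizer ((P₂ : Subgroup G) : Set G))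
    (hu₂ : u ∈ normalizer ((P₂ : Subgroup G) : Set G)) : P₁ = P₂ := by
  obtain ⟨hz1P, hz1⟩ := H.mul_mem_sylow ha ha1 hu huN P₁ ha₁ hu₁
  obtain ⟨hz2P, -⟩ := H.mul_mem_sylow ha ha1 hu huN P₂ ha₂ hu₂
  have hinv1 := H.F3 ha ha1 hu huN P₁ ha₁ hu₁
  have hinv2 := H.F3 ha ha1 hu huN P₂ ha₂ hu₂
  set z := a * u with hz
  have huz : u = a⁻¹ * z := by rw [hz]; group
  have haa : a * a = 1 := H.sq_one ha
  have hza : a * z * a⁻¹ = z⁻¹ := hinv1 z hz1P
  set Cz : Subgroup G := centralizer {z} with hCz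
  have hmemCz : ∀ c : G, c ∈ Cz ↔ z * c = c * z := by
    intro c
    rw [hCz, mem_centralizer_iff]
    constructor
    · intro h; exact h z rfl
    · intro h x hx
      have hx' : x = z := hx
      rw [hx']; exact h
  have hP1Cz : ∀ x ∈ (P₁ : Subgroup G), x ∈ Cz := fun x hx =>
    (hmemCz x).mpr (commute_of_inverts hinv1 hz1P hx)
  have hP2Cz : ∀ x ∈ (P₂ : Subgroup G), x ∈ Cz := fun x hx =>
    (hmemCz x).mpr (commute_of_inverts hinv2 hz2P hx)
  have hCznorm : ∀ c ∈ Cz, a * c * a⁻¹ ∈ Cz := by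
    intro c hc
    rw [hmemCz] at hc ⊢
    -- a c a⁻¹ commutes with z⁻¹ = a z a⁻¹, hence with z
    have h1 : z⁻¹ * (a * c * a⁻¹) = (a * c * a⁻¹) * z⁻¹ := by
      rw [← hza]
      calc a * z * a⁻¹ * (a * c * a⁻¹) = a * (z * c) * a⁻¹ := by group
        _ = a * (c * z) * a⁻¹ := by rw [hc]
        _ = a * c * a⁻¹ * (a * z * a⁻¹) := by group
    calc z * (a * c * a⁻¹) = z * ((a * c * a⁻¹) * z⁻¹) * z := by group
      _ = z * (z⁻¹ * (a * c * a⁻¹)) * z := by rw [h1]
      _ = a * c * a⁻¹ * z := by group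
  have hCzfpf : ∀ c ∈ Cz, a * c = c * a → c = 1 := by
    intro c hc hca
    rw [hmemCz] at hc
    have h1 : Commute c a := hca.symm
    have h2 : Commute c z := hc.symm
    have h3 : Commute c (a⁻¹ * z) := h1.inv_right.mul_right h2
    apply H.F1' ha ha1 hu huN h1
    rw [huz]; exact h3
  have hCzinv := inverts_of_fpf haa Cz hCznorm hCzfpf
  -- P₁ ≤ P₂
  have hle : (P₁ : Subgroup G) ≤ (P₂ : Subgroup G) := by
    intro x hx
    apply mem_sylow_of_mem_normalizer P₂
    · apply centralizer_le_normalizer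
      rw [mem_centralizer_iff]
      intro y hy
      exact commute_of_inverts hCzinv (hP2Cz y hy) (hP1Cz x hx)
    · exact P₁.isPGroup'.to_le (zpowers_le.mpr hx)
  have := P₁.is_maximal' P₂.isPGroup' hle
  exact (Sylow.ext this).symm

theorem T_ne_bot : (T : Subgroup G) ≠ ⊥ := by
  intro h
  have h1 := H.hTcard
  rw [h, Subgroup.card_bot] at h1
  have := (Fact.out : p.Prime).two_le
  omega

theorem T_ne_top : (T : Subgroup G) ≠ ⊤ := by
  intro h
  apply H.not_comm
  intro a b
  have ha : a ∈ (T : Subgroup G) := by rw [h]; exact mem_top a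
  have hb : b ∈ (T : Subgroup G) := by rw [h]; exact mem_top b
  exact H.comm ha hb

theorem NT_ne_top : NT T ≠ ⊤ := H.normalizer_ne_top H.T_ne_bot H.T_ne_top

/-- there is an involution outside `N(T)` -/
theorem exists_out {a : G} (ha : a ∈ T) (ha1 : a ≠ 1) : ∃ u : G, orderOf u = 2 ∧ u ∉ NT T := by
  haveI := H.hsimple
  by_contra hcon
  push Not at hcon
  apply H.NT_ne_top
  have h1 : normalClosure {a} = ⊤ := by
    rcases (normalClosure_normal (s := ({a} : Set G))).eq_bot_or_eq_top with h | h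
    · exfalso
      apply ha1
      have : a ∈ normalClosure ({a} : Set G) := subset_normalClosure rfl
      rw [h] at this
      exact mem_bot.mp this
    · exact h
  have h2 : normalClosure {a} ≤ NT T := by
    rw [normalClosure]
    apply (closure_le _).mpr
    intro x hx
    obtain ⟨y, hy, hyx⟩ := Group.mem_conjugatesOfSet_iff.mp hx
    have hy' : y = a := hy
    subst hy'
    obtain ⟨g, hg⟩ := isConj_iff.mp hyx
    apply hcon
    rw [← hg, orderOf_conj_eq]
    exact H.orderOf_eq_two ha ha1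
  rw [h1] at h2
  exact top_le_iff.mp h2

/-- Sylow `p`-subgroups are proper and nontrivial as soon as one of them is nontrivial -/
theorem sylow_ne_top (P : Sylow p G) : (P : Subgroup G) ≠ ⊤ := by
  intro h
  apply H.hns
  have h1 : IsPGroup p G := by
    intro g
    obtain ⟨k, hk⟩ := P.isPGroup' ⟨g, by rw [h]; exact mem_top g⟩
    exact ⟨k, congrArg Subtype.val hk⟩
  haveI := h1.isNilpotent
  infer_instance

/-- for `x ∈ P#` inverted by `a ∈ T#`, `a * x` is an involution outside `N(T)` -/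
theorem mul_invol_out {a x : G} (ha : a ∈ T) (ha1 : a ≠ 1) (P : Sylow p G) (hx : x ∈ P)
    (hx1 : x ≠ 1) (hinv : a * x * a⁻¹ = x⁻¹) : orderOf (a * x) = 2 ∧ a * x ∉ NT T := by
  have haa : a * a = 1 := H.sq_one ha
  have hoddx : Odd (orderOf x) := H.odd_orderOf_of_mem_sylow P hx
  have hsq : (a * x) * (a * x) = 1 := by
    calc (a * x) * (a * x) = (a * x * a⁻¹) * (a * a) * x := by group
      _ = 1 := by rw [hinv, haa]; group
  have hne : a * x ≠ 1 := by
    intro h
    have h1 : x = a⁻¹ := eq_inv_of_mul_eq_one_right h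
    rw [h1, orderOf_inv, H.orderOf_eq_two ha ha1] at hoddx
    exact absurd hoddx (by decide)
  refine ⟨orderOf_eq_prime (by rw [pow_two]; exact hsq) hne, ?_⟩
  intro h
  apply hx1
  have h1 : x ∈ NT T := by
    have : x = a⁻¹ * (a * x) := by group
    rw [this]
    exact mul_mem (inv_mem (H.T_le_NT ha)) h
  exact H.F2 h1 ha hinv hoddx

/-- **F5**: the count gives `p ∣ |C(T)|`. -/
theorem F5 {a : G} (ha : a ∈ T) (ha1 : a ≠ 1) : p ∣ Nat.card (CT T) := by
  classical
  haveI : Fintype G := Fintype.ofFinite G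
  haveI : Fintype (Sylow p G) := Fintype.ofFinite _
  have hp : p.Prime := Fact.out
  have haa : a * a = 1 := H.sq_one ha
  have hainv : a⁻¹ = a := H.inv_eq ha
  have hoa : orderOf a = 2 := H.orderOf_eq_two ha ha1
  set q : ℕ := p ^ (Nat.card G).factorization p with hq
  have hcardP : ∀ P : Sylow p G, Nat.card (P : Subgroup G) = q := fun P => P.card_eq_multiplicity
  set Jf : Finset G := Finset.univ.filter (fun u => orderOf u = 2 ∧ u ∉ NT T) with hJf
  set Sf : Finset (Sylow p G) := Finset.univ.filter (fun P =>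
    a ∈ normalizer ((P : Subgroup G) : Set G) ∧
      ∃ u, (orderOf u = 2 ∧ u ∉ NT T) ∧ u ∈ normalizer ((P : Subgroup G) : Set G)) with hSf
  have hmemJ : ∀ u, u ∈ Jf ↔ (orderOf u = 2 ∧ u ∉ NT T) := by
    intro u; rw [hJf]; simp
  have hmemS : ∀ P, P ∈ Sf ↔ (a ∈ normalizer ((P : Subgroup G) : Set G) ∧
      ∃ u, (orderOf u = 2 ∧ u ∉ NT T) ∧ u ∈ normalizer ((P : Subgroup G) : Set G)) := by
    intro P; rw [hSf]; simp
  -- every member of Sf is inverted by a
  have hSinv : ∀ P ∈ Sf, ∀ x ∈ (P : Subgroup G), a * x * a⁻¹ = x⁻¹ := by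
    intro P hP
    obtain ⟨haP, u, ⟨hu, huN⟩, huP⟩ := (hmemS P).mp hP
    exact H.F3 ha ha1 hu huN P haP huP
  -- Claim A
  have hA : ∀ u ∈ Jf, (Finset.bipartiteAbove
      (fun (u : G) (P : Sylow p G) => u ∈ normalizer ((P : Subgroup G) : Set G)) Sf u).card = 1 := by
    intro u hu
    obtain ⟨hu2, huN⟩ := (hmemJ u).mp hu
    obtain ⟨P, haP, huP⟩ := H.hD2iii a ha ha1 u hu2 huN
    rw [Finset.card_eq_one]
    refine ⟨P, ?_⟩
    ext P'
    rw [Finset.mem_bipartiteAbove, Finset.mem_singleton]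
    constructor
    · rintro ⟨hP', huP'⟩
      obtain ⟨haP', -⟩ := (hmemS P').mp hP'
      exact H.F4 ha ha1 hu2 huN P' P haP' huP' haP huP
    · rintro rfl
      exact ⟨(hmemS P').mpr ⟨haP, u, ⟨hu2, huN⟩, huP⟩, huP⟩
  -- Claim B
  have hB : ∀ P ∈ Sf, (Finset.bipartiteBelow
      (fun (u : G) (P : Sylow p G) => u ∈ normalizer ((P : Subgroup G) : Set G)) Jf P).card
        = q - 1 := by
    intro P hP
    obtain ⟨haP, -⟩ := (hmemS P).mp hP
    have hinv := hSinv P hP
    set Pf : Finset G := (Finset.univ.filter (fun x => x ∈ (P : Subgroup G))).erase 1 with hPf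
    have hPfcard : Pf.card = q - 1 := by
      rw [hPf, Finset.card_erase_of_mem (by simp)]
      congr 1
      rw [← hcardP P, Nat.card_eq_fintype_card, Fintype.card_subtype]
    rw [← hPfcard]
    symm
    apply Finset.card_nbij' (fun x => a * x) (fun u => a⁻¹ * u)
    · intro x hx
      have hx' : x ≠ 1 ∧ x ∈ (P : Subgroup G) := by
        have := Finset.mem_erase.mp hx
        exact ⟨this.1, by simpa using this.2⟩
      obtain ⟨h1, h2⟩ := H.mul_invol_out ha ha1 P hx'.2 hx'.1 (hinv x hx'.2)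
      rw [Finset.mem_coe, Finset.mem_bipartiteBelow]
      exact ⟨(hmemJ _).mpr ⟨h1, h2⟩, mul_mem haP (le_normalizer hx'.2)⟩
    · intro u hu
      rw [Finset.mem_coe, Finset.mem_bipartiteBelow] at hu
      obtain ⟨huJ, huP⟩ := hu
      obtain ⟨hu2, huN⟩ := (hmemJ u).mp huJ
      obtain ⟨h1, h2⟩ := H.mul_mem_sylow ha ha1 hu2 huN P haP huP
      rw [Finset.mem_coe, hPf, Finset.mem_erase]
      rw [hainv]
      exact ⟨h2, Finset.mem_filter.mpr ⟨Finset.mem_univ _, h1⟩⟩
    · intro x _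
      show a⁻¹ * (a * x) = x
      group
    · intro u _
      show a * (a⁻¹ * u) = u
      group
  -- the double count
  have hcount : Jf.card = Sf.card * (q - 1) := by
    have h1 := Finset.sum_card_bipartiteAbove_eq_sum_card_bipartiteBelow
      (fun (u : G) (P : Sylow p G) => u ∈ normalizer ((P : Subgroup G) : Set G))
      (s := Jf) (t := Sf)
    rw [Finset.sum_congr rfl hA, Finset.sum_congr rfl hB] at h1
    simpa using h1
  -- nonemptiness of Sf, and q > 1
  obtain ⟨u0, hu0, hu0N⟩ := H.exists_out ha ha1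
  obtain ⟨P0, haP0, hu0P0⟩ := H.hD2iii a ha ha1 u0 hu0 hu0N
  have hP0S : P0 ∈ Sf := (hmemS P0).mpr ⟨haP0, u0, ⟨hu0, hu0N⟩, hu0P0⟩
  obtain ⟨hzP0, hz1⟩ := H.mul_mem_sylow ha ha1 hu0 hu0N P0 haP0 hu0P0
  have hq1 : 1 < q := by
    rw [← hcardP P0]
    exact (Subgroup.one_lt_card_iff_ne_bot _).mpr (fun h => hz1 (by
      have : a * u0 ∈ (⊥ : Subgroup G) := by rw [← h]; exact hzP0
      exact mem_bot.mp this))
  have hpq : p ∣ q := by
    rw [hq]
    apply dvd_pow_self
    intro h0
    rw [hq, h0, pow_zero] at hq1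
    exact absurd hq1 (by norm_num)
  have hcop : Nat.Coprime p (q - 1) := by
    rw [Nat.Prime.coprime_iff_not_dvd hp]
    intro h
    have : p ∣ q - (q - 1) := Nat.dvd_sub hpq h
    have h2 : q - (q - 1) = 1 := by omega
    rw [h2] at this
    exact hp.one_lt.ne' (Nat.dvd_one.mp this)
  -- Claim D : p ∣ |Jf|
  have hD : p ∣ Jf.card := by
    set If : Finset G := Finset.univ.filter (fun u => orderOf u = 2) with hIf
    set Tf : Finset G := (Finset.univ.filter (fun x => x ∈ (T : Subgroup G))).erase 1 with hTf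
    have hTfcard : Tf.card = p := by
      rw [hTf, Finset.card_erase_of_mem (by simp)]
      have : (Finset.univ.filter (fun x => x ∈ (T : Subgroup G))).card = p + 1 := by
        rw [← H.hTcard, Nat.card_eq_fintype_card, Fintype.card_subtype]
      rw [this]; rfl
    have hIfcard : If.card = (centralizer {a}).index := by
      rw [← ncard_conjugates a, ← Set.ncard_coe_finset]
      congr 1
      ext x
      simp only [hIf, Finset.coe_filter, Finset.mem_univ, true_and, Set.mem_ofPred_eq]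
      constructor
      · intro hx
        exact H.conj_of_invol hoa hx
      · rintro ⟨g, rfl⟩
        rw [orderOf_conj_eq]; exact hoa
    have hidx : (centralizer {a}).index = p * (NT T).index := by
      rw [H.hCa a ha ha1, ← relIndex_mul_index H.CT_le_NT, H.hidx]
    have hunion : If = Jf ∪ Tf := by
      ext x
      simp only [hIf, hTf, Finset.mem_filter, Finset.mem_univ, true_and, Finset.mem_union,
        Finset.mem_erase]
      rw [hmemJ]
      constructor
      · intro hx
        by_cases hxN : x ∈ NT T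
        · right
          refine ⟨?_, H.mem_T_of_sq hxN ?_⟩
          · intro h; rw [h, orderOf_one] at hx; norm_num at hx
          · have := pow_orderOf_eq_one x
            rw [hx, pow_two] at this
            exact this
        · left; exact ⟨hx, hxN⟩
      · rintro (⟨hx, -⟩ | ⟨hx1, hxT⟩)
        · exact hx
        · exact H.orderOf_eq_two hxT hx1
    have hdisj : Disjoint Jf Tf := by
      rw [Finset.disjoint_left]
      intro x hxJ hxT
      obtain ⟨-, hxN⟩ := (hmemJ x).mp hxJ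
      apply hxN
      have := (Finset.mem_erase.mp hxT).2
      exact H.T_le_NT (by simpa using this)
    have hsum : Jf.card + p = p * (NT T).index := by
      calc Jf.card + p = Jf.card + Tf.card := by rw [hTfcard]
        _ = (Jf ∪ Tf).card := (Finset.card_union_of_disjoint hdisj).symm
        _ = If.card := by rw [hunion]
        _ = p * (NT T).index := by rw [hIfcard, hidx]
    have : p ∣ Jf.card + p := by rw [hsum]; exact dvd_mul_right _ _
    exact (Nat.dvd_add_left (dvd_refl p)).mp this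
  -- Claim C : |Sf| ∣ |C(T)|
  have hC : Sf.card ∣ Nat.card (CT T) := by
    set Ca : Subgroup G := centralizer {a} with hCa'
    have hmemCa : ∀ c : G, c ∈ Ca ↔ c * a = a * c := by
      intro c
      rw [hCa', mem_centralizer_iff]
      constructor
      · intro h; exact (h a rfl).symm
      · intro h x hx
        have hx' : x = a := hx
        rw [hx']; exact h.symm
    have horb : (Sf : Set (Sylow p G)) = MulAction.orbit ↥Ca P0 := by
      ext P
      rw [Finset.mem_coe]
      constructor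
      · intro hP
        obtain ⟨haP, u, ⟨hu, huN⟩, huP⟩ := (hmemS P).mp hP
        obtain ⟨g, hg⟩ := MulAction.exists_smul_eq G P0 P
        -- a' = g a g⁻¹ inverts P, hence normalizes it
        have ha'P : g * a * g⁻¹ ∈ normalizer ((P : Subgroup G) : Set G) := by
          rw [← smul_eq_iff]
          rw [← hg, ← mul_smul]
          have : g * a * g⁻¹ * g = g * a := by group
          rw [this, mul_smul, smul_eq_iff.mpr haP0]
        have hLtop : normalizer ((P : Subgroup G) : Set G) ≠ ⊤ := by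
          apply H.normalizer_ne_top _ (H.sylow_ne_top P)
          intro h
          have h1 := hcardP P
          rw [h, Subgroup.card_bot] at h1
          omega
        have h4 := H.hD2i a ha ha1 u hu huN _ hLtop haP huP
        obtain ⟨h, hhL, hh⟩ := exists_conj_of_not_four_dvd _ h4 ha'P haP
          (by rw [orderOf_conj_eq]; exact hoa) hoa
        have hc : h * g ∈ Ca := by
          rw [hmemCa]
          calc h * g * a = (h * (g * a * g⁻¹) * h⁻¹) * (h * g) := by group
            _ = a * (h * g) := by rw [hh]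
        refine ⟨⟨h * g, hc⟩, ?_⟩
        show (h * g) • P0 = P
        rw [mul_smul, hg, smul_eq_iff.mpr hhL]
      · rintro ⟨⟨c, hc⟩, rfl⟩
        show c • P0 ∈ Sf
        rw [hmemCa] at hc
        have hcN : c ∈ NT T := by
          apply H.CT_le_NT
          rw [← H.hCa a ha ha1, ← hCa', hmemCa]
          exact hc
        rw [hmemS]
        refine ⟨?_, c * u0 * c⁻¹, ⟨by rw [orderOf_conj_eq]; exact hu0, ?_⟩, ?_⟩
        · rw [← smul_eq_iff, ← mul_smul, ← hc, mul_smul,
            smul_eq_iff.mpr haP0]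
        · intro h
          apply hu0N
          have : u0 = c⁻¹ * (c * u0 * c⁻¹) * c := by group
          rw [this]
          exact mul_mem (mul_mem (inv_mem hcN) h) hcN
        · rw [← smul_eq_iff, ← mul_smul]
          have : c * u0 * c⁻¹ * c = c * u0 := by group
          rw [this, mul_smul, smul_eq_iff.mpr hu0P0]
    have h1 : Sf.card = (MulAction.stabilizer ↥Ca P0).index := by
      rw [MulAction.index_stabilizer, ← horb, Set.ncard_coe_finset]
    rw [h1, ← H.hCa a ha ha1]
    exact index_dvd_card _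
  -- conclusion
  have h1 : p ∣ Sf.card * (q - 1) := by rw [← hcount]; exact hD
  exact dvd_trans (hcop.dvd_of_dvd_mul_right h1) hC

/-- **F3'**: every Sylow `p`-subgroup is inverted by some involution. -/
theorem F3' (P : Sylow p G) :
    ∃ b : G, orderOf b = 2 ∧ ∀ x ∈ (P : Subgroup G), b * x * b⁻¹ = x⁻¹ := by
  obtain ⟨a, ha, ha1⟩ : ∃ a ∈ (T : Subgroup G), a ≠ 1 := by
    by_contra hcon
    push Not at hcon
    exact H.T_ne_bot ((Subgroup.eq_bot_iff_forall _).mpr hcon)
  obtain ⟨u0, hu0, hu0N⟩ := H.exists_out ha ha1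
  obtain ⟨P0, haP0, hu0P0⟩ := H.hD2iii a ha ha1 u0 hu0 hu0N
  have hinv := H.F3 ha ha1 hu0 hu0N P0 haP0 hu0P0
  obtain ⟨g, hg⟩ := MulAction.exists_smul_eq G P0 P
  refine ⟨g * a * g⁻¹, by rw [orderOf_conj_eq]; exact H.orderOf_eq_two ha ha1, ?_⟩
  intro x hx
  have hx' : g⁻¹ * x * g ∈ P0 := by
    have : x ∈ g • P0 := by rw [hg]; exact hx
    exact (mem_smul_sylow_iff P0 g x).mp this
  have h1 := hinv _ hx'
  calc g * a * g⁻¹ * x * (g * a * g⁻¹)⁻¹ = g * (a * (g⁻¹ * x * g) * a⁻¹) * g⁻¹ := by group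
    _ = g * (g⁻¹ * x * g)⁻¹ * g⁻¹ := by rw [h1]
    _ = x⁻¹ := by group

/-- **F6**: the final contradiction. -/
theorem F6 : False := by
  have hp : p.Prime := Fact.out
  obtain ⟨a, ha, ha1⟩ : ∃ a ∈ (T : Subgroup G), a ≠ 1 := by
    by_contra hcon
    push Not at hcon
    exact H.T_ne_bot ((Subgroup.eq_bot_iff_forall _).mpr hcon)
  have h5 := H.F5 ha ha1
  obtain ⟨e, he⟩ := exists_prime_orderOf_dvd_card' p h5
  -- e ∈ C(T) of order p, as an element of G
  set e0 : G := (e : G) with he0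
  have he0C : e0 ∈ CT T := e.2
  have hoe : orderOf e0 = p := by rw [← he]; exact (Subgroup.orderOf_coe e)
  have he1 : e0 ≠ 1 := by
    intro h
    rw [h, orderOf_one] at hoe
    exact hp.one_lt.ne hoe
  have hpg : IsPGroup p (zpowers e0) := isPGroup_zpowers_of_orderOf (k := 1) (by simpa using hoe)
  obtain ⟨P, hP⟩ := hpg.exists_le_sylow
  have heP : e0 ∈ (P : Subgroup G) := hP (mem_zpowers e0)
  obtain ⟨b, hb, hbinv⟩ := H.F3' P
  have hbe : b * e0 * b⁻¹ = e0⁻¹ := hbinv e0 heP
  set L : Subgroup G := normalizer ((zpowers e0 : Subgroup G) : Set G) with hL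
  have hLtop : L ≠ ⊤ := by
    apply H.normalizer_ne_top
    · intro h
      apply he1
      have : e0 ∈ (⊥ : Subgroup G) := by rw [← h]; exact mem_zpowers e0
      exact mem_bot.mp this
    · intro h
      apply H.not_comm
      intro x y
      have hx : x ∈ zpowers e0 := by rw [h]; exact mem_top x
      have hy : y ∈ zpowers e0 := by rw [h]; exact mem_top y
      obtain ⟨i, rfl⟩ := mem_zpowers_iff.mp hx
      obtain ⟨j, rfl⟩ := mem_zpowers_iff.mp hy
      rw [← zpow_add, ← zpow_add, add_comm]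
  have hTL : (T : Subgroup G) ≤ L := by
    intro t ht
    apply centralizer_le_normalizer
    rw [mem_centralizer_iff]
    intro x hx
    obtain ⟨i, rfl⟩ := mem_zpowers_iff.mp hx
    have h1 : t * e0 = e0 * t := (mem_centralizer_iff.mp he0C) t ht
    exact ((Commute.zpow_right (show Commute t e0 from h1) i).eq).symm
  have hbL : b ∈ L := by
    apply mem_normalizer_of_conj_le
    intro x hx
    obtain ⟨i, rfl⟩ := mem_zpowers_iff.mp hx
    have : b * e0 ^ i * b⁻¹ = (e0⁻¹) ^ i := by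
      rw [← hbe]
      simp [conj_zpow]
    rw [this]
    exact zpow_mem (inv_mem (mem_zpowers e0)) i
  have hbN : b ∈ NT T := H.hD1 L hLtop hTL hbL
  have hbT : b ∈ T := by
    apply H.mem_T_of_sq hbN
    have := pow_orderOf_eq_one b
    rw [hb, pow_two] at this
    exact this
  have hcomm : b * e0 = e0 * b := (mem_centralizer_iff.mp he0C) b hbT
  have h1 : e0 = e0⁻¹ := by
    calc e0 = b * e0 * b⁻¹ := by rw [hcomm]; group
      _ = e0⁻¹ := hbe
  have h2 : e0 ^ 2 = 1 := by
    rw [pow_two]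
    calc e0 * e0 = e0 * e0⁻¹ := by rw [← h1]
      _ = 1 := mul_inv_cancel e0
  have h3 : p ∣ 2 := by rw [← hoe]; exact orderOf_dvd_of_pow_eq_one h2
  have h4 : p = 2 := (Nat.prime_dvd_prime_iff_eq hp Nat.prime_two).mp h3
  exact H.hp2 h4

end EndHyp

end Cfsg.Agent.Lib.Helper51.S1936End
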