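/-
helper51: module S1936-[END] (section F of `notes/helper22_S1936_sheet.md`) in the form of helper22's
skeleton `notes/helper22_S1936_modules.lean.txt`: `final_contradiction_of` and the statements
F1, F2, F3, F3', F4, F5 of the END section, with the skeleton statements of the other modules
(ELEM, TRANS, REG, D1, D2i-iii, AP) for the SE-datum `(T, N(T))` as explicit hypotheses.
Core: `Cfsg.Agent.Lib.Helper51.S1936End` (Mathlib only).
-/
import Mathlib
import Cfsg.Agent.Lib.Helper22.S1936Defs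
import Cfsg.Agent.Lib.Helper51.S1936End

set_option autoImplicit false
set_option linter.unusedSectionVars false
universe u

namespace Cfsg.Agent.Lib.Helper51.S1936

open Cfsg.Agent.Lib.Helper22.S1936 Cfsg.Agent.Lib.Helper51.S1936End

variable {G : Type u} [Group G] [Finite G] {p : ℕ} [Fact p.Prime]

/-- The hypotheses of section F (`EndHyp`) from the skeleton statements. `hD1` is the skeleton
statement of DICH-[D1] weakened to its first component in the second alternative
(`(dichotomy hG hD L hL he).imp id And.left`). -/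
theorem endHyp_of_skeleton (hG : MinCE p G) {T : Sylow 2 G}
    (hD : SEDatum T (Subgroup.normalizer ((T : Subgroup G) : Set G)))
    (hC : ∀ a ∈ (T : Subgroup G), a ≠ 1 →
      Subgroup.centralizer ({a} : Set G) = Subgroup.centralizer ((T : Subgroup G) : Set G))
    (hcard : Nat.card ↥(T : Subgroup G) = p + 1)
    (htr : ∀ a ∈ (T : Subgroup G), ∀ b ∈ (T : Subgroup G), orderOf a = 2 → orderOf b = 2 →
      ∃ n ∈ Subgroup.normalizer ((T : Subgroup G) : Set G), n * a * n⁻¹ = b)
    (hreg : (Subgroup.centralizer ((T : Subgroup G) : Set G)).relIndex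
        (Subgroup.normalizer ((T : Subgroup G) : Set G)) = p)
    (hD1 : ∀ L : Subgroup G, L ≠ ⊤ → Even (Nat.card ↥L) →
      (∃ g : G, L ≤ conjSub (Subgroup.normalizer ((T : Subgroup G) : Set G)) g) ∨
        ¬ 4 ∣ Nat.card ↥L)
    (hD2i : ∀ {a u : G}, orderOf a = 2 → orderOf u = 2 →
      Apart (Subgroup.normalizer ((T : Subgroup G) : Set G)) a u →
      ∀ L : Subgroup G, L ≠ ⊤ → a ∈ L → u ∈ L → ¬ 4 ∣ Nat.card ↥L)
    (hD2ii : ∀ {a u : G}, orderOf a = 2 → orderOf u = 2 →
      Apart (Subgroup.normalizer ((T : Subgroup G) : Set G)) a u →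
      a * u ≠ 1 ∧ ∃ n : ℕ, orderOf (a * u) = p ^ n)
    (hD2iii : ∀ {a u : G}, orderOf a = 2 → orderOf u = 2 →
      Apart (Subgroup.normalizer ((T : Subgroup G) : Set G)) a u →
      ∃ P : Sylow p G, a ∈ Subgroup.normalizer ((P : Subgroup G) : Set G) ∧
        u ∈ Subgroup.normalizer ((P : Subgroup G) : Set G))
    (hAP : ∀ {a u : G}, orderOf a = 2 →
      a ∈ Subgroup.normalizer ((T : Subgroup G) : Set G) →
      u ∉ Subgroup.normalizer ((T : Subgroup G) : Set G) →
      Apart (Subgroup.normalizer ((T : Subgroup G) : Set G)) a u) :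
    EndHyp p T := by
  have hp : p.Prime := Fact.out
  have ho2 : ∀ a ∈ (T : Subgroup G), a ≠ 1 → orderOf a = 2 := fun a ha ha1 =>
    orderOf_eq_prime (hD.elem a ha) ha1
  have hTN : (T : Subgroup G) ≤ Subgroup.normalizer ((T : Subgroup G) : Set G) :=
    Subgroup.le_normalizer
  have hap : ∀ a ∈ (T : Subgroup G), a ≠ 1 → ∀ u : G,
      u ∉ Subgroup.normalizer ((T : Subgroup G) : Set G) →
      Apart (Subgroup.normalizer ((T : Subgroup G) : Set G)) a u := fun a ha ha1 u hu =>
    hAP (ho2 a ha ha1) (hTN ha) hu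
  refine
    { hsimple := hG.simple
      hns := hG.nonsolv
      hp2 := by have := hG.hp5; omega
      hTexp := hD.elem
      hTcard := hcard
      hCa := hC
      hidx := hreg
      htr := fun a ha b hb ha1 hb1 => htr a ha b hb (ho2 a ha ha1) (ho2 b hb hb1)
      hD1 := ?_
      hD2i := fun a ha ha1 u hu huN L hL haL huL =>
        hD2i (ho2 a ha ha1) hu (hap a ha ha1 u huN) L hL haL huL
      hD2ii := fun a ha ha1 u hu huN => (hD2ii (ho2 a ha ha1) hu (hap a ha ha1 u huN)).2
      hD2iii := fun a ha ha1 u hu huN => hD2iii (ho2 a ha ha1) hu (hap a ha ha1 u huN) }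
  -- D1 in the form needed: a proper subgroup containing T lies in N(T)
  intro L hL hTL
  have : Fact (Nat.Prime 2) := ⟨Nat.prime_two⟩
  have hTdvd : Nat.card ↥(T : Subgroup G) ∣ Nat.card ↥L := Subgroup.card_dvd_of_le hTL
  have h4T : 4 ∣ Nat.card ↥(T : Subgroup G) := by
    have h1 := T.card_eq_multiplicity
    have h8 := hD.card8
    set n := (Nat.card G).factorization 2
    rw [h1] at h8 ⊢
    have h2 : 2 ≤ n := by
      by_contra hcon
      push Not at hcon
      interval_cases n <;> norm_num at h8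
    calc 4 = 2 ^ 2 := by norm_num
      _ ∣ 2 ^ n := pow_dvd_pow 2 h2
  have h4L : 4 ∣ Nat.card ↥L := dvd_trans h4T hTdvd
  have hev : Even (Nat.card ↥L) := even_iff_two_dvd.mpr (dvd_trans (by norm_num) h4L)
  rcases hD1 L hL hev with ⟨g, hg⟩ | h
  · -- T ≤ g N g⁻¹ forces g ∈ N
    have hmem : ∀ x ∈ L, ∃ n ∈ Subgroup.normalizer ((T : Subgroup G) : Set G),
        g * n * g⁻¹ = x := by
      intro x hx
      obtain ⟨n, hn, hnx⟩ := Subgroup.mem_map.mp (hg hx)
      exact ⟨n, hn, by simpa using hnx⟩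
    have hginv : g⁻¹ ∈ Subgroup.normalizer ((T : Subgroup G) : Set G) := by
      apply mem_normalizer_of_conj_le
      intro t ht
      obtain ⟨n, hn, hnt⟩ := hmem t (hTL ht)
      have h1 : g⁻¹ * t * g⁻¹⁻¹ = n := by rw [← hnt]; group
      rw [h1]
      apply mem_sylow_two_of_sq T hn
      have h2 : n * n = g⁻¹ * (t * t) * g := by rw [← hnt]; group
      have h3 : t * t = 1 := by have := hD.elem t ht; rwa [pow_two] at this
      rw [h2, h3]; group
    have hgN : g ∈ Subgroup.normalizer ((T : Subgroup G) : Set G) := by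
      have := inv_mem hginv
      rwa [inv_inv] at this
    intro x hx
    obtain ⟨n, hn, hnx⟩ := hmem x hx
    rw [← hnx]
    exact mul_mem (mul_mem hgN hn) (inv_mem hgN)
  · exact absurd h4L h

/-- END-[F6] / the whole END section in `_of` form: the final contradiction. -/
theorem final_contradiction_of (hG : MinCE p G) {T : Sylow 2 G}
    (hD : SEDatum T (Subgroup.normalizer ((T : Subgroup G) : Set G)))
    (hC : ∀ a ∈ (T : Subgroup G), a ≠ 1 →
      Subgroup.centralizer ({a} : Set G) = Subgroup.centralizer ((T : Subgroup G) : Set G))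
    (hcard : Nat.card ↥(T : Subgroup G) = p + 1)
    (htr : ∀ a ∈ (T : Subgroup G), ∀ b ∈ (T : Subgroup G), orderOf a = 2 → orderOf b = 2 →
      ∃ n ∈ Subgroup.normalizer ((T : Subgroup G) : Set G), n * a * n⁻¹ = b)
    (hreg : (Subgroup.centralizer ((T : Subgroup G) : Set G)).relIndex
        (Subgroup.normalizer ((T : Subgroup G) : Set G)) = p)
    (hD1 : ∀ L : Subgroup G, L ≠ ⊤ → Even (Nat.card ↥L) →
      (∃ g : G, L ≤ conjSub (Subgroup.normalizer ((T : Subgroup G) : Set G)) g) ∨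
        ¬ 4 ∣ Nat.card ↥L)
    (hD2i : ∀ {a u : G}, orderOf a = 2 → orderOf u = 2 →
      Apart (Subgroup.normalizer ((T : Subgroup G) : Set G)) a u →
      ∀ L : Subgroup G, L ≠ ⊤ → a ∈ L → u ∈ L → ¬ 4 ∣ Nat.card ↥L)
    (hD2ii : ∀ {a u : G}, orderOf a = 2 → orderOf u = 2 →
      Apart (Subgroup.normalizer ((T : Subgroup G) : Set G)) a u →
      a * u ≠ 1 ∧ ∃ n : ℕ, orderOf (a * u) = p ^ n)
    (hD2iii : ∀ {a u : G}, orderOf a = 2 → orderOf u = 2 →
      Apart (Subgroup.normalizer ((T : Subgroup G) : Set G)) a u →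
      ∃ P : Sylow p G, a ∈ Subgroup.normalizer ((P : Subgroup G) : Set G) ∧
        u ∈ Subgroup.normalizer ((P : Subgroup G) : Set G))
    (hAP : ∀ {a u : G}, orderOf a = 2 →
      a ∈ Subgroup.normalizer ((T : Subgroup G) : Set G) →
      u ∉ Subgroup.normalizer ((T : Subgroup G) : Set G) →
      Apart (Subgroup.normalizer ((T : Subgroup G) : Set G)) a u) : False :=
  (endHyp_of_skeleton hG hD hC hcard htr hreg hD1 hD2i hD2ii hD2iii hAP).F6

/-! ### the skeleton statements F1 - F5 from `EndHyp` -/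

section skel
variable {T : Sylow 2 G} (H : EndHyp p T)
include H

/-- END-[F1] (skeleton statement). -/
theorem centralizer_inf_centralizer_eq_bot_of {a u : G} (haT : a ∈ (T : Subgroup G)) (ha1 : a ≠ 1)
    (hu : orderOf u = 2) (huN : u ∉ Subgroup.normalizer ((T : Subgroup G) : Set G)) :
    Subgroup.centralizer ({a} : Set G) ⊓ Subgroup.centralizer ({u} : Set G) = ⊥ := by
  rw [Subgroup.eq_bot_iff_forall]
  intro c hc
  obtain ⟨h1, h2⟩ := Subgroup.mem_inf.mp hc
  exact H.F1' haT ha1 hu huN ((Subgroup.mem_centralizer_iff.mp h1) a rfl).symm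
    ((Subgroup.mem_centralizer_iff.mp h2) u rfl).symm

/-- END-[F2] (skeleton statement). -/
theorem mul_not_mem_normalizer_of {a x : G} (haT : a ∈ (T : Subgroup G)) (ha1 : a ≠ 1)
    (hinv : a * x * a⁻¹ = x⁻¹) (hodd : Odd (orderOf x)) (hx1 : x ≠ 1) :
    a * x ∉ Subgroup.normalizer ((T : Subgroup G) : Set G) := by
  intro h
  apply hx1
  have h1 : x ∈ NT T := by
    have : x = a⁻¹ * (a * x) := by group
    rw [this]
    exact mul_mem (inv_mem (H.T_le_NT haT)) h
  exact H.F2 h1 haT hinv hodd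

/-- END-[F3] (skeleton statement). -/
theorem inverts_sylow_of {a u : G} (haT : a ∈ (T : Subgroup G)) (ha1 : a ≠ 1)
    (hu : orderOf u = 2) (huN : u ∉ Subgroup.normalizer ((T : Subgroup G) : Set G))
    (P : Sylow p G) (haP : a ∈ Subgroup.normalizer ((P : Subgroup G) : Set G))
    (huP : u ∈ Subgroup.normalizer ((P : Subgroup G) : Set G)) :
    ∀ x ∈ (P : Subgroup G), a * x * a⁻¹ = x⁻¹ :=
  H.F3 haT ha1 hu huN P haP huP

/-- END-[F3'] (skeleton statement). -/
theorem exists_involution_inverting_of (P : Sylow p G) :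
    ∃ b : G, orderOf b = 2 ∧ ∀ x ∈ (P : Subgroup G), b * x * b⁻¹ = x⁻¹ :=
  H.F3' P

/-- END-[F4] (skeleton statement). -/
theorem sylow_unique_of {a u : G} (haT : a ∈ (T : Subgroup G)) (ha1 : a ≠ 1)
    (hu : orderOf u = 2) (huN : u ∉ Subgroup.normalizer ((T : Subgroup G) : Set G))
    (P₁ P₂ : Sylow p G)
    (ha₁ : a ∈ Subgroup.normalizer ((P₁ : Subgroup G) : Set G))
    (hu₁ : u ∈ Subgroup.normalizer ((P₁ : Subgroup G) : Set G))
    (ha₂ : a ∈ Subgroup.normalizer ((P₂ : Subgroup G) : Set G))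
    (hu₂ : u ∈ Subgroup.normalizer ((P₂ : Subgroup G) : Set G)) : P₁ = P₂ :=
  H.F4 haT ha1 hu huN P₁ P₂ ha₁ hu₁ ha₂ hu₂

/-- END-[F5] (skeleton statement). -/
theorem prime_dvd_card_centralizer_of :
    p ∣ Nat.card ↥(Subgroup.centralizer ((T : Subgroup G) : Set G)) := by
  obtain ⟨a, ha, ha1⟩ : ∃ a ∈ (T : Subgroup G), a ≠ 1 := by
    by_contra hcon
    push Not at hcon
    exact H.T_ne_bot ((Subgroup.eq_bot_iff_forall _).mpr hcon)
  exact H.F5 ha ha1

end skel

end Cfsg.Agent.Lib.Helper51.S1936
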