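import Cfsg.Agent.Lib.Helper35.B2Defs
import Cfsg.Agent.Lib.Helper35.SmallPair
import Cfsg.Agent.Lib.Helper44.StSigma

/-!
# helper35's project S2400, module B2-[CORR] (helper51): the "corrected top" trick
-/

set_option autoImplicit false

namespace Cfsg.Agent.Lib.Helper51.Small

open Cfsg.Lie Cfsg.Agent.Lib.Helper35.St Cfsg.Agent.Lib.Helper60.St3 Cfsg.Agent.Lib.Helper53.CLift
  Cfsg.Agent.Lib.Helper35.Small

universe u v w

variable {D : ChevalleyDatum} {K : Type u} [Field K] {Γ : Type v} [Group Γ] {E : Type w} [Group E]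

/-- A word in root elements whose lifts all commute with `x₀` has a lift commuting with `x₀`. -/
theorem exists_lift_word (M : Model D K Γ) (ψ : E →* Γ) (hψ : Function.Surjective ψ) (x₀ : E)
    (w : List (ℕ × K))
    (hw : ∀ p ∈ w, ∀ m : E, ψ m = M.X p.1 p.2 → m * x₀ = x₀ * m) :
    ∃ n : E, ψ n = (w.map fun p => M.X p.1 p.2).prod ∧ n * x₀ = x₀ * n := by
  induction w with
  | nil => exact ⟨1, by simp, by simp⟩
  | cons p w ih =>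
    obtain ⟨n', hn', hc'⟩ := ih (fun q hq => hw q (List.mem_cons_of_mem _ hq))
    obtain ⟨m, hm⟩ := hψ (M.X p.1 p.2)
    have hmc := hw p List.mem_cons_self m hm
    refine ⟨m * n', ?_, ?_⟩
    · rw [map_mul, hm, hn', List.map_cons, List.prod_cons]
    · rw [mul_assoc, hc', ← mul_assoc, hmc, mul_assoc]

/-- [B2-CORR]: the "corrected top" trick. -/
theorem liftsComm_of_corr (M : Model D K Γ) (ψ : E →* Γ) (hψ : Function.Surjective ψ)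
    (hc : ψ.ker ≤ Subgroup.center E)
    (a b c d : ℕ) (C : ℤ) (ha : a < D.nroots) (hc' : c < D.nroots) (hd : d < D.nroots) (hdc : d ≠ c)
    (hdn : d ≠ D.neg c) (hct : D.commTerms c d = [(b, C, 1, 1)]) (hC0 : (C : K) ≠ 0)
    (hca : c ≠ a) (hcn : c ≠ D.neg a) (_hlt : ∀ e ∈ D.commTerms a c, e.1 < D.nroots)
    (had : ∀ t u : K, LiftsComm ψ (M.X a t) (M.X d u))
    (hterm : ∀ e ∈ D.commTerms a c, ∀ t u : K, LiftsComm ψ (M.X e.1 t) (M.X d u)) (t u : K) :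
    LiftsComm ψ (M.X a t) (M.X b u) := by
  intro y z hy hz
  -- the relation `[X_d(1)⁻¹, X_c(t')⁻¹] = X_b(u)`
  set t' : K := -(u / (C : K)) with ht'
  have hrel := M.comm c d hc' hd hdc hdn t' 1
  have hw : D.commWord K c d t' 1 = [(b, u)] := by
    unfold ChevalleyDatum.commWord
    rw [hct]
    simp only [List.map_cons, List.map_nil, pow_one, mul_one, ht', neg_neg]
    rw [mul_div_cancel₀ _ hC0]
  rw [hw, List.map_cons, List.map_nil, List.prod_cons, List.prod_nil, mul_one] at hrel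
  have hcm : cm (M.X d 1)⁻¹ (M.X c t')⁻¹ = M.X b u := by
    rw [← hrel]
    unfold cm
    group
  -- lifts
  obtain ⟨x₀, hx₀⟩ := hψ (M.X d 1)
  obtain ⟨x₁, hx₁⟩ := hψ (M.X c t')
  -- the relation `X_a(t) X_c(t')⁻¹ X_a(t)⁻¹ = X_c(t')⁻¹ n₀`
  have hrel2 := M.comm a c ha hc' hca hcn (-t) (-t')
  rw [← Cfsg.Agent.Lib.Helper44.St.X_inv M ha, ← Cfsg.Agent.Lib.Helper44.St.X_inv M hc',
    inv_inv] at hrel2
  obtain ⟨n, hn, hnc⟩ := exists_lift_word M ψ hψ x₀ (D.commWord K a c (-t) (-t')) (by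
    intro p hp m hm
    unfold ChevalleyDatum.commWord at hp
    rw [List.mem_map] at hp
    obtain ⟨e, he, rfl⟩ := hp
    exact hterm e he _ 1 m x₀ hm hx₀)
  -- images commute
  have hcomm_ad : M.X a t * M.X d 1 = M.X d 1 * M.X a t := by
    rw [← hy, ← hx₀, ← map_mul, ← map_mul, had t 1 y x₀ hy hx₀]
  have e1 : ψ (y * x₀⁻¹ * y⁻¹) = ψ x₀⁻¹ := by
    rw [map_mul, map_mul, map_inv, map_inv, hy, hx₀]
    calc M.X a t * (M.X d 1)⁻¹ * (M.X a t)⁻¹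
        = (M.X d 1)⁻¹ * (M.X d 1 * M.X a t) * (M.X d 1)⁻¹ * (M.X a t)⁻¹ := by group
      _ = (M.X d 1)⁻¹ * (M.X a t * M.X d 1) * (M.X d 1)⁻¹ * (M.X a t)⁻¹ := by rw [hcomm_ad]
      _ = (M.X d 1)⁻¹ := by group
  have e2 : ψ (y * x₁⁻¹ * y⁻¹) = ψ (x₁⁻¹ * n) := by
    rw [map_mul, map_mul, map_inv, map_inv, map_mul, map_inv, hy, hx₁, hn, ← hrel2]
    group
  have hZ : y * cm x₀⁻¹ x₁⁻¹ * y⁻¹ = cm x₀⁻¹ x₁⁻¹ := by
    rw [conj_cm, cm_eq_of_map_eq ψ hc e1 e2]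
    have hnc' : n * x₀ = x₀ * n := hnc
    unfold cm
    calc x₀⁻¹ * (x₁⁻¹ * n) * x₀⁻¹⁻¹ * (x₁⁻¹ * n)⁻¹
        = x₀⁻¹ * x₁⁻¹ * (n * x₀) * n⁻¹ * x₁ := by group
      _ = x₀⁻¹ * x₁⁻¹ * (x₀ * n) * n⁻¹ * x₁ := by rw [hnc']
      _ = x₀⁻¹ * x₁⁻¹ * x₀⁻¹⁻¹ * x₁⁻¹⁻¹ := by group
  have hyZ : y * cm x₀⁻¹ x₁⁻¹ = cm x₀⁻¹ x₁⁻¹ * y := by
    calc y * cm x₀⁻¹ x₁⁻¹ = (y * cm x₀⁻¹ x₁⁻¹ * y⁻¹) * y := by group
      _ = cm x₀⁻¹ x₁⁻¹ * y := by rw [hZ]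
  -- `z` differs from `Z` by a central element
  have hψZ : ψ (cm x₀⁻¹ x₁⁻¹) = M.X b u := by
    rw [map_cm, map_inv, map_inv, hx₀, hx₁, hcm]
  have hk : (cm x₀⁻¹ x₁⁻¹)⁻¹ * z ∈ Subgroup.center E := by
    apply hc
    rw [MonoidHom.mem_ker, map_mul, map_inv, hψZ, hz, inv_mul_cancel]
  have hkc := Subgroup.mem_center_iff.mp hk
  set Z := cm x₀⁻¹ x₁⁻¹
  set k := Z⁻¹ * z
  have hzk : z = Z * k := by simp [k]
  rw [hzk]
  calc y * (Z * k) = (y * Z) * k := by group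
    _ = (Z * y) * k := by rw [hyZ]
    _ = Z * (y * k) := by group
    _ = Z * (k * y) := by rw [hkc y]
    _ = Z * k * y := by group

end Cfsg.Agent.Lib.Helper51.Small
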