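/-
helper51: Peterfalvi (12.7), group part, module [COSET] of helper60's plan (#3353):
the coset `x^i K`.
-/
import Mathlib
import Cfsg.Agent.S1496

set_option autoImplicit false

namespace Cfsg.Agent.Lib.Helper51.PF12G

variable {G : Type*} [Group G]

/-- If `c` and `g` commute and have coprime orders then `g` is a power of `c * g`. -/
theorem exists_pow_mul_eq_right {c g : G} (hcg : c * g = g * c)
    (hcop : (orderOf c).Coprime (orderOf g)) : ∃ n : ℕ, (c * g) ^ n = g := by
  -- n ≡ 0 mod orderOf c, n ≡ 1 mod orderOf g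
  obtain ⟨n, hn0, hn1⟩ := Nat.chineseRemainder hcop 0 1
  refine ⟨n, ?_⟩
  have hc : Commute c g := hcg
  rw [hc.mul_pow]
  have h1 : c ^ n = 1 := by
    rw [← pow_mod_orderOf, show n % orderOf c = 0 % orderOf c from hn0, Nat.zero_mod, pow_zero]
  have h2 : g ^ n = g := by
    rw [← pow_mod_orderOf, show n % orderOf g = 1 % orderOf g from hn1, pow_mod_orderOf, pow_one]
  rw [h1, h2, one_mul]

/-- subgroups of a nilpotent subgroup are nilpotent -/
theorem isNilpotent_of_le_nilpotent {C K : Subgroup G} (h : C ≤ K) (hK : Group.IsNilpotent K) :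
    Group.IsNilpotent C := by
  have : Group.IsNilpotent (C.subgroupOf K) := inferInstance
  exact Group.nilpotent_of_mulEquiv (Subgroup.subgroupOfEquivOfLe h)

/-- **[COSET]** The coset `x^i K`, `p ∤ i`, for `x` of prime order `p ∤ |K|` with `C_G(x) ≤ M` and
`C_K(x) ≠ 1`: every element has its centralizer in `M` and centralizes a non-identity element of
`K`. -/
theorem coset_facts [Finite G] (M K : Subgroup G) (x : G) (p : ℕ) (hp : p.Prime) (hKM : K ≤ M)
    (hKn : ∀ m ∈ M, ∀ k ∈ K, m * k * m⁻¹ ∈ K) (hnil : Group.IsNilpotent K) (hxM : x ∈ M)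
    (hxo : orderOf x = p) (hcop : ¬ p ∣ Nat.card K)
    (hcent : Subgroup.centralizer ({x} : Set G) ≤ M)
    (hfix : K ⊓ Subgroup.centralizer ({x} : Set G) ≠ ⊥) (i : ℕ) (hi : ¬ p ∣ i) (h : G) (hh : h ∈ K) :
    Subgroup.centralizer ({x ^ i * h} : Set G) ≤ M ∧ x ^ i * h ≠ 1 ∧
      ∃ k ∈ K, k ≠ 1 ∧ (x ^ i * h) * k = k * (x ^ i * h) := by
  classical
  set g : G := x ^ i with hg
  have hcopi : Nat.Coprime p i := (Nat.Prime.coprime_iff_not_dvd hp).mpr hi
  have hgo : orderOf g = p := by
    rw [hg, Nat.Coprime.orderOf_pow (by rw [hxo]; exact hcopi), hxo]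
  -- `x` is a power of `g`
  obtain ⟨j, hj⟩ : ∃ j : ℕ, g ^ j = x := by
    exact exists_pow_eq_self_of_coprime (by rw [hxo]; exact hcopi.symm)
  have hgM : g ∈ M := M.pow_mem hxM i
  have hcopK : Nat.Coprime p (Nat.card K) := (Nat.Prime.coprime_iff_not_dvd hp).mpr hcop
  -- centralizers of `g` and `x` agree
  have hcentg : ∀ z : G, z * g = g * z → z * x = x * z := by
    intro z hz
    have : Commute z (g ^ j) := (show Commute z g from hz).pow_right j
    rw [hj] at this
    exact this
  have hcentx : ∀ z : G, z * x = x * z → z * g = g * z := by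
    intro z hz
    exact (show Commute z x from hz).pow_right i
  -- `a = h' * g` with `h' ∈ K`
  have hh' : g * h * g⁻¹ ∈ K := hKn g hgM h hh
  have ha : x ^ i * h = (g * h * g⁻¹) * g := by rw [← hg]; group
  have hgnorm : g ∈ Subgroup.normalizer (K : Set G) := by
    rw [Subgroup.mem_normalizer_iff]
    intro k
    constructor
    · intro hk; exact hKn g hgM k hk
    · intro hk
      have := hKn g⁻¹ (M.inv_mem hgM) _ hk
      have e : g⁻¹ * (g * k * g⁻¹) * g⁻¹⁻¹ = k := by group
      rwa [e] at this
  obtain ⟨y, hyK, c, hcK, hcg, hconj⟩ :=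
    Cfsg.Agent.S1496.result K g hgnorm (by rw [hgo]; exact hcopK) (g * h * g⁻¹) hh'
  rw [← ha] at hconj
  -- b = c * g ; g is a power of b
  have hco : (orderOf c).Coprime (orderOf g) := by
    rw [hgo]
    have h1 : orderOf c ∣ Nat.card K := by
      have : orderOf (⟨c, hcK⟩ : K) ∣ Nat.card K := orderOf_dvd_natCard _
      rwa [Subgroup.orderOf_mk] at this
    exact (Nat.Coprime.coprime_dvd_right h1 hcopK).symm
  obtain ⟨n, hn⟩ := exists_pow_mul_eq_right hcg hco
  have hyM : y ∈ M := hKM hyK
  refine ⟨?_, ?_, ?_⟩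
  · -- centralizer
    intro z hz
    have hz' : z * (x ^ i * h) = (x ^ i * h) * z := by
      have := Subgroup.mem_centralizer_iff.mp hz (x ^ i * h) (Set.mem_singleton _)
      exact this.symm
    -- w = y z y⁻¹ commutes with c * g
    have hw : (y * z * y⁻¹) * (c * g) = (c * g) * (y * z * y⁻¹) := by
      rw [← hconj]
      calc y * z * y⁻¹ * (y * (x ^ i * h) * y⁻¹) = y * (z * (x ^ i * h)) * y⁻¹ := by group
        _ = y * ((x ^ i * h) * z) * y⁻¹ := by rw [hz']
        _ = y * (x ^ i * h) * y⁻¹ * (y * z * y⁻¹) := by group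
    have hwg : (y * z * y⁻¹) * g = g * (y * z * y⁻¹) := by
      have : Commute (y * z * y⁻¹) ((c * g) ^ n) :=
        (show Commute (y * z * y⁻¹) (c * g) from hw).pow_right n
      rw [hn] at this
      exact this
    have hwx := hcentg _ hwg
    have hwM : y * z * y⁻¹ ∈ M := by
      apply hcent
      rw [Subgroup.mem_centralizer_iff]
      intro t ht
      rw [Set.mem_singleton_iff] at ht
      rw [ht]
      exact hwx.symm
    have e : z = y⁻¹ * (y * z * y⁻¹) * y := by group
    rw [e]
    exact M.mul_mem (M.mul_mem (M.inv_mem hyM) hwM) hyM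
  · -- nontrivial
    intro h1
    have hgK : g ∈ K := by
      have : g = h⁻¹ := eq_inv_of_mul_eq_one_left h1
      rw [this]; exact K.inv_mem hh
    have h2 : orderOf g ∣ Nat.card K := by
      have : orderOf (⟨g, hgK⟩ : K) ∣ Nat.card K := orderOf_dvd_natCard _
      rwa [Subgroup.orderOf_mk] at this
    rw [hgo] at h2
    exact hcop h2
  · -- a fixed point: the centre of C_K(x)
    set C : Subgroup G := K ⊓ Subgroup.centralizer ({x} : Set G) with hC
    have hCnil : Group.IsNilpotent C := isNilpotent_of_le_nilpotent inf_le_left hnil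
    have hCnt : Nontrivial C := (Subgroup.nontrivial_iff_ne_bot C).mpr hfix
    have hZ : Subgroup.center C ≠ ⊥ := Group.IsNilpotent.center_ne_bot C
    obtain ⟨⟨z, hzC⟩, hzZ'', hz1⟩ :=
      (Subgroup.bot_or_exists_ne_one (Subgroup.center C)).resolve_left hZ
    have hzK : z ∈ K := hzC.1
    have hzx : z * x = x * z := by
      have := Subgroup.mem_centralizer_iff.mp hzC.2 x (Set.mem_singleton _)
      exact this.symm
    have hzg : z * g = g * z := hcentx z hzx
    -- c ∈ C
    have hcC : c ∈ C := by
      refine Subgroup.mem_inf.mpr ⟨hcK, ?_⟩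
      rw [Subgroup.mem_centralizer_iff]
      intro t ht
      rw [Set.mem_singleton_iff] at ht
      rw [ht]
      exact (hcentg c hcg).symm
    have hzc : z * c = c * z := by
      have := Subgroup.mem_center_iff.mp hzZ'' ⟨c, hcC⟩
      have := congrArg Subtype.val this
      simpa using this.symm
    have hzb : z * (c * g) = (c * g) * z := by
      calc z * (c * g) = (z * c) * g := by group
        _ = (c * z) * g := by rw [hzc]
        _ = c * (z * g) := by group
        _ = c * (g * z) := by rw [hzg]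
        _ = (c * g) * z := by group
    refine ⟨y⁻¹ * z * y, ?_, ?_, ?_⟩
    · have := hKn y⁻¹ (M.inv_mem hyM) z hzK
      simpa using this
    · intro h1
      apply hz1
      have : z = y * (y⁻¹ * z * y) * y⁻¹ := by group
      have hz' : z = 1 := by rw [this, h1]; group
      exact Subtype.ext hz'
    · have ea : x ^ i * h = y⁻¹ * (c * g) * y := by
        rw [← hconj]; group
      rw [ea]
      calc y⁻¹ * (c * g) * y * (y⁻¹ * z * y) = y⁻¹ * ((c * g) * z) * y := by group
        _ = y⁻¹ * (z * (c * g)) * y := by rw [hzb]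
        _ = y⁻¹ * z * y * (y⁻¹ * (c * g) * y) := by group

end Cfsg.Agent.Lib.Helper51.PF12G
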