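/-
helper51: Peterfalvi (12.7), group part, module [TSUB] of helper60's plan (#3353):
the subgroup `T = K'[K, x]`.
-/
import Mathlib

set_option autoImplicit false

namespace Cfsg.Agent.Lib.Helper51.PF12G

open scoped commutatorElement

variable {G : Type*} [Group G]

/-- An element `y` with `y ^ p = 1` normalizing `V` and acting on it without fixed points:
`|V| ≡ 1 mod p`. -/
theorem card_modEq_one_of_fpf [Finite G] (V : Subgroup G) (y : G) (p : ℕ) [Fact p.Prime]
    (hyp : y ^ p = 1) (hyV : ∀ v ∈ V, y * v * y⁻¹ ∈ V)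
    (hfpf : ∀ v ∈ V, y * v = v * y → v = 1) : Nat.card V ≡ 1 [MOD p] := by
  classical
  have := Fintype.ofFinite V
  let f : Function.End V := fun v => ⟨y * v * y⁻¹, hyV v v.2⟩
  have hpow : ∀ n : ℕ, ∀ v : V, (((f ^ n) v : V) : G) = y ^ n * v * (y ^ n)⁻¹ := by
    intro n
    induction n with
    | zero =>
      intro v
      rw [pow_zero, pow_zero]
      show ((v : V) : G) = 1 * v * 1⁻¹
      simp
    | succ n ih =>
      intro v
      rw [pow_succ', Function.End.mul_def]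
      show y * (((f ^ n) v : V) : G) * y⁻¹ = _
      rw [ih v, pow_succ']
      group
  have hf : f ^ p ^ 1 = 1 := by
    funext v
    apply Subtype.ext
    rw [pow_one, hpow, hyp]
    show (1 : G) * v * 1⁻¹ = ((v : V) : G)
    simp
  have h := Equiv.Perm.card_fixedPoints_modEq (p := p) (n := 1) hf
  rw [← Nat.card_eq_fintype_card, ← Nat.card_eq_fintype_card] at h
  have hfix : Nat.card (Function.fixedPoints f) = 1 := by
    rw [Nat.card_eq_one_iff_unique]
    refine ⟨⟨?_⟩, ⟨⟨1, ?_⟩⟩⟩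
    · intro a b
      have key : ∀ c : Function.fixedPoints f, (c : V) = 1 := by
        intro c
        have := c.2
        have h1 : y * ((c : V) : G) * y⁻¹ = ((c : V) : G) := congrArg Subtype.val this
        have h2 : y * ((c : V) : G) = ((c : V) : G) * y := by
          calc y * ((c : V) : G) = (y * ((c : V) : G) * y⁻¹) * y := by group
            _ = ((c : V) : G) * y := by rw [h1]
        exact Subtype.ext (hfpf _ (c : V).2 h2)
      exact Subtype.ext ((key a).trans (key b).symm)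
    · show f 1 = 1
      apply Subtype.ext
      show y * ((1 : V) : G) * y⁻¹ = ((1 : V) : G)
      simp
  rw [hfix] at h
  exact h

/-- arithmetic: an odd number `r ≠ 1`, `r ≡ 1 mod p` with `p` odd is at least `2p + 1`. -/
theorem two_mul_add_one_le_of_modEq {p r : ℕ} (hp2 : Odd p) (hr : Odd r) (hr1 : r ≠ 1)
    (hmod : r ≡ 1 [MOD p]) : 2 * p + 1 ≤ r := by
  have hrpos : 1 ≤ r := by
    rcases hr with ⟨m, rfl⟩; omega
  obtain ⟨m, hm⟩ := (Nat.modEq_iff_dvd' hrpos).mp hmod.symm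
  rcases m with _ | _ | m
  · omega
  · exfalso
    rcases hp2 with ⟨a, rfl⟩
    rcases hr with ⟨b, rfl⟩
    omega
  · have : p * (m + 1 + 1) = p * m + 2 * p := by ring
    omega

/-- **[TSUB]** The subgroup `T = K'[K, x]`: `K / T` is abelian, centralized by `x`, and of order
`≡ 1 mod p`, at least `2p + 1`. -/
theorem exists_T [Finite G] (K : Subgroup G) (x y₀ : G) (p : ℕ) (hp : p.Prime) (hp2 : Odd p)
    (hodd : Odd (Nat.card K)) (hcop : ¬ p ∣ Nat.card K)
    (hxp : x ^ p = 1) (hy₀p : y₀ ^ p = 1) (hy₀1 : y₀ ≠ 1) (hxy : x * y₀ = y₀ * x)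
    (hxK : ∀ k ∈ K, x * k * x⁻¹ ∈ K) (hyK : ∀ k ∈ K, y₀ * k * y₀⁻¹ ∈ K)
    (hfpf : ∀ k ∈ K, y₀ * k = k * y₀ → k = 1)
    (hx : ¬ (K ⊓ Subgroup.centralizer ({x} : Set G) ≤ ⁅K, K⁆)) :
    ∃ T : Subgroup G, T ≤ K ∧ (∀ k ∈ K, ∀ t ∈ T, k * t * k⁻¹ ∈ T) ∧
      (∀ k₁ ∈ K, ∀ k₂ ∈ K, k₁ * k₂ * k₁⁻¹ * k₂⁻¹ ∈ T) ∧ (∀ k ∈ K, x * k * x⁻¹ * k⁻¹ ∈ T) ∧
      2 * p + 1 ≤ T.relIndex K := by
  classical
  have : Fact p.Prime := ⟨hp⟩
  -- conjugation by powers of `x` on `K`
  have hxpowK : ∀ n : ℕ, ∀ k ∈ K, x ^ n * k * (x ^ n)⁻¹ ∈ K := by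
    intro n
    induction n with
    | zero => intro k hk; simpa using hk
    | succ n ih =>
      intro k hk
      have := hxK _ (ih k hk)
      have e : x ^ (n + 1) * k * (x ^ (n + 1))⁻¹ = x * (x ^ n * k * (x ^ n)⁻¹) * x⁻¹ := by
        rw [pow_succ']; group
      rw [e]; exact this
  let cx : ℕ → (K →* K) := fun n =>
    { toFun := fun k => ⟨x ^ n * k * (x ^ n)⁻¹, hxpowK n k k.2⟩
      map_one' := by apply Subtype.ext; simp
      map_mul' := by
        intro a b
        apply Subtype.ext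
        show x ^ n * ((a * b : K) : G) * (x ^ n)⁻¹ = (x ^ n * a * (x ^ n)⁻¹) * (x ^ n * b * (x ^ n)⁻¹)
        rw [Subgroup.coe_mul]; group }
  have hcx : ∀ n (k : K), ((cx n k : K) : G) = x ^ n * k * (x ^ n)⁻¹ := fun n k => rfl
  let ν : K →* Abelianization K :=
    ∏ i ∈ Finset.range p, (Abelianization.of).comp (cx i)
  have hν : ∀ k : K, ν k = ∏ i ∈ Finset.range p, Abelianization.of (cx i k) := by
    intro k
    show (∏ i ∈ Finset.range p, (Abelianization.of).comp (cx i)) k = _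
    rw [MonoidHom.finsetProd_apply]
    rfl
  -- `ν` is invariant under conjugation by `x`
  have hνx : ∀ k : K, ν (cx 1 k) = ν k := by
    intro k
    rw [hν, hν]
    have e1 : ∀ i, cx i (cx 1 k) = cx (i + 1) k := by
      intro i
      apply Subtype.ext
      rw [hcx, hcx, hcx, pow_one, pow_succ]
      group
    simp_rw [e1]
    have h1 := Finset.prod_range_succ (fun i => Abelianization.of (cx i k)) p
    have h2 := Finset.prod_range_succ' (fun i => Abelianization.of (cx i k)) p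
    have e0 : cx p k = cx 0 k := by
      apply Subtype.ext
      rw [hcx, hcx, hxp, pow_zero]
    rw [h1] at h2
    simp only [e0] at h2
    exact (mul_right_cancel h2).symm
  -- the subgroup `T`
  let S : Set G := {g | ∃ k ∈ K, g = x * k * x⁻¹ * k⁻¹}
  let T : Subgroup G := ⁅K, K⁆ ⊔ Subgroup.closure S
  have hSK : Subgroup.closure S ≤ K := by
    rw [Subgroup.closure_le]
    rintro g ⟨k, hk, rfl⟩
    exact K.mul_mem (hxK k hk) (K.inv_mem hk)
  have hTK : T ≤ K := sup_le (Subgroup.commutator_le_self K) hSK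
  have hK'T : ⁅K, K⁆ ≤ T := le_sup_left
  have hcomm : ∀ k₁ ∈ K, ∀ k₂ ∈ K, k₁ * k₂ * k₁⁻¹ * k₂⁻¹ ∈ T := by
    intro k₁ h₁ k₂ h₂
    exact hK'T (Subgroup.commutator_mem_commutator h₁ h₂)
  have hxT : ∀ k ∈ K, x * k * x⁻¹ * k⁻¹ ∈ T := by
    intro k hk
    exact (le_sup_right : Subgroup.closure S ≤ T) (Subgroup.subset_closure ⟨k, hk, rfl⟩)
  have hTnorm : ∀ k ∈ K, ∀ t ∈ T, k * t * k⁻¹ ∈ T := by
    intro k hk t ht
    have : k * t * k⁻¹ = (k * t * k⁻¹ * t⁻¹) * t := by group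
    rw [this]
    exact T.mul_mem (hcomm k hk t (hTK ht)) ht
  -- `T` is `y₀`-invariant
  have hTy : ∀ t ∈ T, y₀ * t * y₀⁻¹ ∈ T := by
    have hle : T ≤ T.comap (MulAut.conj y₀).toMonoidHom := by
      refine sup_le ?_ ?_
      · rw [Subgroup.commutator_le]
        intro a ha b hb
        rw [Subgroup.mem_comap]
        show (MulAut.conj y₀) ⁅a, b⁆ ∈ T
        rw [map_commutatorElement]
        exact hK'T (Subgroup.commutator_mem_commutator
          (by rw [MulAut.conj_apply]; exact hyK a ha) (by rw [MulAut.conj_apply]; exact hyK b hb))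
      · rw [Subgroup.closure_le]
        rintro g ⟨k, hk, rfl⟩
        show (MulAut.conj y₀) (x * k * x⁻¹ * k⁻¹) ∈ T
        rw [MulAut.conj_apply]
        have hxy' : y₀ * x = x * y₀ := hxy.symm
        have hxy'' : x⁻¹ * y₀⁻¹ = y₀⁻¹ * x⁻¹ := by
          rw [← mul_inv_rev, ← mul_inv_rev, hxy]
        have e : y₀ * (x * k * x⁻¹ * k⁻¹) * y₀⁻¹
            = x * (y₀ * k * y₀⁻¹) * x⁻¹ * (y₀ * k * y₀⁻¹)⁻¹ := by
          calc y₀ * (x * k * x⁻¹ * k⁻¹) * y₀⁻¹
              = (y₀ * x) * k * x⁻¹ * k⁻¹ * y₀⁻¹ := by group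
            _ = (x * y₀) * k * x⁻¹ * k⁻¹ * y₀⁻¹ := by rw [hxy']
            _ = x * y₀ * k * (y₀⁻¹ * y₀) * x⁻¹ * k⁻¹ * y₀⁻¹ := by group
            _ = x * y₀ * k * y₀⁻¹ * (y₀ * x⁻¹) * k⁻¹ * y₀⁻¹ := by group
            _ = x * y₀ * k * y₀⁻¹ * (x⁻¹ * y₀) * k⁻¹ * y₀⁻¹ := by
                have : y₀ * x⁻¹ = x⁻¹ * y₀ := by
                  calc y₀ * x⁻¹ = x⁻¹ * (x * y₀) * x⁻¹ := by group
                    _ = x⁻¹ * (y₀ * x) * x⁻¹ := by rw [hxy]
                    _ = x⁻¹ * y₀ := by group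
                rw [this]
            _ = x * (y₀ * k * y₀⁻¹) * x⁻¹ * (y₀ * k * y₀⁻¹)⁻¹ := by group
        rw [e]
        exact hxT _ (hyK k hk)
    intro t ht
    have := hle ht
    rwa [Subgroup.mem_comap] at this
  -- `ν` kills `T`
  have hTν : ∀ t (ht : t ∈ T), ν ⟨t, hTK ht⟩ = 1 := by
    have hle : T ≤ (ν.ker).map K.subtype := by
      refine sup_le ?_ ?_
      · rw [Subgroup.commutator_le]
        intro a ha b hb
        refine ⟨⁅(⟨a, ha⟩ : K), ⟨b, hb⟩⁆, ?_, rfl⟩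
        rw [SetLike.mem_coe, MonoidHom.mem_ker, map_commutatorElement]
        exact commutatorElement_eq_one_iff_commute.mpr (Commute.all _ _)
      · rw [Subgroup.closure_le]
        rintro g ⟨k, hk, rfl⟩
        refine ⟨cx 1 ⟨k, hk⟩ * (⟨k, hk⟩ : K)⁻¹, ?_, ?_⟩
        · rw [SetLike.mem_coe, MonoidHom.mem_ker, map_mul, hνx, map_inv, mul_inv_cancel]
        · show ((cx 1 ⟨k, hk⟩ * (⟨k, hk⟩ : K)⁻¹ : K) : G) = _
          rw [Subgroup.coe_mul, hcx, Subgroup.coe_inv, pow_one]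
    intro t ht
    obtain ⟨k, hk, hkt⟩ := hle ht
    have : (⟨t, hTK ht⟩ : K) = k := Subtype.ext hkt.symm
    rw [this]
    exact hk
  -- an element of `C_K(x)` outside `K'`
  obtain ⟨c, hc, hcK'⟩ := SetLike.not_le_iff_exists.mp hx
  have hcK : c ∈ K := hc.1
  have hcx' : x * c = c * x := by
    have := Subgroup.mem_centralizer_iff.mp hc.2 x (Set.mem_singleton x)
    exact this
  have hcpow : ∀ n : ℕ, x ^ n * c * (x ^ n)⁻¹ = c := by
    intro n
    have : Commute (x ^ n) c := (show Commute x c from hcx').pow_left n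
    rw [this.eq]; group
  have hνc : ν ⟨c, hcK⟩ = (Abelianization.of (⟨c, hcK⟩ : K)) ^ p := by
    rw [hν]
    have : ∀ i ∈ Finset.range p, Abelianization.of (cx i ⟨c, hcK⟩) =
        Abelianization.of (⟨c, hcK⟩ : K) := by
      intro i _
      congr 1
      apply Subtype.ext
      rw [hcx]
      exact hcpow i
    rw [Finset.prod_congr rfl this, Finset.prod_const, Finset.card_range]
  have hofc : Abelianization.of (⟨c, hcK⟩ : K) ≠ 1 := by
    intro h
    have h1 : (⟨c, hcK⟩ : K) ∈ (Abelianization.of (G := K)).ker := h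
    rw [Abelianization.ker_of] at h1
    apply hcK'
    rw [← Subgroup.map_subtype_commutator]
    exact ⟨⟨c, hcK⟩, h1, rfl⟩
  have hνc1 : ν ⟨c, hcK⟩ ≠ 1 := by
    rw [hνc]
    intro h
    apply hofc
    have h1 : orderOf (Abelianization.of (⟨c, hcK⟩ : K)) ∣ p := orderOf_dvd_of_pow_eq_one h
    have h2 : orderOf (Abelianization.of (⟨c, hcK⟩ : K)) ∣ Nat.card K := by
      have h3 : orderOf (Abelianization.of (⟨c, hcK⟩ : K)) ∣ orderOf (⟨c, hcK⟩ : K) :=
        orderOf_map_dvd _ _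
      exact h3.trans (orderOf_dvd_natCard _)
    rcases (Nat.dvd_prime hp).mp h1 with h4 | h4
    · exact orderOf_eq_one_iff.mp h4
    · exact absurd (h4 ▸ h2) hcop
  have hcT : c ∉ T := fun h => hνc1 (hTν c h)
  have hr1 : T.relIndex K ≠ 1 := by
    rw [Ne, Subgroup.relIndex_eq_one]
    exact fun h => hcT (h hcK)
  -- congruences
  have hKmod : Nat.card K ≡ 1 [MOD p] := card_modEq_one_of_fpf K y₀ p hy₀p hyK hfpf
  have hTmod : Nat.card T ≡ 1 [MOD p] :=
    card_modEq_one_of_fpf T y₀ p hy₀p hTy (fun t ht => hfpf t (hTK ht))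
  have hmul : Nat.card T * T.relIndex K = Nat.card K := by
    have := Subgroup.relIndex_mul_relIndex ⊥ T K bot_le hTK
    rwa [Subgroup.relIndex_bot_left, Subgroup.relIndex_bot_left] at this
  have hrmod : T.relIndex K ≡ 1 [MOD p] := by
    have h1 : Nat.card T * T.relIndex K ≡ 1 * T.relIndex K [MOD p] := hTmod.mul_right _
    rw [hmul, one_mul] at h1
    exact h1.symm.trans hKmod
  have hrodd : Odd (T.relIndex K) := by
    rw [← hmul] at hodd
    exact (Nat.odd_mul.mp hodd).2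
  exact ⟨T, hTK, hTnorm, hcomm, hxT, two_mul_add_one_le_of_modEq hp2 hrodd hr1 hrmod⟩

end Cfsg.Agent.Lib.Helper51.PF12G
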