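/-
helper51: project PIM (S4427, helper41 #4909), module PIM-[CHAR]:
for an idempotent `e` of `ℂ[G]`, `classTr e` (the trace function of the left ideal `ℂ[G] e`) is a
character.  Route B of the sheet: `⟨classTr e, χ⟩ = ∑ₓ e(x) χ(x) = tr ρ_χ(e)` is the rank of an
idempotent, a natural number.
-/
import Mathlib
import Cfsg.Agent.Lib.Helper41.PIM.Defs
import Cfsg.Agent.Lib.Helper78.CharMore
import Cfsg.Agent.Lib.Helper80.CharBasic

set_option autoImplicit false
set_option linter.unusedVariables false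
set_option linter.unusedSectionVars false

namespace Cfsg.Agent.Lib.Helper51.PIM

open Cfsg Cfsg.Agent.Lib.Helper16 Cfsg.Agent.Lib.Helper41.PIM
open scoped ComplexConjugate

universe u

variable {G : Type u} [Group G] [Fintype G]

/-- `classTr x` is a class function -/
theorem isClassFunction_classTr (x : MonoidAlgebra ℂ G) : IsClassFunction G (classTr x) := by
  intro g k
  unfold classTr
  apply Fintype.sum_equiv (Equiv.mulLeft k⁻¹)
  intro h
  congr 1
  simp only [Equiv.coe_mulLeft]
  group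

/-- the inner product of `classTr x` with a character -/
theorem classInner_classTr_char (x : MonoidAlgebra ℂ G) {χ : G → ℂ} (hχ : IsCharacter G χ) :
    classInner (classTr x) χ = ∑ y : G, x.coeff y * χ y := by
  have hcf := Cfsg.Agent.Lib.Helper78.IsCharacter.isClassFunction hχ
  unfold classInner classTr
  have h1 : ∀ g : G, (∑ h : G, x.coeff (h⁻¹ * g⁻¹ * h)) * conj (χ g) =
      ∑ h : G, x.coeff (h⁻¹ * g⁻¹ * h) * χ (h⁻¹ * g⁻¹ * h) := by
    intro g
    rw [Finset.sum_mul]
    apply Finset.sum_congr rfl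
    intro h _
    congr 1
    rw [Cfsg.Agent.Lib.Helper80.char_conj_eq_inv hχ g]
    have := hcf g⁻¹ h⁻¹
    rw [inv_inv] at this
    exact this.symm
  rw [Finset.sum_congr rfl (fun g _ => h1 g), Finset.sum_comm]
  have h2 : ∀ h : G, ∑ g : G, x.coeff (h⁻¹ * g⁻¹ * h) * χ (h⁻¹ * g⁻¹ * h) =
      ∑ y : G, x.coeff y * χ y := by
    intro h
    apply Fintype.sum_equiv ((Equiv.inv G).trans ((Equiv.mulLeft h⁻¹).trans (Equiv.mulRight h)))
    intro g
    simp
  rw [Finset.sum_congr rfl (fun h _ => h2 h), Finset.sum_const, Finset.card_univ, nsmul_eq_mul,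
    ← Nat.card_eq_fintype_card, ← mul_assoc, inv_mul_cancel₀, one_mul]
  have : 0 < Nat.card G := Nat.card_pos
  exact_mod_cast this.ne'

/-- `∑ₓ x(x) χ_ρ(x)` is the trace of `ρ(x)` -/
theorem sum_coeff_mul_character {V : Type*} [AddCommGroup V] [Module ℂ V]
    (ρ : Representation ℂ G V) (x : MonoidAlgebra ℂ G) :
    ∑ y : G, x.coeff y * ρ.character y = LinearMap.trace ℂ V (ρ.asAlgebraHom x) := by
  rw [Representation.asAlgebraHom_def, MonoidAlgebra.lift_apply]
  have h0 : (x.coeff.sum fun a b => b • ρ a) = ∑ y : G, x.coeff y • ρ y :=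
    Finsupp.sum_fintype _ _ (fun i => zero_smul _ _)
  rw [h0, map_sum]
  apply Finset.sum_congr rfl
  intro y _
  rw [map_smul, smul_eq_mul]
  rfl

/-- MODULE PIM-[CHAR] -/
theorem isCharacter_classTr (e : MonoidAlgebra ℂ G) (he : e * e = e) :
    IsCharacter G (classTr e) := by
  classical
  rw [Cfsg.Agent.Lib.Helper78.isCharacter_iff_exists_nat_combination]
  have hcoef : ∀ ψ : IrrCharacter G, ∃ m : ℕ, classInner (classTr e) (ψ : G → ℂ) = (m : ℂ) := by
    intro ψ
    obtain ⟨n, ρ, -, hρ⟩ := ψ.2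
    have hchar : IsCharacter G (ψ : G → ℂ) := Cfsg.Agent.Lib.Helper78.IsIrrCharacter.isCharacter ψ.2
    rw [classInner_classTr_char e hchar, ← hρ, sum_coeff_mul_character ρ e]
    have hidem : IsIdempotentElem (ρ.asAlgebraHom e) := by
      unfold IsIdempotentElem
      rw [← map_mul, he]
    have hproj := LinearMap.IsIdempotentElem.isProj_range _ hidem
    exact ⟨_, hproj.trace⟩
  choose m hm using hcoef
  refine ⟨m, ?_⟩
  conv_lhs => rw [Cfsg.Agent.Lib.Helper78.classFunction_eq_sum_irr (isClassFunction_classTr e)]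
  exact Finset.sum_congr rfl (fun ψ _ => by rw [hm ψ])

end Cfsg.Agent.Lib.Helper51.PIM
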