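/-
helper51: project HIG = S3050 (helper48), module HIG-[GEN].
-/
import Mathlib
import Cfsg.Agent.Lib.Helper48.Hig.Act
import Cfsg.Agent.Lib.Helper19.NatSL2Main

set_option autoImplicit false

namespace Cfsg.Agent.Lib.Helper51.Hig

open Matrix Matrix.SpecialLinearGroup
open scoped MatrixGroups
open Cfsg.Agent.Lib.Helper19.NatSL2
open Cfsg.Agent.Lib.Helper48.Hig

section abstract

variable {F : Type*} [Field F] [CharP F 2] {M : Type*} [CommGroup M] (φ : SL(2, F) →* MulAut M)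

/-! ### HIG-[GEN] -/

theorem orderOf_zz (a : Fˣ) : orderOf (uu (a : F) * ll ((a⁻¹ : Fˣ) : F)) = 3 := by
  have : Fact (Nat.Prime 3) := ⟨by norm_num⟩
  apply orderOf_eq_prime
  · rw [pow_succ, pow_two]
    exact zz_cube a
  · intro h
    have h1 : ((uu (a : F) * ll ((a⁻¹ : Fˣ) : F) : SL(2, F)) : Matrix (Fin 2) (Fin 2) F) 0 1 =
        (1 : Matrix (Fin 2) (Fin 2) F) 0 1 := by
      rw [h]; rfl
    rw [Matrix.SpecialLinearGroup.coe_mul] at h1
    simp [uu, Matrix.mul_apply, Fin.sum_univ_two] at h1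

omit [CharP F 2] in
/-- a norm element is fixed -/
theorem norm_fixed (hf : FPF φ) (z : SL(2, F)) (hz : orderOf z = 3) (m' : M) :
    m' * φ z m' * φ (z * z) m' = 1 := by
  apply hf z hz
  have hz3 : z * z * z = 1 := by
    have := pow_orderOf_eq_one z
    rw [hz, pow_succ, pow_two] at this
    exact this
  rw [map_mul, map_mul, ← phi_mul, ← phi_mul, ← mul_assoc, hz3, map_one, MulAut.one_apply]
  rw [mul_comm (φ z m' * φ (z * z) m') m', mul_assoc]

/-- fpf of `z = u(c⁻¹) l(c)` gives `l(c) m · n(c⁻¹) m · u(c⁻¹) m = 1`, `n(a) = h(a) w`. -/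
theorem gen_rel (hf : FPF φ) (c : Fˣ) (m : M) :
    φ (ll (c : F)) m * φ (hh c⁻¹ * ww) m * φ (uu ((c⁻¹ : Fˣ) : F)) m = 1 := by
  have hz := orderOf_zz (F := F) (c⁻¹)
  rw [inv_inv] at hz
  have h1 := norm_fixed φ hf _ hz (φ (ll (c : F)) m)
  have e1 : uu ((c⁻¹ : Fˣ) : F) * ll (c : F) * ll (c : F) = uu ((c⁻¹ : Fˣ) : F) := by
    rw [mul_assoc, ll_mul_self, mul_one]
  have e2 : uu ((c⁻¹ : Fˣ) : F) * ll (c : F) * (uu ((c⁻¹ : Fˣ) : F) * ll (c : F)) * ll (c : F) =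
      hh c⁻¹ * ww := by
    have h := uu_ll_uu (F := F) (c⁻¹)
    rw [inv_inv] at h
    rw [mul_assoc, mul_assoc (uu _) (ll _) (ll _), ll_mul_self, mul_one, h]
  rw [← phi_mul, ← phi_mul, e1, e2] at h1
  rw [mul_right_comm]
  exact h1

end abstract

end Cfsg.Agent.Lib.Helper51.Hig
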