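/-
helper51: project HIG = S3050 (helper48), module HIG-[V0INV].
-/
import Mathlib
import Cfsg.Agent.Lib.Helper48.Hig.Act
import Cfsg.Agent.Lib.Helper19.NatSL2Main
import Cfsg.Agent.Lib.Helper51.HigGen

set_option autoImplicit false

namespace Cfsg.Agent.Lib.Helper51.Hig

open Matrix Matrix.SpecialLinearGroup
open scoped MatrixGroups
open Cfsg.Agent.Lib.Helper19.NatSL2
open Cfsg.Agent.Lib.Helper48.Hig

section abstract

variable {F : Type*} [Field F] [CharP F 2] {M : Type*} [CommGroup M] (φ : SL(2, F) →* MulAut M)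

/-! ### HIG-[V0INV] -/

theorem fix_inf_ww (hf : FPF φ) {m : M} (h1 : m ∈ fixU φ) (h2 : φ ww m ∈ fixU φ) : m = 1 :=
  hf _ (orderOf_zz (F := F) 1) m (fixed_of_fixU_ww φ h1 h2 _)

theorem ll_fix (hf : FPF φ) (c : Fˣ) {w : M} (hw : w ∈ fixU φ) :
    φ (ll (c : F)) w = (φ (hh c⁻¹ * ww) w)⁻¹ * w⁻¹ := by
  have h := gen_rel φ hf c w
  rw [hw _] at h
  rw [← _root_.mul_inv_rev, eq_inv_iff_mul_eq_one, mul_comm w, ← mul_assoc]
  exact h

theorem uu_mul_ww (c : F) : uu c * ww = (ww : SL(2, F)) * ll c := by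
  rw [← ww_uu_ww, ← mul_assoc, ← mul_assoc, ww_mul_ww, one_mul]

theorem uu_ww_fix (hf : FPF φ) (c : Fˣ) {w : M} (hw : w ∈ fixU φ) :
    φ (uu (c : F)) (φ ww w) = (φ (hh c) w)⁻¹ * (φ ww w)⁻¹ := by
  rw [← phi_mul, uu_mul_ww, phi_mul, ll_fix φ hf c hw, map_mul, map_inv, map_inv, ← phi_mul]
  have e : (ww : SL(2, F)) * (hh c⁻¹ * ww) = hh c := by
    rw [← mul_assoc, ww_hh, inv_inv, mul_assoc, ww_mul_ww, mul_one]
  rw [e]

theorem V0_uu (hf : FPF φ) (s : F) {m : M} (hm : m ∈ V0 φ) : φ (uu s) m ∈ V0 φ := by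
  obtain ⟨w, hw, w', hw', rfl⟩ := (mem_V0 φ).mp hm
  by_cases hs : s = 0
  · rw [hs, uu_zero, map_one, MulAut.one_apply]
    exact hm
  · obtain ⟨c, rfl⟩ : ∃ c : Fˣ, (c : F) = s := ⟨Units.mk0 s hs, rfl⟩
    rw [map_mul, hw _, uu_ww_fix φ hf c hw', ← mul_assoc]
    exact (mem_V0 φ).mpr ⟨w * (φ (hh c) w')⁻¹, mul_mem hw (inv_mem (fixU_hh φ hw' c)), w'⁻¹,
      inv_mem hw', by rw [map_inv]⟩

theorem V0_ww {m : M} (hm : m ∈ V0 φ) : φ ww m ∈ V0 φ := by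
  obtain ⟨w, hw, w', hw', rfl⟩ := (mem_V0 φ).mp hm
  rw [map_mul, ← phi_mul, ww_mul_ww, map_one, MulAut.one_apply, mul_comm]
  exact (mem_V0 φ).mpr ⟨w', hw', w, hw, rfl⟩

theorem V0_invariant (hf : FPF φ) (g : SL(2, F)) {m : M} (hm : m ∈ V0 φ) : φ g m ∈ V0 φ := by
  revert m
  refine SL2.transvection_induction (fun g => ∀ {m : M}, m ∈ V0 φ → φ g m ∈ V0 φ) ?_ ?_ g
  · intro i j hij c m hm
    fin_cases i <;> fin_cases j
    · exact absurd rfl hij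
    · change φ (transvection (zero_ne_one : (0 : Fin 2) ≠ 1) c) m ∈ V0 φ
      rw [transvection01_eq]
      exact V0_uu φ hf c hm
    · change φ (transvection (one_ne_zero : (1 : Fin 2) ≠ 0) c) m ∈ V0 φ
      rw [transvection10_eq, ww_inv', phi_mul, phi_mul]
      exact V0_ww φ (V0_uu φ hf _ (V0_ww φ hm))
    · exact absurd rfl hij
  · intro A B hA hB m hm
    rw [phi_mul]
    exact hA (hB hm)

end abstract

end Cfsg.Agent.Lib.Helper51.Hig
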