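/-
helper51: project HIG = S3050 (helper48), module HIG-[FIXEXP].
-/
import Mathlib
import Cfsg.Agent.Lib.Helper48.Hig.Act
import Cfsg.Agent.Lib.Helper19.NatSL2Main
import Cfsg.Agent.Lib.Helper51.HigV0Inv

set_option autoImplicit false

namespace Cfsg.Agent.Lib.Helper51.Hig

open Matrix Matrix.SpecialLinearGroup
open scoped MatrixGroups
open Cfsg.Agent.Lib.Helper19.NatSL2
open Cfsg.Agent.Lib.Helper48.Hig

section abstract

variable {F : Type*} [Field F] [CharP F 2] {M : Type*} [CommGroup M] (φ : SL(2, F) →* MulAut M)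

/-! ### HIG-[FIXEXP] -/

/-- the basic relation: `(w·)²` of `ww w` in terms of the torus action on `w` -/
theorem ww_sq_eq (hf : FPF φ) (a b c : Fˣ) (hab : (a : F) + b = c) {w : M} (hw : w ∈ fixU φ) :
    φ ww w * φ ww w = (φ (hh c) w)⁻¹ * φ (hh b) w * (φ (hh a) w)⁻¹ := by
  have h1 : φ (uu (c : F)) (φ ww w) = φ (uu (a : F)) (φ (uu (b : F)) (φ ww w)) := by
    rw [← phi_mul φ (uu (a : F)) (uu (b : F)), ← uu_add, hab]
  rw [uu_ww_fix φ hf c hw, uu_ww_fix φ hf b hw, map_mul, map_inv, map_inv,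
    (fixU_hh φ hw b) _, uu_ww_fix φ hf a hw, _root_.mul_inv_rev, inv_inv, inv_inv] at h1
  -- h1 : (hh c w)⁻¹ (ww w)⁻¹ = (hh b w)⁻¹ (ww w * hh a w)
  generalize φ ww w = x at h1 ⊢
  generalize φ (hh a) w = y at h1 ⊢
  generalize φ (hh b) w = z at h1 ⊢
  generalize φ (hh c) w = t at h1 ⊢
  have ht : t⁻¹ = z⁻¹ * (x * y) * x := by rw [← h1, inv_mul_cancel_right]
  rw [ht]
  calc x * x = (z⁻¹ * z) * (y * y⁻¹) * (x * x) := by
        rw [inv_mul_cancel, mul_inv_cancel, one_mul, one_mul]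
    _ = z⁻¹ * (x * y) * x * z * y⁻¹ := by ac_rfl

theorem fixU_sq (hf : FPF φ) (hF : ∃ a b : F, a ≠ 0 ∧ b ≠ 0 ∧ a + b ≠ 0) {w : M} (hw : w ∈ fixU φ) :
    w * w = 1 := by
  obtain ⟨a, b, ha, hb, hab⟩ := hF
  have h := ww_sq_eq φ hf (Units.mk0 a ha) (Units.mk0 b hb) (Units.mk0 (a + b) hab) rfl hw
  apply fix_inf_ww φ hf (mul_mem hw hw)
  rw [map_mul, h]
  exact mul_mem (mul_mem (inv_mem (fixU_hh φ hw _)) (fixU_hh φ hw _)) (inv_mem (fixU_hh φ hw _))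

theorem hh_add_fix (hf : FPF φ) (a b c : Fˣ) (hab : (a : F) + b = c) {w : M} (hw : w ∈ fixU φ) :
    φ (hh c) w = φ (hh a) w * φ (hh b) w := by
  have hF : ∃ a b : F, a ≠ 0 ∧ b ≠ 0 ∧ a + b ≠ 0 :=
    ⟨a, b, a.ne_zero, b.ne_zero, by rw [hab]; exact c.ne_zero⟩
  have h := ww_sq_eq φ hf a b c hab hw
  have hsq : φ ww w * φ ww w = 1 := by
    rw [← map_mul, fixU_sq φ hf hF hw, map_one]
  rw [hsq] at h
  have ha : (φ (hh a) w)⁻¹ = φ (hh a) w :=
    inv_eq_of_mul_eq_one_left (fixU_sq φ hf hF (fixU_hh φ hw a))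
  rw [ha] at h
  -- 1 = (hh c w)⁻¹ * hh b w * hh a w
  generalize φ (hh a) w = y at h ⊢
  generalize φ (hh b) w = z at h ⊢
  generalize φ (hh c) w = t at h ⊢
  calc t = t * (t⁻¹ * z * y) := by rw [← h, mul_one]
    _ = (t * t⁻¹) * (y * z) := by ac_rfl
    _ = y * z := by rw [mul_inv_cancel, one_mul]

end abstract

end Cfsg.Agent.Lib.Helper51.Hig
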