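/-
helper51: hedge of GSB-[CRIT] (S2751 case (B), helper68's sheet Lib/Helper68/AmalBSHEET.md), `_of` form.
-/
import Mathlib
import Cfsg.Prelude.Def_Amalgam
import Cfsg.Agent.Lib.Helper68.AmalBDefs
import Cfsg.Agent.Lib.Helper68.AmalBTools
import Cfsg.Agent.Lib.Helper46.Amalgam2

set_option autoImplicit false

namespace Cfsg.Agent.Lib.Helper51.AmalB

open Cfsg Cfsg.Agent.Lib.Helper68.AmalB Cfsg.Agent.Lib.Helper12.Amal Cfsg.Agent.Lib.Helper68.AmalD Cfsg.Agent.Lib.Helper68.AmalW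

variable {G : Type*} [Group G] {P₁ P₂ : Subgroup G}

/-- **[B-CRIT]** in `_of` form: hypotheses = the statements of `Zb_le` ([B-P2a]) and `minB_two`
([B-P3]). helper51's hedge of GSB-[CRIT]; the exact statement `exists_crit hB` is
`exists_crit_of hB (fun hxy hy => Zb_le hB hxy hy) (minB_two hB)`. -/
theorem exists_crit_of (hB : BaseB P₁ P₂)
    (hZb : ∀ {x y : CosetVertex P₁ P₂}, (cosetGraph P₁ P₂).Adj x y → Cfsg.Agent.Lib.Helper68.AmalB.IsB y → Zv y ≤ Zv x)
    (hmin2 : MinB P₁ P₂ 2) :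
    ∃ (n : ℕ) (x y : CosetVertex P₁ P₂), 2 ≤ n ∧ CritPair P₁ P₂ n x y ∧ ¬ Cfsg.Agent.Lib.Helper68.AmalB.IsB x := by
  classical
  have hW := hB.W
  -- some pair is critical
  have hex : ∃ n, ∃ x y : CosetVertex P₁ P₂,
      (cosetGraph P₁ P₂).dist x y = n ∧ ¬ vertexZ 2 x ≤ vertexQ 2 y := by
    by_contra hcon
    push Not at hcon
    obtain ⟨x₀, -⟩ : ∃ x₀ : CosetVertex P₁ P₂, True := ⟨Sum.inl ((1 : G) : G ⧸ P₁), trivial⟩
    obtain ⟨y₀, hadj⟩ := exists_adj x₀
    apply hB.ne_bot x₀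
    -- K = the kernel of the action on the vertices
    set K : Subgroup G := ⨅ v : CosetVertex P₁ P₂, Gv v with hK
    have hmemK : ∀ k : G, k ∈ K ↔ ∀ v : CosetVertex P₁ P₂, k • v = v := by
      intro k
      rw [hK, Subgroup.mem_iInf]
      exact forall_congr' fun v => MulAction.mem_stabilizer_iff
    have hZK : Zv x₀ ≤ K := by
      intro z hz
      rw [hmemK]
      intro v
      have h1 : z ∈ Qv v := hcon _ x₀ v rfl hz
      exact MulAction.mem_stabilizer_iff.1 (Q_le_G hW v h1)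
    have hnorm : ∀ g : G, ∀ k ∈ K, g * k * g⁻¹ ∈ K := by
      intro g k hk
      rw [hmemK] at hk ⊢
      intro v
      rw [mul_smul, mul_smul, hk (g⁻¹ • v), smul_inv_smul]
    have hKbot : K = ⊥ := by
      apply hW.core x₀ y₀ hadj K
      · intro k hk
        exact ⟨MulAction.mem_stabilizer_iff.2 ((hmemK k).1 hk x₀),
          MulAction.mem_stabilizer_iff.2 ((hmemK k).1 hk y₀)⟩
      · exact le_normalizer_of_forall fun g _ k hk => hnorm g k hk
      · exact le_normalizer_of_forall fun g _ k hk => hnorm g k hk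
    rw [hKbot] at hZK
    exact le_bot_iff.1 hZK
  obtain ⟨x, y, hd, hc⟩ := Nat.find_spec hex
  have hbelow : Below P₁ P₂ (Nat.find hex) := by
    intro u v huv
    by_contra hcon
    exact Nat.find_min hex huv ⟨u, v, rfl, hcon⟩
  have h2 : 2 ≤ Nat.find hex := by
    have := hmin2 x y hc
    rw [hd] at this
    exact this
  refine ⟨Nat.find hex, x, y, h2, ⟨hbelow, hd, hc⟩, ?_⟩
  -- `x` is of α-type
  intro hxB
  obtain ⟨m, hm⟩ : ∃ m, Nat.find hex = m + 1 := ⟨Nat.find hex - 1, by omega⟩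
  rw [hm] at hd
  obtain ⟨x', hxx', hx'y⟩ := Cfsg.Agent.Lib.Helper46.exists_adj_dist_eq hW.conn hd
  have h1 : Zv x ≤ Zv x' := hZb hxx'.symm hxB
  have h3 : Zv x' ≤ Qv y := hbelow x' y (by rw [hx'y, hm]; omega)
  exact hc (h1.trans h3)

end Cfsg.Agent.Lib.Helper51.AmalB
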