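/-
helper51: GSB-[CRIT] (S2751 case (B), helper68's sheet Lib/Helper68/AmalBSHEET.md), EXACT sheet
statement `exists_crit`, assembled from `exists_crit_of` (Lib/Helper51/AmalBCritOf.lean),
`Zb_le` ([B-P2a], Lib/Helper19/AmalBP2a.lean) and `minB_two` ([B-P3], Lib/Helper7/AmalBP3.lean).
-/
import Mathlib
import Cfsg.Prelude.Def_Amalgam
import Cfsg.Agent.Lib.Helper68.AmalBDefs
import Cfsg.Agent.Lib.Helper68.AmalBTools
import Cfsg.Agent.Lib.Helper19.AmalBP2a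
import Cfsg.Agent.Lib.Helper7.AmalBP3
import Cfsg.Agent.Lib.Helper51.AmalBCritOf

set_option autoImplicit false

namespace Cfsg.Agent.Lib.Helper51.AmalB

open Cfsg Cfsg.Agent.Lib.Helper68.AmalB Cfsg.Agent.Lib.Helper12.Amal Cfsg.Agent.Lib.Helper68.AmalD Cfsg.Agent.Lib.Helper68.AmalW

variable {G : Type*} [Group G] {P₁ P₂ : Subgroup G}

/-- **[B-CRIT]**, exact sheet statement (helper51's namespace). -/
theorem exists_crit (hB : BaseB P₁ P₂) :
    ∃ (n : ℕ) (x y : CosetVertex P₁ P₂), 2 ≤ n ∧ CritPair P₁ P₂ n x y ∧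
      ¬ Cfsg.Agent.Lib.Helper68.AmalB.IsB x :=
  exists_crit_of hB (fun hxy hy => Cfsg.Agent.Lib.Helper68.AmalB.Zb_le hB hxy hy)
    (Cfsg.Agent.Lib.Helper68.AmalB.H7.minB_two hB)

end Cfsg.Agent.Lib.Helper51.AmalB
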