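/-
helper51: B&G Theorem 15.7 (book form) and helper26's `Stmt1440w`, UNCONDITIONALLY
(the TI clause is the landed row S1357).
-/
import Cfsg.Agent.Lib.Helper51.BGFifteenSevenMain
import Cfsg.Agent.S1357

set_option autoImplicit false

namespace Cfsg.Agent.Lib.Helper51.BGFifteenSeven

open Cfsg

variable {G : Type*} [Group G] [Finite G]

/-- the literal body of the row S1357, from the landed row. -/
theorem stmt1357 (hG : IsMinSimpleOddOrder G) : Cfsg.Agent.Lib.Helper4.PF.Stmt1357 G :=
  fun M hM K U hKU hne => Cfsg.Agent.S1357.result hG M hM K U hKU hne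

/-- helper26's weak form of the row S1440 (`X ≤ M_F` and the three-case disjunction), unconditionally. -/
theorem stmt1440w (hG : IsMinSimpleOddOrder G) : Cfsg.Agent.Lib.Helper26.BGTypes.Stmt1440w G :=
  stmt1440w_of hG (stmt1357 hG)

end Cfsg.Agent.Lib.Helper51.BGFifteenSeven
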