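import Cfsg.Agent.Lib.Helper51.BGTwelveB
import Cfsg.Agent.Lib.Helper48.Generation
import Cfsg.Agent.Lib.Helper68.BG108
import Cfsg.Agent.Lib.Helper46.BGTenA

/-!
# Bender–Glauberman Proposition 12.4 (helper51), part C: `M_α = 1`, `M'` and `M_σ` nilpotent
-/

set_option autoImplicit false

namespace Cfsg.Agent.Lib.Helper51.BG12

open Cfsg
open scoped Pointwise
open Cfsg.Agent.Lib.Helper34 (UniquenessThm)
open Cfsg.Agent.Lib.Helper54

variable {G : Type*} [Group G]

theorem centralizer_singleton_le_normalizer_zpowers (u : G) :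
    Subgroup.centralizer ({u} : Set G) ≤ Subgroup.normalizer ((Subgroup.zpowers u : Subgroup G) : Set G) := by
  have h1 : Subgroup.centralizer ({u} : Set G) =
      Subgroup.centralizer ((Subgroup.zpowers u : Subgroup G) : Set G) := by
    rw [Subgroup.zpowers_eq_closure, Subgroup.centralizer_closure]
  rw [h1]
  exact Subgroup.centralizer_le_normalizer _

theorem card_zpowers_of_mem_elemAb {p : ℕ} [Fact p.Prime] {A : Subgroup G}
    (hAe : IsElementaryAbelian p A) {u : G} (hu : u ∈ A) (hu1 : u ≠ 1) :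
    Nat.card (Subgroup.zpowers u) = p := by
  rw [Nat.card_zpowers]
  exact orderOf_eq_prime (hAe.2 u hu) hu1

theorem exists_ne_one_of_card_sq [Finite G] {p : ℕ} [Fact p.Prime] {A : Subgroup G}
    (hAc : Nat.card A = p ^ 2) : ∃ u ∈ A, u ≠ 1 := by
  have hp : p.Prime := Fact.out
  have hA1 : A ≠ ⊥ := by
    intro h0
    rw [h0, Subgroup.card_bot] at hAc
    have h1 : 1 < p ^ 2 := Nat.one_lt_pow (by norm_num) hp.one_lt
    omega
  obtain ⟨a, ha1⟩ := (Subgroup.ne_bot_iff_exists_ne_one).mp hA1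
  exact ⟨a, a.2, fun h => ha1 (Subtype.ext h)⟩

/-- Step 2 of BG 12.4: `M_α = 1`. -/
theorem alphaCore_eq_bot_of_hLine [Finite G] (hG : IsMinSimpleOddOrder G) (hU : UniquenessThm G)
    (h117 : H117 G) (p : ℕ) [Fact p.Prime] (hPL : ∀ H : Subgroup G, H ≠ ⊤ → PLengthLE p 1 H)
    (M : Subgroup G) (hM : IsCoatom M) (A : Subgroup G) (hAM : A ≤ M)
    (hAe : IsElementaryAbelian p A) (hAc : Nat.card A = p ^ 2) (hH : HLine M p A)
    (hpα : p ∉ alpha M)
    (h1406 : (∀ q : ℕ, q.Prime → q ∣ Nat.card A → q ∉ alpha M) →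
      ¬ RankLE 1 ↥(alphaCore M ⊓ Subgroup.centralizer (A : Set G)) →
      InUniqueMaximal (M ⊓ Subgroup.centralizer (A : Set G))) :
    alphaCore M = ⊥ := by
  by_contra hne
  have hp : p.Prime := Fact.out
  have hcomm : ∀ x ∈ A, ∀ y ∈ A, x * y = y * x := fun _ hx _ hy =>
    Cfsg.Agent.Lib.Helper45.IsElementaryAbelian_comm hAe hx hy
  have h1405 := Cfsg.Agent.Lib.Helper50.s1405_of hG (uniqThree_of_uniquenessThm hU) M hM
  have hKp : ¬ p ∣ Nat.card (alphaCore M) := fun h => hpα (alphaCore_isPi M p hp h)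
  have hAK : A ≤ Subgroup.normalizer (alphaCore M : Set G) :=
    hAM.trans (le_normalizer_piCoreOf (alpha M) M)
  -- (i) `A` centralizes `M_α`
  have hcent : alphaCore M ≤ Subgroup.centralizer (A : Set G) := by
    apply Cfsg.Agent.Lib.Helper48.elemAb_generation A hcomm hAe.2 (le_of_eq hAc.symm)
      (alphaCore M) (Subgroup.centralizer (A : Set G)) hKp hAK
    intro u hu hu1
    have hA₀ : Subgroup.zpowers u ≤ A := by rw [Subgroup.zpowers_le]; exact hu
    have hc := card_zpowers_of_mem_elemAb hAe hu hu1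
    obtain ⟨Ms, hMs, hne', hN⟩ := hH _ hA₀ hc
    have h3 := alphaCore_inf_le_centralizer hG hU h117 p hPL M Ms hM hMs hne' hpα
      (Subgroup.zpowers u) A hAM hAe hAc hA₀ hc hN
    refine le_trans ?_ h3
    exact inf_le_inf_left _ ((centralizer_singleton_le_normalizer_zpowers u).trans hN)
  -- (ii) `M_α` has rank at least 3
  have hr0 : ¬ RankLE 1 ↥(alphaCore M) := by
    intro hr
    have hc1 : Nat.card (alphaCore M) ≠ 1 := fun h => hne (Subgroup.card_eq_one.mp h)
    obtain ⟨q, hq, hqd⟩ := Nat.exists_prime_and_dvd hc1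
    have hqα := alphaCore_isPi M q hq hqd
    have : Fact q.Prime := ⟨hq⟩
    obtain ⟨P₀⟩ : Nonempty (Sylow q (alphaCore M)) := inferInstance
    have h1 := Cfsg.Agent.Lib.Helper46.BGTen.not_pRankLE_sylow_of_hall h1405.1.1
      (h1405.1.2.2 q hq hqα) P₀ hqα.2
    apply h1
    exact pRankLE_of_le (Subgroup.map_subtype_le _)
      (pRankLE_mono_right hq.pos (by norm_num) (hr q hq))
  have hr : ¬ RankLE 1 ↥(alphaCore M ⊓ Subgroup.centralizer (A : Set G)) := by
    rw [inf_eq_left.mpr hcent]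
    exact hr0
  have hU1 := h1406 (fun q hq hqd => by
    rw [hAc] at hqd
    have := (Nat.prime_dvd_prime_iff_eq hq hp).mp (hq.dvd_of_dvd_pow hqd)
    rw [this]
    exact hpα) hr
  obtain ⟨u, hu, hu1⟩ := exists_ne_one_of_card_sq hAc
  have hA₀ : Subgroup.zpowers u ≤ A := by rw [Subgroup.zpowers_le]; exact hu
  have hc := card_zpowers_of_mem_elemAb hAe hu hu1
  obtain ⟨Ms, hMs, hne', hN⟩ := hH _ hA₀ hc
  obtain ⟨L, hL, hXL, hu'⟩ := exists_forall_of_inUniqueMaximal hU1
  have e1 : M = L := hu' M hM inf_le_left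
  have e2 : Ms = L := hu' Ms hMs (inf_le_right.trans ((Subgroup.centralizer_le hA₀).trans
    ((Subgroup.centralizer_le_normalizer _).trans hN)))
  exact hne' (e2.trans e1.symm)

/-- Step 3 of BG 12.4: if `M_α = 1` then `M'` and `M_σ` are nilpotent. -/
theorem isNilpotent_of_alphaCore_eq_bot [Finite G] (hG : IsMinSimpleOddOrder G)
    (hU : UniquenessThm G)
    (h1411 : ∀ (q : ℕ) [Fact q.Prime] (P : Sylow q G),
      (P : Subgroup G) ≤ ⁅Subgroup.normalizer ((P : Subgroup G) : Set G),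
        Subgroup.normalizer ((P : Subgroup G) : Set G)⁆)
    (M : Subgroup G) (hM : IsCoatom M) (hα : alphaCore M = ⊥) :
    Group.IsNilpotent ↥(⁅M, M⁆ : Subgroup G) ∧ Group.IsNilpotent ↥(sigmaCore M) := by
  have h1405 := Cfsg.Agent.Lib.Helper50.s1405_of hG (uniqThree_of_uniquenessThm hU) M hM
  have hN : piCore (alpha M) ↥M = ⊥ := by
    have h0 : (piCore (alpha M) ↥M).map M.subtype = ⊥ := hα
    exact (Subgroup.map_eq_bot_iff_of_injective _ M.subtype_injective).mp h0
  have h5 := h1405.2.2.2.2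
  have hc : Group.IsNilpotent ↥(commutator ↥M) := by
    have : Group.IsNilpotent
        ↥((commutator ↥M).map (QuotientGroup.mk' (piCore (alpha M) ↥M))) := h5
    refine Subgroup.isNilpotent_of_ker_le_center
      ((QuotientGroup.mk' (piCore (alpha M) ↥M)).subgroupMap (commutator ↥M)) ?_
    intro x hx
    rw [MonoidHom.mem_ker] at hx
    have h1 : (QuotientGroup.mk' (piCore (alpha M) ↥M)) x.1 = 1 := by
      have := congrArg Subtype.val hx
      simpa using this
    rw [QuotientGroup.mk'_apply, QuotientGroup.eq_one_iff, hN, Subgroup.mem_bot] at h1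
    have h2 : x = 1 := Subtype.ext h1
    rw [h2]
    exact Subgroup.one_mem _
  have hM' : Group.IsNilpotent ↥(⁅M, M⁆ : Subgroup G) := by
    rw [← Subgroup.map_subtype_commutator M]
    exact @Group.nilpotent_of_mulEquiv _ _ _ _ hc
      ((commutator ↥M).equivMapOfInjective M.subtype M.subtype_injective)
  refine ⟨hM', ?_⟩
  have hle : sigmaCore M ≤ ⁅M, M⁆ :=
    Cfsg.Agent.Lib.Helper68.sigmaCore_le_commutator (fun q _ P _ _ => h1411 q P)
  refine Subgroup.isNilpotent_of_ker_le_center (Subgroup.inclusion hle) ?_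
  rw [(Subgroup.inclusion hle).ker_eq_bot_iff.mpr (Subgroup.inclusion_injective hle)]
  exact bot_le

end Cfsg.Agent.Lib.Helper51.BG12
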