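import Cfsg.Agent.Lib.Helper51.BGTwelveC
import Cfsg.Agent.S1396

/-!
# Bender–Glauberman Proposition 12.4 (helper51), part D: `p ∈ σ(M)`
-/

set_option autoImplicit false

namespace Cfsg.Agent.Lib.Helper51.BG12

open Cfsg
open scoped Pointwise
open Cfsg.Agent.Lib.Helper34 (UniquenessThm)
open Cfsg.Agent.Lib.Helper54

variable {G : Type*} [Group G]

/-- In a nilpotent subgroup `K`, the image of a Sylow subgroup is normalized by `N_G(K)`. -/
theorem le_normalizer_map_sylow_of_isNilpotent [Finite G] {q : ℕ} [Fact q.Prime] (K : Subgroup G)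
    (hK : Group.IsNilpotent ↥K) (Q : Sylow q ↥K) :
    Subgroup.normalizer (K : Set G) ≤
      Subgroup.normalizer (((Q : Subgroup ↥K).map K.subtype : Subgroup G) : Set G) := by
  intro g hg
  set P : Subgroup G := (Q : Subgroup ↥K).map K.subtype with hP
  have hPK : P ≤ K := Subgroup.map_subtype_le _
  have hPq : IsPGroup q P := Q.isPGroup'.map _
  rw [mem_normalizer_iff_conj_smul]
  have h1 : MulAut.conj g • P ≤ K := by
    have := conj_smul_le_conj_smul (g := g) hPK
    rwa [mem_normalizer_iff_conj_smul.mp hg] at this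
  have hQn : (Q : Subgroup ↥K).Normal := inferInstance
  have h2 : (MulAut.conj g • P).subgroupOf K ≤ Q := by
    have hq : IsPGroup q ((MulAut.conj g • P).subgroupOf K) :=
      (isPGroup_conj_smul hPq g).comap_subtype
    obtain ⟨Q', hQ'⟩ := hq.exists_le_sylow
    have := Sylow.unique_of_normal Q hQn
    have e : Q' = Q := Subsingleton.elim _ _
    rwa [e] at hQ'
  apply Subgroup.eq_of_le_of_card_ge
  · intro x hx
    have hxK := h1 hx
    have h3 : (⟨x, hxK⟩ : K) ∈ (Q : Subgroup ↥K) := h2 (Subgroup.mem_subgroupOf.mpr hx)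
    exact ⟨⟨x, hxK⟩, h3, rfl⟩
  · rw [card_conj_smul]

theorem isPGroup_of_forall_prime_dvd [Finite G] {q : ℕ} [Fact q.Prime] {R : Subgroup G}
    (h : ∀ r : ℕ, r.Prime → r ∣ Nat.card R → r ∈ ({q} : Set ℕ)) : IsPGroup q R := by
  have h0 : Nat.card R ≠ 0 := Nat.card_pos.ne'
  have := Nat.eq_prime_pow_of_unique_prime_dvd h0 (fun {d} hd hdd => h d hd hdd)
  exact IsPGroup.of_card this

theorem le_normalizer_commutator (M : Subgroup G) :
    M ≤ Subgroup.normalizer ((⁅M, M⁆ : Subgroup G) : Set G) := by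
  rw [← Subgroup.map_subtype_commutator M]
  exact le_normalizer_map_subtype M (commutator ↥M)

/-- The transitivity hypothesis for a maximal elementary abelian `A` of order `p ^ 2`. -/
theorem transitivityHypothesis_of_maximal [Finite G] (hG : IsMinSimpleOddOrder G)
    (p : ℕ) [Fact p.Prime] (hPL : ∀ H : Subgroup G, H ≠ ⊤ → PLengthLE p 1 H)
    (A : Subgroup G) (hAe : IsElementaryAbelian p A) (hA1 : A ≠ ⊥)
    (hmax : ∀ B : Subgroup G, IsElementaryAbelian p B → A ≤ B → B = A) :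
    TransitivityHypothesis A := by
  have hAp : IsPGroup p A := Cfsg.Agent.Lib.Helper34.isPGroup_of_isElementaryAbelian hAe
  have hpG : p ∣ Nat.card G :=
    (dvd_card_of_isPGroup_ne_bot hAp hA1).trans (Subgroup.card_subgroup_dvd_card _)
  refine Cfsg.Agent.S1396.result hG p hpG A hAp hAe.1 (Or.inl ⟨?_, hPL⟩)
  intro x hx
  refine ⟨fun hxp => ?_, fun hxA => hAe.2 x hxA⟩
  have hB : IsElementaryAbelian p (A ⊔ Subgroup.zpowers x) := by
    apply Cfsg.Agent.Lib.Helper45.isElementaryAbelian_sup hAe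
      (Cfsg.Agent.Lib.Helper34.isElementaryAbelian_zpowers hxp)
    intro a ha b hb
    obtain ⟨k, rfl⟩ := Subgroup.mem_zpowers_iff.mp hb
    have h1 : Commute a x := (Subgroup.mem_centralizer_iff.mp hx a ha)
    exact (h1.zpow_right k)
  have := hmax _ hB le_sup_left
  rw [← this]
  exact Subgroup.mem_sup_right (Subgroup.mem_zpowers x)

/-- Step 5 of BG 12.4: `p ∈ σ(M)`. -/
theorem mem_sigma_of_hLine [Finite G] (hG : IsMinSimpleOddOrder G) (hU : UniquenessThm G)
    (h117 : H117 G)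
    (M : Subgroup G) (hM : IsCoatom M) (hσ1 : sigmaCore M ≠ ⊥)
    (hnσ : Group.IsNilpotent ↥(sigmaCore M)) (hnM : Group.IsNilpotent ↥(⁅M, M⁆ : Subgroup G))
    (p : ℕ) [Fact p.Prime] (hPL : ∀ H : Subgroup G, H ≠ ⊤ → PLengthLE p 1 H)
    (A : Subgroup G) (hAM : A ≤ M)
    (hAe : IsElementaryAbelian p A) (hAc : Nat.card A = p ^ 2) (hH : HLine M p A)
    (hT : TransitivityHypothesis A →
      ¬ RankLE 1 ↥(A ⊓ Subgroup.centralizer (A : Set G)) →
      ∀ q : ℕ, q.Prime → q ≠ p → q ∣ Nat.card (Subgroup.centralizer (A : Set G)) →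
      ∀ Q ∈ maxInvSubgroups ⊤ A {q}, ∃ S : Sylow p G, A ≤ (S : Subgroup G) ∧
        (S : Subgroup G) ≤ ⁅Subgroup.normalizer (Q : Set G), Subgroup.normalizer (Q : Set G)⁆) :
    p ∈ sigma M := by
  by_contra hpσ
  have hp : p.Prime := Fact.out
  have hs : IsSimpleGroup G := hG.2.1
  have hcomm : ∀ x ∈ A, ∀ y ∈ A, x * y = y * x := fun _ hx _ hy =>
    Cfsg.Agent.Lib.Helper45.IsElementaryAbelian_comm hAe hx hy
  have hAp : IsPGroup p A := Cfsg.Agent.Lib.Helper34.isPGroup_of_isElementaryAbelian hAe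
  have hA1 : A ≠ ⊥ := by
    intro h0
    rw [h0, Subgroup.card_bot] at hAc
    have h1 : 1 < p ^ 2 := Nat.one_lt_pow (by norm_num) hp.one_lt
    omega
  -- a prime `q ∈ σ(M)` and `Q = O_q(M)`
  have hc1 : Nat.card (sigmaCore M) ≠ 1 := fun h => hσ1 (Subgroup.card_eq_one.mp h)
  obtain ⟨q, hq, hqd⟩ := Nat.exists_prime_and_dvd hc1
  have hqσ : q ∈ sigma M := sigmaCore_isPi M q hq hqd
  have hqp : q ≠ p := fun h => hpσ (h ▸ hqσ)
  have : Fact q.Prime := ⟨hq⟩
  obtain ⟨S₀⟩ : Nonempty (Sylow q (sigmaCore M)) := inferInstance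
  set Q : Subgroup G := (S₀ : Subgroup (sigmaCore M)).map (sigmaCore M).subtype with hQdef
  obtain ⟨hQmax, hNQ⟩ := sylow_sigmaCore_facts hG hU M hM q hqσ S₀
  have hQq : IsPGroup q Q := S₀.isPGroup'.map _
  have hQσ : Q ≤ sigmaCore M := Subgroup.map_subtype_le _
  have hQM : Q ≤ M := hQσ.trans (sigmaCore_le M)
  have hQ1 : Q ≠ ⊥ := by
    intro h0
    have h1 : Nat.card Q = Nat.card (S₀ : Subgroup (sigmaCore M)) :=
      Subgroup.card_map_of_injective (Subgroup.subtype_injective _)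
    rw [h0, Subgroup.card_bot] at h1
    have h2 : q ∣ Nat.card (S₀ : Subgroup (sigmaCore M)) := by
      rw [S₀.card_eq_multiplicity]
      exact dvd_pow_self q (Nat.Prime.factorization_pos_of_dvd hq Nat.card_pos.ne' hqd).ne'
    rw [← h1] at h2
    exact hq.one_lt.ne' (Nat.dvd_one.mp h2)
  have hMQ : M ≤ Subgroup.normalizer (Q : Set G) :=
    (le_normalizer_sigmaCore M).trans (le_normalizer_map_sylow_of_isNilpotent _ hnσ S₀)
  have hNQeq : Subgroup.normalizer (Q : Set G) = M := le_antisymm hNQ hMQ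
  -- `A` centralizes `Q`
  have hQp : ¬ p ∣ Nat.card Q := by
    intro h
    obtain ⟨k, hk⟩ := IsPGroup.iff_card.mp hQq
    rw [hk] at h
    exact hqp ((Nat.prime_dvd_prime_iff_eq hp hq).mp (hp.dvd_of_dvd_pow h)).symm
  have hQA : Q ≤ Subgroup.centralizer (A : Set G) := by
    apply Cfsg.Agent.Lib.Helper48.elemAb_generation A hcomm hAe.2 (le_of_eq hAc.symm)
      Q (Subgroup.centralizer (A : Set G)) hQp (hAM.trans hMQ)
    intro u hu hu1
    have hA₀ : Subgroup.zpowers u ≤ A := by rw [Subgroup.zpowers_le]; exact hu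
    have hc := card_zpowers_of_mem_elemAb hAe hu hu1
    obtain ⟨Ms, hMs, hne', hN⟩ := hH _ hA₀ hc
    have h3 := sigmaCore_inf_le_centralizer hG hU h117 p hPL M Ms hM hMs hne' hpσ hnσ
      (Subgroup.zpowers u) A hAM hAe hAc hA₀ hc hN
    refine le_trans ?_ h3
    exact inf_le_inf hQσ ((centralizer_singleton_le_normalizer_zpowers u).trans hN)
  have hqC : q ∣ Nat.card (Subgroup.centralizer (A : Set G)) :=
    (dvd_card_of_isPGroup_ne_bot hQq hQ1).trans (Subgroup.card_dvd_of_le hQA)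
  -- the transitivity hypothesis
  have hmax : ∀ B : Subgroup G, IsElementaryAbelian p B → A ≤ B → B = A := fun B hB hAB =>
    Cfsg.Agent.Lib.Helper34.eq_of_le_isElementaryAbelian hU hM hpσ hAM hAe hAc hB hAB
  have hTH := transitivityHypothesis_of_maximal hG p hPL A hAe hA1 hmax
  have hZ : ¬ RankLE 1 ↥(A ⊓ Subgroup.centralizer (A : Set G)) := by
    apply Cfsg.Agent.Lib.Helper34.not_rankLE_of_isElementaryAbelian hAe
      (le_inf le_rfl (le_centralizer_of_le_of_comm le_rfl hcomm))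
    rw [hAc]
    exact Nat.pow_lt_pow_right hp.one_lt (by norm_num)
  have hQmem : Q ∈ maxInvSubgroups ⊤ A {q} := by
    refine ⟨⟨le_top, ?_, hAM.trans hMQ⟩, ?_⟩
    · intro r hr hrd
      obtain ⟨k, hk⟩ := IsPGroup.iff_card.mp hQq
      rw [hk] at hrd
      exact (Nat.prime_dvd_prime_iff_eq hr hq).mp (hr.dvd_of_dvd_pow hrd)
    · rintro R ⟨-, hRq, -⟩ hQR
      exact hQmax R (isPGroup_of_forall_prime_dvd hRq) hQR
  obtain ⟨S, hAS, hSN⟩ := hT hTH hZ q hq hqp hqC Q hQmem
  rw [hNQeq] at hSN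
  -- `S` is normal in `M`
  have hSp : IsPGroup p (S : Subgroup G) := S.isPGroup'
  have hSmax : ∀ R : Subgroup G, IsPGroup p R → (S : Subgroup G) ≤ R → R = (S : Subgroup G) :=
    fun R hR hSR => S.is_maximal' hR hSR
  obtain ⟨S', hS'⟩ := exists_sylow_map_eq (S : Subgroup G) hSp hSmax ⁅M, M⁆ hSN
  have hMS : M ≤ Subgroup.normalizer ((S : Subgroup G) : Set G) := by
    rw [← hS']
    exact (le_normalizer_commutator M).trans (le_normalizer_map_sylow_of_isNilpotent _ hnM S')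
  have hSM : (S : Subgroup G) ≤ M := hSN.trans (Subgroup.commutator_le_self M)
  have hS1 : (S : Subgroup G) ≠ ⊥ := fun h0 => hA1 (le_bot_iff.mp (h0 ▸ hAS))
  have hNS : Subgroup.normalizer ((S : Subgroup G) : Set G) = M :=
    normalizer_eq_of_coatom hM hSM hS1 hMS
  apply hpσ
  rw [mem_sigma_iff]
  refine ⟨(dvd_card_of_isPGroup_ne_bot hAp hA1).trans (Subgroup.card_dvd_of_le hAM),
    (S : Subgroup G), hSM, hSp, fun R _ hR hSR => hSmax R hR hSR, hNS.le⟩

end Cfsg.Agent.Lib.Helper51.BG12
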