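import Cfsg.Agent.Lib.Helper51.BGTwelveC

/-!
# Bender–Glauberman Proposition 12.4 (helper51), part E: `p ∉ α(M)`
-/

set_option autoImplicit false

namespace Cfsg.Agent.Lib.Helper51.BG12

open Cfsg
open scoped Pointwise
open Cfsg.Agent.Lib.Helper34 (UniquenessThm)
open Cfsg.Agent.Lib.Helper54

variable {G : Type*} [Group G]

/-- A nontrivial finite `p`-subgroup has a central element of order `p`. -/
theorem exists_mem_center_orderOf [Finite G] {p : ℕ} [Fact p.Prime] {P : Subgroup G}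
    (hP : IsPGroup p P) (hP1 : P ≠ ⊥) :
    ∃ x ∈ P, (∀ y ∈ P, x * y = y * x) ∧ x ≠ 1 ∧ x ^ p = 1 := by
  have hp : p.Prime := Fact.out
  have : Nontrivial P := (Subgroup.nontrivial_iff_ne_bot P).mpr hP1
  have hZ : Nontrivial (Subgroup.center P) := hP.center_nontrivial
  have hZp : IsPGroup p (Subgroup.center P) := hP.to_subgroup _
  have hpd : p ∣ Nat.card (Subgroup.center P) := by
    obtain ⟨n, hn⟩ := IsPGroup.iff_card.mp hZp
    have h1 : 1 < Nat.card (Subgroup.center P) := Finite.one_lt_card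
    rw [hn] at h1 ⊢
    have hn0 : n ≠ 0 := by
      rintro rfl
      simp at h1
    exact dvd_pow_self p hn0
  obtain ⟨z, hz⟩ := exists_prime_orderOf_dvd_card' p hpd
  refine ⟨z.1.1, z.1.2, ?_, ?_, ?_⟩
  · intro y hy
    have h1 := Subgroup.mem_center_iff.mp z.2 ⟨y, hy⟩
    exact (congrArg Subtype.val h1).symm
  · intro h
    have h1 : z = 1 := Subtype.ext (Subtype.ext h)
    rw [h1, orderOf_one] at hz
    exact hp.one_lt.ne hz
  · have h1 := pow_orderOf_eq_one z
    rw [hz] at h1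
    have h2 := congrArg (fun w : Subgroup.center P => ((w : P) : G)) h1
    simpa using h2

/-- Step 1 of BG 12.4: `p ∉ α(M)`. -/
theorem not_mem_alpha_of_hLine [Finite G] (hG : IsMinSimpleOddOrder G) (hU : UniquenessThm G)
    (M : Subgroup G) (hM : IsCoatom M) (p : ℕ) [Fact p.Prime] (A : Subgroup G) (hAM : A ≤ M)
    (hAe : IsElementaryAbelian p A) (hAc : Nat.card A = p ^ 2) (hH : HLine M p A) :
    p ∉ alpha M := by
  intro hpα
  have hp : p.Prime := Fact.out
  have hs : IsSimpleGroup G := hG.2.1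
  have hcomm : ∀ x ∈ A, ∀ y ∈ A, x * y = y * x := fun _ hx _ hy =>
    Cfsg.Agent.Lib.Helper45.IsElementaryAbelian_comm hAe hx hy
  have hAp : IsPGroup p A := Cfsg.Agent.Lib.Helper34.isPGroup_of_isElementaryAbelian hAe
  have hA1 : A ≠ ⊥ := by
    intro h0
    rw [h0, Subgroup.card_bot] at hAc
    have h1 : 1 < p ^ 2 := Nat.one_lt_pow (by norm_num) hp.one_lt
    omega
  -- the key contradiction
  have key : ∀ X : Subgroup G, InUniqueMaximal X → X ≤ M → ∀ A₀ : Subgroup G, A₀ ≤ A →
      Nat.card A₀ = p → X ≤ Subgroup.normalizer (A₀ : Set G) → False := by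
    intro X hX hXM A₀ hA₀ hc hXN
    obtain ⟨Ms, hMs, hne, hNMs⟩ := hH A₀ hA₀ hc
    obtain ⟨L, hL, hXL, hu⟩ := exists_forall_of_inUniqueMaximal hX
    exact hne ((hu Ms hMs (hXN.trans hNMs)).trans (hu M hM hXM).symm)
  obtain ⟨P₀, hAP⟩ := exists_sylow_map_ge hAM hAp
  set P : Subgroup G := (P₀ : Subgroup M).map M.subtype with hPdef
  have hPp : IsPGroup p P := P₀.isPGroup'.map _
  have hPM : P ≤ M := Subgroup.map_subtype_le _
  have hP3 : ¬ PRankLE p 2 ↥P := fun h => hpα.2 (pRankLE_of_sylow_rel M P₀ h)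
  have hPtop : P ≠ ⊤ := ne_top_of_isPGroup hs hG.2.2.1 hPp
  have hPU : InUniqueMaximal P := by
    apply hU P hPtop
    · intro h
      exact hP3 (pRankLE_mono_right hp.pos (by norm_num) (h p hp))
    · left
      intro h
      exact hP3 (h p hp)
  have hP1 : P ≠ ⊥ := fun h0 => hA1 (le_bot_iff.mp (h0 ▸ hAP))
  obtain ⟨x, hxP, hxZ, hx1, hxp⟩ := exists_mem_center_orderOf hPp hP1
  have hxc : Nat.card (Subgroup.zpowers x) = p := by
    rw [Nat.card_zpowers]
    exact orderOf_eq_prime hxp hx1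
  by_cases hxA : x ∈ A
  · apply key P hPU hPM (Subgroup.zpowers x) (by rw [Subgroup.zpowers_le]; exact hxA) hxc
    refine le_trans ?_ (centralizer_singleton_le_normalizer_zpowers x)
    intro y hy
    rw [Subgroup.mem_centralizer_iff]
    intro z hz
    rw [Set.mem_singleton_iff] at hz
    rw [hz]
    exact hxZ y hy
  · have hB : IsElementaryAbelian p (A ⊔ Subgroup.zpowers x) := by
      apply Cfsg.Agent.Lib.Helper45.isElementaryAbelian_sup hAe
        (Cfsg.Agent.Lib.Helper34.isElementaryAbelian_zpowers hxp)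
      intro a ha b hb
      obtain ⟨k, rfl⟩ := Subgroup.mem_zpowers_iff.mp hb
      have h1 : Commute a x := (hxZ a (hAP ha)).symm
      exact (h1.zpow_right k)
    have hlt : A < A ⊔ Subgroup.zpowers x := by
      refine lt_of_le_of_ne le_sup_left (fun e => hxA ?_)
      rw [e]
      exact Subgroup.mem_sup_right (Subgroup.mem_zpowers x)
    have hBc : p ^ 2 < Nat.card ↥(A ⊔ Subgroup.zpowers x) := by
      rw [← hAc]
      exact Cfsg.Agent.Lib.Helper48.card_lt_card_of_lt' hlt
    have hBC : A ⊔ Subgroup.zpowers x ≤ Subgroup.centralizer (A : Set G) := by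
      apply sup_le (le_centralizer_of_le_of_comm le_rfl hcomm)
      rw [Subgroup.zpowers_le, Subgroup.mem_centralizer_iff]
      intro a ha
      exact (hxZ a (hAP ha)).symm
    have hC3 : ¬ RankLE 2 ↥(Subgroup.centralizer (A : Set G)) :=
      Cfsg.Agent.Lib.Helper34.not_rankLE_of_isElementaryAbelian hB hBC hBc
    have hAtop : A ≠ ⊤ := ne_top_of_isPGroup hs hG.2.2.1 hAp
    have hA2 : ¬ RankLE 1 ↥A := by
      apply Cfsg.Agent.Lib.Helper34.not_rankLE_of_isElementaryAbelian hAe le_rfl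
      rw [hAc]
      exact Nat.pow_lt_pow_right hp.one_lt (by norm_num)
    have hAU : InUniqueMaximal A := hU A hAtop hA2 (Or.inr hC3)
    obtain ⟨u, hu, hu1⟩ := exists_ne_one_of_card_sq hAc
    have hA₀ : Subgroup.zpowers u ≤ A := by rw [Subgroup.zpowers_le]; exact hu
    exact key A hAU hAM _ hA₀ (card_zpowers_of_mem_elemAb hAe hu hu1)
      (le_normalizer_of_le_of_comm hA₀ hcomm)

end Cfsg.Agent.Lib.Helper51.BG12
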