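import Cfsg.Agent.Lib.Helper51.BGTwelveD
import Cfsg.Agent.Lib.Helper51.BGTwelveE

/-!
# Bender–Glauberman Proposition 12.4 (helper51), part F: `C_G(A) ≤ M` when `p ∈ σ(M)`
-/

set_option autoImplicit false

namespace Cfsg.Agent.Lib.Helper51.BG12

open Cfsg
open scoped Pointwise
open Cfsg.Agent.Lib.Helper34 (UniquenessThm)
open Cfsg.Agent.Lib.Helper54

variable {G : Type*} [Group G]

/-- `Ω₁(Z(P))` as a subgroup of `G`. -/
def omegaCenter (p : ℕ) (P : Subgroup G) : Subgroup G where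
  carrier := {x | x ∈ P ∧ (∀ y ∈ P, x * y = y * x) ∧ x ^ p = 1}
  one_mem' := ⟨P.one_mem, fun y _ => by rw [one_mul, mul_one], one_pow _⟩
  mul_mem' := by
    rintro a b ⟨ha, hac, hap⟩ ⟨hb, hbc, hbp⟩
    refine ⟨P.mul_mem ha hb, ?_, ?_⟩
    · intro y hy
      rw [mul_assoc, hbc y hy, ← mul_assoc, hac y hy, mul_assoc]
    · have h1 : Commute a b := hac b hb
      rw [h1.mul_pow, hap, hbp, one_mul]
  inv_mem' := by
    rintro a ⟨ha, hac, hap⟩
    refine ⟨P.inv_mem ha, ?_, by rw [inv_pow, hap, inv_one]⟩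
    intro y hy
    have h1 : Commute a y := hac y hy
    exact h1.inv_left

theorem mem_omegaCenter {p : ℕ} {P : Subgroup G} {x : G} :
    x ∈ omegaCenter p P ↔ x ∈ P ∧ (∀ y ∈ P, x * y = y * x) ∧ x ^ p = 1 := Iff.rfl

theorem omegaCenter_le (p : ℕ) (P : Subgroup G) : omegaCenter p P ≤ P := fun _ hx => hx.1

theorem conj_mem_omegaCenter {p : ℕ} {P : Subgroup G} {g : G}
    (hg : g ∈ Subgroup.normalizer (P : Set G)) {x : G} (hx : x ∈ omegaCenter p P) :
    g * x * g⁻¹ ∈ omegaCenter p P := by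
  obtain ⟨hxP, hxc, hxp⟩ := hx
  refine ⟨(Subgroup.mem_normalizer_iff.mp hg x).mp hxP, ?_, ?_⟩
  · intro y hy
    have hy' : g⁻¹ * y * g ∈ P := by
      have := (Subgroup.mem_normalizer_iff.mp (Subgroup.inv_mem _ hg) y).mp hy
      rwa [inv_inv] at this
    have h1 := hxc _ hy'
    calc g * x * g⁻¹ * y = g * (x * (g⁻¹ * y * g)) * g⁻¹ := by group
      _ = g * ((g⁻¹ * y * g) * x) * g⁻¹ := by rw [h1]
      _ = y * (g * x * g⁻¹) := by group
  · rw [conj_pow, hxp, mul_one, mul_inv_cancel]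

theorem normalizer_le_normalizer_omegaCenter (p : ℕ) (P : Subgroup G) :
    Subgroup.normalizer (P : Set G) ≤ Subgroup.normalizer ((omegaCenter p P : Subgroup G) : Set G) := by
  intro g hg
  rw [Subgroup.mem_normalizer_iff]
  intro x
  constructor
  · exact fun hx => conj_mem_omegaCenter hg hx
  · intro hx
    have := conj_mem_omegaCenter (Subgroup.inv_mem _ hg) hx
    have e : g⁻¹ * (g * x * g⁻¹) * g⁻¹⁻¹ = x := by group
    rwa [e] at this

theorem omegaCenter_ne_bot [Finite G] {p : ℕ} [Fact p.Prime] {P : Subgroup G}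
    (hP : IsPGroup p P) (hP1 : P ≠ ⊥) : omegaCenter p P ≠ ⊥ := by
  obtain ⟨x, hxP, hxZ, hx1, hxp⟩ := exists_mem_center_orderOf hP hP1
  intro h0
  have : x ∈ omegaCenter p P := ⟨hxP, hxZ, hxp⟩
  rw [h0, Subgroup.mem_bot] at this
  exact hx1 this

theorem isElementaryAbelian_omegaCenter (p : ℕ) (P : Subgroup G) :
    IsElementaryAbelian p (omegaCenter p P) := by
  refine ⟨⟨⟨?_⟩⟩, fun a ha => ha.2.2⟩
  rintro ⟨x, hx⟩ ⟨y, hy⟩
  apply Subtype.ext
  exact hx.2.1 y hy.1

/-- Step 4 of BG 12.4: `C_G(A) ≤ M`. -/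
theorem centralizer_le_of_mem_sigma [Finite G] (hG : IsMinSimpleOddOrder G) (hU : UniquenessThm G)
    (M : Subgroup G) (hM : IsCoatom M) (hnσ : Group.IsNilpotent ↥(sigmaCore M))
    (p : ℕ) [Fact p.Prime] (hpσ : p ∈ sigma M) (hpα : p ∉ alpha M)
    (A : Subgroup G) (hAM : A ≤ M)
    (hAe : IsElementaryAbelian p A) (hAc : Nat.card A = p ^ 2) (hH : HLine M p A) :
    Subgroup.centralizer (A : Set G) ≤ M := by
  have hp : p.Prime := Fact.out
  have hs : IsSimpleGroup G := hG.2.1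
  have hAp : IsPGroup p A := Cfsg.Agent.Lib.Helper34.isPGroup_of_isElementaryAbelian hAe
  have hA1 : A ≠ ⊥ := by
    intro h0
    rw [h0, Subgroup.card_bot] at hAc
    have h1 : 1 < p ^ 2 := Nat.one_lt_pow (by norm_num) hp.one_lt
    omega
  have hr2 : PRankLE p 2 ↥M := by
    by_contra h
    exact hpα ⟨hp, h⟩
  have hAσ : A ≤ sigmaCore M :=
    le_sigmaCore_of_isPi hG hU M hM hAM (isPi_of_card_eq_pow hAc hpσ)
  obtain ⟨S₀, hAS₀⟩ := exists_sylow_map_ge hAσ hAp
  set P : Subgroup G := (S₀ : Subgroup (sigmaCore M)).map (sigmaCore M).subtype with hPdef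
  have hPp : IsPGroup p P := S₀.isPGroup'.map _
  have hPM : P ≤ M := (Subgroup.map_subtype_le _).trans (sigmaCore_le M)
  have hP1 : P ≠ ⊥ := fun h0 => hA1 (le_bot_iff.mp (h0 ▸ hAS₀))
  have hMP : M ≤ Subgroup.normalizer (P : Set G) :=
    (le_normalizer_sigmaCore M).trans (le_normalizer_map_sylow_of_isNilpotent _ hnσ S₀)
  set W : Subgroup G := omegaCenter p P with hWdef
  have hWP : W ≤ P := omegaCenter_le p P
  have hW1 : W ≠ ⊥ := omegaCenter_ne_bot hPp hP1
  have hMW : M ≤ Subgroup.normalizer (W : Set G) :=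
    hMP.trans (normalizer_le_normalizer_omegaCenter p P)
  have hWM : W ≤ M := hWP.trans hPM
  have hNW : Subgroup.normalizer (W : Set G) = M := normalizer_eq_of_coatom hM hWM hW1 hMW
  have hB : IsElementaryAbelian p (W ⊔ A) :=
    Cfsg.Agent.Lib.Helper45.isElementaryAbelian_sup (isElementaryAbelian_omegaCenter p P) hAe
      (fun w hw a ha => hw.2.1 a (hAS₀ ha))
  have hBM : W ⊔ A ≤ M := sup_le hWM hAM
  have hBc : Nat.card ↥(W ⊔ A) ≤ p ^ 2 := by
    by_contra hlt
    push Not at hlt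
    exact (Cfsg.Agent.Lib.Helper45.not_pRankLE_subgroup_iff 2 M).mpr ⟨_, hBM, hB, hlt⟩ hr2
  have hWA : W ≤ A := by
    have h1 : A = W ⊔ A := Subgroup.eq_of_le_of_card_ge le_sup_right (by rw [hAc]; exact hBc)
    rw [h1]
    exact le_sup_left
  have hWc : Nat.card W = p ∨ Nat.card W = p ^ 2 := by
    have hd : Nat.card W ∣ p ^ 2 := hAc ▸ Subgroup.card_dvd_of_le hWA
    obtain ⟨k, hk, hk'⟩ := (Nat.dvd_prime_pow hp).mp hd
    interval_cases k
    · exfalso
      rw [pow_zero] at hk'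
      exact hW1 (Subgroup.card_eq_one.mp hk')
    · left
      rw [hk', pow_one]
    · right
      exact hk'
  rcases hWc with h | h
  · exfalso
    obtain ⟨Ms, hMs, hne, hN⟩ := hH W hWA h
    rw [hNW] at hN
    rcases hM.le_iff.mp hN with h1 | h1
    · exact hMs.1 h1
    · exact hne h1
  · have hWA' : W = A := Subgroup.eq_of_le_of_card_ge hWA (by rw [h, hAc])
    calc Subgroup.centralizer (A : Set G) ≤ Subgroup.normalizer (A : Set G) :=
          Subgroup.centralizer_le_normalizer _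
      _ = M := by rw [← hWA']; exact hNW

end Cfsg.Agent.Lib.Helper51.BG12
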