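import Mathlib
import Cfsg.Agent.Lib.Helper54.BGFourteenEmbedA

/-!
# Lemma T (two-sided counting) for BG 13.10(b)  (helper51)

`two_sided_count`: `P` abelian, `Y`, `Z` subgroups of `C = C_G(P)` of orders `≥ 3`, pairwise coprime to
each other and to `|P|`, such that `c y c⁻¹ ∈ Y P` (`c ∈ C`, `1 ≠ y ∈ Y`) forces `c ∈ Y P`, and the same
for `Z`.  Then `False`: the `C`-conjugates of `Y P ∖ P` and of `Z P ∖ P` are disjoint, miss `1`, and
together have more than `|C| - 1` elements.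
-/

set_option autoImplicit false

namespace Cfsg.Agent.Lib.Helper51.BGTwoSided

open Cfsg.Agent.Lib.Helper54

variable {G : Type*} [Group G]

/-- The elements of `Y P` outside `P`, inside the group `C_G(P)`. -/
def offP (P Y : Subgroup G) : Set ↥(Subgroup.centralizer (P : Set G)) :=
  {a | (a : G) ∈ Y ⊔ P ∧ (a : G) ∉ P}

theorem commute_of_le_centralizer {P Y : Subgroup G} (hYP : Y ≤ Subgroup.centralizer (P : Set G))
    {y x : G} (hy : y ∈ Y) (hx : x ∈ P) : y * x = x * y :=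
  ((Subgroup.mem_centralizer_iff.mp (hYP hy)) x hx).symm

/-- decomposition of an element of `Y P` outside `P` -/
theorem exists_decomp {P Y : Subgroup G} (hYP : Y ≤ Subgroup.centralizer (P : Set G)) {a : G}
    (ha : a ∈ Y ⊔ P) (haP : a ∉ P) :
    ∃ y ∈ Y, y ≠ 1 ∧ ∃ x ∈ P, a = y * x ∧ Commute y x := by
  obtain ⟨y, hy, x, hx, rfl⟩ :=
    exists_mul_of_mem_sup_of_commute (fun y hy x hx => commute_of_le_centralizer hYP hy hx) ha
  refine ⟨y, hy, ?_, x, hx, rfl, commute_of_le_centralizer hYP hy hx⟩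
  rintro rfl
  exact haP (by simpa using hx)

theorem pow_eq_of_dvd [Finite G] {P : Subgroup G} {y x : G} (hx : x ∈ P) (hc : Commute y x)
    {m : ℕ} (hm : Nat.card P ∣ m) : (y * x) ^ m = y ^ m := by
  rw [hc.mul_pow]
  have h1 : x ^ m = 1 := by
    obtain ⟨k, rfl⟩ := hm
    have h3 : x ^ Nat.card P = 1 :=
      orderOf_dvd_iff_pow_eq_one.mp (Subgroup.orderOf_dvd_natCard P hx)
    rw [pow_mul, h3, one_pow]
  rw [h1, mul_one]

theorem pow_ne_one_of_coprime [Finite G] {Y : Subgroup G} {y : G} (hy : y ∈ Y) (hy1 : y ≠ 1)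
    {m : ℕ} (hm : m.Coprime (Nat.card Y)) : y ^ m ≠ 1 := by
  intro h
  have h1 : orderOf y ∣ m := orderOf_dvd_of_pow_eq_one h
  have h2 : orderOf y ∣ Nat.card Y := by
    have := orderOf_dvd_natCard (⟨y, hy⟩ : Y)
    rwa [Subgroup.orderOf_mk] at this
  have h3 : orderOf y = 1 := Nat.eq_one_of_dvd_coprimes hm h1 h2
  exact hy1 (orderOf_eq_one_iff.mp h3)

section OneSide

variable [Finite G] (P Y : Subgroup G)

/-- `Y P` (inside `C_G(P)`) normalizes `Y P ∖ P`. -/
theorem offP_invariant :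
    ∀ n ∈ (Y ⊔ P).subgroupOf (Subgroup.centralizer (P : Set G)), ∀ z ∈ offP P Y,
      n * z * n⁻¹ ∈ offP P Y := by
  intro n hn z hz
  rw [Subgroup.mem_subgroupOf] at hn
  refine ⟨?_, ?_⟩
  · show (n : G) * (z : G) * (n : G)⁻¹ ∈ Y ⊔ P
    exact Subgroup.mul_mem _ (Subgroup.mul_mem _ hn hz.1) (Subgroup.inv_mem _ hn)
  · show (n : G) * (z : G) * (n : G)⁻¹ ∉ P
    intro h
    apply hz.2
    have hnc : (n : G)⁻¹ ∈ Subgroup.centralizer (P : Set G) := Subgroup.inv_mem _ n.2
    have h1 := (Subgroup.mem_centralizer_iff.mp hnc) _ h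
    have h2 : (z : G) = (n : G)⁻¹ * ((n : G) * (z : G) * (n : G)⁻¹) * (n : G) := by group
    rw [h2, ← h1, mul_assoc, inv_mul_cancel, mul_one]
    exact h

/-- the TI-type property of `Y P ∖ P` in `C_G(P)` -/
theorem offP_ti (hYP : Y ≤ Subgroup.centralizer (P : Set G))
    (hPY : (Nat.card P).Coprime (Nat.card Y))
    (hTY : ∀ c ∈ Subgroup.centralizer (P : Set G), ∀ y ∈ Y, y ≠ 1 → c * y * c⁻¹ ∈ Y ⊔ P →
      c ∈ Y ⊔ P) :
    ∀ k : ↥(Subgroup.centralizer (P : Set G)), ∀ z ∈ offP P Y, k * z * k⁻¹ ∈ offP P Y →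
      k ∈ (Y ⊔ P).subgroupOf (Subgroup.centralizer (P : Set G)) := by
  intro k z hz hkz
  rw [Subgroup.mem_subgroupOf]
  obtain ⟨y, hy, hy1, x, hx, hzyx, hc⟩ := exists_decomp hYP hz.1 hz.2
  have hpow : (z : G) ^ Nat.card P = y ^ Nat.card P := by
    rw [hzyx]; exact pow_eq_of_dvd hx hc dvd_rfl
  apply hTY (k : G) k.2 (y ^ Nat.card P) (Subgroup.pow_mem _ hy _)
    (pow_ne_one_of_coprime hy hy1 hPY)
  have h1 : ((k : G) * (z : G) * (k : G)⁻¹) ^ Nat.card P ∈ Y ⊔ P := Subgroup.pow_mem _ hkz.1 _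
  rw [conj_pow, hpow] at h1
  exact h1

theorem card_sup_eq (hYP : Y ≤ Subgroup.centralizer (P : Set G))
    (hPY : (Nat.card P).Coprime (Nat.card Y)) :
    Nat.card (Y ⊔ P : Subgroup G) = Nat.card Y * Nat.card P := by
  apply card_sup_of_le_normalizer
  · exact (Subgroup.le_centralizer_iff.mp hYP).trans (Subgroup.centralizer_le_normalizer _)
  · exact (Subgroup.disjoint_of_coprime_natCard hPY.symm).eq_bot

theorem sup_le_centralizer (hPab : P ≤ Subgroup.centralizer (P : Set G))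
    (hYP : Y ≤ Subgroup.centralizer (P : Set G)) : Y ⊔ P ≤ Subgroup.centralizer (P : Set G) :=
  sup_le hYP hPab

/-- `|Y P ∖ P| = |Y||P| - |P|` -/
theorem ncard_offP (hPab : P ≤ Subgroup.centralizer (P : Set G))
    (hYP : Y ≤ Subgroup.centralizer (P : Set G)) (hPY : (Nat.card P).Coprime (Nat.card Y)) :
    (offP P Y).ncard = Nat.card Y * Nat.card P - Nat.card P := by
  have h1 : offP P Y = (((Y ⊔ P).subgroupOf (Subgroup.centralizer (P : Set G)) :
      Subgroup ↥(Subgroup.centralizer (P : Set G))) : Set ↥(Subgroup.centralizer (P : Set G))) \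
      ((P.subgroupOf (Subgroup.centralizer (P : Set G)) :
      Subgroup ↥(Subgroup.centralizer (P : Set G))) : Set ↥(Subgroup.centralizer (P : Set G))) := by
    ext a
    simp only [offP, Set.mem_ofPred_eq, Set.mem_sdiff, SetLike.mem_coe, Subgroup.mem_subgroupOf]
  have hsub : ((P.subgroupOf (Subgroup.centralizer (P : Set G)) :
      Subgroup ↥(Subgroup.centralizer (P : Set G))) : Set ↥(Subgroup.centralizer (P : Set G))) ⊆
      (((Y ⊔ P).subgroupOf (Subgroup.centralizer (P : Set G)) :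
      Subgroup ↥(Subgroup.centralizer (P : Set G))) : Set ↥(Subgroup.centralizer (P : Set G))) := by
    intro a ha
    simp only [SetLike.mem_coe, Subgroup.mem_subgroupOf] at ha ⊢
    exact Subgroup.mem_sup_right ha
  rw [h1, Set.ncard_sdiff hsub, ← Nat.card_coe_set_eq, ← Nat.card_coe_set_eq]
  have h2 : Nat.card ↥((Y ⊔ P).subgroupOf (Subgroup.centralizer (P : Set G))) =
      Nat.card Y * Nat.card P := by
    rw [Nat.card_congr (Subgroup.subgroupOfEquivOfLe (sup_le_centralizer P Y hPab hYP)).toEquiv]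
    exact card_sup_eq P Y hYP hPY
  have h3 : Nat.card ↥(P.subgroupOf (Subgroup.centralizer (P : Set G))) = Nat.card P :=
    Nat.card_congr (Subgroup.subgroupOfEquivOfLe hPab).toEquiv
  exact congrArg₂ (· - ·) h2 h3

/-- the counting identity for one side: `|S_Y| = |C| - u` with `|Y| * u = |C|` -/
theorem exists_count (hPab : P ≤ Subgroup.centralizer (P : Set G))
    (hYP : Y ≤ Subgroup.centralizer (P : Set G)) (hPY : (Nat.card P).Coprime (Nat.card Y))
    (hTY : ∀ c ∈ Subgroup.centralizer (P : Set G), ∀ y ∈ Y, y ≠ 1 → c * y * c⁻¹ ∈ Y ⊔ P →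
      c ∈ Y ⊔ P) :
    ∃ u : ℕ, Nat.card Y * u = Nat.card ↥(Subgroup.centralizer (P : Set G)) ∧
      (conjSupport (offP P Y)).ncard = Nat.card ↥(Subgroup.centralizer (P : Set G)) - u := by
  set N := (Y ⊔ P).subgroupOf (Subgroup.centralizer (P : Set G)) with hN
  have h1 := card_conjSupport (offP P Y) N (offP_invariant P Y) (offP_ti P Y hYP hPY hTY)
  have h2 : N.index * Nat.card N = Nat.card ↥(Subgroup.centralizer (P : Set G)) :=
    Subgroup.index_mul_card N
  have h3 : Nat.card N = Nat.card Y * Nat.card P := by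
    rw [hN, Nat.card_congr (Subgroup.subgroupOfEquivOfLe (sup_le_centralizer P Y hPab hYP)).toEquiv]
    exact card_sup_eq P Y hYP hPY
  refine ⟨N.index * Nat.card P, ?_, ?_⟩
  · rw [← h2, h3]; ring
  · rw [h1, ncard_offP P Y hPab hYP hPY, ← h2, h3, Nat.mul_sub]

theorem one_notMem_conjSupport_offP :
    (1 : ↥(Subgroup.centralizer (P : Set G))) ∉ conjSupport (offP P Y) := by
  rintro ⟨g, z, hz, h⟩
  apply hz.2
  have h1 : z = 1 := by
    have : z = g⁻¹ * (g * z * g⁻¹) * g := by group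
    rw [this, ← h]; group
  rw [h1]
  exact P.one_mem

end OneSide

/-- the `C`-conjugates of `Y P ∖ P` and `Z P ∖ P` are disjoint -/
theorem disjoint_conjSupport [Finite G] (P Y Z : Subgroup G)
    (hYP : Y ≤ Subgroup.centralizer (P : Set G)) (hZP : Z ≤ Subgroup.centralizer (P : Set G))
    (hYZ : (Nat.card Y).Coprime (Nat.card Z)) (hPY : (Nat.card P).Coprime (Nat.card Y)) :
    Disjoint (conjSupport (offP P Y)) (conjSupport (offP P Z)) := by
  rw [Set.disjoint_left]
  rintro a ⟨g, z, hz, rfl⟩ ⟨g', z', hz', h⟩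
  obtain ⟨y, hy, hy1, x, hx, hzyx, hc⟩ := exists_decomp hYP hz.1 hz.2
  obtain ⟨y', hy', -, x', hx', hzyx', hc'⟩ := exists_decomp hZP hz'.1 hz'.2
  set m : ℕ := Nat.card P * Nat.card Z with hm
  have h1 : (z : G) ^ m = y ^ m := by
    rw [hzyx]; exact pow_eq_of_dvd hx hc (Dvd.intro _ rfl)
  have h2 : (z' : G) ^ m = 1 := by
    rw [hzyx', pow_eq_of_dvd hx' hc' (Dvd.intro _ rfl), mul_comm, pow_mul]
    have : y' ^ Nat.card Z = 1 :=
      orderOf_dvd_iff_pow_eq_one.mp (Subgroup.orderOf_dvd_natCard Z hy')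
    rw [this, one_pow]
  have h3 : y ^ m ≠ 1 :=
    pow_ne_one_of_coprime hy hy1 (Nat.Coprime.mul_left hPY hYZ.symm)
  apply h3
  have h4 : ((g : G) * (z : G) * (g : G)⁻¹) ^ m = ((g' : G) * (z' : G) * (g' : G)⁻¹) ^ m := by
    have := congrArg (fun t : ↥(Subgroup.centralizer (P : Set G)) => ((t : G)) ^ m) h
    simpa using this
  rw [conj_pow, conj_pow, h1, h2, mul_one, mul_inv_cancel] at h4
  have h5 : y ^ m = (g : G)⁻¹ * ((g : G) * y ^ m * (g : G)⁻¹) * (g : G) := by group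
  rw [h5, h4]; group

/-- **Lemma T** (two-sided counting). -/
theorem two_sided_count {G : Type*} [Group G] [Finite G] (P Y Z : Subgroup G)
    (hPab : P ≤ Subgroup.centralizer (P : Set G))
    (hY1 : 3 ≤ Nat.card Y) (hZ1 : 3 ≤ Nat.card Z)
    (hYP : Y ≤ Subgroup.centralizer (P : Set G)) (hZP : Z ≤ Subgroup.centralizer (P : Set G))
    (hYZ : (Nat.card Y).Coprime (Nat.card Z)) (hPY : (Nat.card P).Coprime (Nat.card Y))
    (hPZ : (Nat.card P).Coprime (Nat.card Z))
    (hTY : ∀ c ∈ Subgroup.centralizer (P : Set G), ∀ y ∈ Y, y ≠ 1 → c * y * c⁻¹ ∈ Y ⊔ P →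
      c ∈ Y ⊔ P)
    (hTZ : ∀ c ∈ Subgroup.centralizer (P : Set G), ∀ z ∈ Z, z ≠ 1 → c * z * c⁻¹ ∈ Z ⊔ P →
      c ∈ Z ⊔ P) : False := by
  obtain ⟨u, hu, hSY⟩ := exists_count P Y hPab hYP hPY hTY
  obtain ⟨v, hv, hSZ⟩ := exists_count P Z hPab hZP hPZ hTZ
  have hdisj := disjoint_conjSupport P Y Z hYP hZP hYZ hPY
  have h1Y := one_notMem_conjSupport_offP P Y
  have h1Z := one_notMem_conjSupport_offP P Z
  set c : ℕ := Nat.card ↥(Subgroup.centralizer (P : Set G)) with hc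
  have hunion : (conjSupport (offP P Y) ∪ conjSupport (offP P Z)).ncard =
      (conjSupport (offP P Y)).ncard + (conjSupport (offP P Z)).ncard :=
    Set.ncard_union_eq hdisj
  have h1 : (1 : ↥(Subgroup.centralizer (P : Set G))) ∉
      conjSupport (offP P Y) ∪ conjSupport (offP P Z) := by
    rintro (h | h)
    · exact h1Y h
    · exact h1Z h
  have hins : (insert (1 : ↥(Subgroup.centralizer (P : Set G)))
      (conjSupport (offP P Y) ∪ conjSupport (offP P Z))).ncard =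
      (conjSupport (offP P Y) ∪ conjSupport (offP P Z)).ncard + 1 :=
    Set.ncard_insert_of_notMem h1
  have hle : (insert (1 : ↥(Subgroup.centralizer (P : Set G)))
      (conjSupport (offP P Y) ∪ conjSupport (offP P Z))).ncard ≤ c :=
    Set.ncard_le_card _
  rw [hins, hunion, hSY, hSZ] at hle
  have h3u : 3 * u ≤ c := by rw [← hu]; exact Nat.mul_le_mul_right u hY1
  have h3v : 3 * v ≤ c := by rw [← hv]; exact Nat.mul_le_mul_right v hZ1
  have hcpos : 0 < c := Nat.card_pos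
  omega

end Cfsg.Agent.Lib.Helper51.BGTwoSided
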