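import Cfsg.Agent.Lib.Helper51.KInfStableAux
import Cfsg.Agent.Lib.Helper33.ChiefAction

/-!
# A quadratic element on a chief factor obstructs `p`-stability of a quotient (helper51)

* `stabCore_le_centralizer_of_minimal_normal`: `O_p(Q / C_Q(Ub)) = 1` for a minimal normal `p`-subgroup `Ub` of `Q`.
* `not_isNormalizerPStable_quotient_of_chief`: if `g` acts quadratically but nontrivially on the chief factor `U / V` of `G`
  (`U` a `p`-group), then `G ⧸ V` is not `p`-stable in the normalizer form.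
-/

set_option autoImplicit false
open Cfsg

namespace Cfsg.Agent.Lib.Helper51

open Cfsg.Agent.Lib.Helper11 Cfsg.Agent.Lib.Helper33
open scoped commutatorElement

section minimal

variable {Q : Type*} [Group Q] [Finite Q] {p : ℕ} [Fact p.Prime]

/-- The subgroup acting as a `p`-group on a minimal normal `p`-subgroup centralizes it. -/
theorem stabCore_le_centralizer_of_minimal_normal (Ub : Subgroup Q) [hUn : Ub.Normal] (hne : Ub ≠ ⊥)
    (hmin : ∀ N : Subgroup Q, N.Normal → N ≤ Ub → N = ⊥ ∨ N = Ub) (hUp : IsPGroup p Ub) :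
    stabCore p Ub ≤ Subgroup.centralizer (Ub : Set Q) := by
  set X : Subgroup Q := stabCore p Ub with hX
  have hXn : X.Normal := inferInstance
  -- the action of `X` on `Ub`
  let φ : ↥X →* MulAut ↥Ub := (MulAut.conjNormal (H := Ub)).comp X.subtype
  have hRp : IsPGroup p ↥φ.range := by
    rintro ⟨_, ⟨x, rfl⟩⟩
    obtain ⟨k, hk⟩ := exists_pow_mem_centralizer_of_mem_stabCore p Ub x.2
    refine ⟨k, Subtype.ext ?_⟩
    rw [Subgroup.coe_pow, Subgroup.coe_one]
    simp only []
    rw [← map_pow]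
    ext u
    show ((MulAut.conjNormal ((x ^ (p ^ k) : ↥X) : Q) u : ↥Ub) : Q) = ((u : ↥Ub) : Q)
    rw [MulAut.conjNormal_apply, Subgroup.coe_pow]
    have := (Subgroup.mem_centralizer_iff.mp hk) (u : Q) u.2
    rw [← this]; group
  -- a nontrivial fixed point
  have hnt : Nontrivial ↥Ub := (Subgroup.nontrivial_iff_ne_bot Ub).mpr hne
  obtain ⟨n, hn0, hn⟩ := hUp.nontrivial_iff_card.mp hnt
  have hdvd : p ∣ Nat.card ↥Ub := hn.symm ▸ dvd_pow_self _ (ne_of_gt hn0)
  have h1fix : (1 : ↥Ub) ∈ MulAction.fixedPoints ↥φ.range ↥Ub := by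
    intro r
    show (r : MulAut ↥Ub) (1 : ↥Ub) = 1
    exact map_one _
  obtain ⟨b, hb, hb1⟩ := hRp.exists_fixed_point_of_prime_dvd_card_of_fixed_point ↥Ub hdvd h1fix
  have hbC : (b : Q) ∈ Subgroup.centralizer (X : Set Q) := by
    rw [Subgroup.mem_centralizer_iff]
    intro x hx
    have h2 := hb ⟨φ ⟨x, hx⟩, ⟨⟨x, hx⟩, rfl⟩⟩
    have h3 : (φ ⟨x, hx⟩) b = b := h2
    have h4 := congrArg Subtype.val h3
    have h5 : ((φ ⟨x, hx⟩) b : Q) = x * (b : Q) * x⁻¹ := MulAut.conjNormal_apply x b
    rw [h5] at h4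
    calc x * (b : Q) = (x * (b : Q) * x⁻¹) * x := by group
      _ = (b : Q) * x := by rw [h4]
  have hCn : (Subgroup.centralizer (X : Set Q)).Normal := Subgroup.normal_centralizer
  have hFn : (Ub ⊓ Subgroup.centralizer (X : Set Q)).Normal := inferInstance
  have hFne : Ub ⊓ Subgroup.centralizer (X : Set Q) ≠ ⊥ := by
    intro h
    have : (b : Q) ∈ Ub ⊓ Subgroup.centralizer (X : Set Q) := ⟨b.2, hbC⟩
    rw [h, Subgroup.mem_bot] at this
    exact hb1 (Subtype.ext this).symm
  rcases hmin _ hFn inf_le_left with h | h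
  · exact absurd h hFne
  · have h1 : Ub ≤ Subgroup.centralizer (X : Set Q) := by rw [← h]; exact inf_le_right
    exact Subgroup.le_centralizer_iff.mp h1

end minimal

section quotient

variable {G : Type*} [Group G] [Finite G] {p : ℕ} [Fact p.Prime]

/-- A quadratic, nontrivial action on a chief factor that is a `p`-group makes the quotient by the bottom of the factor
non-`p`-stable. -/
theorem not_isNormalizerPStable_quotient_of_chief {U V : Subgroup G} (hUV : IsChiefFactor U V)
    (hUp : IsPGroup p U) (g : G)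
    (hquad : ⁅⁅U, Subgroup.zpowers g⁆, Subgroup.zpowers g⁆ ≤ V)
    (hmove : ¬ ⁅U, Subgroup.zpowers g⁆ ≤ V) (hVn : V.Normal) :
    ¬ IsNormalizerPStable p (G ⧸ V) := by
  intro hst
  obtain ⟨hUbne, hUbn, hUbmin⟩ := minimal_normal_of_isChiefFactor hUV
  set π : G →* G ⧸ V := QuotientGroup.mk' V with hπ
  have hUbp : IsPGroup p (U.map π) := hUp.map π
  have hq : ⁅⁅U.map π, Subgroup.zpowers (π g)⁆, Subgroup.zpowers (π g)⁆ = ⊥ := by
    rw [← MonoidHom.map_zpowers, ← Subgroup.map_commutator, ← Subgroup.map_commutator,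
      Subgroup.map_eq_bot_iff, hπ, QuotientGroup.ker_mk']
    exact hquad
  have h1 := mem_stabCore_of_isNormalizerPStable hst (U.map π) hUbp (π g) hq
  have h2 := stabCore_le_centralizer_of_minimal_normal (U.map π) hUbne hUbmin hUbp h1
  apply hmove
  have h3 : ⁅U.map π, Subgroup.zpowers (π g)⁆ = ⊥ := by
    rw [Subgroup.commutator_eq_bot_iff_le_centralizer]
    intro u hu
    rw [Subgroup.mem_centralizer_iff]
    intro z hz
    obtain ⟨k, rfl⟩ := Subgroup.mem_zpowers_iff.mp hz
    have hc : Commute (π g) u := (Subgroup.mem_centralizer_iff.mp h2 u hu).symm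
    exact (hc.zpow_left k).eq
  rw [← MonoidHom.map_zpowers, ← Subgroup.map_commutator, Subgroup.map_eq_bot_iff, hπ,
    QuotientGroup.ker_mk'] at h3
  exact h3

end quotient

end Cfsg.Agent.Lib.Helper51
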