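import Mathlib
import Cfsg.Agent.Lib.Helper11.PStab

/-!
# Clifford's theorem for subnormal subgroups, quadratic-action form (helper51)

`quadratic_of_isSubnormal`: let `Ub` be an abelian minimal normal subgroup of the finite group `Q`, `H` a subnormal subgroup,
`M ≤ Ub` an `H`-invariant subgroup and `B ≤ H` a subgroup acting quadratically on `M` and on `Ub / M`. Then `B` acts
quadratically on `Ub`. (The restriction of `Ub` to `H` is completely reducible.)
-/

set_option autoImplicit false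

namespace Cfsg.Agent.Lib.Helper51

open scoped commutatorElement

section clifford

variable {Q : Type*} [Group Q]

/-- `W` is a nontrivial `H`-invariant subgroup with no proper nontrivial `H`-invariant subgroup. -/
def IsIrrUnder (H W : Subgroup Q) : Prop :=
  W ≠ ⊥ ∧ H ≤ Subgroup.normalizer (W : Set Q) ∧
    ∀ W' : Subgroup Q, W' ≤ W → H ≤ Subgroup.normalizer (W' : Set Q) → W' = ⊥ ∨ W' = W

theorem mem_map_conj_iff {W : Subgroup Q} {k y : Q} :
    y ∈ W.map (MulAut.conj k).toMonoidHom ↔ k⁻¹ * y * k ∈ W := by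
  constructor
  · rintro ⟨w, hw, rfl⟩
    have : k⁻¹ * ((MulAut.conj k).toMonoidHom w) * k = w := by
      simp [MulAut.conj_apply, mul_assoc]
    rw [this]; exact hw
  · intro h
    refine ⟨k⁻¹ * y * k, h, ?_⟩
    simp [MulAut.conj_apply, mul_assoc]

theorem map_conj_map_conj (W : Subgroup Q) (a b : Q) :
    (W.map (MulAut.conj a).toMonoidHom).map (MulAut.conj b).toMonoidHom =
      W.map (MulAut.conj (b * a)).toMonoidHom := by
  rw [Subgroup.map_map]
  congr 1
  ext x
  simp [MulAut.conj_apply, mul_assoc]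

theorem map_conj_one (W : Subgroup Q) : W.map (MulAut.conj (1 : Q)).toMonoidHom = W := by
  ext y
  rw [mem_map_conj_iff]
  simp

theorem mem_normalizer_map_conj_iff {W : Subgroup Q} {k x : Q} :
    x ∈ Subgroup.normalizer ((W.map (MulAut.conj k).toMonoidHom : Subgroup Q) : Set Q) ↔
      k⁻¹ * x * k ∈ Subgroup.normalizer (W : Set Q) := by
  rw [Subgroup.mem_normalizer_iff, Subgroup.mem_normalizer_iff]
  constructor
  · intro h w
    have h1 := h (k * w * k⁻¹)
    rw [mem_map_conj_iff, mem_map_conj_iff] at h1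
    have e1 : k⁻¹ * (k * w * k⁻¹) * k = w := by group
    have e2 : k⁻¹ * (x * (k * w * k⁻¹) * x⁻¹) * k = k⁻¹ * x * k * w * (k⁻¹ * x * k)⁻¹ := by group
    rw [e1, e2] at h1
    exact h1
  · intro h y
    rw [mem_map_conj_iff, mem_map_conj_iff]
    have h1 := h (k⁻¹ * y * k)
    have e2 : k⁻¹ * x * k * (k⁻¹ * y * k) * (k⁻¹ * x * k)⁻¹ = k⁻¹ * (x * y * x⁻¹) * k := by group
    rw [e2] at h1
    exact h1

/-- conjugation by an element normalizing `H` preserves `H`-irreducibility -/
theorem IsIrrUnder.map_conj {H W : Subgroup Q} (hW : IsIrrUnder H W) {k : Q}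
    (hk : ∀ h ∈ H, k⁻¹ * h * k ∈ H) (hk' : ∀ h ∈ H, k * h * k⁻¹ ∈ H) :
    IsIrrUnder H (W.map (MulAut.conj k).toMonoidHom) := by
  obtain ⟨hne, hinv, hmin⟩ := hW
  refine ⟨?_, ?_, ?_⟩
  · intro h
    apply hne
    rwa [Subgroup.map_eq_bot_iff_of_injective _ (MulAut.conj k).injective] at h
  · intro h hh
    rw [mem_normalizer_map_conj_iff]
    exact hinv (hk h hh)
  · intro W' hW' hHW'
    have h1 : W'.map (MulAut.conj k⁻¹).toMonoidHom ≤ W := by
      have := Subgroup.map_mono (f := (MulAut.conj k⁻¹).toMonoidHom) hW'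
      rwa [map_conj_map_conj, inv_mul_cancel, map_conj_one] at this
    have h2 : H ≤ Subgroup.normalizer ((W'.map (MulAut.conj k⁻¹).toMonoidHom : Subgroup Q) : Set Q) := by
      intro h hh
      rw [mem_normalizer_map_conj_iff]
      have := hk' h hh
      rw [inv_inv]
      exact hHW' this
    have h3 : (W'.map (MulAut.conj k⁻¹).toMonoidHom).map (MulAut.conj k).toMonoidHom = W' := by
      rw [map_conj_map_conj, mul_inv_cancel, map_conj_one]
    rcases hmin _ h1 h2 with h | h
    · left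
      rw [← h3, h, Subgroup.map_bot]
    · right
      rw [← h3, h]

/-- one step of Clifford's theorem -/
theorem le_of_irr_step [Finite Q] {H K : Subgroup Q} (hHK : H ≤ K) (hn : (H.subgroupOf K).Normal)
    (D Ub : Subgroup Q) (hD : ∀ W : Subgroup Q, W ≤ Ub → IsIrrUnder H W → W ≤ D) :
    ∀ W : Subgroup Q, W ≤ Ub → IsIrrUnder K W → W ≤ D := by
  intro W hWU hW
  obtain ⟨hWne, hKW, hWmin⟩ := hW
  -- conjugation by elements of `K` preserves `H`
  have hconj : ∀ k ∈ K, ∀ h ∈ H, k * h * k⁻¹ ∈ H := by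
    intro k hk h hh
    have := hn.conj_mem ⟨h, hHK hh⟩ (by rw [Subgroup.mem_subgroupOf]; exact hh) ⟨k, hk⟩
    rw [Subgroup.mem_subgroupOf] at this
    simpa using this
  -- a minimal nontrivial `H`-invariant subgroup of `W`
  let 𝒮 : Set (Subgroup Q) := {W' | W' ≠ ⊥ ∧ W' ≤ W ∧ H ≤ Subgroup.normalizer (W' : Set Q)}
  have h𝒮 : 𝒮.Nonempty := ⟨W, hWne, le_rfl, hHK.trans hKW⟩
  obtain ⟨W₀, hW₀, hW₀min⟩ := (wellFounded_lt (α := Subgroup Q)).has_min 𝒮 h𝒮
  obtain ⟨hW₀ne, hW₀W, hHW₀⟩ := hW₀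
  have hirr : IsIrrUnder H W₀ := by
    refine ⟨hW₀ne, hHW₀, fun W' hW' hHW' => ?_⟩
    by_cases hbot : W' = ⊥
    · exact Or.inl hbot
    · right
      have hmem : W' ∈ 𝒮 := ⟨hbot, hW'.trans hW₀W, hHW'⟩
      have := hW₀min W' hmem
      exact (lt_or_eq_of_le hW').resolve_left this
  -- the join of the `K`-conjugates
  set J : Subgroup Q := ⨆ k : K, W₀.map (MulAut.conj (k : Q)).toMonoidHom with hJ
  have hconjW : ∀ k : K, W₀.map (MulAut.conj (k : Q)).toMonoidHom ≤ W := by
    intro k y hy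
    rw [mem_map_conj_iff] at hy
    have hk := hKW k.2
    have := (Subgroup.mem_normalizer_iff.mp hk _).mp (hW₀W hy)
    have e : (k : Q) * ((k : Q)⁻¹ * y * (k : Q)) * (k : Q)⁻¹ = y := by group
    rwa [e] at this
  have hJW : J ≤ W := iSup_le hconjW
  have hJD : J ≤ D := by
    apply iSup_le
    intro k
    apply hD _ ((hconjW k).trans hWU)
    apply hirr.map_conj
    · intro h hh
      have := hconj (k : Q)⁻¹ (K.inv_mem k.2) h hh
      simpa using this
    · exact hconj k k.2
  have hW₀J : W₀ ≤ J := by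
    have := le_iSup (fun k : K => W₀.map (MulAut.conj (k : Q)).toMonoidHom) 1
    have e : W₀.map (MulAut.conj (((1 : K) : Q))).toMonoidHom = W₀ := by
      rw [Subgroup.coe_one]; exact map_conj_one W₀
    rw [e] at this
    exact this
  have hJne : J ≠ ⊥ := by
    intro h
    apply hW₀ne
    rw [eq_bot_iff, ← h]
    exact hW₀J
  have hKJ : K ≤ Subgroup.normalizer (J : Set Q) := by
    apply Cfsg.Agent.Lib.Helper11.le_normalizer_of_forall_map_conj_le
    intro t ht
    rw [hJ, Subgroup.map_iSup]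
    apply iSup_le
    intro k
    rw [map_conj_map_conj]
    exact le_iSup (fun k : K => W₀.map (MulAut.conj (k : Q)).toMonoidHom) ⟨t * k, K.mul_mem ht k.2⟩
  rcases hWmin J hJW hKJ with h | h
  · exact absurd h hJne
  · rw [← h]; exact hJD

/-- Clifford's theorem along a subnormal series: a subgroup containing all `H`-irreducible subgroups of the minimal normal
subgroup `Ub` contains `Ub`. -/
theorem le_of_irr_of_isSubnormal [Finite Q] (Ub : Subgroup Q) [hUn : Ub.Normal]
    (hmin : ∀ N : Subgroup Q, N.Normal → N ≤ Ub → N = ⊥ ∨ N = Ub)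
    {H : Subgroup Q} (hH : H.IsSubnormal) :
    ∀ D : Subgroup Q, (∀ W : Subgroup Q, W ≤ Ub → IsIrrUnder H W → W ≤ D) → Ub ≤ D := by
  induction hH with
  | top =>
    intro D hD
    by_cases hbot : Ub = ⊥
    · rw [hbot]; exact bot_le
    · apply hD Ub le_rfl
      refine ⟨hbot, ?_, ?_⟩
      · rw [Subgroup.normalizer_eq_top_iff.mpr hUn]
      · intro W' hW' hN
        have hW'n : W'.Normal := by
          rw [← Subgroup.normalizer_eq_top_iff]
          exact top_le_iff.mp hN
        exact hmin W' hW'n hW'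
  | step H K hHK hK hn ih =>
    intro D hD
    apply ih D
    exact le_of_irr_step hHK hn D Ub hD

/-- **Quadratic action and complete reducibility.** -/
theorem quadratic_of_isSubnormal [Finite Q] (Ub : Subgroup Q) [hUn : Ub.Normal]
    (hmin : ∀ N : Subgroup Q, N.Normal → N ≤ Ub → N = ⊥ ∨ N = Ub)
    (hcomm : ∀ a ∈ Ub, ∀ b ∈ Ub, a * b = b * a)
    {H : Subgroup Q} (hH : H.IsSubnormal) (M B : Subgroup Q) (hHM : H ≤ Subgroup.normalizer (M : Set Q))
    (hBH : B ≤ H) (hq1 : ⁅⁅M, B⁆, B⁆ = ⊥) (hq2 : ⁅⁅Ub, B⁆, B⁆ ≤ M) :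
    ⁅⁅Ub, B⁆, B⁆ = ⊥ := by
  -- the subgroup of `Ub` on which `B` acts quadratically
  let D : Subgroup Q :=
    { carrier := {u | u ∈ Ub ∧ ∀ b ∈ B, ⁅u, b⁆ ∈ Subgroup.centralizer (B : Set Q)}
      one_mem' := by
        refine ⟨Ub.one_mem, fun b _ => ?_⟩
        rw [commutatorElement_one_left]
        exact Subgroup.one_mem _
      mul_mem' := by
        rintro u u' ⟨hu, hu2⟩ ⟨hu', hu2'⟩
        refine ⟨Ub.mul_mem hu hu', fun b hb => ?_⟩
        have hc' : ⁅u', b⁆ ∈ Ub := by
          rw [commutatorElement_def]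
          have : b * u'⁻¹ * b⁻¹ ∈ Ub := hUn.conj_mem _ (Ub.inv_mem hu') b
          have e : u' * b * u'⁻¹ * b⁻¹ = u' * (b * u'⁻¹ * b⁻¹) := by group
          rw [e]; exact Ub.mul_mem hu' this
        have e1 : ⁅u * u', b⁆ = u * ⁅u', b⁆ * u⁻¹ * ⁅u, b⁆ := by
          simp only [commutatorElement_def]; group
        have e2 : u * ⁅u', b⁆ * u⁻¹ = ⁅u', b⁆ := by
          rw [hcomm u hu _ hc']; group
        rw [e1, e2]
        exact Subgroup.mul_mem _ (hu2' b hb) (hu2 b hb)
      inv_mem' := by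
        rintro u ⟨hu, hu2⟩
        refine ⟨Ub.inv_mem hu, fun b hb => ?_⟩
        have hc : ⁅u, b⁆ ∈ Ub := by
          rw [commutatorElement_def]
          have : b * u⁻¹ * b⁻¹ ∈ Ub := hUn.conj_mem _ (Ub.inv_mem hu) b
          have e : u * b * u⁻¹ * b⁻¹ = u * (b * u⁻¹ * b⁻¹) := by group
          rw [e]; exact Ub.mul_mem hu this
        have e1 : ⁅u⁻¹, b⁆ = u⁻¹ * ⁅u, b⁆⁻¹ * u := by
          simp only [commutatorElement_def]; group
        have e2 : u⁻¹ * ⁅u, b⁆⁻¹ * u = ⁅u, b⁆⁻¹ := by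
          have := hcomm u⁻¹ (Ub.inv_mem hu) _ (Ub.inv_mem hc)
          rw [this]; group
        rw [e1, e2]
        exact Subgroup.inv_mem _ (hu2 b hb) }
  have hDle : Ub ≤ D := by
    apply le_of_irr_of_isSubnormal Ub hmin hH D
    intro W hWU hW
    obtain ⟨hWne, hHW, hWmin⟩ := hW
    have hBW : B ≤ Subgroup.normalizer (W : Set Q) := hBH.trans hHW
    have hWB : ⁅W, B⁆ ≤ W := by
      rw [Subgroup.commutator_comm]
      exact Subgroup.le_normalizer_iff_commutator_le_right.mp hBW
    -- `W ⊓ M` is `H`-invariant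
    have hinv : H ≤ Subgroup.normalizer ((W ⊓ M : Subgroup Q) : Set Q) := by
      intro h hh
      have h1 := hHW hh
      have h2 := hHM hh
      rw [Subgroup.mem_normalizer_iff] at h1 h2 ⊢
      intro x
      rw [Subgroup.mem_inf, Subgroup.mem_inf, h1 x, h2 x]
    have hquad : ⁅⁅W, B⁆, B⁆ = ⊥ := by
      rcases hWmin (W ⊓ M) inf_le_left hinv with h | h
      · rw [eq_bot_iff, ← h]
        apply le_inf
        · exact (Subgroup.commutator_mono hWB le_rfl).trans hWB
        · exact (Subgroup.commutator_mono (Subgroup.commutator_mono hWU le_rfl) le_rfl).trans hq2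
      · have hWM : W ≤ M := by rw [← h]; exact inf_le_right
        rw [eq_bot_iff, ← hq1]
        exact Subgroup.commutator_mono (Subgroup.commutator_mono hWM le_rfl) le_rfl
    intro u hu
    refine ⟨hWU hu, fun b hb => ?_⟩
    have : ⁅W, B⁆ ≤ Subgroup.centralizer (B : Set Q) :=
      Subgroup.commutator_eq_bot_iff_le_centralizer.mp hquad
    exact this (Subgroup.commutator_mem_commutator hu hb)
  rw [Subgroup.commutator_eq_bot_iff_le_centralizer, Subgroup.commutator_le]
  intro u hu b hb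
  exact (hDle hu).2 b hb

end clifford

end Cfsg.Agent.Lib.Helper51
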