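/-
helper51: project CT (helper60), module CT-[TLOC-B]: the table facts `string` and `a2nb` of `LocTab` for the five data
of rank at least three (decidable bounded restatements checked by kernel evaluation on the Prelude tables).
-/
import Cfsg.Agent.Lib.Helper60.CtDefs

set_option autoImplicit false

namespace Cfsg.Agent.Lib.Helper51.CT

open Cfsg.Lie Cfsg.Agent.Lib.Helper35.St Cfsg.Agent.Lib.Helper60.St3 Cfsg.Agent.Lib.Helper60.CT

variable {D : ChevalleyDatum}

instance instDecInSub (D : ChevalleyDatum) (i j r : ℕ) : Decidable (D.InRankTwoSub i j r) := by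
  unfold ChevalleyDatum.InRankTwoSub
  infer_instance

/-- bounded, decidable form of `StringOK` -/
def StringOKB (D : ChevalleyDatum) (i j : ℕ) : Prop :=
  ∀ γ : Fin D.nroots, D.InRankTwoSub i j γ → (γ : ℕ) ≠ D.simple i → (γ : ℕ) ≠ D.neg (D.simple i) →
    (D.reflectRoot i γ = γ ∨ (D.reflectRoot i γ ≠ D.neg γ ∧ D.commTerms γ (D.reflectRoot i γ) = [])) ∧
    ∀ ε ∈ [D.simple i, D.neg (D.simple i)], ∀ k ∈ [(γ : ℕ), D.reflectRoot i γ],
      ∀ c ∈ D.commTerms k ε, c.1 = γ ∨ c.1 = D.reflectRoot i γ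

instance (D : ChevalleyDatum) (i j : ℕ) : Decidable (StringOKB D i j) := by
  unfold StringOKB
  infer_instance

theorem stringOK_of_B {i j : ℕ} (h : StringOKB D i j) : StringOK D i j := by
  intro γ hγ h1 h2
  obtain ⟨ha, hb⟩ := h ⟨γ, hγ.1⟩ hγ h1 h2
  refine ⟨ha, ?_⟩
  intro ε hε k hk c hc
  refine hb ε ?_ k ?_ c hc
  · rcases hε with rfl | rfl <;> simp
  · rcases hk with rfl | rfl <;> simp

/-- decidable form of `SingleTerm` -/
def SingleTermB (D : ChevalleyDatum) (r s e : ℕ) : Prop :=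
  D.commTerms r s = [(e, 1, 1, 1)] ∨ D.commTerms r s = [(e, -1, 1, 1)]

instance (D : ChevalleyDatum) (r s e : ℕ) : Decidable (SingleTermB D r s e) := by
  unfold SingleTermB
  infer_instance

theorem singleTerm_of_B {r s e : ℕ} (h : SingleTermB D r s e) : SingleTerm D r s e := by
  rcases h with h | h
  · exact ⟨1, Or.inl rfl, h⟩
  · exact ⟨-1, Or.inr rfl, h⟩

/-- decidable form of `A2Cfg` -/
def A2CfgB (D : ChevalleyDatum) (i j : ℕ) : Prop :=
  SingleTermB D (D.reflectRoot i (D.simple j)) (D.neg (D.simple j)) (D.simple i) ∧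
  SingleTermB D (D.reflectRoot i (D.reflectRoot i (D.simple j))) (D.reflectRoot i (D.neg (D.simple j)))
    (D.neg (D.simple i)) ∧
  SingleTermB D (D.neg (D.reflectRoot i (D.simple j))) (D.simple j) (D.neg (D.simple i)) ∧
  SingleTermB D (D.reflectRoot i (D.neg (D.reflectRoot i (D.simple j)))) (D.reflectRoot i (D.simple j))
    (D.simple i)

instance (D : ChevalleyDatum) (i j : ℕ) : Decidable (A2CfgB D i j) := by
  unfold A2CfgB
  infer_instance

theorem a2Cfg_of_B {i j : ℕ} (h : A2CfgB D i j) : A2Cfg D i j :=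
  ⟨singleTerm_of_B h.1, singleTerm_of_B h.2.1, singleTerm_of_B h.2.2.1, singleTerm_of_B h.2.2.2⟩

/-- the two table facts in bounded form; `f4 = true` allows the `B₂` pair of `F₄` -/
def LocStringB (D : ChevalleyDatum) (f4 : Bool) : Prop :=
  (∀ i : Fin D.rank, ∀ j : Fin D.rank,
    StringOKB D i j ∨ (f4 = true ∧ (((i : ℕ) = 1 ∧ (j : ℕ) = 2) ∨ ((i : ℕ) = 2 ∧ (j : ℕ) = 1)))) ∧
  (∀ i : Fin D.rank, ∃ j : Fin D.rank, (j : ℕ) ≠ i ∧ StringOKB D i j ∧ A2CfgB D i j)

instance (D : ChevalleyDatum) (f4 : Bool) : Decidable (LocStringB D f4) := by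
  unfold LocStringB
  infer_instance

theorem locString_of_B {f4 : Bool} (hf : f4 = true → D = chevF4) (h : LocStringB D f4) :
    (∀ i j, i < D.rank → j < D.rank →
      StringOK D i j ∨ (D = chevF4 ∧ ((i = 1 ∧ j = 2) ∨ (i = 2 ∧ j = 1)))) ∧
    (∀ i, i < D.rank → ∃ j, j < D.rank ∧ j ≠ i ∧ StringOK D i j ∧ A2Cfg D i j) := by
  constructor
  · intro i j hi hj
    rcases h.1 ⟨i, hi⟩ ⟨j, hj⟩ with h1 | h1
    · exact Or.inl (stringOK_of_B h1)
    · exact Or.inr ⟨hf h1.1, h1.2⟩
  · intro i hi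
    obtain ⟨j, hji, hs, ha⟩ := h.2 ⟨i, hi⟩
    exact ⟨j, j.isLt, hji, stringOK_of_B hs, a2Cfg_of_B ha⟩

set_option maxRecDepth 1000000 in
theorem locStringB_D4 : LocStringB chevD4 false := by decide +kernel

set_option maxRecDepth 1000000 in
theorem locStringB_F4 : LocStringB chevF4 true := by decide +kernel

set_option maxRecDepth 1000000 in
theorem locStringB_E6 : LocStringB chevE6 false := by decide +kernel

set_option maxRecDepth 1000000 in
theorem locStringB_E7 : LocStringB chevE7 false := by decide +kernel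

set_option maxRecDepth 1000000 in
theorem locStringB_E8 : LocStringB chevE8 false := by decide +kernel

/-- CT-[TLOC-B] -/
theorem locTab_string (hD : D ∈ [chevD4, chevF4, chevE6, chevE7, chevE8]) :
    (∀ i j, i < D.rank → j < D.rank →
      StringOK D i j ∨ (D = chevF4 ∧ ((i = 1 ∧ j = 2) ∨ (i = 2 ∧ j = 1)))) ∧
    (∀ i, i < D.rank → ∃ j, j < D.rank ∧ j ≠ i ∧ StringOK D i j ∧ A2Cfg D i j) := by
  simp only [List.mem_cons, List.not_mem_nil, or_false] at hD
  rcases hD with rfl | rfl | rfl | rfl | rfl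
  · exact locString_of_B (fun h => absurd h (by decide)) locStringB_D4
  · exact locString_of_B (fun _ => rfl) locStringB_F4
  · exact locString_of_B (fun h => absurd h (by decide)) locStringB_E6
  · exact locString_of_B (fun h => absurd h (by decide)) locStringB_E7
  · exact locString_of_B (fun h => absurd h (by decide)) locStringB_E8

end Cfsg.Agent.Lib.Helper51.CT
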