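/-
helper51: project CT (helper60), module CT-[TLOC-C]: the table facts `dih` and `term2` of `LocTab` for the five data of
rank at least three.  `dih` by kernel evaluation on the Prelude tables, `term2` by a Boolean check on the packed tables
of helper18.
-/
import Cfsg.Agent.Lib.Helper60.CtDefs
import Cfsg.Agent.Lib.Helper18.Comm
import Cfsg.Agent.Lib.Helper18.FastChkD4
import Cfsg.Agent.Lib.Helper18.FastChkF4
import Cfsg.Agent.Lib.Helper18.FastChkE6
import Cfsg.Agent.Lib.Helper18.FastChkE7
import Cfsg.Agent.Lib.Helper18.FastChkE8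

set_option autoImplicit false

namespace Cfsg.Agent.Lib.Helper51.CT

open Cfsg.Lie Cfsg.Agent.Lib.Helper35.St Cfsg.Agent.Lib.Helper60.St3 Cfsg.Agent.Lib.Helper60.CT
  Cfsg.Agent.Lib.Helper18

variable {D : ChevalleyDatum}

/-! ### `dih` -/

/-- bounded form of the dihedral table fact -/
def DihB (D : ChevalleyDatum) : Prop :=
  ∀ i : Fin D.rank, ∀ j : Fin D.rank, (i : ℕ) ≠ j →
    wRoot D (altWord i j (mmOf D i j - 1)) (D.simple (if (mmOf D i j - 1) % 2 = 1 then (j : ℕ) else i)) =
      D.simple j

instance (D : ChevalleyDatum) : Decidable (DihB D) := by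
  unfold DihB
  infer_instance

theorem dih_of_B (h : DihB D) : ∀ i j, i < D.rank → j < D.rank → i ≠ j →
    wRoot D (altWord i j (mmOf D i j - 1)) (D.simple (if (mmOf D i j - 1) % 2 = 1 then j else i)) = D.simple j :=
  fun i j hi hj hij => h ⟨i, hi⟩ ⟨j, hj⟩ hij

set_option maxRecDepth 1000000 in
theorem dihB_D4 : DihB chevD4 := by decide +kernel

set_option maxRecDepth 1000000 in
theorem dihB_F4 : DihB chevF4 := by decide +kernel

set_option maxRecDepth 1000000 in
theorem dihB_E6 : DihB chevE6 := by decide +kernel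

set_option maxRecDepth 1000000 in
theorem dihB_E7 : DihB chevE7 := by decide +kernel

set_option maxRecDepth 1000000 in
theorem dihB_E8 : DihB chevE8 := by decide +kernel

/-! ### `term2` -/

/-- at most two terms, with distinct roots -/
def nodupFst : List (ℕ × ℤ × ℕ × ℕ) → Bool
  | [] => true
  | [_] => true
  | [a, b] => a.1 != b.1
  | _ => false

theorem nodupFst_spec (l : List (ℕ × ℤ × ℕ × ℕ)) (h : nodupFst l = true) :
    l.length ≤ 2 ∧ (l.map fun c => c.1).Nodup := by
  match l, h with
  | [], _ => simp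
  | [_], _ => simp
  | [a, b], h =>
    simp only [nodupFst, bne_iff_ne, ne_eq] at h
    simp [h]
  | _ :: _ :: _ :: _, h => simp [nodupFst] at h

/-- Table check: the commutator formula of `(r, s)`, `s ≠ ± r`, has at most two terms, with distinct roots. -/
def term2OK (T : FastDatum) : Bool :=
  (List.range T.nroots).all fun r => (List.range T.nroots).all fun s =>
    s == r || s == T.neg r || nodupFst (T.commTermsFast r s)

theorem term2_of_ok (T : FastDatum) (hag : T.agree D = true) (hin : T.chainInRange = true)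
    (h : term2OK T = true) :
    ∀ r s, r < D.nroots → s < D.nroots → s ≠ r → s ≠ D.neg r →
      (D.commTerms r s).length ≤ 2 ∧ ((D.commTerms r s).map fun c => c.1).Nodup := by
  intro r s hr hs hsr hsn
  unfold term2OK at h
  rw [List.all_eq_true] at h
  have hn := T.nroots_eq D hag
  have h1 := h r (List.mem_range.2 (hn ▸ hr))
  rw [List.all_eq_true] at h1
  have h2 := h1 s (List.mem_range.2 (hn ▸ hs))
  rw [Bool.or_eq_true, Bool.or_eq_true, beq_iff_eq, beq_iff_eq] at h2
  rcases h2 with (h2 | h2) | h2
  · exact (hsr h2).elim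
  · exfalso
    apply hsn
    show s = D.negIdx.getD r 0
    rw [T.neg_eq D hag r hr]
    exact h2
  · rw [T.commTermsFast_eq, T.commTermsF_eq D hag hin r s hr hs] at h2
    exact nodupFst_spec _ h2

set_option maxRecDepth 1000000 in
theorem term2OK_D4 : term2OK fastD4 = true := by decide +kernel

set_option maxRecDepth 1000000 in
theorem term2OK_F4 : term2OK fastF4 = true := by decide +kernel

set_option maxRecDepth 1000000 in
theorem term2OK_E6 : term2OK fastE6 = true := by decide +kernel

set_option maxRecDepth 1000000 in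
theorem term2OK_E7 : term2OK fastE7 = true := by decide +kernel

set_option maxRecDepth 1000000 in
theorem term2OK_E8 : term2OK fastE8 = true := by decide +kernel

/-- CT-[TLOC-C] -/
theorem locTab_misc (hD : D ∈ [chevD4, chevF4, chevE6, chevE7, chevE8]) :
    (∀ i j, i < D.rank → j < D.rank → i ≠ j →
      wRoot D (altWord i j (mmOf D i j - 1)) (D.simple (if (mmOf D i j - 1) % 2 = 1 then j else i)) = D.simple j) ∧
    (∀ r s, r < D.nroots → s < D.nroots → s ≠ r → s ≠ D.neg r →
      (D.commTerms r s).length ≤ 2 ∧ ((D.commTerms r s).map fun c => c.1).Nodup) := by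
  simp only [List.mem_cons, List.not_mem_nil, or_false] at hD
  rcases hD with rfl | rfl | rfl | rfl | rfl
  · exact ⟨dih_of_B dihB_D4, term2_of_ok fastD4 agree_D4 chainInRange_D4 term2OK_D4⟩
  · exact ⟨dih_of_B dihB_F4, term2_of_ok fastF4 agree_F4 chainInRange_F4 term2OK_F4⟩
  · exact ⟨dih_of_B dihB_E6, term2_of_ok fastE6 agree_E6 chainInRange_E6 term2OK_E6⟩
  · exact ⟨dih_of_B dihB_E7, term2_of_ok fastE7 agree_E7 chainInRange_E7 term2OK_E7⟩
  · exact ⟨dih_of_B dihB_E8, term2_of_ok fastE8 agree_E8 chainInRange_E8 term2OK_E8⟩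

end Cfsg.Agent.Lib.Helper51.CT
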