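/-
helper51: a minimal simple group of odd order cannot be solvable.  This is the (trivial) bridge
that makes every row carrying the hypothesis `Cfsg.IsMinSimpleOddOrder G` vacuous once the Odd
Order Theorem (`Cfsg.Agent.S0205.result`) is available.
-/
import Mathlib
import Cfsg.Prelude.Def_OddOrder

set_option autoImplicit false

namespace Cfsg.Agent.Lib.Helper51.FTVacuous

/-- A solvable simple group is commutative; hence no minimal simple group of odd order is
solvable. -/
theorem false_of_isSolvable {G : Type*} [Group G] (hG : Cfsg.IsMinSimpleOddOrder G)
    (hs : Group.IsSolvable G) : False := by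
  obtain ⟨_, hsimple, hnc, _⟩ := hG
  have := hsimple
  have := hs
  have hcomm : ∀ a b : G, a * b = b * a := IsSimpleGroup.comm_iff_isSolvable.mpr hs
  exact hnc ⟨⟨hcomm⟩⟩

/-- Hypothesis form: if every group of odd order (in the universe of `G`) is solvable then
`IsMinSimpleOddOrder G` is contradictory. -/
theorem false_of_FT {G : Type*} [Group G] (hG : Cfsg.IsMinSimpleOddOrder G)
    (hFT : Odd (Nat.card G) → Group.IsSolvable G) : False :=
  false_of_isSolvable hG (hFT hG.1)

end Cfsg.Agent.Lib.Helper51.FTVacuous
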