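import Mathlib
import Cfsg.Prelude.Def_PLocal
import Cfsg.Agent.Lib.Helper11.ZJ2
import Cfsg.Agent.Lib.Helper97.Thompson

/-!
# Transport of helper11's `famInf` along homomorphisms injective on the subgroup, and the two
standard families (abelian / elementary abelian) indexed by a `Bool`.
-/

set_option autoImplicit false
open Cfsg

namespace Cfsg.Agent.Lib.Helper51

open Cfsg.Agent.Lib.Helper11

section transport

variable {X Y : Type*} [Group X] [Group Y]

theorem card_map_of_injOn (f : X →* Y) (A : Subgroup X) (h : Set.InjOn f (A : Set X)) :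
    Nat.card ↥(A.map f) = Nat.card ↥A := by
  show Nat.card ((A.map f : Subgroup Y) : Set Y) = Nat.card (A : Set X)
  rw [Subgroup.coe_map]
  exact Nat.card_image_of_injOn h

theorem comap_inf_map_eq (f : X →* Y) (E : Subgroup X) (hinj : Set.InjOn f (E : Set X))
    {A : Subgroup X} (hA : A ≤ E) : (A.map f).comap f ⊓ E = A := by
  apply le_antisymm
  · rintro x ⟨hx1, hx2⟩
    obtain ⟨a, ha, hae⟩ := hx1
    have : a = x := hinj (hA ha) hx2 hae
    rw [← this]; exact ha
  · exact le_inf (Subgroup.le_comap_map f A) hA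

theorem map_comap_inf_eq (f : X →* Y) (E : Subgroup X) {B : Subgroup Y} (hB : B ≤ E.map f) :
    (B.comap f ⊓ E).map f = B := by
  apply le_antisymm
  · rintro _ ⟨x, ⟨hx1, -⟩, rfl⟩
    exact hx1
  · intro y hy
    obtain ⟨x, hx, rfl⟩ := hB hy
    exact ⟨x, ⟨hy, hx⟩, rfl⟩

variable [Finite X]

theorem famInf_map_injOn (f : X →* Y) (E : Subgroup X) (hinj : Set.InjOn f (E : Set X))
    {gX : Subgroup X → Prop} {gY : Subgroup Y → Prop} (hbX : gX ⊥)
    (h1 : ∀ A : Subgroup X, A ≤ E → gX A → gY (A.map f))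
    (h2 : ∀ B : Subgroup Y, B ≤ E.map f → gY B → gX (B.comap f ⊓ E)) :
    famInf gY (E.map f) = (famInf gX E).map f := by
  have hmapmem : ∀ A, A ∈ fam gX E → A.map f ∈ fam gY (E.map f) := by
    intro A hA
    refine ⟨Subgroup.map_mono hA.1, h1 A hA.1 hA.2.1, ?_⟩
    intro V hV hgV
    have h3 := hA.2.2 (V.comap f ⊓ E) inf_le_right (h2 V hV hgV)
    rw [card_map_of_injOn f A (hinj.mono hA.1)]
    have h4 : Nat.card ↥((V.comap f ⊓ E).map f) = Nat.card ↥(V.comap f ⊓ E) :=
      card_map_of_injOn f _ (hinj.mono inf_le_right)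
    rw [map_comap_inf_eq f E hV] at h4
    rw [h4]; exact h3
  have hcomapmem : ∀ B, B ∈ fam gY (E.map f) → B.comap f ⊓ E ∈ fam gX E := by
    intro B hB
    refine ⟨inf_le_right, h2 B hB.1 hB.2.1, ?_⟩
    intro V hV hgV
    have h3 := hB.2.2 (V.map f) (Subgroup.map_mono hV) (h1 V hV hgV)
    rw [card_map_of_injOn f V (hinj.mono hV)] at h3
    have h4 : Nat.card ↥((B.comap f ⊓ E).map f) = Nat.card ↥(B.comap f ⊓ E) :=
      card_map_of_injOn f _ (hinj.mono inf_le_right)
    rw [map_comap_inf_eq f E hB.1] at h4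
    rw [← h4]; exact h3
  ext y
  unfold famInf
  rw [Subgroup.mem_sInf]
  constructor
  · intro hy
    obtain ⟨A₀, hA₀⟩ := fam_nonempty gX hbX E
    obtain ⟨x₀, hx₀, rfl⟩ := hy _ (hmapmem A₀ hA₀)
    refine ⟨x₀, ?_, rfl⟩
    rw [SetLike.mem_coe, Subgroup.mem_sInf]
    intro A hA
    obtain ⟨x', hx', hxe⟩ := hy _ (hmapmem A hA)
    have : x' = x₀ := hinj (hA.1 hx') (hA₀.1 hx₀) hxe
    rw [← this]; exact hx'
  · rintro ⟨x, hx, rfl⟩ B hB
    rw [SetLike.mem_coe, Subgroup.mem_sInf] at hx
    exact (hx _ (hcomapmem B hB)).1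

end transport

/-- The two families: abelian subgroups (`true`), elementary abelian `p`-subgroups (`false`). -/
def gd (p : ℕ) (b : Bool) {X : Type*} [Group X] (A : Subgroup X) : Prop :=
  if b then IsMulCommutative A else IsElementaryAbelian p A

section gd

variable {X Y : Type*} [Group X] [Group Y] (p : ℕ) (b : Bool)

theorem gd_bot : gd p b (⊥ : Subgroup X) := by
  cases b
  · exact Cfsg.Agent.Lib.Helper97.isElementaryAbelian_bot p
  · exact isMulCommutative_bot''

theorem gd_comm {A : Subgroup X} (h : gd p b A) : IsMulCommutative A := by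
  cases b
  · exact h.1
  · exact h

theorem gd_map (f : X →* Y) {A : Subgroup X} (h : gd p b A) : gd p b (A.map f) := by
  cases b
  · have : IsMulCommutative A := h.1
    refine ⟨Subgroup.map_isMulCommutative _ _, ?_⟩
    rintro _ ⟨a, ha, rfl⟩
    rw [← map_pow, h.2 a ha, map_one]
  · have : IsMulCommutative A := h
    exact Subgroup.map_isMulCommutative _ _

theorem isMulCommutative_comap_inf (f : X →* Y) (E : Subgroup X) (hinj : Set.InjOn f (E : Set X))
    {B : Subgroup Y} (hB : IsMulCommutative B) : IsMulCommutative (B.comap f ⊓ E : Subgroup X) := by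
  refine ⟨⟨?_⟩⟩
  rintro ⟨x, hx1, hx2⟩ ⟨y, hy1, hy2⟩
  apply Subtype.ext
  show x * y = y * x
  apply hinj (E.mul_mem hx2 hy2) (E.mul_mem hy2 hx2)
  rw [map_mul, map_mul]
  have := hB.is_comm.comm ⟨f x, hx1⟩ ⟨f y, hy1⟩
  exact congrArg Subtype.val this

theorem gd_comap_inf (f : X →* Y) (E : Subgroup X) (hinj : Set.InjOn f (E : Set X))
    {B : Subgroup Y} (h : gd p b B) : gd p b (B.comap f ⊓ E) := by
  cases b
  · refine ⟨isMulCommutative_comap_inf f E hinj h.1, ?_⟩
    rintro x ⟨hx1, hx2⟩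
    apply hinj (E.pow_mem hx2 p) E.one_mem
    rw [map_pow, map_one]
    exact h.2 _ hx1
  · exact isMulCommutative_comap_inf f E hinj h

variable [Finite X]

theorem famInf_gd_map_injOn (f : X →* Y) (E : Subgroup X) (hinj : Set.InjOn f (E : Set X)) :
    famInf (gd p b) (E.map f) = (famInf (gd p b) E).map f :=
  famInf_map_injOn f E hinj (gd_bot p b) (fun _ _ h => gd_map p b f h)
    (fun _ _ h => gd_comap_inf p b f E hinj h)

theorem famInf_gd_le (E : Subgroup X) : famInf (gd p b) E ≤ E := famInf_le (gd_bot p b) E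

end gd

end Cfsg.Agent.Lib.Helper51
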