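import Cfsg.Agent.Lib.Helper33.FusionControl2
import Cfsg.Agent.Lib.Helper33.AlperinCentric

/-!
# Local-to-global control of strong fusion, with the local hypothesis only for "good" subgroups (helper51 library)

A variant of `Cfsg.Agent.Lib.Helper33.good_of_local` / `familyControls_top_of_local`: the local control hypothesis in
`N_G(U)` is only needed for fully normalized `U` satisfying a conjugation invariant predicate `Gd`, provided that `Gd` holds
for every centric subgroup of `S` and for every `W(N_S(X))`, `W ∈ 𝓦`, `X ≤ S`.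
-/

set_option autoImplicit false

namespace Cfsg.Agent.Lib.Helper51

open Cfsg.Agent.Lib.Helper33

variable {G : Type*} [Group G] {p : ℕ}

section main

variable [Fact p.Prime] [Finite G] (S : Sylow p G) (𝓦 : Set (Subgroup G → Subgroup G))
  (h𝓦 : ∀ W ∈ 𝓦, Cfsg.IsConjugacyFunctor p W)
  (Gd : Subgroup G → Prop)

local notation "NS(" V ")" => ((S : Subgroup G) ⊓ Subgroup.normalizer ((V : Subgroup G) : Set G) : Subgroup G)

variable (hGdW : ∀ W ∈ 𝓦, ∀ X : Subgroup G, X ≤ (S : Subgroup G) →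
  Gd (W ((S : Subgroup G) ⊓ Subgroup.normalizer ((X : Subgroup G) : Set G))))

include h𝓦 hGdW in
/-- conversion of a step in `N_{N(X)}(W(N_S(X)))` -/
theorem good_step_gd (X : Subgroup G) (hXS : X ≤ (S : Subgroup G)) (hXne : X ≠ ⊥)
    (hL : ∀ V : Subgroup G, V ≤ (S : Subgroup G) → V ≠ ⊥ → Gd V → Nat.card NS(X) < Nat.card NS(V) →
      ∀ y ∈ Subgroup.normalizer (V : Set G), ∀ B : Set G, B ⊆ NS(V) → lc y B ⊆ NS(V) →
        Good (stepSet 𝓦 ⊤ (S : Subgroup G)) (S : Subgroup G) B y) :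
    ∀ z ∈ stepSet 𝓦 (Subgroup.normalizer (X : Set G)) NS(X), ∀ C : Set G, C ⊆ NS(X) →
      lc z C ⊆ NS(X) → Good (stepSet 𝓦 ⊤ (S : Subgroup G)) (S : Subgroup G) C z := by
  rintro z ⟨W, hW, hz⟩ C hC hzC
  have hNSp : IsPGroup p NS(X) := S.isPGroup'.to_le inf_le_left
  by_cases hS : NS(X) = (S : Subgroup G)
  · apply Good.single
    · refine ⟨W, hW, ?_⟩
      rw [hS] at hz
      exact ⟨Subgroup.mem_top _, hz.2⟩
    · exact hzC.trans (fun _ hx => (inf_le_left : NS(X) ≤ (S : Subgroup G)) hx)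
  · set V := W NS(X) with hV
    have hVle : V ≤ NS(X) := cf_le (h𝓦 W hW) hNSp
    have hVS : V ≤ (S : Subgroup G) := hVle.trans inf_le_left
    have hNSne : NS(X) ≠ ⊥ := by
      intro h
      apply hXne
      have : X ≤ NS(X) := le_inf hXS Subgroup.le_normalizer
      rw [h] at this
      exact le_bot_iff.mp this
    have hVne : V ≠ ⊥ := cf_ne_bot (h𝓦 W hW) hNSp hNSne
    have hNN : NS(NS(X)) ≤ NS(V) :=
      le_inf inf_le_left (inf_le_right.trans (cf_normalizer_le (h𝓦 W hW) hNSp))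
    have hcard : Nat.card NS(X) < Nat.card NS(V) :=
      lt_of_lt_of_le (card_lt_card_normalizer_inf S inf_le_left hS) (Subgroup.card_le_of_le hNN)
    have hXV : NS(X) ≤ NS(V) := (le_inf inf_le_left Subgroup.le_normalizer).trans hNN
    exact hL V hVS hVne (hGdW W hW X hXS) hcard z hz.2 C (hC.trans hXV) (hzC.trans hXV)

variable (hGdcj : ∀ (V : Subgroup G) (k : G), Gd V → Gd (cj k V))
  (𝓕 : Set (Subgroup G))
  (h𝓕 : ∀ P : Subgroup G, P ≤ (S : Subgroup G) →
    ∃ U ∈ 𝓕, (∃ g : G, cj g P = U) ∧ U ≤ (S : Subgroup G) ∧ FullyNormalized p (S : Subgroup G) U)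
  (hloc : ∀ U ∈ 𝓕, U ≠ ⊥ → U ≤ (S : Subgroup G) → FullyNormalized p (S : Subgroup G) U → Gd U →
    Cfsg.FamilyControlsStrongFusionIn p 𝓦 (Subgroup.normalizer (U : Set G)))

include h𝓦 hGdW hGdcj h𝓕 hloc in
theorem claim_L_gd (c₀ : ℕ)
    (IH : ∀ P : Subgroup G, P ≤ (S : Subgroup G) → c₀ < Nat.card P → ∀ g, cj g P ≤ (S : Subgroup G) →
      Good (stepSet 𝓦 ⊤ (S : Subgroup G)) (S : Subgroup G) (P : Set G) g) :
    ∀ m : ℕ, ∀ V : Subgroup G, V ≤ (S : Subgroup G) → V ≠ ⊥ → Gd V → c₀ < Nat.card NS(V) →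
      Nat.card (S : Subgroup G) - Nat.card NS(V) = m →
      ∀ y ∈ Subgroup.normalizer (V : Set G), ∀ B : Set G, B ⊆ NS(V) → lc y B ⊆ NS(V) →
        Good (stepSet 𝓦 ⊤ (S : Subgroup G)) (S : Subgroup G) B y := by
  intro m
  induction m using Nat.strong_induction_on with
  | _ m ih =>
    intro V hVS hVne hVgd hc hm y hy B hB hyB
    have hNSS : NS(V) ≤ (S : Subgroup G) := inf_le_left
    obtain ⟨V', hV'𝓕, ⟨v, hv⟩, hV'S, hV'fn⟩ := h𝓕 V hVS
    obtain ⟨k, hkV, hkN⟩ := exists_cj_normalizer_le S hV'fn v hv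
    have hV'ne : V' ≠ ⊥ := by
      rw [← hkV]; exact fun h => hVne (cj_eq_bot_iff.mp h)
    have hV'gd : Gd V' := by
      rw [← hkV]; exact hGdcj V k hVgd
    have hNS'S : NS(V') ≤ (S : Subgroup G) := inf_le_left
    have hcard' : Nat.card NS(V) ≤ Nat.card NS(V') := by
      rw [← card_cj k]; exact Subgroup.card_le_of_le hkN
    have hcardS : Nat.card NS(V') ≤ Nat.card (S : Subgroup G) := Subgroup.card_le_of_le hNS'S
    have hΦk : Good (stepSet 𝓦 ⊤ (S : Subgroup G)) (S : Subgroup G) (NS(V) : Set G) k :=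
      IH NS(V) hNSS hc k (hkN.trans hNS'S)
    have hctl := good_of_familyControls h𝓦 (hloc V' hV'𝓕 hV'ne hV'S hV'fn hV'gd) hV'fn.sylIn
    have hy' : k * y * k⁻¹ ∈ Subgroup.normalizer (V' : Set G) := by
      rw [← hkV, ← cj_normalizer]; exact conj_mem_cj hy
    have hB' : lc k B ⊆ NS(V') := by
      refine (lc_mono hB).trans ?_
      rw [lc_coe_subgroup]; exact hkN
    have hyB' : lc (k * y * k⁻¹) (lc k B) ⊆ NS(V') := by
      rw [← lc_mul]
      have : k * y * k⁻¹ * k = k * y := by group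
      rw [this, lc_mul]
      refine (lc_mono hyB).trans ?_
      rw [lc_coe_subgroup]; exact hkN
    have hG1 := hctl (lc k B) (k * y * k⁻¹) hy' hB' hyB'
    have hstep := good_step_gd S 𝓦 h𝓦 Gd hGdW V' hV'S hV'ne (by
      intro V'' hV''S hV''ne hV''gd hlt y'' hy'' B'' hB'' hyB''
      have hle'' : Nat.card NS(V'') ≤ Nat.card (S : Subgroup G) := Subgroup.card_le_of_le inf_le_left
      exact ih (Nat.card (S : Subgroup G) - Nat.card NS(V'')) (by omega) V'' hV''S hV''ne hV''gd (by omega) rfl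
        y'' hy'' B'' hB'' hyB'')
    have hG2 : Good (stepSet 𝓦 ⊤ (S : Subgroup G)) (S : Subgroup G) (lc k B) (k * y * k⁻¹) := by
      obtain ⟨y'', hreach, hagree⟩ := hG1
      exact (Good.of_reach hB' hstep hreach).congr hagree
    have hBk : Good (stepSet 𝓦 ⊤ (S : Subgroup G)) (S : Subgroup G) B k :=
      hΦk.mono le_rfl le_rfl hB
    have hyBk : Good (stepSet 𝓦 ⊤ (S : Subgroup G)) (S : Subgroup G) (lc y B) k :=
      hΦk.mono le_rfl le_rfl hyB
    have hyBS : lc y B ⊆ (S : Subgroup G) := hyB.trans (fun _ hx => hNSS hx)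
    have hkinv := hyBk.inv (fun x hx => stepSet_inv hx) hyBS
    have h1 := hBk.comp hG2
    have e1 : lc (k * y * k⁻¹ * k) B = lc k (lc y B) := by
      rw [← lc_mul]
      congr 1
      group
    have h2 := h1.comp (e1 ▸ hkinv)
    have e2 : k⁻¹ * (k * y * k⁻¹ * k) = y := by group
    rwa [e2] at h2

variable (hGdc : ∀ U : Subgroup G, U ≤ (S : Subgroup G) →
  (S : Subgroup G) ⊓ Subgroup.centralizer (U : Set G) ≤ U → Gd U)

include h𝓦 hGdW hGdcj h𝓕 hloc hGdc in
/-- **Local-to-global control of strong fusion**, local hypothesis for good subgroups only. -/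
theorem good_of_local_gd :
    ∀ (A : Set G) (g : G), A ⊆ (S : Subgroup G) → lc g A ⊆ (S : Subgroup G) →
      Good (stepSet 𝓦 ⊤ (S : Subgroup G)) (S : Subgroup G) A g := by
  have key := alperin_induction_centric S
    (fun P g => Good (stepSet 𝓦 ⊤ (S : Subgroup G)) (S : Subgroup G) (P : Set G) g) 𝓕 h𝓕
    (by
      intro P g h _ _ _ h1 h2
      apply h1.comp
      rw [lc_coe_subgroup]; exact h2)
    (by
      intro P P' g hle _ _ h1
      exact h1.mono le_rfl le_rfl hle)
    (by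
      intro P g hP _ h1
      have := h1.inv (fun x hx => stepSet_inv hx) hP
      rwa [lc_coe_subgroup] at this)
    (by
      intro P g g' _ hgg' h1
      exact h1.congr (fun a ha => hgg' a ha))
    (by
      intro U hU𝓕 hUS hUfn hUc IH g hg
      by_cases hUne : U = ⊥
      · subst hUne
        refine ⟨1, Reach.refl _ _ _, ?_⟩
        intro a ha
        have : a = 1 := ha
        subst this
        simp
      · have hUgd : Gd U := hGdc U hUS hUc
        have hL := claim_L_gd S 𝓦 h𝓦 Gd hGdW hGdcj 𝓕 h𝓕 hloc (Nat.card U) IH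
        have hctl := good_of_familyControls h𝓦 (hloc U hU𝓕 hUne hUS hUfn hUgd) hUfn.sylIn
        have hUN : (U : Set G) ⊆ NS(U) := le_inf hUS Subgroup.le_normalizer
        have hgU : lc g (U : Set G) ⊆ NS(U) := by
          rw [lc_coe_subgroup, cj_eq_self_of_mem_normalizer hg]; exact hUN
        obtain ⟨g', hreach, hagree⟩ := hctl (U : Set G) g hg hUN hgU
        have hstep := good_step_gd S 𝓦 h𝓦 Gd hGdW U hUS hUne (by
          intro V hVS hVne hVgd hlt y hy B hB hyB
          have hcU : Nat.card U ≤ Nat.card NS(U) := Subgroup.card_le_of_le hUN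
          exact hL _ V hVS hVne hVgd (by omega) rfl y hy B hB hyB)
        exact (Good.of_reach hUN hstep hreach).congr hagree)
  intro A g hA hAg
  have hP : Subgroup.closure A ≤ (S : Subgroup G) := (Subgroup.closure_le _).mpr hA
  have hPg : cj g (Subgroup.closure A) ≤ (S : Subgroup G) := lc_subset_subgroup_iff.mp hAg
  exact (key _ hP g hPg).mono le_rfl le_rfl Subgroup.subset_closure

end main

end Cfsg.Agent.Lib.Helper51
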