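/-
helper51: project GOUT (S3066, owner helper76), block GLUE, module **GOUT-[GL-LIN]** in `_of` form:
`solvMod_stabAut_of_transitive` with the statements of `exists_mulAut_linearEquiv` ([GL-LINEQ]) and
`P1_main` (block P1) as hypotheses.
-/
import Mathlib
import Cfsg.Prelude.Def_KGroupFacts
import Cfsg.Prelude.Def_Transfer
import Cfsg.Agent.Lib.Helper76.GOut.GlueDefs
import Cfsg.Agent.Lib.Helper92.GOutSM

set_option autoImplicit false
set_option linter.unusedSectionVars false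
set_option linter.style.haveILetI false

namespace Cfsg.Agent.Lib.Helper51.GOut

open Cfsg Cfsg.Agent.Lib.Helper76.GOut

universe u

variable {G : Type u} [Group G] [Finite G]

theorem conj_mem_stabAut {E : Subgroup G} {g : G} (hg : g ∈ Subgroup.normalizer (E : Set G)) :
    MulAut.conj g ∈ stabAut E := by
  intro h
  rw [MulAut.conj_apply]
  exact ((Subgroup.mem_normalizer_iff.1 hg) h).symm

/-- **GOUT-[GL-LIN]** in `_of` form. -/
theorem solvMod_stabAut_of_transitive_of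
    (hlineq : ∀ (E' : Type u) [CommGroup E'] (_ : ∀ x : E', x ^ 2 = 1),
      ∃ (_ : Module (ZMod 2) (Additive E'))
        (e : MulAut E' ≃* (Additive E' ≃ₗ[ZMod 2] Additive E')),
        ∀ (φ : MulAut E') (x : E'), e φ (Additive.ofMul x) = Additive.ofMul (φ x))
    (hP1 : ∀ (V : Type u) [AddCommGroup V] [Module (ZMod 2) V] [Finite V]
      (X Y : Subgroup (V ≃ₗ[ZMod 2] V)), Y ≤ X → (∀ x ∈ X, ∀ y ∈ Y, x * y * x⁻¹ ∈ Y) →
      TransSub Y → SolvMod X Y)
    (E : Subgroup G) (hE2 : ∀ x ∈ E, x ^ 2 = 1)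
    (hEc : ∀ a ∈ E, ∀ b ∈ E, a * b = b * a)
    (htr : ∀ a ∈ E, ∀ b ∈ E, a ≠ 1 → b ≠ 1 →
      ∃ g ∈ Subgroup.normalizer (E : Set G), g * a * g⁻¹ = b) :
    SolvMod (stabAut E) (fixAut E ⊔ (stabAut E ⊓ Inn G)) := by
  classical
  letI cg : CommGroup ↥E :=
    { (inferInstance : Group ↥E) with
      mul_comm := fun a b => Subtype.ext (hEc a.1 a.2 b.1 b.2) }
  obtain ⟨inst, ε, hε⟩ := hlineq ↥E (fun x => Subtype.ext (by simpa using hE2 x.1 x.2))
  letI := inst
  haveI : Finite (Additive ↥E) := inferInstanceAs (Finite ↥E)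
  let f : ↥(stabAut E) →* (Additive ↥E ≃ₗ[ZMod 2] Additive ↥E) :=
    ε.toMonoidHom.comp (resAut E)
  have hf : ∀ (φ : ↥(stabAut E)) (x : ↥E),
      f φ (Additive.ofMul x) = Additive.ofMul (resAut E φ x) := fun φ x => hε _ x
  let M0 : Subgroup ↥(stabAut E) := (stabAut E ⊓ Inn G).subgroupOf (stabAut E)
  have hM0 : ∀ y : ↥(stabAut E), y ∈ M0 ↔ y.1 ∈ Inn G := by
    intro y
    show y.1 ∈ stabAut E ⊓ Inn G ↔ y.1 ∈ Inn G
    exact ⟨fun h => h.2, fun h => ⟨y.2, h⟩⟩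
  have hnormal : ∀ x : ↥(stabAut E), ∀ y ∈ M0, x * y * x⁻¹ ∈ M0 := by
    intro x y hy
    rw [hM0] at hy ⊢
    exact (innNormal G).conj_mem y.1 hy x.1
  have hnorm : ∀ x ∈ (⊤ : Subgroup ↥(stabAut E)).map f, ∀ y ∈ M0.map f, x * y * x⁻¹ ∈ M0.map f := by
    rintro _ ⟨x, -, rfl⟩ _ ⟨y, hy, rfl⟩
    exact ⟨x * y * x⁻¹, hnormal x y hy, by simp⟩
  have htrans : TransSub (M0.map f) := by
    intro v w hv hw
    have hv1 : (Additive.toMul v : ↥E) ≠ 1 := fun h => hv (by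
      have : v = Additive.ofMul (Additive.toMul v) := rfl
      rw [this, h]; rfl)
    have hw1 : (Additive.toMul w : ↥E) ≠ 1 := fun h => hw (by
      have : w = Additive.ofMul (Additive.toMul w) := rfl
      rw [this, h]; rfl)
    obtain ⟨g, hg, hgab⟩ := htr (Additive.toMul v : ↥E).1 (Additive.toMul v : ↥E).2
      (Additive.toMul w : ↥E).1 (Additive.toMul w : ↥E).2
      (fun h => hv1 (Subtype.ext h)) (fun h => hw1 (Subtype.ext h))
    let ψ : ↥(stabAut E) := ⟨MulAut.conj g, conj_mem_stabAut hg⟩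
    refine ⟨f ψ, ⟨ψ, (hM0 ψ).2 ⟨g, rfl⟩, rfl⟩, ?_⟩
    have h1 := hf ψ (Additive.toMul v)
    have h2 : resAut E ψ (Additive.toMul v) = Additive.toMul w := by
      apply Subtype.ext
      rw [resAut_apply]
      show MulAut.conj g (Additive.toMul v : ↥E).1 = _
      rw [MulAut.conj_apply, hgab]
    rw [h2] at h1
    exact h1
  have key : SolvMod ((⊤ : Subgroup ↥(stabAut E)).map f) (M0.map f) :=
    hP1 _ _ _ (Subgroup.map_mono le_top) hnorm htrans
  have h1 := SolvMod.of_map f key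
  have h2 := SolvMod.map (stabAut E).subtype h1
  have h3 : (⊤ : Subgroup ↥(stabAut E)).map (stabAut E).subtype = stabAut E := by
    rw [← MonoidHom.range_eq_map, Subgroup.range_subtype]
  rw [h3] at h2
  refine h2.mono_right ?_
  rintro _ ⟨φ, hφ, rfl⟩
  obtain ⟨ψ, hψ, hψφ⟩ := hφ
  have hker : (ψ⁻¹ * φ).1 ∈ fixAut E := by
    have h4 : f (ψ⁻¹ * φ) = 1 := by rw [map_mul, map_inv, hψφ, inv_mul_cancel]
    have h5 : resAut E (ψ⁻¹ * φ) = 1 := by
      have : ε (resAut E (ψ⁻¹ * φ)) = ε 1 := by rw [map_one]; exact h4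
      exact ε.injective this
    intro h hh
    have h6 : ((resAut E (ψ⁻¹ * φ) ⟨h, hh⟩ : ↥E) : G) = h := by rw [h5]; rfl
    rw [resAut_apply] at h6
    exact h6
  have hφeq : (stabAut E).subtype φ = ψ.1 * (ψ⁻¹ * φ).1 := by simp
  rw [hφeq]
  exact mul_mem (Subgroup.mem_sup_right ((hM0 ψ).1 hψ |> fun h => ⟨ψ.2, h⟩))
    (Subgroup.mem_sup_left hker)

end Cfsg.Agent.Lib.Helper51.GOut
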