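/-
helper51: project GOUT (S3066, owner helper76), block GLUE, module **GOUT-[GL-W]** in `_of` form:
`solvMod_inf_sup` with the Odd Order Theorem (S0205) as a hypothesis.
-/
import Mathlib
import Cfsg.Prelude.Def_KGroupFacts
import Cfsg.Prelude.Def_Transfer
import Cfsg.Agent.Lib.Helper76.GOut.GlueDefs
import Cfsg.Agent.Lib.Helper92.GOutSM
import Cfsg.Agent.Lib.Helper51.GOutGlLin

set_option autoImplicit false
set_option linter.unusedSectionVars false
set_option linter.style.haveILetI false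

namespace Cfsg.Agent.Lib.Helper51.GOut

open Cfsg Cfsg.Agent.Lib.Helper76.GOut

universe u

/-- For a finite group, one inclusion suffices for membership in the normalizer. -/
theorem mem_normalizer_of_conj_mem' {Y : Type*} [Group Y] [Finite Y] (H : Subgroup Y) {g : Y}
    (h : ∀ x ∈ H, g * x * g⁻¹ ∈ H) : g ∈ Subgroup.normalizer (H : Set Y) := by
  rw [Subgroup.mem_normalizer_iff]
  intro x
  refine ⟨h x, fun hx => ?_⟩
  let f : ↥H → ↥H := fun y => ⟨g * y.1 * g⁻¹, h y.1 y.2⟩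
  have hf : Function.Injective f := by
    intro y z hyz
    have h1 : g * y.1 * g⁻¹ = g * z.1 * g⁻¹ := congrArg Subtype.val hyz
    apply Subtype.ext
    have h2 : g * y.1 = g * z.1 := mul_right_cancel h1
    exact mul_left_cancel h2
  obtain ⟨y, hy⟩ := (Finite.injective_iff_surjective.mp hf) ⟨g * x * g⁻¹, hx⟩
  have h1 : g * y.1 * g⁻¹ = g * x * g⁻¹ := congrArg Subtype.val hy
  have h2 : y.1 = x := mul_left_cancel (mul_right_cancel h1)
  rw [← h2]; exact y.2

/-- the normalizer of a Sylow `2`-subgroup is solvable (given the Odd Order Theorem) -/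
theorem isSolvable_normalizer_sylow_two
    (hFT : ∀ (Z : Type u) [Group Z] [Finite Z], Odd (Nat.card Z) → Group.IsSolvable Z)
    {Y : Type u} [Group Y] [Finite Y] (T : Sylow 2 Y) :
    Group.IsSolvable ↥(Subgroup.normalizer ((T : Subgroup Y) : Set Y)) := by
  let T₀ : Sylow 2 ↥(Subgroup.normalizer ((T : Subgroup Y) : Set Y)) := T.subtype Subgroup.le_normalizer
  have hT₀ : (T₀ : Subgroup ↥(Subgroup.normalizer ((T : Subgroup Y) : Set Y))) =
      (T : Subgroup Y).subgroupOf (Subgroup.normalizer ((T : Subgroup Y) : Set Y)) :=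
    Sylow.coe_subtype T Subgroup.le_normalizer
  haveI : (T₀ : Subgroup ↥(Subgroup.normalizer ((T : Subgroup Y) : Set Y))).Normal := by
    rw [hT₀]; exact Subgroup.normal_in_normalizer
  have hodd : Odd (Nat.card (↥(Subgroup.normalizer ((T : Subgroup Y) : Set Y)) ⧸
      (T₀ : Subgroup ↥(Subgroup.normalizer ((T : Subgroup Y) : Set Y))))) := by
    rw [← Subgroup.index_eq_card, ← Nat.not_even_iff_odd, even_iff_two_dvd]
    exact T₀.not_dvd_index
  haveI h1 : Group.IsSolvable (↥(Subgroup.normalizer ((T : Subgroup Y) : Set Y)) ⧸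
      (T₀ : Subgroup ↥(Subgroup.normalizer ((T : Subgroup Y) : Set Y)))) := hFT _ hodd
  haveI h2 : Group.IsSolvable ↥(T₀ : Subgroup ↥(Subgroup.normalizer ((T : Subgroup Y) : Set Y))) := by
    haveI := (T₀.isPGroup').isNilpotent
    infer_instance
  exact Group.isSolvable_of_ker_le_range
    (T₀ : Subgroup ↥(Subgroup.normalizer ((T : Subgroup Y) : Set Y))).subtype
    (QuotientGroup.mk' (T₀ : Subgroup ↥(Subgroup.normalizer ((T : Subgroup Y) : Set Y))))
    (by rw [QuotientGroup.ker_mk', Subgroup.range_subtype])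

variable {G : Type u} [Group G] [Finite G]

theorem mem_normalizer_of_conj_mem_stabAut {E : Subgroup G} {g : G}
    (hg : MulAut.conj g ∈ stabAut E) : g ∈ Subgroup.normalizer (E : Set G) := by
  rw [Subgroup.mem_normalizer_iff]
  intro h
  have := hg h
  rw [MulAut.conj_apply] at this
  exact this.symm

theorem conj_conj_apply (φ : MulAut G) (s : G) : φ * MulAut.conj s * φ⁻¹ = MulAut.conj (φ s) := by
  ext h
  simp [MulAut.conj_apply]

/-- **GOUT-[GL-W]** in `_of` form (`hFT` = the Odd Order Theorem). -/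
theorem solvMod_inf_sup_of
    (hFT : ∀ (Z : Type u) [Group Z] [Finite Z], Odd (Nat.card Z) → Group.IsSolvable Z)
    (S : Sylow 2 G) (E : Subgroup G)
    (hchar : stabAut (S : Subgroup G) ≤ stabAut E) :
    SolvMod (stabAut (S : Subgroup G) ⊓ (fixAut E ⊔ (stabAut E ⊓ Inn G))) (fixAut E) := by
  classical
  -- the conjugation homomorphism `N_G(E) → stabAut E`
  let cN : ↥(Subgroup.normalizer (E : Set G)) →* ↥(stabAut E) :=
    { toFun := fun g => ⟨MulAut.conj g.1, conj_mem_stabAut g.2⟩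
      map_one' := Subtype.ext (map_one _)
      map_mul' := fun g h => Subtype.ext (map_mul _ g.1 h.1) }
  let f : ↥(stabAut E) →* MulAut ↥E := resAut E
  let c : ↥(Subgroup.normalizer (E : Set G)) →* MulAut ↥E := f.comp cN
  have hSN : (S : Subgroup G) ≤ Subgroup.normalizer (E : Set G) := by
    intro s hs
    apply mem_normalizer_of_conj_mem_stabAut
    exact hchar (conj_mem_stabAut (Subgroup.le_normalizer hs))
  let SN : Sylow 2 ↥(Subgroup.normalizer (E : Set G)) := S.subtype hSN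
  have hSNmem : ∀ g : ↥(Subgroup.normalizer (E : Set G)), g ∈ SN ↔ g.1 ∈ S := by
    intro g
    show g ∈ (SN : Subgroup _) ↔ _
    rw [Sylow.coe_subtype]
    exact Subgroup.mem_subgroupOf
  let T' : Sylow 2 ↥c.range := SN.mapSurjective c.rangeRestrict_surjective
  have hT' : (T' : Subgroup ↥c.range) = (SN : Subgroup _).map c.rangeRestrict :=
    Sylow.coe_mapSurjective _ _
  have hsolv := isSolvable_normalizer_sylow_two hFT T'
  -- `X`
  have hXle : stabAut (S : Subgroup G) ⊓ (fixAut E ⊔ (stabAut E ⊓ Inn G)) ≤ stabAut E :=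
    fun φ hφ => hchar hφ.1
  let X₀ : Subgroup ↥(stabAut E) :=
    (stabAut (S : Subgroup G) ⊓ (fixAut E ⊔ (stabAut E ⊓ Inn G))).subgroupOf (stabAut E)
  -- (1) `f` maps `fixAut E ⊔ 𝓜₀` into `c.range`
  have hL : fixAut E ⊔ (stabAut E ⊓ Inn G) ≤ (c.range.comap f).map (stabAut E).subtype := by
    apply sup_le
    · intro κ hκ
      refine ⟨⟨κ, fixAut_le_stabAut E hκ⟩, ?_, rfl⟩
      have h1 : f ⟨κ, fixAut_le_stabAut E hκ⟩ = 1 := by
        ext h
        rw [resAut_apply]
        exact hκ h.1 h.2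
      show f ⟨κ, _⟩ ∈ c.range
      rw [h1]; exact one_mem _
    · rintro ψ ⟨hψ1, g, rfl⟩
      refine ⟨⟨MulAut.conj g, hψ1⟩, ?_, rfl⟩
      exact ⟨⟨g, mem_normalizer_of_conj_mem_stabAut hψ1⟩, rfl⟩
  have hrange : ∀ φ : ↥(stabAut E), φ.1 ∈ fixAut E ⊔ (stabAut E ⊓ Inn G) → f φ ∈ c.range := by
    intro φ hφ
    obtain ⟨φ', hφ', hφφ'⟩ := hL hφ
    have h1 : φ' = φ := Subtype.ext hφφ'
    rw [← h1]; exact hφ'
  have hZrange : X₀.map f ≤ c.range := by
    rintro _ ⟨φ, hφ, rfl⟩
    exact hrange φ hφ.2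
  -- (2) the image of `X₀` normalizes `T'`
  have hZnorm : (X₀.map f).subgroupOf c.range ≤ Subgroup.normalizer ((T' : Subgroup ↥c.range) : Set ↥c.range) := by
    intro y hy
    obtain ⟨φ, hφ, hφy⟩ := hy
    apply mem_normalizer_of_conj_mem'
    intro t ht
    rw [hT'] at ht ⊢
    obtain ⟨s, hs, rfl⟩ := ht
    have hsS : s.1 ∈ S := (hSNmem s).1 hs
    have hφsS : φ.1 s.1 ∈ S := (hφ.1 s.1).2 hsS
    refine ⟨⟨φ.1 s.1, hSN hφsS⟩, (hSNmem _).2 hφsS, ?_⟩
    apply Subtype.ext
    have hy1 : (y : MulAut ↥E) = f φ := hφy.symm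
    show c ⟨φ.1 s.1, _⟩ = (y : MulAut ↥E) * c s * (y : MulAut ↥E)⁻¹
    rw [hy1]
    show f (cN ⟨φ.1 s.1, _⟩) = f φ * f (cN s) * (f φ)⁻¹
    rw [← map_inv, ← map_mul, ← map_mul]
    congr 1
    apply Subtype.ext
    show MulAut.conj (φ.1 s.1) = φ.1 * MulAut.conj s.1 * φ.1⁻¹
    rw [conj_conj_apply]
  -- (3) solvability of the image
  haveI hsol1 : Group.IsSolvable ↥((X₀.map f).subgroupOf c.range) :=
    Group.isSolvable_of_isSolvable_injective (Subgroup.inclusion_injective hZnorm)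
  have hsol2 : Group.IsSolvable ↥(X₀.map f) :=
    Group.isSolvable_of_isSolvable_injective
      (f := (Subgroup.subgroupOfEquivOfLe hZrange).symm.toMonoidHom)
      (Subgroup.subgroupOfEquivOfLe hZrange).symm.injective
  -- (4) back to `MulAut G`
  have h1 : SolvMod (X₀.map f) ⊥ := solvMod_of_isSolvable hsol2 ⊥
  have h2 := SolvMod.of_map f h1
  have h3 := SolvMod.map (stabAut E).subtype h2
  have h4 : X₀.map (stabAut E).subtype =
      stabAut (S : Subgroup G) ⊓ (fixAut E ⊔ (stabAut E ⊓ Inn G)) :=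
    Subgroup.map_subgroupOf_eq_of_le hXle
  rw [h4] at h3
  refine h3.mono_right ?_
  rintro _ ⟨φ, hφ, rfl⟩
  have h5 : f φ = 1 := by simpa using hφ
  intro h hh
  have h6 : ((resAut E φ ⟨h, hh⟩ : ↥E) : G) = h := by
    show ((f φ ⟨h, hh⟩ : ↥E) : G) = h
    rw [h5]; rfl
  rw [resAut_apply] at h6
  exact h6

end Cfsg.Agent.Lib.Helper51.GOut
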