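/-
helper51: project GOUT (S3066, owner helper76), block GLUE, module **GOUT-[GL-W]**: EXACT skeleton
statement `solvMod_inf_sup` (from `solvMod_inf_sup_of` + the Odd Order Theorem `Cfsg.Agent.S0205.result`).
-/
import Mathlib
import Cfsg.Prelude.Def_KGroupFacts
import Cfsg.Prelude.Def_Transfer
import Cfsg.Agent.Lib.Helper76.GOut.GlueDefs
import Cfsg.Agent.Lib.Helper51.GOutGlW
import Cfsg.Agent.S0205

set_option autoImplicit false
set_option linter.unusedSectionVars false

namespace Cfsg.Agent.Lib.Helper51.GOut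

open Cfsg Cfsg.Agent.Lib.Helper76.GOut

variable {G : Type*} [Group G] [Finite G]

/-- **GOUT-[GL-W]** (exact skeleton statement). -/
theorem solvMod_inf_sup (S : Sylow 2 G) (E : Subgroup G) (_hES : E ≤ (S : Subgroup G))
    (hchar : stabAut (S : Subgroup G) ≤ stabAut E) :
    SolvMod (stabAut (S : Subgroup G) ⊓ (fixAut E ⊔ (stabAut E ⊓ Inn G))) (fixAut E) :=
  solvMod_inf_sup_of (fun _ _ _ h => Cfsg.Agent.S0205.result h) S E hchar

end Cfsg.Agent.Lib.Helper51.GOut
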