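import Cfsg.Agent.Lib.Helper51.KInfStable
import Cfsg.Agent.Lib.Helper51.KInfStableSeq2
import Cfsg.Agent.Lib.Helper51.CliffordQuad
import Cfsg.Agent.Lib.Helper33.KInfFiltration

/-!
# Glauberman's K-infinity theorem: the quadratic chief factor (helper51)

`exists_quadratic_chief`: if `K_∞(S)` or `K^∞(S)` is not normal in the finite group `G` and `A` is a critical-type subgroup of
`O_p(G)` (normal in `G`, class at most two, `[O_p(G), A] ≤ Z(A)`), some `g ∈ S - O_p(G)` acts cubically on `A` modulo `Z(A)`,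
quadratically on `Z(A)`, and — when `C_G(A)` is a `p`-group — quadratically but nontrivially on a chief factor of `G` inside `A`.
-/

set_option autoImplicit false
open Cfsg

namespace Cfsg.Agent.Lib.Helper51

open Cfsg.Agent.Lib.Helper11 Cfsg.Agent.Lib.Helper33
open scoped commutatorElement

universe u

section chief

variable {G : Type*} [Group G] [Finite G] {p : ℕ} [Fact p.Prime]

/-- `O_p(G)` centralizes every chief factor inside `O_p(G)`. -/
theorem chief_commutator_pCore_le {U V : Subgroup G} (h : IsChiefFactor U V) (hU : U ≤ pCore p G) :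
    ⁅U, pCore p G⁆ ≤ V := by
  obtain ⟨hlt, hUn, hVn, hmin⟩ := h
  set T := pCore p G with hT
  have hTn : T.Normal := Cfsg.Agent.Lib.Helper97.pCore_normal p
  have hTp : IsPGroup p T := Cfsg.Agent.Lib.Helper97.isPGroup_pCore p G
  have hnil : Group.IsNilpotent ↥T := hTp.isNilpotent
  have hWn : (⁅U, T⁆ ⊔ V).Normal := inferInstance
  rcases hmin (⁅U, T⁆ ⊔ V) hWn le_sup_right (sup_le (Subgroup.commutator_le_left U T) hlt.le) with h1 | h1
  · rw [← h1]; exact le_sup_left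
  · exfalso
    have key : ∀ k, U ≤ iterCommutator U T k ⊔ V := by
      intro k
      induction k with
      | zero => exact le_sup_left
      | succ k ih =>
        calc U = ⁅U, T⁆ ⊔ V := h1.symm
          _ ≤ ⁅iterCommutator U T k ⊔ V, T⁆ ⊔ V := sup_le_sup_right (Subgroup.commutator_mono ih le_rfl) V
          _ ≤ (⁅iterCommutator U T k, T⁆ ⊔ V) ⊔ V := sup_le_sup_right (commutator_sup_le _ V T) V
          _ = iterCommutator U T (k + 1) ⊔ V := by rw [sup_assoc, sup_idem]; rfl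
    obtain ⟨k, hk⟩ := exists_iterCommutator_eq_bot (N := U) (Q := T) hU
    have := key k
    rw [hk, bot_sup_eq] at this
    exact absurd (le_antisymm this hlt.le) hlt.ne'

/-- A subgroup centralizing all chief factors of `G` inside the normal `p`-subgroup `N` (adapted to `Z`) acts on `N` as a
`p`-group. -/
theorem le_stabCore_of_centralizes_chief (Z K : Subgroup G) [hZn : Z.Normal] :
    ∀ (N : Subgroup G) (hN : N.Normal), IsPGroup p N → (N ≤ Z ∨ Z ≤ N) →
      (∀ U V : Subgroup G, IsChiefFactor U V → U ≤ N → (U ≤ Z ∨ Z ≤ V) → ⁅U, K⁆ ≤ V) →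
      K ≤ @stabCore G _ p N hN := by
  intro N
  induction N using WellFoundedLT.induction with
  | ind N ih =>
  intro hN hNp hadapt hK
  by_cases hbot : N = ⊥
  · subst hbot
    rw [stabCore_bot]; exact le_top
  have hex : ∃ M : Subgroup G, M.Normal ∧ M < N ∧ (M ≤ Z ∨ Z ≤ M) ∧ (N ≤ Z ∨ Z ≤ M) ∧ IsChiefFactor N M := by
    by_cases hNZ : N ≤ Z
    · let 𝒮 : Set (Subgroup G) := {M | M.Normal ∧ M < N}
      have h𝒮 : 𝒮.Nonempty := ⟨⊥, inferInstance, bot_lt_iff_ne_bot.mpr hbot⟩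
      obtain ⟨M, ⟨hMn, hMN⟩, hMmax⟩ := (wellFounded_gt (α := Subgroup G)).has_min 𝒮 h𝒮
      refine ⟨M, hMn, hMN, Or.inl (hMN.le.trans hNZ), Or.inl hNZ, hMN, hN, hMn, ?_⟩
      intro N' hN'n hMN' hN'N
      by_cases hN' : N' = N
      · exact Or.inr hN'
      · left
        have hmem : N' ∈ 𝒮 := ⟨hN'n, lt_of_le_of_ne hN'N hN'⟩
        have := hMmax N' hmem
        exact ((lt_or_eq_of_le hMN').resolve_left this).symm
    · have hZN : Z ≤ N := hadapt.resolve_left hNZ
      have hZlt : Z < N := lt_of_le_of_ne hZN (fun h => hNZ (h ▸ le_rfl))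
      let 𝒮 : Set (Subgroup G) := {M | M.Normal ∧ Z ≤ M ∧ M < N}
      have h𝒮 : 𝒮.Nonempty := ⟨Z, hZn, le_rfl, hZlt⟩
      obtain ⟨M, ⟨hMn, hZM, hMN⟩, hMmax⟩ := (wellFounded_gt (α := Subgroup G)).has_min 𝒮 h𝒮
      refine ⟨M, hMn, hMN, Or.inr hZM, Or.inr hZM, hMN, hN, hMn, ?_⟩
      intro N' hN'n hMN' hN'N
      by_cases hN' : N' = N
      · exact Or.inr hN'
      · left
        have hmem : N' ∈ 𝒮 := ⟨hN'n, hZM.trans hMN', lt_of_le_of_ne hN'N hN'⟩
        have := hMmax N' hmem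
        exact ((lt_or_eq_of_le hMN').resolve_left this).symm
  obtain ⟨M, hMn, hMN, hMad, hNM, hchief⟩ := hex
  have h1 := ih M hMN hMn (hNp.to_le hMN.le) hMad
    (fun U V hUV hUM hUZ => hK U V hUV (hUM.trans hMN.le) hUZ)
  have h2 : K ≤ secCent N M := by
    intro g hg
    rw [mem_secCent_iff]
    intro v hv
    have h3 : ⁅v, g⁆ ∈ M := hK N M hchief le_rfl hNM (Subgroup.commutator_mem_commutator hv hg)
    have : ⁅g, v⁆ = ⁅v, g⁆⁻¹ := (commutatorElement_inv v g).symm
    rw [this]; exact M.inv_mem h3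
  intro g hg
  exact stabCore_inf_secCent_le N M (hNp.to_le hMN.le) ⟨h1 hg, h2 hg⟩

omit [Finite G] [Fact (Nat.Prime p)] in
/-- If `C_G(A)` is a `p`-group, the subgroup acting on `A` as a `p`-group lies in `O_p(G)`. -/
theorem stabCore_le_pCore (A : Subgroup G) [hAn : A.Normal]
    (hCA : IsPGroup p (Subgroup.centralizer (A : Set G))) : stabCore p A ≤ pCore p G := by
  apply Cfsg.Agent.Lib.Helper97.le_pCore_of_normal inferInstance
  rintro ⟨g, hg⟩
  obtain ⟨l, hl⟩ := exists_pow_mem_centralizer_of_mem_stabCore p A hg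
  obtain ⟨m, hm⟩ := hCA ⟨_, hl⟩
  refine ⟨l + m, Subtype.ext ?_⟩
  have h6 := congrArg Subtype.val hm
  rw [Subgroup.coe_pow, Subgroup.coe_one] at h6 ⊢
  simp only [] at h6 ⊢
  rw [← h6, ← pow_mul, ← pow_add]

/-- An element outside `O_p(G)` moves some chief factor inside `A` adapted to `Z`. -/
theorem exists_moved_chief (A Z : Subgroup G) [hAn : A.Normal] [hZn : Z.Normal] (hZA : Z ≤ A)
    (hAp : IsPGroup p A) (hCA : IsPGroup p (Subgroup.centralizer (A : Set G))) (g : G)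
    (hg : g ∉ pCore p G) :
    ∃ U V : Subgroup G, IsChiefFactor U V ∧ U ≤ A ∧ (U ≤ Z ∨ Z ≤ V) ∧
      ¬ ⁅U, Subgroup.zpowers g⁆ ≤ V := by
  by_contra hcon
  push Not at hcon
  have h1 := le_stabCore_of_centralizes_chief (p := p) Z (Subgroup.zpowers g) A hAn hAp (Or.inr hZA)
    (fun U V hUV hUA had => hcon U V hUV hUA had)
  exact hg (stabCore_le_pCore A hCA (h1 (Subgroup.mem_zpowers g)))

/-- first configuration: a subgroup acting quadratically on `A / Z(A)` and on `Z(A)` -/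
theorem good_of_alpha (S : Sylow p G) (A : Subgroup G) [hAn : A.Normal] (hAT : A ≤ pCore p G)
    (E : Subgroup G) (hES : E ≤ (S : Subgroup G)) (hET : ¬ E ≤ pCore p G)
    (h1 : ⁅⁅A, E⁆, E⁆ ≤ A ⊓ Subgroup.centralizer (A : Set G))
    (h2 : ⁅⁅A ⊓ Subgroup.centralizer (A : Set G), E⁆, E⁆ = ⊥) :
    ∃ g : G, g ∈ (S : Subgroup G) ∧ g ∉ pCore p G ∧
      iterCommutator A (Subgroup.zpowers g) 3 ≤ A ⊓ Subgroup.centralizer (A : Set G) ∧
      ⁅⁅A ⊓ Subgroup.centralizer (A : Set G), Subgroup.zpowers g⁆, Subgroup.zpowers g⁆ = ⊥ ∧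
      (IsPGroup p (Subgroup.centralizer (A : Set G)) →
        ∃ U V : Subgroup G, IsChiefFactor U V ∧ U ≤ A ∧
          ⁅⁅U, Subgroup.zpowers g⁆, Subgroup.zpowers g⁆ ≤ V ∧ ¬ ⁅U, Subgroup.zpowers g⁆ ≤ V) := by
  set Z : Subgroup G := A ⊓ Subgroup.centralizer (A : Set G) with hZ
  have hZn : Z.Normal := inferInstance
  obtain ⟨g, hgE, hgT⟩ := SetLike.not_le_iff_exists.mp hET
  have hz : Subgroup.zpowers g ≤ E := (Subgroup.zpowers_le).mpr hgE
  have hAp : IsPGroup p A := (Cfsg.Agent.Lib.Helper97.isPGroup_pCore p G).to_le hAT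
  refine ⟨g, hES hgE, hgT, ?_, ?_, ?_⟩
  · show ⁅⁅⁅A, Subgroup.zpowers g⁆, Subgroup.zpowers g⁆, Subgroup.zpowers g⁆ ≤ Z
    calc ⁅⁅⁅A, Subgroup.zpowers g⁆, Subgroup.zpowers g⁆, Subgroup.zpowers g⁆
        ≤ ⁅Z, Subgroup.zpowers g⁆ :=
          Subgroup.commutator_mono ((Subgroup.commutator_mono (Subgroup.commutator_mono le_rfl hz) hz).trans h1) le_rfl
      _ ≤ Z := Subgroup.commutator_le_left Z _
  · rw [eq_bot_iff, ← h2]
    exact Subgroup.commutator_mono (Subgroup.commutator_mono le_rfl hz) hz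
  · intro hCA
    obtain ⟨U, V, hUV, hUA, had, hmove⟩ := exists_moved_chief A Z inf_le_left hAp hCA g hgT
    refine ⟨U, V, hUV, hUA, ?_, hmove⟩
    rcases had with had | had
    · have : ⁅⁅U, Subgroup.zpowers g⁆, Subgroup.zpowers g⁆ ≤ ⁅⁅Z, E⁆, E⁆ :=
        Subgroup.commutator_mono (Subgroup.commutator_mono had hz) hz
      rw [h2] at this
      exact this.trans bot_le
    · exact ((Subgroup.commutator_mono (Subgroup.commutator_mono hUA hz) hz).trans h1).trans had

/-- In the second configuration, if `B` centralizes the chief factors inside `Z(A)`, it acts quadratically on every chief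
factor between `Z(A)` and `A` (Clifford's theorem for the subnormal subgroup `C_G(Z(A)) B`). -/
theorem quadratic_chief_of_beta (A : Subgroup G) [hAn : A.Normal] (hAT : A ≤ pCore p G)
    (hA2 : ⁅A, A⁆ ≤ Subgroup.centralizer (A : Set G)) (B : Subgroup G)
    (h1 : ⁅⁅A, B⁆, B⁆ ≤ cenSub A B hA2) (h2 : ⁅⁅cenSub A B hA2, B⁆, B⁆ = ⊥)
    (hBZ : ∀ U V : Subgroup G, IsChiefFactor U V → U ≤ A ⊓ Subgroup.centralizer (A : Set G) → ⁅U, B⁆ ≤ V)
    {U V : Subgroup G} (hUV : IsChiefFactor U V) (hUA : U ≤ A) :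
    ⁅⁅U, B⁆, B⁆ ≤ V := by
  set Z : Subgroup G := A ⊓ Subgroup.centralizer (A : Set G) with hZ
  have hZn : Z.Normal := inferInstance
  have hTp : IsPGroup p (pCore p G) := Cfsg.Agent.Lib.Helper97.isPGroup_pCore p G
  have hAp : IsPGroup p A := hTp.to_le hAT
  have hZp : IsPGroup p Z := hAp.to_le inf_le_left
  -- `B` acts on `Z` as a `p`-group
  have hBst : B ≤ stabCore p Z :=
    le_stabCore_of_centralizes_chief (p := p) Z B Z hZn hZp (Or.inl le_rfl)
      (fun U V hUV hUZ _ => hBZ U V hUV hUZ)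
  set C1 : Subgroup G := Subgroup.centralizer (Z : Set G) with hC1
  have hC1n : C1.Normal := Subgroup.normal_centralizer
  set H : Subgroup G := C1 ⊔ B with hH
  have hHmap : H.map (QuotientGroup.mk' C1) ≤ pCore p (G ⧸ C1) := by
    rw [hH, Subgroup.map_sup]
    apply sup_le
    · rw [(Subgroup.map_eq_bot_iff _).mpr (by rw [QuotientGroup.ker_mk'])]
      exact bot_le
    · rintro _ ⟨b, hb, rfl⟩
      exact (mem_stabCore_iff p Z b).mp (hBst hb)
  have hsub : H.IsSubnormal := isSubnormal_of_map_le_pCore C1 H le_sup_left hHmap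
  set A1 : Subgroup G := cenSub A B hA2 with hA1
  have hA'Z : ⁅A, A⁆ ≤ Z := le_inf (Subgroup.commutator_le_left A A) hA2
  have hHA1 : H ≤ Subgroup.normalizer (A1 : Set G) :=
    sup_le ((Subgroup.centralizer_le hA'Z).trans (centralizer_commutator_le_normalizer_cenSub A B hA2))
      (le_normalizer_cenSub A B hA2)
  -- pass to `G ⧸ V`
  obtain ⟨hlt, hUn, hVn, hmin'⟩ := id hUV
  obtain ⟨hUbne, hUbn, hUbmin⟩ := minimal_normal_of_isChiefFactor hUV
  set π : G →* G ⧸ V := QuotientGroup.mk' V with hπ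
  have hsurj : Function.Surjective π := QuotientGroup.mk'_surjective V
  have hUT : U ≤ pCore p G := hUA.trans hAT
  have hUU : ⁅U, U⁆ ≤ V := (Subgroup.commutator_mono le_rfl hUT).trans (chief_commutator_pCore_le hUV hUT)
  have hcomm : ∀ a ∈ U.map π, ∀ b ∈ U.map π, a * b = b * a := by
    rintro _ ⟨u, hu, rfl⟩ _ ⟨u', hu', rfl⟩
    have h3 : ⁅u, u'⁆ ∈ V := hUU (Subgroup.commutator_mem_commutator hu hu')
    rw [← QuotientGroup.eq_one_iff, ← QuotientGroup.mk'_apply, map_commutatorElement,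
      commutatorElement_eq_one_iff_mul_comm] at h3
    exact h3
  have hHM : H.map π ≤ Subgroup.normalizer (((A1 ⊓ U).map π : Subgroup (G ⧸ V)) : Set (G ⧸ V)) := by
    have hinv : H ≤ Subgroup.normalizer ((A1 ⊓ U : Subgroup G) : Set G) := by
      intro h hh
      have h1 := hHA1 hh
      have h2 : h ∈ Subgroup.normalizer (U : Set G) := by
        rw [Subgroup.normalizer_eq_top_iff.mpr hUn]; trivial
      rw [Subgroup.mem_normalizer_iff] at h1 h2 ⊢
      intro x
      rw [Subgroup.mem_inf, Subgroup.mem_inf, h1 x, h2 x]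
    exact (Subgroup.map_mono hinv).trans (Subgroup.le_normalizer_map π)
  have hq1 : ⁅⁅(A1 ⊓ U).map π, B.map π⁆, B.map π⁆ = ⊥ := by
    rw [← Subgroup.map_commutator, ← Subgroup.map_commutator]
    have : ⁅⁅A1 ⊓ U, B⁆, B⁆ = ⊥ := by
      rw [eq_bot_iff, ← h2]
      exact Subgroup.commutator_mono (Subgroup.commutator_mono inf_le_left le_rfl) le_rfl
    rw [this, Subgroup.map_bot]
  have hq2 : ⁅⁅U.map π, B.map π⁆, B.map π⁆ ≤ (A1 ⊓ U).map π := by
    rw [← Subgroup.map_commutator, ← Subgroup.map_commutator]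
    apply Subgroup.map_mono
    apply le_inf
    · exact (Subgroup.commutator_mono (Subgroup.commutator_mono hUA le_rfl) le_rfl).trans h1
    · exact (Subgroup.commutator_mono (Subgroup.commutator_le_left U B) le_rfl).trans
        (Subgroup.commutator_le_left U B)
  have key := quadratic_of_isSubnormal (U.map π) hUbmin hcomm (hsub.map hsurj) ((A1 ⊓ U).map π) (B.map π) hHM
    (Subgroup.map_mono le_sup_right) hq1 hq2
  rw [← Subgroup.map_commutator, ← Subgroup.map_commutator, Subgroup.map_eq_bot_iff, hπ,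
    QuotientGroup.ker_mk'] at key
  exact key

/-- second configuration: a subgroup of class at most two normalized by `A` -/
theorem good_of_beta (S : Sylow p G) (A : Subgroup G) [hAn : A.Normal] (hAT : A ≤ pCore p G)
    (hA2 : ⁅A, A⁆ ≤ Subgroup.centralizer (A : Set G))
    (B : Subgroup G) (hBS : B ≤ (S : Subgroup G)) (hBT : ¬ B ≤ pCore p G)
    (hB2 : ⁅B, B⁆ ≤ Subgroup.centralizer (B : Set G)) (hAB : A ≤ Subgroup.normalizer (B : Set G))
    (h1 : ⁅⁅A, B⁆, B⁆ ≤ cenSub A B hA2) (h2 : ⁅⁅cenSub A B hA2, B⁆, B⁆ = ⊥)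
    (h3 : ⁅⁅A ⊓ Subgroup.centralizer (A : Set G), B⁆, B⁆ = ⊥) :
    ∃ g : G, g ∈ (S : Subgroup G) ∧ g ∉ pCore p G ∧
      iterCommutator A (Subgroup.zpowers g) 3 ≤ A ⊓ Subgroup.centralizer (A : Set G) ∧
      ⁅⁅A ⊓ Subgroup.centralizer (A : Set G), Subgroup.zpowers g⁆, Subgroup.zpowers g⁆ = ⊥ ∧
      (IsPGroup p (Subgroup.centralizer (A : Set G)) →
        ∃ U V : Subgroup G, IsChiefFactor U V ∧ U ≤ A ∧
          ⁅⁅U, Subgroup.zpowers g⁆, Subgroup.zpowers g⁆ ≤ V ∧ ¬ ⁅U, Subgroup.zpowers g⁆ ≤ V) := by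
  set Z : Subgroup G := A ⊓ Subgroup.centralizer (A : Set G) with hZ
  have hZn : Z.Normal := inferInstance
  have hTp : IsPGroup p (pCore p G) := Cfsg.Agent.Lib.Helper97.isPGroup_pCore p G
  have hAp : IsPGroup p A := hTp.to_le hAT
  -- `B` acts cubically on `A`
  have hcubic : ⁅⁅⁅A, B⁆, B⁆, B⁆ = ⊥ := by
    have hABB : ⁅A, B⁆ ≤ B := Subgroup.le_normalizer_iff_commutator_le_right.mp hAB
    rw [eq_bot_iff]
    calc ⁅⁅⁅A, B⁆, B⁆, B⁆ ≤ ⁅Subgroup.centralizer (B : Set G), B⁆ :=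
          Subgroup.commutator_mono ((Subgroup.commutator_mono hABB le_rfl).trans hB2) le_rfl
      _ = ⊥ := Subgroup.commutator_eq_bot_iff_le_centralizer.mpr le_rfl
  have hfirst : ∀ g ∈ B, iterCommutator A (Subgroup.zpowers g) 3 ≤ Z ∧
      ⁅⁅Z, Subgroup.zpowers g⁆, Subgroup.zpowers g⁆ = ⊥ := by
    intro g hg
    have hz : Subgroup.zpowers g ≤ B := (Subgroup.zpowers_le).mpr hg
    constructor
    · show ⁅⁅⁅A, Subgroup.zpowers g⁆, Subgroup.zpowers g⁆, Subgroup.zpowers g⁆ ≤ Z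
      have : ⁅⁅⁅A, Subgroup.zpowers g⁆, Subgroup.zpowers g⁆, Subgroup.zpowers g⁆ ≤ ⁅⁅⁅A, B⁆, B⁆, B⁆ :=
        Subgroup.commutator_mono (Subgroup.commutator_mono (Subgroup.commutator_mono le_rfl hz) hz) hz
      rw [hcubic] at this
      exact this.trans bot_le
    · rw [eq_bot_iff, ← h3]
      exact Subgroup.commutator_mono (Subgroup.commutator_mono le_rfl hz) hz
  by_cases hCA : IsPGroup p (Subgroup.centralizer (A : Set G))
  · by_cases hβ : ∃ b ∈ B, ∃ U V : Subgroup G, IsChiefFactor U V ∧ U ≤ Z ∧ ¬ ⁅U, Subgroup.zpowers b⁆ ≤ V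
    · obtain ⟨b, hb, U, V, hUV, hUZ, hmove⟩ := hβ
      have hz : Subgroup.zpowers b ≤ B := (Subgroup.zpowers_le).mpr hb
      have hUT : U ≤ pCore p G := (hUZ.trans inf_le_left).trans hAT
      have hbT : b ∉ pCore p G := by
        intro hbT
        apply hmove
        exact (Subgroup.commutator_mono le_rfl ((Subgroup.zpowers_le).mpr hbT)).trans
          (chief_commutator_pCore_le hUV hUT)
      refine ⟨b, hBS hb, hbT, (hfirst b hb).1, (hfirst b hb).2, fun _ => ⟨U, V, hUV, hUZ.trans inf_le_left, ?_, hmove⟩⟩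
      have : ⁅⁅U, Subgroup.zpowers b⁆, Subgroup.zpowers b⁆ ≤ ⁅⁅Z, B⁆, B⁆ :=
        Subgroup.commutator_mono (Subgroup.commutator_mono hUZ hz) hz
      rw [h3] at this
      exact this.trans bot_le
    · push Not at hβ
      have hBZ : ∀ U V : Subgroup G, IsChiefFactor U V → U ≤ Z → ⁅U, B⁆ ≤ V := by
        intro U V hUV hUZ
        rw [Subgroup.commutator_le]
        intro u hu b hb
        exact hβ b hb U V hUV hUZ (Subgroup.commutator_mem_commutator hu (Subgroup.mem_zpowers b))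
      obtain ⟨g, hgB, hgT⟩ := SetLike.not_le_iff_exists.mp hBT
      have hz : Subgroup.zpowers g ≤ B := (Subgroup.zpowers_le).mpr hgB
      refine ⟨g, hBS hgB, hgT, (hfirst g hgB).1, (hfirst g hgB).2, fun _ => ?_⟩
      obtain ⟨U, V, hUV, hUA, had, hmove⟩ := exists_moved_chief A Z inf_le_left hAp hCA g hgT
      refine ⟨U, V, hUV, hUA, ?_, hmove⟩
      rcases had with had | had
      · exact absurd ((Subgroup.commutator_mono le_rfl hz).trans (hBZ U V hUV had)) hmove
      · exact (Subgroup.commutator_mono (Subgroup.commutator_mono le_rfl hz) hz).trans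
          (quadratic_chief_of_beta A hAT hA2 B h1 h2 hBZ hUV hUA)
  · obtain ⟨g, hgB, hgT⟩ := SetLike.not_le_iff_exists.mp hBT
    exact ⟨g, hBS hgB, hgT, (hfirst g hgB).1, (hfirst g hgB).2, fun h => absurd h hCA⟩

end chief

section main

variable {G : Type u} [Group G] [Finite G] {p : ℕ} [Fact p.Prime]

/-- If a K-infinity subgroup is not normal, one of two explicit configurations occurs. -/
theorem exists_config (S : Sylow p G) (A : Subgroup G) [hAn : A.Normal] (hAT : A ≤ pCore p G)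
    (hA2 : ⁅A, A⁆ ≤ Subgroup.centralizer (A : Set G))
    (hTA : ⁅pCore p G, A⁆ ≤ A ⊓ Subgroup.centralizer (A : Set G))
    (hK : ¬ (Cfsg.inducedFunctor Cfsg.kInfLower (S : Subgroup G)).Normal ∨
      ¬ (Cfsg.inducedFunctor Cfsg.kInfUpper (S : Subgroup G)).Normal) :
    (∃ E : Subgroup G, E ≤ (S : Subgroup G) ∧ ¬ E ≤ pCore p G ∧
        ⁅⁅A, E⁆, E⁆ ≤ A ⊓ Subgroup.centralizer (A : Set G) ∧
        ⁅⁅A ⊓ Subgroup.centralizer (A : Set G), E⁆, E⁆ = ⊥) ∨
    (∃ B : Subgroup G, B ≤ (S : Subgroup G) ∧ ¬ B ≤ pCore p G ∧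
        ⁅B, B⁆ ≤ Subgroup.centralizer (B : Set G) ∧ A ≤ Subgroup.normalizer (B : Set G) ∧
        ⁅⁅A, B⁆, B⁆ ≤ cenSub A B hA2 ∧ ⁅⁅cenSub A B hA2, B⁆, B⁆ = ⊥ ∧
        ⁅⁅A ⊓ Subgroup.centralizer (A : Set G), B⁆, B⁆ = ⊥) := by
  by_contra hcon
  rw [not_or] at hcon
  obtain ⟨hα, hβ⟩ := hcon
  set Q : Subgroup G := Cfsg.pCore p G with hQ
  have hQn : Q.Normal := Subgroup.sSup_normal _ (fun _ h => h.1)
  have hQT : Q ≤ (S : Subgroup G) := Cfsg.Agent.Lib.Helper76.pCore_le_sylow p S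
  have hTp : IsPGroup p (S : Subgroup G) := S.isPGroup'
  have hQp : IsPGroup p Q := hTp.to_le hQT
  set Q' : Subgroup ↥(S : Subgroup G) := Q.subgroupOf (S : Subgroup G) with hQ'
  set A' : Subgroup ↥(S : Subgroup G) := A.subgroupOf (S : Subgroup G) with hA'
  have hinj : Function.Injective (S : Subgroup G).subtype := Subgroup.subtype_injective _
  have hQ'map : Q'.map (S : Subgroup G).subtype = Q := Subgroup.map_subgroupOf_eq_of_le hQT
  have hA'map : A'.map (S : Subgroup G).subtype = A := Subgroup.map_subgroupOf_eq_of_le (hAT.trans hQT)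
  have hA'n : A'.Normal := Subgroup.Normal.subgroupOf hAn _
  have hA'2 : ⁅A', A'⁆ ≤ Subgroup.centralizer (A' : Set ↥(S : Subgroup G)) := by
    have := (classTwo_map_iff hinj A').mpr (by rw [hA'map]; exact hA2)
    exact this
  have hQ'A' : ⁅Q', A'⁆ ≤ A' ⊓ Subgroup.centralizer (A' : Set ↥(S : Subgroup G)) := by
    rw [← Subgroup.map_le_map_iff_of_injective hinj, zc_map hinj, Subgroup.map_commutator, hQ'map, hA'map]
    exact hTA
  have H1 : ∀ E : Subgroup ↥(S : Subgroup G),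
      ⁅⁅A', E⁆, E⁆ ≤ A' ⊓ Subgroup.centralizer (A' : Set ↥(S : Subgroup G)) →
      ⁅⁅A' ⊓ Subgroup.centralizer (A' : Set ↥(S : Subgroup G)), E⁆, E⁆ = ⊥ → E ≤ Q' := by
    intro E h1 h2
    rw [← Subgroup.map_le_map_iff_of_injective hinj, hQ'map]
    by_contra hEQ
    apply hα
    refine ⟨E.map (S : Subgroup G).subtype, Subgroup.map_subtype_le E, hEQ, ?_, ?_⟩
    · have := Subgroup.map_mono (f := (S : Subgroup G).subtype) h1
      rwa [Subgroup.map_commutator, Subgroup.map_commutator, zc_map hinj, hA'map] at this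
    · rw [← hA'map, ← zc_map hinj, ← Subgroup.map_commutator, ← Subgroup.map_commutator, h2, Subgroup.map_bot]
  have H2 : ∀ B : Subgroup ↥(S : Subgroup G), B ∈ Cfsg.classTwoSubgroups ↥(S : Subgroup G) →
      A' ≤ Subgroup.normalizer (B : Set ↥(S : Subgroup G)) →
      ⁅⁅A', B⁆, B⁆ ≤ cenSub A' B hA'2 →
      ⁅⁅cenSub A' B hA'2, B⁆, B⁆ = ⊥ →
      ⁅⁅A' ⊓ Subgroup.centralizer (A' : Set ↥(S : Subgroup G)), B⁆, B⁆ = ⊥ → B ≤ Q' := by
    intro B hB2 hAB h1 h2 h3
    rw [← Subgroup.map_le_map_iff_of_injective hinj, hQ'map]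
    by_contra hBQ
    apply hβ
    have hA2m : ⁅A'.map (S : Subgroup G).subtype, A'.map (S : Subgroup G).subtype⁆ ≤
        Subgroup.centralizer ((A'.map (S : Subgroup G).subtype : Subgroup G) : Set G) := by
      rw [hA'map]; exact hA2
    have hcs : (cenSub A' B hA'2).map (S : Subgroup G).subtype =
        cenSub A (B.map (S : Subgroup G).subtype) hA2 :=
      (cenSub_map hinj A' B hA'2 hA2m).trans (cenSub_congr hA'map hA2m hA2)
    refine ⟨B.map (S : Subgroup G).subtype, Subgroup.map_subtype_le B, hBQ, ?_, ?_, ?_, ?_, ?_⟩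
    · exact (classTwo_map_iff hinj B).mp hB2
    · rw [← hA'map]
      exact (Subgroup.map_mono hAB).trans (Subgroup.le_normalizer_map _)
    · have := Subgroup.map_mono (f := (S : Subgroup G).subtype) h1
      rwa [Subgroup.map_commutator, Subgroup.map_commutator, hcs, hA'map] at this
    · rw [← hcs, ← Subgroup.map_commutator, ← Subgroup.map_commutator, h2, Subgroup.map_bot]
    · rw [← hA'map, ← zc_map hinj, ← Subgroup.map_commutator, ← Subgroup.map_commutator, h3, Subgroup.map_bot]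
  have hseq := kSeq_le_of_stable' Q' A' hA'2 hQ'A' H1 H2
  have hTp' : IsPGroup p ↥(S : Subgroup G) := hTp
  obtain ⟨hlow, hupp⟩ := Cfsg.Agent.S1979.result hTp' Q' hseq
  have hQ'p : IsPGroup p Q' := hTp'.to_subgroup Q'
  have key : ∀ W : ∀ (R : Type u) [Group R], Subgroup R, Cfsg.IsCharPFunctor.{u} p W →
      (W ↥Q').map Q'.subtype = W ↥(S : Subgroup G) → (Cfsg.inducedFunctor W (S : Subgroup G)).Normal := by
    intro W hW heq
    have h1 := inducedFunctor_map_of_injOn W hW (S : Subgroup G).subtype Q' hQ'p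
      (fun x _ hx => hinj (by simpa using hx))
    rw [hQ'map] at h1
    have h2 : Cfsg.inducedFunctor W (S : Subgroup G) = Cfsg.inducedFunctor W Q := by
      rw [h1]
      unfold Cfsg.inducedFunctor
      rw [heq]
    rw [h2]
    exact normal_inducedFunctor_of_normal hW Q hQp
  rcases hK with hK | hK
  · exact hK (key _ (isCharPFunctor_kInfLower p) hlow)
  · exact hK (key _ (isCharPFunctor_kInfUpper p) hupp)

/-- **Glauberman.** If a K-infinity subgroup of the Sylow `p`-subgroup `S` is not normal in `G`, some `g ∈ S - O_p(G)` acts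
cubically on the critical-type subgroup `A` modulo `Z(A)`, quadratically on `Z(A)`, and, if `C_G(A)` is a `p`-group,
quadratically and nontrivially on some chief factor of `G` inside `A`. -/
theorem exists_quadratic_chief (S : Sylow p G) (A : Subgroup G) [hAn : A.Normal] (hAT : A ≤ pCore p G)
    (hA2 : ⁅A, A⁆ ≤ Subgroup.centralizer (A : Set G))
    (hTA : ⁅pCore p G, A⁆ ≤ A ⊓ Subgroup.centralizer (A : Set G))
    (hK : ¬ (Cfsg.inducedFunctor Cfsg.kInfLower (S : Subgroup G)).Normal ∨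
      ¬ (Cfsg.inducedFunctor Cfsg.kInfUpper (S : Subgroup G)).Normal) :
    ∃ g : G, g ∈ (S : Subgroup G) ∧ g ∉ pCore p G ∧
      iterCommutator A (Subgroup.zpowers g) 3 ≤ A ⊓ Subgroup.centralizer (A : Set G) ∧
      ⁅⁅A ⊓ Subgroup.centralizer (A : Set G), Subgroup.zpowers g⁆, Subgroup.zpowers g⁆ = ⊥ ∧
      (IsPGroup p (Subgroup.centralizer (A : Set G)) →
        ∃ U V : Subgroup G, IsChiefFactor U V ∧ U ≤ A ∧
          ⁅⁅U, Subgroup.zpowers g⁆, Subgroup.zpowers g⁆ ≤ V ∧ ¬ ⁅U, Subgroup.zpowers g⁆ ≤ V) := by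
  rcases exists_config S A hAT hA2 hTA hK with ⟨E, hES, hET, h1, h2⟩ | ⟨B, hBS, hBT, hB2, hAB, h1, h2, h3⟩
  · exact good_of_alpha S A hAT E hES hET h1 h2
  · exact good_of_beta S A hAT hA2 B hBS hBT hB2 hAB h1 h2 h3

end main

end Cfsg.Agent.Lib.Helper51
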