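import Cfsg.Agent.Lib.Helper51.KInfStable
import Cfsg.Agent.Lib.Helper34.NormalPComplement
import Cfsg.Agent.Lib.Helper33.SylIn
import Cfsg.Agent.Lib.Helper97.PStable3
import Cfsg.Agent.Lib.Helper97.PAbelianP

/-!
# Normal `p`-complements from the automizer of a self-centralizing subgroup; stability of `p`-by-abelian-by-`p` groups
(helper51)
-/

set_option autoImplicit false
open Cfsg

namespace Cfsg.Agent.Lib.Helper51

open Cfsg.Agent.Lib.Helper33 Cfsg.Agent.Lib.Helper34 Cfsg.Agent.Lib.Helper97
open scoped commutatorElement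

universe u

theorem isPAbelianP_of_surjective {p : ℕ} {G G' : Type*} [Group G] [Group G'] (h : IsPAbelianP p G)
    (f : G →* G') (hsurj : Function.Surjective f) : IsPAbelianP p G' := by
  obtain ⟨H, L, hHn, hLn, hHL, hHp, hab, hp', hq⟩ := h
  refine ⟨H.map f, L.map f, hHn.map _ hsurj, hLn.map _ hsurj, Subgroup.map_mono hHL, hHp.map _, ?_, ?_, ?_⟩
  · rw [← Subgroup.map_commutator]
    exact Subgroup.map_mono hab
  · rintro _ ⟨l, hl, rfl⟩
    obtain ⟨m, hm, hlm⟩ := hp' l hl
    exact ⟨m, hm, by rw [← map_pow]; exact Subgroup.mem_map_of_mem _ hlm⟩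
  · intro x
    obtain ⟨g, rfl⟩ := hsurj x
    obtain ⟨k, hk⟩ := hq g
    exact ⟨k, by rw [← map_pow]; exact Subgroup.mem_map_of_mem _ hk⟩

/-- `p` odd: every section of a finite `p`-by-(abelian `p'`)-by-`p` group is `p`-stable in the normalizer form. -/
theorem secStable_of_isPAbelianP {Y : Type u} [Group Y] [Finite Y] {p : ℕ} [Fact p.Prime] (hp : p ≠ 2)
    (h : IsPAbelianP p Y) : SecStable p Y := by
  intro K Y' _ φ hφ
  have : Finite Y' := Finite.of_surjective φ hφ
  exact isNormalizerPStable_of_isPAbelianP hp (isPAbelianP_of_surjective (h.subgroup K) φ hφ)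

/-- If `K ≤ S` contains `C_S(K)`, is normalized by the Sylow subgroup `S`, and every `p'`-element of `N_G(K)` centralizes `K`,
then `N_G(K)` has a normal `p`-complement. -/
theorem hasNPC_normalizer_of_automizer {G : Type*} [Group G] [Finite G] {p : ℕ} [Fact p.Prime]
    (S : Sylow p G) (K : Subgroup G)
    (hSN : (S : Subgroup G) ≤ Subgroup.normalizer (K : Set G))
    (hCK : (S : Subgroup G) ⊓ Subgroup.centralizer (K : Set G) ≤ K)
    (h : ∀ g ∈ Subgroup.normalizer (K : Set G), (orderOf g).Coprime p →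
      g ∈ Subgroup.centralizer (K : Set G)) :
    HasNormalPComplement p ↥(Subgroup.normalizer (K : Set G)) := by
  set M : Subgroup G := Subgroup.normalizer (K : Set G) with hM
  have hsyl : SylIn p (S : Subgroup G) M := sylIn_of_sylow_le S hSN
  -- `p`-elements of `C_M(K)` lie in `K`
  have claimA : ∀ x ∈ M, x ∈ Subgroup.centralizer (K : Set G) → IsPGroup p (Subgroup.zpowers x) → x ∈ K := by
    intro x hxM hxC hxp
    obtain ⟨m, hmM, hm⟩ := hsyl.exists_cj_le ((Subgroup.zpowers_le).mpr hxM) hxp
    have h1 : m * x * m⁻¹ ∈ (S : Subgroup G) := hm (conj_mem_cj (Subgroup.mem_zpowers x))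
    have h2 : m * x * m⁻¹ ∈ Subgroup.centralizer (K : Set G) :=
      conj_mem_centralizer_of_mem_normalizer hmM hxC
    have h3 : m * x * m⁻¹ ∈ K := hCK ⟨h1, h2⟩
    have h4 := (Subgroup.mem_normalizer_iff.mp (M.inv_mem hmM) (m * x * m⁻¹)).mp h3
    simpa [mul_assoc] using h4
  -- the group `D = C_M(K)`
  set D : Subgroup ↥M := (Subgroup.centralizer (K : Set G)).subgroupOf M with hD
  obtain ⟨PD⟩ : Nonempty (Sylow p ↥D) := inferInstance
  have hcenter : (PD : Subgroup ↥D) ≤ Subgroup.center ↥D := by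
    intro x hx
    have hxp : IsPGroup p (Subgroup.zpowers ((x : ↥M) : G)) := by
      have h5 : IsPGroup p (Subgroup.zpowers x) := PD.isPGroup'.to_le ((Subgroup.zpowers_le).mpr hx)
      have h6 : (Subgroup.zpowers x).map ((M.subtype).comp D.subtype) = Subgroup.zpowers ((x : ↥M) : G) := by
        rw [MonoidHom.map_zpowers]; rfl
      rw [← h6]
      exact h5.map _
    have hxK : ((x : ↥M) : G) ∈ K := claimA _ (x : ↥M).2 (Subgroup.mem_subgroupOf.mp x.2) hxp
    rw [Subgroup.mem_center_iff]
    intro d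
    have hd : ((d : ↥M) : G) ∈ Subgroup.centralizer (K : Set G) := Subgroup.mem_subgroupOf.mp d.2
    have := (Subgroup.mem_centralizer_iff.mp hd) _ hxK
    apply Subtype.ext
    apply Subtype.ext
    simpa using this.symm
  obtain ⟨Q, hQn, hQc⟩ := exists_normal_complement_of_sylow_le_center PD hcenter
  have hQcop : (Nat.card Q).Coprime p := card_coprime_of_isComplement' PD Q hQc
  rw [hasNormalPComplement_iff_pResidual_coprime]
  have hle : pResidual p ↥M ≤ Q.map D.subtype := by
    unfold pResidual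
    rw [Subgroup.closure_le]
    intro g hg
    have hg' : (orderOf g).Coprime p := hg
    have hgC : (g : G) ∈ Subgroup.centralizer (K : Set G) := by
      apply h _ g.2
      rwa [Subgroup.orderOf_coe]
    have hgD : g ∈ D := Subgroup.mem_subgroupOf.mpr hgC
    have hord : orderOf (⟨g, hgD⟩ : ↥D) = orderOf g := by
      rw [← Subgroup.orderOf_coe]
    have := mem_of_coprime_orderOf_of_isComplement' PD Q hQc ⟨g, hgD⟩ (by rw [hord]; exact hg')
    exact ⟨⟨g, hgD⟩, this, rfl⟩
  have hcard : Nat.card (Q.map D.subtype) = Nat.card Q :=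
    Subgroup.card_map_of_injective D.subtype_injective
  exact Nat.Coprime.coprime_dvd_left (Subgroup.card_dvd_of_le hle) (by rw [hcard]; exact hQcop)

end Cfsg.Agent.Lib.Helper51
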