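import Mathlib
import Cfsg.Prelude.Def_ConjugacyFunctors

/-!
# The K-sequence under a two-step stability hypothesis (helper51)

`kSeq_le_of_stable`: variant of helper33's `kSeq_le_of_hyp` whose hypotheses only ask `Q` to absorb subgroups acting
quadratically on the factors of a two-step series of the critical-type subgroup `A`.
-/

set_option autoImplicit false
open Cfsg

namespace Cfsg.Agent.Lib.Helper51

open scoped commutatorElement

section abstract

variable {P : Type*} [Group P]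

/-- For `A` of class at most two and any `B`, the set of `a ∈ A` with `[a, A] ⊆ C(B)` is a subgroup. -/
def cenSub (A B : Subgroup P) (hA2 : ⁅A, A⁆ ≤ Subgroup.centralizer (A : Set P)) : Subgroup P where
  carrier := {a | a ∈ A ∧ ∀ x ∈ A, ⁅a, x⁆ ∈ Subgroup.centralizer (B : Set P)}
  one_mem' := by
    refine ⟨A.one_mem, fun x _ => ?_⟩
    rw [commutatorElement_one_left]
    exact Subgroup.one_mem _
  mul_mem' := by
    rintro a b ⟨ha, ha'⟩ ⟨hb, hb'⟩
    refine ⟨A.mul_mem ha hb, fun x hx => ?_⟩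
    have hc : ⁅b, x⁆ ∈ Subgroup.centralizer (A : Set P) :=
      hA2 (Subgroup.commutator_mem_commutator hb hx)
    have h1 : a * ⁅b, x⁆ * a⁻¹ = ⁅b, x⁆ := by
      have := (Subgroup.mem_centralizer_iff.mp hc) a ha
      rw [this]; group
    have h2 : ⁅a * b, x⁆ = a * ⁅b, x⁆ * a⁻¹ * ⁅a, x⁆ := by
      simp only [commutatorElement_def]; group
    rw [h2, h1]
    exact Subgroup.mul_mem _ (hb' x hx) (ha' x hx)
  inv_mem' := by
    rintro a ⟨ha, ha'⟩
    refine ⟨A.inv_mem ha, fun x hx => ?_⟩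
    have hc : ⁅a, x⁆ ∈ Subgroup.centralizer (A : Set P) :=
      hA2 (Subgroup.commutator_mem_commutator ha hx)
    have h1 : a⁻¹ * ⁅a, x⁆⁻¹ * a = ⁅a, x⁆⁻¹ := by
      have := (Subgroup.mem_centralizer_iff.mp hc) a ha
      have h3 : a * ⁅a, x⁆⁻¹ = ⁅a, x⁆⁻¹ * a := by
        rw [eq_inv_mul_iff_mul_eq, ← mul_assoc, ← this, mul_assoc, mul_inv_cancel, mul_one]
      rw [mul_assoc, ← h3, inv_mul_cancel_left]
    have h2 : ⁅a⁻¹, x⁆ = a⁻¹ * ⁅a, x⁆⁻¹ * a := by
      simp only [commutatorElement_def]; group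
    rw [h2, h1]
    exact Subgroup.inv_mem _ (ha' x hx)

theorem mem_cenSub {A B : Subgroup P} {hA2 : ⁅A, A⁆ ≤ Subgroup.centralizer (A : Set P)} {a : P} :
    a ∈ cenSub A B hA2 ↔ a ∈ A ∧ ∀ x ∈ A, ⁅a, x⁆ ∈ Subgroup.centralizer (B : Set P) := Iff.rfl

/-- If `b` normalizes `B` then it normalizes `C(B)`. -/
theorem conj_mem_centralizer_of_mem_normalizer {B : Subgroup P} {b z : P}
    (hb : b ∈ Subgroup.normalizer (B : Set P)) (hz : z ∈ Subgroup.centralizer (B : Set P)) :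
    b * z * b⁻¹ ∈ Subgroup.centralizer (B : Set P) := by
  rw [Subgroup.mem_centralizer_iff] at hz ⊢
  intro y hy
  have hy' : b⁻¹ * y * b ∈ B := by
    have := (Subgroup.mem_normalizer_iff'.mp hb (b⁻¹ * y)).mpr (by simpa using hy)
    simpa [mul_assoc] using this
  have h1 := hz _ hy'
  calc y * (b * z * b⁻¹) = b * ((b⁻¹ * y * b) * z) * b⁻¹ := by group
    _ = b * (z * (b⁻¹ * y * b)) * b⁻¹ := by rw [h1]
    _ = b * z * b⁻¹ * y := by group

theorem cenSub_congr {A A₀ B : Subgroup P} (h : A = A₀) (hA2 : ⁅A, A⁆ ≤ Subgroup.centralizer (A : Set P))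
    (hA2' : ⁅A₀, A₀⁆ ≤ Subgroup.centralizer (A₀ : Set P)) : cenSub A B hA2 = cenSub A₀ B hA2' := by
  subst h
  rfl

theorem cenSub_map {H : Type*} [Group H] {f : H →* P} (hf : Function.Injective f) (A B : Subgroup H)
    (hA2 : ⁅A, A⁆ ≤ Subgroup.centralizer (A : Set H))
    (hA2' : ⁅A.map f, A.map f⁆ ≤ Subgroup.centralizer ((A.map f : Subgroup P) : Set P)) :
    (cenSub A B hA2).map f = cenSub (A.map f) (B.map f) hA2' := by
  ext y
  constructor
  · rintro ⟨a, ha, rfl⟩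
    refine ⟨Subgroup.mem_map_of_mem f ha.1, ?_⟩
    rintro _ ⟨x, hx, rfl⟩
    rw [← map_commutatorElement]
    have h1 := ha.2 x hx
    rw [Subgroup.mem_centralizer_iff] at h1 ⊢
    rintro _ ⟨b, hb, rfl⟩
    rw [← map_mul, ← map_mul, h1 b hb]
  · rintro ⟨⟨a, ha, rfl⟩, h2⟩
    refine ⟨a, ⟨ha, fun x hx => ?_⟩, rfl⟩
    have h1 := h2 (f x) (Subgroup.mem_map_of_mem f hx)
    rw [← map_commutatorElement] at h1
    rw [Subgroup.mem_centralizer_iff] at h1 ⊢
    intro b hb
    apply hf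
    rw [map_mul, map_mul]
    exact h1 (f b) (Subgroup.mem_map_of_mem f hb)

/-- `B` normalizes `cenSub A B`. -/
theorem le_normalizer_cenSub (A B : Subgroup P) [hAn : A.Normal]
    (hA2 : ⁅A, A⁆ ≤ Subgroup.centralizer (A : Set P)) :
    B ≤ Subgroup.normalizer (cenSub A B hA2 : Set P) := by
  intro b hb
  have key : ∀ c : P, c ∈ B → ∀ a ∈ cenSub A B hA2, c * a * c⁻¹ ∈ cenSub A B hA2 := by
    intro c hc a ha
    refine ⟨hAn.conj_mem a ha.1 c, fun x hx => ?_⟩
    have hx' : c⁻¹ * x * c ∈ A := by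
      have := hAn.conj_mem x hx c⁻¹
      simpa using this
    have h9 := ha.2 _ hx'
    have e : ⁅c * a * c⁻¹, x⁆ = c * ⁅a, c⁻¹ * x * c⁆ * c⁻¹ := by
      simp only [commutatorElement_def]; group
    rw [e]
    exact conj_mem_centralizer_of_mem_normalizer (Subgroup.le_normalizer hc) h9
  rw [Subgroup.mem_normalizer_iff]
  intro a
  constructor
  · exact key b hb a
  · intro h
    have := key b⁻¹ (B.inv_mem hb) _ h
    simpa [mul_assoc] using this

/-- `C(A')` normalizes `cenSub A B`. -/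
theorem centralizer_commutator_le_normalizer_cenSub (A B : Subgroup P) [hAn : A.Normal]
    (hA2 : ⁅A, A⁆ ≤ Subgroup.centralizer (A : Set P)) :
    Subgroup.centralizer ((⁅A, A⁆ : Subgroup P) : Set P) ≤
      Subgroup.normalizer (cenSub A B hA2 : Set P) := by
  intro c hc
  have hcinv : c⁻¹ ∈ Subgroup.centralizer ((⁅A, A⁆ : Subgroup P) : Set P) := Subgroup.inv_mem _ hc
  have key : ∀ c : P, c ∈ Subgroup.centralizer ((⁅A, A⁆ : Subgroup P) : Set P) →
      ∀ a ∈ cenSub A B hA2, c * a * c⁻¹ ∈ cenSub A B hA2 := by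
    intro c hc a ha
    refine ⟨hAn.conj_mem a ha.1 c, fun x hx => ?_⟩
    have hx' : c⁻¹ * x * c ∈ A := by
      have := hAn.conj_mem x hx c⁻¹
      simpa using this
    have h9 := ha.2 _ hx'
    have hmem : ⁅a, c⁻¹ * x * c⁆ ∈ ⁅A, A⁆ := Subgroup.commutator_mem_commutator ha.1 hx'
    have hcomm := (Subgroup.mem_centralizer_iff.mp hc) _ hmem
    have e : ⁅c * a * c⁻¹, x⁆ = c * ⁅a, c⁻¹ * x * c⁆ * c⁻¹ := by
      simp only [commutatorElement_def]; group
    rw [e, ← hcomm]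
    simpa using h9
  rw [Subgroup.mem_normalizer_iff]
  intro a
  constructor
  · exact key c hc a
  · intro h
    have := key c⁻¹ hcinv _ h
    simpa [mul_assoc] using this

/-- The stable version of helper33's `kSeq_le_of_hyp`: all terms of the K-sequence of `P` of nonnegative index lie in `Q`,
provided `Q` absorbs the subgroups acting "quadratically in two steps" on the critical-type subgroup `A`. -/
theorem kSeq_le_of_stable (Q A : Subgroup P) [hAn : A.Normal]
    (hA2 : ⁅A, A⁆ ≤ Subgroup.centralizer (A : Set P))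
    (hQA : ⁅Q, A⁆ ≤ A ⊓ Subgroup.centralizer (A : Set P))
    (H1 : ∀ E : Subgroup P, ⁅⁅A, E⁆, E⁆ ≤ A ⊓ Subgroup.centralizer (A : Set P) →
      ⁅⁅A ⊓ Subgroup.centralizer (A : Set P), E⁆, E⁆ = ⊥ → E ≤ Q)
    (H2 : ∀ B : Subgroup P, ⁅⁅A, B⁆, B⁆ ≤ cenSub A B hA2 → ⁅⁅cenSub A B hA2, B⁆, B⁆ = ⊥ →
      ⁅⁅A ⊓ Subgroup.centralizer (A : Set P), B⁆, B⁆ = ⊥ → B ≤ Q) :
    ∀ n : ℕ, Cfsg.kSeqEven P n ≤ Q ∧ Cfsg.kSeqOdd P (n + 1) ≤ Q := by
  set Z : Subgroup P := A ⊓ Subgroup.centralizer (A : Set P) with hZ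
  have hZn : Z.Normal := inferInstance
  have hZA : Z ≤ A := inf_le_left
  have hZZ : ⁅Z, Z⁆ = ⊥ := by
    rw [Subgroup.commutator_eq_bot_iff_le_centralizer]
    exact inf_le_right.trans (Subgroup.centralizer_le (fun x hx => hx.1))
  have hAtop : Subgroup.normalizer (A : Set P) = ⊤ := Subgroup.normalizer_eq_top_iff.mpr hAn
  have hZtop : Subgroup.normalizer (Z : Set P) = ⊤ := Subgroup.normalizer_eq_top_iff.mpr hZn
  have hZAbot : ⁅Z, A⁆ = ⊥ := by
    rw [Subgroup.commutator_eq_bot_iff_le_centralizer]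
    exact inf_le_right
  have F1 : A ∈ Cfsg.classTwoSubgroups P := hA2
  have F2 : ∀ R : Subgroup P, R ≤ Q → A ∈ Cfsg.kUpperStarFamily R := by
    intro R hR
    refine ⟨F1, ?_⟩
    rw [Subgroup.commutator_comm]
    exact (Subgroup.commutator_mono hR le_rfl).trans hQA
  have F3 : ∀ R : Subgroup P, A ∈ Cfsg.kLowerStarFamily R := by
    intro R
    refine ⟨F1, by rw [hAtop]; exact le_top, ?_⟩
    intro E hE _ hAE h1 h2
    have h3 : ⁅A, E⁆ ≤ E := Subgroup.le_normalizer_iff_commutator_le_right.mp hAE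
    have h4 : ⁅E, E⁆ ≤ Subgroup.centralizer (A : Set P) := by
      rw [← Subgroup.commutator_eq_bot_iff_le_centralizer, Subgroup.commutator_comm]
      exact h1
    have hEQ : E ≤ Q := by
      apply H1 E _ h2
      apply le_inf
      · exact (Subgroup.commutator_mono (Subgroup.commutator_le_left A E) le_rfl).trans
          (Subgroup.commutator_le_left A E)
      · exact (Subgroup.commutator_mono h3 le_rfl).trans h4
    rw [Subgroup.commutator_comm]
    exact (Subgroup.commutator_mono hEQ le_rfl).trans hQA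
  have F4 : ∀ R : Subgroup P, A ≤ R → ∀ B ∈ Cfsg.kLowerStarFamily R, B ≤ Q := by
    intro R hAR B hB
    obtain ⟨hB2, hRB, hcond⟩ := hB
    have hAB : A ≤ Subgroup.normalizer (B : Set P) := hAR.trans hRB
    have h3 : ⁅A, B⁆ ≤ B := Subgroup.le_normalizer_iff_commutator_le_right.mp hAB
    set ZB : Subgroup P := B ⊓ Subgroup.centralizer (B : Set P) with hZB
    have hZBZB : ⁅ZB, ZB⁆ = ⊥ := by
      rw [Subgroup.commutator_eq_bot_iff_le_centralizer]
      exact inf_le_right.trans (Subgroup.centralizer_le (fun x hx => hx.1))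
    -- `[Z, B] ≤ Z(B)`
    have h4 : ⁅B, Z⁆ ≤ ZB := hcond Z (by
          show ⁅Z, Z⁆ ≤ _
          rw [hZZ]; exact bot_le) (hZA.trans hAR) (by rw [hZtop]; exact le_top)
        (by rw [hZZ]; simp)
        (by
          rw [eq_bot_iff, ← hZZ]
          exact Subgroup.commutator_mono (Subgroup.commutator_le_right _ Z) le_rfl)
    have hquadZ : ⁅⁅Z, B⁆, B⁆ = ⊥ := by
      rw [eq_bot_iff, Subgroup.commutator_comm Z B]
      calc ⁅⁅B, Z⁆, B⁆ ≤ ⁅Subgroup.centralizer (B : Set P), B⁆ :=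
            Subgroup.commutator_mono (h4.trans inf_le_right) le_rfl
        _ = ⊥ := Subgroup.commutator_eq_bot_iff_le_centralizer.mpr le_rfl
    -- `Z(B) ≤ Q`
    have hAZB : ⁅A, ZB⁆ ≤ ZB := by
      rw [Subgroup.commutator_le]
      intro a ha z hz
      have haN : a ∈ Subgroup.normalizer (B : Set P) := hAB ha
      have hzB : z ∈ B := hz.1
      have h5 : a * z * a⁻¹ ∈ B := (Subgroup.mem_normalizer_iff.mp haN z).mp hzB
      have h6 : a * z * a⁻¹ ∈ Subgroup.centralizer (B : Set P) :=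
        conj_mem_centralizer_of_mem_normalizer haN hz.2
      have : ⁅a, z⁆ = (a * z * a⁻¹) * z⁻¹ := by rw [commutatorElement_def]
      rw [this]
      exact ZB.mul_mem ⟨h5, h6⟩ (ZB.inv_mem hz)
    have hZBQ : ZB ≤ Q := by
      apply H1 ZB
      · have : ⁅⁅A, ZB⁆, ZB⁆ = ⊥ := by
          rw [eq_bot_iff, ← hZBZB]
          exact Subgroup.commutator_mono hAZB le_rfl
        rw [this]; exact bot_le
      · rw [eq_bot_iff, ← hZBZB]
        exact Subgroup.commutator_mono ((Subgroup.commutator_mono hZA le_rfl).trans hAZB) le_rfl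
    -- the test subgroup `A₁`
    set A1 : Subgroup P := cenSub A B hA2 with hA1
    have hA1A : A1 ≤ A := fun a ha => ha.1
    have hDA1 : ⁅⁅A, B⁆, B⁆ ≤ A1 := by
      have h7 : ⁅⁅A, B⁆, B⁆ ≤ A :=
        (Subgroup.commutator_mono (Subgroup.commutator_le_left A B) le_rfl).trans
          (Subgroup.commutator_le_left A B)
      have h8 : ⁅⁅A, B⁆, B⁆ ≤ Subgroup.centralizer (B : Set P) :=
        (Subgroup.commutator_mono h3 le_rfl).trans hB2
      intro d hd
      refine ⟨h7 hd, fun x hx => ?_⟩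
      have hdc := h8 hd
      rw [Subgroup.mem_centralizer_iff]
      intro b hb
      -- `b` commutes with `[d, x]`
      have hbx : ⁅b, x⁆ ∈ B := by
        rw [commutatorElement_def]
        have hxN : x ∈ Subgroup.normalizer (B : Set P) := hAB hx
        have : x * b⁻¹ * x⁻¹ ∈ B := (Subgroup.mem_normalizer_iff.mp hxN b⁻¹).mp (B.inv_mem hb)
        have e : b * x * b⁻¹ * x⁻¹ = b * (x * b⁻¹ * x⁻¹) := by group
        rw [e]; exact B.mul_mem hb this
      have hbxA : ⁅b, x⁆ ∈ A := by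
        rw [commutatorElement_def]
        have : b * x * b⁻¹ ∈ A := hAn.conj_mem x hx b
        exact A.mul_mem this (A.inv_mem hx)
      have hdx : ⁅d, x⁆ ∈ Subgroup.centralizer (A : Set P) :=
        hA2 (Subgroup.commutator_mem_commutator (h7 hd) hx)
      have hdb : d * b = b * d := ((Subgroup.mem_centralizer_iff.mp hdc) b hb).symm
      have hdbx : d * ⁅b, x⁆ = ⁅b, x⁆ * d := ((Subgroup.mem_centralizer_iff.mp hdc) _ hbx).symm
      -- `b [d,x] b⁻¹ = [d, b x b⁻¹] = [d, [b,x] x] = [b,x] [d,x] [b,x]⁻¹ = [d,x]`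
      have e1 : b * ⁅d, x⁆ * b⁻¹ = ⁅d, b * x * b⁻¹⁆ := by
        have : b * d * b⁻¹ = d := by rw [← hdb]; group
        calc b * ⁅d, x⁆ * b⁻¹ = ⁅b * d * b⁻¹, b * x * b⁻¹⁆ := by
              simp only [commutatorElement_def]; group
          _ = ⁅d, b * x * b⁻¹⁆ := by rw [this]
      have e2 : b * x * b⁻¹ = ⁅b, x⁆ * x := by rw [commutatorElement_def]; group
      have e3 : ⁅d, ⁅b, x⁆ * x⁆ = ⁅b, x⁆ * ⁅d, x⁆ * ⁅b, x⁆⁻¹ := by
        have : d * ⁅b, x⁆ * d⁻¹ = ⁅b, x⁆ := by rw [hdbx]; group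
        calc ⁅d, ⁅b, x⁆ * x⁆ = (d * ⁅b, x⁆ * d⁻¹) * (d * x * d⁻¹ * x⁻¹) * ⁅b, x⁆⁻¹ := by
              simp only [commutatorElement_def]; group
          _ = ⁅b, x⁆ * ⁅d, x⁆ * ⁅b, x⁆⁻¹ := by rw [this]; rfl
      have e4 : ⁅b, x⁆ * ⁅d, x⁆ * ⁅b, x⁆⁻¹ = ⁅d, x⁆ := by
        have := (Subgroup.mem_centralizer_iff.mp hdx) _ hbxA
        rw [this]; group
      have e5 : b * ⁅d, x⁆ * b⁻¹ = ⁅d, x⁆ := by rw [e1, e2, e3, e4]
      calc b * ⁅d, x⁆ = (b * ⁅d, x⁆ * b⁻¹) * b := by group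
        _ = ⁅d, x⁆ * b := by rw [e5]
    -- `B` normalizes `A₁`
    have hBA1 : B ≤ Subgroup.normalizer (A1 : Set P) := by
      intro b hb
      have key : ∀ c : P, c ∈ B → ∀ a ∈ A1, c * a * c⁻¹ ∈ A1 := by
        intro c hc a ha
        refine ⟨hAn.conj_mem a ha.1 c, fun x hx => ?_⟩
        have hx' : c⁻¹ * x * c ∈ A := by
          have := hAn.conj_mem x hx c⁻¹
          simpa using this
        have h9 := ha.2 _ hx'
        have e : ⁅c * a * c⁻¹, x⁆ = c * ⁅a, c⁻¹ * x * c⁆ * c⁻¹ := by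
          simp only [commutatorElement_def]; group
        rw [e]
        exact conj_mem_centralizer_of_mem_normalizer (Subgroup.le_normalizer hc) h9
      rw [Subgroup.mem_normalizer_iff]
      intro a
      constructor
      · exact key b hb a
      · intro h
        have := key b⁻¹ (B.inv_mem hb) _ h
        simpa [mul_assoc] using this
    have hA1two : A1 ∈ Cfsg.classTwoSubgroups P := by
      show ⁅A1, A1⁆ ≤ Subgroup.centralizer (A1 : Set P)
      exact (Subgroup.commutator_mono hA1A hA1A).trans (hA2.trans (Subgroup.centralizer_le hA1A))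
    have hi : ⁅B, ⁅A1, A1⁆⁆ = ⊥ := by
      rw [Subgroup.commutator_comm, Subgroup.commutator_eq_bot_iff_le_centralizer, Subgroup.commutator_le]
      intro a ha x hx
      exact ha.2 x (hA1A hx)
    have hii : ⁅⁅B ⊓ Subgroup.centralizer (B : Set P), A1⁆, A1⁆ = ⊥ := by
      rw [eq_bot_iff, ← hZAbot]
      refine Subgroup.commutator_mono ?_ hA1A
      exact (Subgroup.commutator_mono hZBQ hA1A).trans hQA
    have h10 : ⁅B, A1⁆ ≤ ZB := hcond A1 hA1two (hA1A.trans hAR) hBA1 hi hii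
    have hquadA1 : ⁅⁅A1, B⁆, B⁆ = ⊥ := by
      rw [eq_bot_iff, Subgroup.commutator_comm A1 B]
      calc ⁅⁅B, A1⁆, B⁆ ≤ ⁅Subgroup.centralizer (B : Set P), B⁆ :=
            Subgroup.commutator_mono (h10.trans inf_le_right) le_rfl
        _ = ⊥ := Subgroup.commutator_eq_bot_iff_le_centralizer.mpr le_rfl
    exact H2 B hDA1 hquadA1 hquadZ
  have F5 : ∀ E : Subgroup P, A ≤ E → ∀ B ∈ Cfsg.kUpperStarFamily E, B ≤ Q := by
    intro E hAE B hB
    obtain ⟨_, hBE⟩ := hB
    have h5 : ⁅⁅A, B⁆, B⁆ = ⊥ := by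
      rw [eq_bot_iff, Subgroup.commutator_comm A B]
      calc ⁅⁅B, A⁆, B⁆ ≤ ⁅Subgroup.centralizer (B : Set P), B⁆ :=
            Subgroup.commutator_mono (((Subgroup.commutator_mono le_rfl hAE).trans hBE).trans inf_le_right) le_rfl
        _ = ⊥ := Subgroup.commutator_eq_bot_iff_le_centralizer.mpr le_rfl
    apply H1 B
    · rw [h5]; exact bot_le
    · rw [eq_bot_iff, ← h5]
      exact Subgroup.commutator_mono (Subgroup.commutator_mono inf_le_left le_rfl) le_rfl
  have step : ∀ n : ℕ, A ≤ Cfsg.kSeqOdd P n → Cfsg.kSeqEven P n ≤ Q ∧ Cfsg.kSeqOdd P (n + 1) ≤ Q := by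
    intro n hAn'
    have hE : Cfsg.kSeqEven P n ≤ Q := sSup_le (fun B hB => F4 _ hAn' B hB)
    have hAE : A ≤ Cfsg.kSeqEven P n := le_sSup (F3 _)
    exact ⟨hE, sSup_le (fun B hB => F5 _ hAE B hB)⟩
  intro n
  induction n with
  | zero => exact step 0 (show A ≤ Cfsg.kSeqOdd P 0 from (le_top : A ≤ ⊤))
  | succ n ih =>
    apply step (n + 1)
    exact le_sSup (F2 _ ih.1)

end abstract

end Cfsg.Agent.Lib.Helper51
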