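import Cfsg.Agent.Lib.Helper51.KInfStableAux
import Cfsg.Agent.Lib.Helper51.KInfStableSeq
import Cfsg.Agent.Lib.Helper33.KInfLocal
import Cfsg.Agent.Lib.Helper33.Critical
import Cfsg.Agent.Lib.Helper33.SecProp

/-!
# Glauberman's K-infinity theorem in the `p`-stable case (helper51)

`kInf_normal_of_secStable`: if every section of the finite group `Y` is `p`-stable in the normalizer form and
`C_Y(O_p(Y)) ≤ O_p(Y)`, then `K_∞(T)` and `K^∞(T)` are normal in `Y` for every Sylow `p`-subgroup `T`.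
-/

set_option autoImplicit false
open Cfsg

namespace Cfsg.Agent.Lib.Helper51

open Cfsg.Agent.Lib.Helper11 Cfsg.Agent.Lib.Helper33
open scoped commutatorElement

universe u

/-- every section is `p`-stable in the normalizer form -/
abbrev SecStable (p : ℕ) (Y : Type u) [Group Y] : Prop :=
  SecProp (fun (X : Type u) [Group X] => Cfsg.IsNormalizerPStable p X) Y

section glevel

variable {Y : Type u} [Group Y] [Finite Y] {p : ℕ} [Fact p.Prime]

/-- first absorption property: subgroups quadratic on `Z(A)` and on `A / Z(A)` lie in `O_p(Y)` -/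
theorem le_pCore_of_quadratic_two_step (hsec : SecStable p Y) (A : Subgroup Y) [hAn : A.Normal]
    (hAp : IsPGroup p A) (hCA : IsPGroup p (Subgroup.centralizer (A : Set Y))) (E : Subgroup Y)
    (h1 : ⁅⁅A, E⁆, E⁆ ≤ A ⊓ Subgroup.centralizer (A : Set Y))
    (h2 : ⁅⁅A ⊓ Subgroup.centralizer (A : Set Y), E⁆, E⁆ = ⊥) : E ≤ Cfsg.pCore p Y := by
  intro b hb
  have hz : Subgroup.zpowers b ≤ E := (Subgroup.zpowers_le).mpr hb
  have hZn : (A ⊓ Subgroup.centralizer (A : Set Y)).Normal := inferInstance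
  apply mem_pCore_of_quadratic_chain (A ⊓ Subgroup.centralizer (A : Set Y)) A hsec.self
    (hsec.quotient _).self hAp (hAp.to_le inf_le_left) hCA b
  · rw [eq_bot_iff, ← h2]
    exact Subgroup.commutator_mono (Subgroup.commutator_mono le_rfl hz) hz
  · exact (Subgroup.commutator_mono (Subgroup.commutator_mono le_rfl hz) hz).trans h1

/-- second absorption property -/
theorem le_pCore_of_cenSub (hsec : SecStable p Y) (A : Subgroup Y) [hAn : A.Normal]
    (hAp : IsPGroup p A) (hA2 : ⁅A, A⁆ ≤ Subgroup.centralizer (A : Set Y))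
    (hCA : IsPGroup p (Subgroup.centralizer (A : Set Y))) (B : Subgroup Y)
    (h1 : ⁅⁅A, B⁆, B⁆ ≤ cenSub A B hA2) (h2 : ⁅⁅cenSub A B hA2, B⁆, B⁆ = ⊥)
    (h3 : ⁅⁅A ⊓ Subgroup.centralizer (A : Set Y), B⁆, B⁆ = ⊥) : B ≤ Cfsg.pCore p Y := by
  set A' : Subgroup Y := ⁅A, A⁆ with hA'
  have hA'n : A'.Normal := inferInstance
  have hA'A : A' ≤ A := Subgroup.commutator_le_left A A
  have hA'Z : A' ≤ A ⊓ Subgroup.centralizer (A : Set Y) := le_inf hA'A hA2
  have hA'p : IsPGroup p A' := hAp.to_le hA'A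
  set C' : Subgroup Y := Subgroup.centralizer (A' : Set Y) with hC'
  have hC'n : C'.Normal := Subgroup.normal_centralizer
  have hAC' : A ≤ C' := by
    intro a ha
    rw [hC', Subgroup.mem_centralizer_iff]
    intro z hz
    exact ((Subgroup.mem_centralizer_iff.mp (hA2 hz)) a ha).symm
  -- elements of `B` lie in `stabCore p A'`
  have hBst : ∀ b ∈ B, b ∈ stabCore p A' := by
    intro b hb
    have hz : Subgroup.zpowers b ≤ B := (Subgroup.zpowers_le).mpr hb
    apply mem_stabCore_of_isNormalizerPStable hsec.self A' hA'p b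
    rw [eq_bot_iff, ← h3]
    exact Subgroup.commutator_mono (Subgroup.commutator_mono hA'Z hz) hz
  set H : Subgroup Y := C' ⊔ B with hH
  have hHmap : H.map (QuotientGroup.mk' C') ≤ Cfsg.pCore p (Y ⧸ C') := by
    rw [hH, Subgroup.map_sup]
    apply sup_le
    · rw [(Subgroup.map_eq_bot_iff _).mpr (by rw [QuotientGroup.ker_mk'])]
      exact bot_le
    · rintro _ ⟨b, hb, rfl⟩
      exact (mem_stabCore_iff p A' b).mp (hBst b hb)
  have hsub : H.IsSubnormal := isSubnormal_of_map_le_pCore C' H le_sup_left hHmap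
  set A1 : Subgroup Y := cenSub A B hA2 with hA1
  have hA1A : A1 ≤ A := fun a ha => ha.1
  have hAH : A ≤ H := hAC'.trans le_sup_left
  have hHN : H ≤ Subgroup.normalizer (A1 : Set Y) :=
    sup_le (centralizer_commutator_le_normalizer_cenSub A B hA2) (le_normalizer_cenSub A B hA2)
  have hVn : (A.subgroupOf H).Normal := hAn.subgroupOf H
  have hV1n : (A1.subgroupOf H).Normal :=
    (Subgroup.normal_subgroupOf_iff_le_normalizer (hA1A.trans hAH)).mpr hHN
  have hVp : IsPGroup p (A.subgroupOf H) := hAp.comap_subtype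
  have hV1p : IsPGroup p (A1.subgroupOf H) := (hAp.to_le hA1A).comap_subtype
  have hCV : IsPGroup p (Subgroup.centralizer ((A.subgroupOf H : Subgroup ↥H) : Set ↥H)) := by
    rintro ⟨x, hx⟩
    have hxA : (x : Y) ∈ Subgroup.centralizer (A : Set Y) := by
      rw [Subgroup.mem_centralizer_iff]
      intro a ha
      have := (Subgroup.mem_centralizer_iff.mp hx) ⟨a, hAH ha⟩ (by
        show (⟨a, hAH ha⟩ : ↥H) ∈ A.subgroupOf H
        rw [Subgroup.mem_subgroupOf]; exact ha)
      exact congrArg Subtype.val this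
    obtain ⟨k, hk⟩ := hCA ⟨(x : Y), hxA⟩
    refine ⟨k, ?_⟩
    have h5 := congrArg Subtype.val hk
    apply Subtype.ext
    apply Subtype.ext
    simpa using h5
  have hinj : Function.Injective H.subtype := H.subtype_injective
  have hVmap : (A.subgroupOf H).map H.subtype = A := Subgroup.map_subgroupOf_eq_of_le hAH
  have hV1map : (A1.subgroupOf H).map H.subtype = A1 :=
    Subgroup.map_subgroupOf_eq_of_le (hA1A.trans hAH)
  intro b hb
  have hbH : b ∈ H := (le_sup_right : B ≤ H) hb
  have hz : Subgroup.zpowers b ≤ B := (Subgroup.zpowers_le).mpr hb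
  have hzmap : (Subgroup.zpowers (⟨b, hbH⟩ : ↥H)).map H.subtype = Subgroup.zpowers b := by
    rw [MonoidHom.map_zpowers]; rfl
  have key := mem_pCore_of_quadratic_chain (M := ↥H) (A1.subgroupOf H) (A.subgroupOf H)
    (hsec.subgroup H).self ((hsec.subgroup H).quotient _).self hVp hV1p hCV ⟨b, hbH⟩ ?_ ?_
  · exact Cfsg.Agent.Lib.Helper97.map_pCore_le_of_isSubnormal p hsub ⟨⟨b, hbH⟩, key, rfl⟩
  · rw [← Subgroup.map_eq_bot_iff_of_injective _ hinj, Subgroup.map_commutator, Subgroup.map_commutator,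
      hV1map, hzmap, eq_bot_iff, ← h2]
    exact Subgroup.commutator_mono (Subgroup.commutator_mono le_rfl hz) hz
  · rw [← Subgroup.map_le_map_iff_of_injective hinj, Subgroup.map_commutator, Subgroup.map_commutator,
      hVmap, hV1map, hzmap]
    exact (Subgroup.commutator_mono (Subgroup.commutator_mono le_rfl hz) hz).trans h1

/-- **Glauberman's K-infinity theorem, `p`-stable case.** If every section of `Y` is `p`-stable in the normalizer form and
`C_Y(O_p(Y)) ≤ O_p(Y)`, the K-infinity subgroups of a Sylow `p`-subgroup of `Y` are normal in `Y`. -/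
theorem kInf_normal_of_secStable (T : Sylow p Y)
    (hc : Subgroup.centralizer ((Cfsg.pCore p Y : Subgroup Y) : Set Y) ≤ Cfsg.pCore p Y)
    (hsec : SecStable p Y) :
    (Cfsg.inducedFunctor Cfsg.kInfLower (T : Subgroup Y)).Normal ∧
      (Cfsg.inducedFunctor Cfsg.kInfUpper (T : Subgroup Y)).Normal := by
  set Q : Subgroup Y := Cfsg.pCore p Y with hQ
  have hQn : Q.Normal := Subgroup.sSup_normal _ (fun _ h => h.1)
  have hQT : Q ≤ (T : Subgroup Y) := Cfsg.Agent.Lib.Helper76.pCore_le_sylow p T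
  have hTp : IsPGroup p (T : Subgroup Y) := T.isPGroup'
  have hQp : IsPGroup p Q := hTp.to_le hQT
  have hQnil : Group.IsNilpotent ↥Q := hQp.isNilpotent
  obtain ⟨A, hAn, hAQ, hA2, hQA, hcent⟩ := exists_critical Q
  have hAp : IsPGroup p A := hQp.to_le hAQ
  have hCA : IsPGroup p (Subgroup.centralizer (A : Set Y)) :=
    isPGroup_centralizer_of_critical Q A hQp hAQ hQA hcent hc
  set Q' : Subgroup ↥(T : Subgroup Y) := Q.subgroupOf (T : Subgroup Y) with hQ'
  set A' : Subgroup ↥(T : Subgroup Y) := A.subgroupOf (T : Subgroup Y) with hA'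
  have hinj : Function.Injective (T : Subgroup Y).subtype := Subgroup.subtype_injective _
  have hQ'map : Q'.map (T : Subgroup Y).subtype = Q := Subgroup.map_subgroupOf_eq_of_le hQT
  have hA'map : A'.map (T : Subgroup Y).subtype = A := Subgroup.map_subgroupOf_eq_of_le (hAQ.trans hQT)
  have hA'n : A'.Normal := Subgroup.Normal.subgroupOf hAn _
  have hA'2 : ⁅A', A'⁆ ≤ Subgroup.centralizer (A' : Set ↥(T : Subgroup Y)) := by
    have := (classTwo_map_iff hinj A').mpr (by rw [hA'map]; exact hA2)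
    exact this
  have hQ'A' : ⁅Q', A'⁆ ≤ A' ⊓ Subgroup.centralizer (A' : Set ↥(T : Subgroup Y)) := by
    rw [← Subgroup.map_le_map_iff_of_injective hinj, zc_map hinj, Subgroup.map_commutator, hQ'map, hA'map]
    exact hQA
  have H1 : ∀ E : Subgroup ↥(T : Subgroup Y),
      ⁅⁅A', E⁆, E⁆ ≤ A' ⊓ Subgroup.centralizer (A' : Set ↥(T : Subgroup Y)) →
      ⁅⁅A' ⊓ Subgroup.centralizer (A' : Set ↥(T : Subgroup Y)), E⁆, E⁆ = ⊥ → E ≤ Q' := by
    intro E h1 h2
    rw [← Subgroup.map_le_map_iff_of_injective hinj, hQ'map]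
    apply le_pCore_of_quadratic_two_step hsec A hAp hCA
    · have := Subgroup.map_mono (f := (T : Subgroup Y).subtype) h1
      rwa [Subgroup.map_commutator, Subgroup.map_commutator, zc_map hinj, hA'map] at this
    · rw [← hA'map, ← zc_map hinj, ← Subgroup.map_commutator, ← Subgroup.map_commutator, h2, Subgroup.map_bot]
  have H2 : ∀ B : Subgroup ↥(T : Subgroup Y), ⁅⁅A', B⁆, B⁆ ≤ cenSub A' B hA'2 →
      ⁅⁅cenSub A' B hA'2, B⁆, B⁆ = ⊥ →
      ⁅⁅A' ⊓ Subgroup.centralizer (A' : Set ↥(T : Subgroup Y)), B⁆, B⁆ = ⊥ → B ≤ Q' := by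
    intro B h1 h2 h3
    rw [← Subgroup.map_le_map_iff_of_injective hinj, hQ'map]
    have hA2m : ⁅A'.map (T : Subgroup Y).subtype, A'.map (T : Subgroup Y).subtype⁆ ≤
        Subgroup.centralizer ((A'.map (T : Subgroup Y).subtype : Subgroup Y) : Set Y) := by
      rw [hA'map]; exact hA2
    have hcs : (cenSub A' B hA'2).map (T : Subgroup Y).subtype =
        cenSub A (B.map (T : Subgroup Y).subtype) hA2 :=
      (cenSub_map hinj A' B hA'2 hA2m).trans (cenSub_congr hA'map hA2m hA2)
    apply le_pCore_of_cenSub hsec A hAp hA2 hCA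
    · have := Subgroup.map_mono (f := (T : Subgroup Y).subtype) h1
      rwa [Subgroup.map_commutator, Subgroup.map_commutator, hcs, hA'map] at this
    · rw [← hcs, ← Subgroup.map_commutator, ← Subgroup.map_commutator, h2, Subgroup.map_bot]
    · rw [← hA'map, ← zc_map hinj, ← Subgroup.map_commutator, ← Subgroup.map_commutator, h3, Subgroup.map_bot]
  have hseq := kSeq_le_of_stable Q' A' hA'2 hQ'A' H1 H2
  have hTp' : IsPGroup p ↥(T : Subgroup Y) := hTp
  obtain ⟨hlow, hupp⟩ := Cfsg.Agent.S1979.result hTp' Q' hseq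
  have hQ'p : IsPGroup p Q' := hTp'.to_subgroup Q'
  have key : ∀ W : ∀ (R : Type u) [Group R], Subgroup R, Cfsg.IsCharPFunctor.{u} p W →
      (W ↥Q').map Q'.subtype = W ↥(T : Subgroup Y) → (Cfsg.inducedFunctor W (T : Subgroup Y)).Normal := by
    intro W hW heq
    have h1 := inducedFunctor_map_of_injOn W hW (T : Subgroup Y).subtype Q' hQ'p
      (fun x _ hx => hinj (by simpa using hx))
    rw [hQ'map] at h1
    have h2 : Cfsg.inducedFunctor W (T : Subgroup Y) = Cfsg.inducedFunctor W Q := by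
      rw [h1]
      unfold Cfsg.inducedFunctor
      rw [heq]
    rw [h2]
    exact normal_inducedFunctor_of_normal hW Q hQp
  exact ⟨key _ (isCharPFunctor_kInfLower p) hlow, key _ (isCharPFunctor_kInfUpper p) hupp⟩

end glevel

end Cfsg.Agent.Lib.Helper51
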