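import Mathlib
import Cfsg.Prelude.Def_LocalEven
import Cfsg.Agent.Lib.Helper11.PStab
import Cfsg.Agent.Lib.Helper11.ZJ2
import Cfsg.Agent.Lib.Helper97.Cores2

/-!
# Stability lemmas for the K-infinity theorem (helper51)

* `mem_stabCore_of_isNormalizerPStable`: element form of normalizer `p`-stability on normal `p`-subgroups.
* `mem_pCore_of_quadratic_chain`: an element quadratic on `V₁` and on `V / V₁` lies in `O_p` when `C(V)` is a `p`-group.
* `isPGroup_centralizer_of_critical`, `isSubnormal_of_isNilpotent`, `isSubnormal_of_map_le_pCore`.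
-/

set_option autoImplicit false
open Cfsg

namespace Cfsg.Agent.Lib.Helper51

open Cfsg.Agent.Lib.Helper11
open scoped commutatorElement

/-- Element form of `p`-stability on normal `p`-subgroups, from the normalizer form. -/
theorem mem_stabCore_of_isNormalizerPStable {H : Type*} [Group H] {p : ℕ}
    (hst : IsNormalizerPStable p H) (V : Subgroup H) [hVn : V.Normal] (hVp : IsPGroup p V) (a : H)
    (hquad : ⁅⁅V, Subgroup.zpowers a⁆, Subgroup.zpowers a⁆ = ⊥) : a ∈ stabCore p V := by
  have htop : Subgroup.normalizer (V : Set H) = ⊤ := Subgroup.normalizer_eq_top_iff.mpr hVn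
  have haN : a ∈ Subgroup.normalizer (V : Set H) := by rw [htop]; trivial
  have key := hst V hVp a haN hquad
  rw [mem_stabCore_iff]
  let f : ↥(Subgroup.normalizer (V : Set H)) →* H := (Subgroup.normalizer (V : Set H)).subtype
  have hsurj : Function.Surjective f := by
    intro x
    exact ⟨⟨x, by rw [htop]; trivial⟩, rfl⟩
  have hC : (Subgroup.centralizer (V : Set H)).subgroupOf (Subgroup.normalizer (V : Set H)) =
      (Subgroup.centralizer (V : Set H)).comap f := rfl
  exact (mem_pCore_quotient_iff_of_surjective (p := p) f hsurj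
    ((Subgroup.centralizer (V : Set H)).subgroupOf (Subgroup.normalizer (V : Set H)))
    (Subgroup.centralizer (V : Set H)) hC ⟨a, haN⟩).mp key

/-- Two-step `p`-stability: an element acting quadratically on `V₁` and on `V / V₁` (both normal
`p`-subgroups, `C(V)` a `p`-group) lies in `O_p`. -/
theorem mem_pCore_of_quadratic_chain {M : Type*} [Group M] [Finite M] {p : ℕ} [Fact p.Prime]
    (V₁ V : Subgroup M) [hV₁n : V₁.Normal] [hVn : V.Normal]
    (h1 : IsNormalizerPStable p M) (h2 : IsNormalizerPStable p (M ⧸ V₁))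
    (hVp : IsPGroup p V) (hV₁p : IsPGroup p V₁)
    (hC : IsPGroup p (Subgroup.centralizer (V : Set M))) (b : M)
    (hq1 : ⁅⁅V₁, Subgroup.zpowers b⁆, Subgroup.zpowers b⁆ = ⊥)
    (hq2 : ⁅⁅V, Subgroup.zpowers b⁆, Subgroup.zpowers b⁆ ≤ V₁) : b ∈ pCore p M := by
  have hsurj := QuotientGroup.mk'_surjective V₁
  have hVbn : (V.map (QuotientGroup.mk' V₁)).Normal := hVn.map _ hsurj
  have hVbp : IsPGroup p (V.map (QuotientGroup.mk' V₁)) := hVp.map _
  set N : Subgroup M := stabCore p V₁ ⊓ (stabCore p (V.map (QuotientGroup.mk' V₁))).comap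
    (QuotientGroup.mk' V₁) with hN
  have hNn : N.Normal := by
    have : ((stabCore p (V.map (QuotientGroup.mk' V₁))).comap (QuotientGroup.mk' V₁)).Normal :=
      Subgroup.Normal.comap inferInstance _
    exact Subgroup.normal_inf_normal _ _
  have hbN : b ∈ N := by
    refine ⟨mem_stabCore_of_isNormalizerPStable h1 V₁ hV₁p b hq1, ?_⟩
    show QuotientGroup.mk' V₁ b ∈ stabCore p (V.map (QuotientGroup.mk' V₁))
    apply mem_stabCore_of_isNormalizerPStable h2 _ hVbp
    rw [eq_bot_iff]
    have h3 := Subgroup.map_mono (f := QuotientGroup.mk' V₁) hq2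
    rw [Subgroup.map_commutator, Subgroup.map_commutator, MonoidHom.map_zpowers] at h3
    refine h3.trans ?_
    rw [le_bot_iff, Subgroup.map_eq_bot_iff, QuotientGroup.ker_mk']
  have hNp : IsPGroup p N := by
    rintro ⟨g, hg1, hg2⟩
    have hg2 : QuotientGroup.mk' V₁ g ∈ stabCore p (V.map (QuotientGroup.mk' V₁)) := hg2
    obtain ⟨k, hk⟩ := exists_pow_mem_centralizer_of_mem_stabCore p _ hg2
    have hgk : g ^ (p ^ k) ∈ secCent V V₁ := by
      unfold secCent
      rw [Subgroup.mem_comap, map_pow]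
      exact hk
    have hgk1 : g ^ (p ^ k) ∈ stabCore p V₁ := Subgroup.pow_mem _ hg1 _
    have hgk2 := stabCore_inf_secCent_le V V₁ hV₁p ⟨hgk1, hgk⟩
    obtain ⟨l, hl⟩ := exists_pow_mem_centralizer_of_mem_stabCore p V hgk2
    obtain ⟨m, hm⟩ := hC ⟨_, hl⟩
    refine ⟨k + l + m, ?_⟩
    apply Subtype.ext
    have h3 := congrArg Subtype.val hm
    rw [Subgroup.coe_pow, Subgroup.coe_one] at h3 ⊢
    simp only [] at h3 ⊢
    rw [← h3, ← pow_mul, ← pow_mul, ← pow_add, ← pow_add, add_assoc]
  exact Cfsg.Agent.Lib.Helper97.le_pCore_of_normal hNn hNp hbN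

/-- In a constrained group the centralizer of a critical-type subgroup of `O_p` is a `p`-group. -/
theorem isPGroup_centralizer_of_critical {Y : Type*} [Group Y] [Finite Y] {p : ℕ} [Fact p.Prime]
    (O A : Subgroup Y) [hOn : O.Normal] [hAn : A.Normal] (hOp : IsPGroup p O) (hAO : A ≤ O)
    (hOA : ⁅O, A⁆ ≤ A ⊓ Subgroup.centralizer (A : Set Y))
    (hcent : O ⊓ Subgroup.centralizer (A : Set Y) ≤ A)
    (hc : Subgroup.centralizer (O : Set Y) ≤ O) : IsPGroup p (Subgroup.centralizer (A : Set Y)) := by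
  set C : Subgroup Y := Subgroup.centralizer (A : Set Y) with hC
  set Z : Subgroup Y := A ⊓ C with hZ
  have hCn : C.Normal := Subgroup.normal_centralizer
  have hZn : Z.Normal := Subgroup.normal_inf_normal _ _
  -- `[O, C] ≤ Z` by the three subgroups lemma
  have h1 : ⁅⁅A, O⁆, C⁆ = ⊥ := by
    rw [Subgroup.commutator_eq_bot_iff_le_centralizer, Subgroup.commutator_comm]
    exact hOA.trans (inf_le_left.trans (by
      rw [hC]
      intro x hx
      rw [Subgroup.mem_centralizer_iff]
      intro c hc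
      exact ((Subgroup.mem_centralizer_iff.mp hc) x hx).symm))
  have h2 : ⁅⁅C, A⁆, O⁆ = ⊥ := by
    have : ⁅C, A⁆ = ⊥ := by
      rw [Subgroup.commutator_eq_bot_iff_le_centralizer]
    rw [this]
    exact Subgroup.commutator_bot_left O
  have h3 : ⁅⁅O, C⁆, A⁆ = ⊥ := Subgroup.commutator_commutator_eq_bot_of_rotate h2 h1
  have hOC : ⁅O, C⁆ ≤ Z := by
    have h4 : ⁅O, C⁆ ≤ C := Subgroup.commutator_eq_bot_iff_le_centralizer.mp h3
    have h5 : ⁅O, C⁆ ≤ O := Subgroup.commutator_le_left O C
    exact le_inf ((le_inf h5 h4).trans hcent) h4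
  have hZO : Z ≤ O := inf_le_left.trans hAO
  have hZp : IsPGroup p Z := hOp.to_le hZO
  intro ⟨g, hg⟩
  have hg1 : g ∈ stabCore p Z := by
    apply le_stabCore Z (Subgroup.centralizer (Z : Set Y)) (fun x hx => ⟨0, by simpa using hx⟩)
    exact Subgroup.centralizer_le (inf_le_left : Z ≤ A) hg
  have hg2 : g ∈ secCent O Z := by
    rw [mem_secCent_iff]
    intro v hv
    apply hOC
    rw [Subgroup.commutator_comm]
    exact Subgroup.commutator_mem_commutator hg hv
  have hg3 := stabCore_inf_secCent_le O Z hZp ⟨hg1, hg2⟩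
  obtain ⟨l, hl⟩ := exists_pow_mem_centralizer_of_mem_stabCore p O hg3
  obtain ⟨m, hm⟩ := hOp ⟨_, hc hl⟩
  refine ⟨l + m, Subtype.ext ?_⟩
  have h6 := congrArg Subtype.val hm
  rw [Subgroup.coe_pow, Subgroup.coe_one] at h6 ⊢
  simp only [] at h6 ⊢
  rw [← h6, ← pow_mul, ← pow_add]


/-- Every subgroup of a finite nilpotent group is subnormal. -/
theorem isSubnormal_of_isNilpotent {N : Type*} [Group N] [Finite N] [Group.IsNilpotent N] :
    ∀ (n : ℕ) (K : Subgroup N), Nat.card N - Nat.card K = n → K.IsSubnormal := by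
  intro n
  induction n using Nat.strong_induction_on with
  | _ n ih =>
    intro K hK
    by_cases htop : K = ⊤
    · rw [htop]; exact Subgroup.IsSubnormal.top
    · have hlt : K < Subgroup.normalizer (K : Set N) :=
        Group.normalizerCondition_of_isNilpotent K (lt_top_iff_ne_top.mpr htop)
      have hcard : Nat.card K < Nat.card (Subgroup.normalizer (K : Set N)) := by
        by_contra hcon
        push Not at hcon
        exact (ne_of_lt hlt) (Subgroup.eq_of_le_of_card_ge hlt.le hcon)
      have hle : Nat.card (Subgroup.normalizer (K : Set N)) ≤ Nat.card N :=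
        Subgroup.card_le_card_group _
      have h1 := ih (Nat.card N - Nat.card (Subgroup.normalizer (K : Set N))) (by omega)
        (Subgroup.normalizer (K : Set N)) rfl
      exact Subgroup.IsSubnormal.step K _ hlt.le h1 Subgroup.normal_in_normalizer

/-- A subgroup `H` containing the normal subgroup `C'` whose image in `Y ⧸ C'` lies in `O_p(Y ⧸ C')` is subnormal. -/
theorem isSubnormal_of_map_le_pCore {Y : Type*} [Group Y] [Finite Y] {p : ℕ} [Fact p.Prime]
    (C' H : Subgroup Y) [hCn : C'.Normal] (hCH : C' ≤ H)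
    (hH : H.map (QuotientGroup.mk' C') ≤ pCore p (Y ⧸ C')) : H.IsSubnormal := by
  set Np : Subgroup (Y ⧸ C') := pCore p (Y ⧸ C') with hNp
  have hNpn : Np.Normal := Cfsg.Agent.Lib.Helper97.pCore_normal p
  have hNpp : IsPGroup p Np := Cfsg.Agent.Lib.Helper97.isPGroup_pCore p _
  have hnil : Group.IsNilpotent ↥Np := hNpp.isNilpotent
  have h1 : ((H.map (QuotientGroup.mk' C')).subgroupOf Np).IsSubnormal :=
    isSubnormal_of_isNilpotent _ _ rfl
  have h2 : (H.map (QuotientGroup.mk' C')).IsSubnormal :=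
    Subgroup.IsSubnormal.trans hH h1 hNpn.isSubnormal
  have h3 := h2.comap (QuotientGroup.mk' C')
  rw [QuotientGroup.comap_map_mk'] at h3
  rwa [sup_eq_right.mpr hCH] at h3


end Cfsg.Agent.Lib.Helper51
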