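/-
helper51: Peterfalvi (12.7), group part, module [IDX] of helper60's plan (#3353):
Peterfalvi (12.10), the bound on `e`.
-/
import Mathlib
import Cfsg.Prelude.Def_OddOrderLocal
import Cfsg.Agent.Lib.Helper54.PF12GOrb

set_option autoImplicit false

namespace Cfsg.Agent.Lib.Helper51.PF12G

open Cfsg

variable {G : Type*} [Group G]

/-- arithmetic for the case `|V| = p`. -/
theorem idx_arith_one {e p : ℕ} (hp2 : 3 ≤ p) (hpodd : Odd p) (heodd : Odd e) (he : e ∣ p - 1) :
    e ∣ p ^ 2 - 1 ∧ e + 2 ≤ p := by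
  constructor
  · have h3 : p ^ 2 - 1 = (p - 1) * (p + 1) := by
      obtain ⟨k, rfl⟩ : ∃ k, p = k + 1 := ⟨p - 1, by omega⟩
      simp only [Nat.add_sub_cancel]
      ring_nf
      omega
    rw [h3]
    exact Dvd.dvd.mul_right he _
  · obtain ⟨m, hm⟩ := he
    obtain ⟨a, rfl⟩ := hpodd
    obtain ⟨b, rfl⟩ := heodd
    have h1 : 2 * a = (2 * b + 1) * m := by
      have : 2 * a + 1 - 1 = 2 * a := by omega
      rw [← this]; exact hm
    rcases Nat.even_or_odd m with hmE | hmO
    · obtain ⟨c, rfl⟩ := hmE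
      rcases c with _ | c
      · simp at h1; omega
      · have : (2 * b + 1) * (c + 1 + (c + 1)) = 2 * (2 * b + 1) * c + 2 * (2 * b + 1) := by ring
        have h2 : 0 ≤ 2 * (2 * b + 1) * c := Nat.zero_le _
        omega
    · exfalso
      obtain ⟨c, rfl⟩ := hmO
      have : (2 * b + 1) * (2 * c + 1) = 2 * (2 * b * c + b + c) + 1 := by ring
      omega

/-- arithmetic for the case `|V| = p²`. -/
theorem idx_arith_two {e p : ℕ} (hp : p.Prime) (hpodd : Odd p) (heodd : Odd e)
    (he : e ∣ p ^ 2 - 1) (hle : e * (p - 1) + 1 ≤ p ^ 2) : e + 2 ≤ p := by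
  have hp2 := hp.two_le
  have h3 : p ^ 2 - 1 = (p - 1) * (p + 1) := by
    obtain ⟨k, rfl⟩ : ∃ k, p = k + 1 := ⟨p - 1, by omega⟩
    simp only [Nat.add_sub_cancel]
    ring_nf
    omega
  -- e ≤ p + 1
  have h4 : e * (p - 1) ≤ (p + 1) * (p - 1) := by
    have : p ^ 2 - 1 = (p + 1) * (p - 1) := by rw [h3, mul_comm]
    have h5 : 1 ≤ p ^ 2 := Nat.one_le_pow _ _ (by omega)
    omega
  have h6 : e ≤ p + 1 := Nat.le_of_mul_le_mul_right h4 (by omega)
  -- e ≠ p + 1 (parity), e ≠ p (divisibility), e ≠ p - 1 (parity)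
  obtain ⟨a, rfl⟩ := hpodd
  obtain ⟨b, rfl⟩ := heodd
  have h7 : 2 * b + 1 ≠ 2 * a + 1 := by
    intro h
    rw [h] at he
    -- p ∣ p² - 1 is impossible
    have h8 : (2 * a + 1) ∣ (2 * a + 1) ^ 2 := Dvd.intro (2 * a + 1) (by ring)
    have h9 : (2 * a + 1) ∣ (2 * a + 1) ^ 2 - ((2 * a + 1) ^ 2 - 1) := Nat.dvd_sub h8 he
    have h10 : (2 * a + 1) ^ 2 - ((2 * a + 1) ^ 2 - 1) = 1 := by
      have h5 : 1 ≤ (2 * a + 1) ^ 2 := Nat.one_le_pow _ _ (by omega)
      omega
    rw [h10] at h9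
    have := Nat.le_of_dvd one_pos h9
    omega
  omega

/-- **[IDX]** (Peterfalvi (12.10), the bound on `e`.)  `L = H ⋊ E` a Frobenius group of odd order,
`A ≤ H` of order `p²`, `V ≤ A` a non-identity normal subgroup of `L`, `x ∈ A^#` of order `p` with
`N_G(⟨x⟩) ≤ M` and `M ∩ L ≤ H`.  Then `e = |E|` divides `p² - 1` and `e + 2 ≤ p`. -/
theorem index_bound_abstract [Finite G] (L H E A V M : Subgroup G) (x : G) (p : ℕ) (hp : p.Prime)
    (hodd : Odd (Nat.card L)) (hcompl : IsComplIn H E L)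
    (hfpf : ∀ u ∈ E, u ≠ 1 → ∀ h ∈ H, u * h = h * u → h = 1)
    (hAH : A ≤ H) (hAc : Nat.card A = p ^ 2)
    (hVA : V ≤ A) (hV1 : V ≠ ⊥) (hVn : ∀ l ∈ L, ∀ v ∈ V, l * v * l⁻¹ ∈ V)
    (hx : x ∈ A) (hx1 : x ≠ 1) (hxp : x ^ p = 1)
    (hN : ∀ g : G, g * x * g⁻¹ ∈ Subgroup.zpowers x → g ∈ M)
    (hML : M ⊓ L ≤ H) :
    Nat.card E ∣ p ^ 2 - 1 ∧ Nat.card E + 2 ≤ p := by
  classical
  obtain ⟨hHL, hEL, hHE, -⟩ := hcompl
  have hAL : A ≤ L := hAH.trans hHL
  -- parity
  have heodd : Odd (Nat.card E) := Odd.of_dvd_nat hodd (Subgroup.card_dvd_of_le hEL)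
  have hpodd : Odd p := by
    have h1 : Odd (Nat.card A) := Odd.of_dvd_nat hodd (Subgroup.card_dvd_of_le hAL)
    rw [hAc] at h1
    exact (Nat.odd_pow_iff (by norm_num)).mp h1
  have hp3 : 3 ≤ p := by
    have := hp.two_le
    obtain ⟨a, rfl⟩ := hpodd
    omega
  -- orbit count on `V`
  have h1 : Nat.card E ∣ Nat.card V - 1 := by
    apply Cfsg.Agent.Lib.Helper54.card_dvd_card_sub_one_of_fpf
    · intro e he v hv
      exact hVn e (hEL he) v hv
    · intro e he he1 v hv hev
      exact hfpf e he he1 v (hAH (hVA hv)) hev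
  have hVc : Nat.card V ∣ p ^ 2 := by
    rw [← hAc]; exact Subgroup.card_dvd_of_le hVA
  obtain ⟨j, hj, hjc⟩ := (Nat.dvd_prime_pow hp).mp hVc
  interval_cases j
  · rw [pow_zero] at hjc
    exact absurd (Subgroup.card_eq_one.mp hjc) hV1
  · rw [hjc, pow_one] at h1
    exact idx_arith_one hp3 hpodd heodd h1
  · rw [hjc] at h1
    refine ⟨h1, ?_⟩
    -- `V = A`
    have hVeq : V = A := by
      apply Subgroup.eq_of_le_of_card_ge hVA
      rw [hjc, hAc]
    have hAn : ∀ l ∈ L, ∀ a ∈ A, l * a * l⁻¹ ∈ A := by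
      rw [← hVeq]; exact hVn
    have hxo : orderOf x = p := by
      have : Fact p.Prime := ⟨hp⟩
      exact orderOf_eq_prime hxp hx1
    -- the injection
    have : Fintype E := Fintype.ofFinite E
    have : Fintype A := Fintype.ofFinite A
    have hxpowA : ∀ n : ℕ, x ^ n ∈ A := fun n => A.pow_mem hx n
    let f : Option (E × Fin (p - 1)) → A := fun o =>
      match o with
      | none => 1
      | some (u, i) => ⟨(u : G) * x ^ (i.1 + 1) * (u : G)⁻¹, hAn u (hEL u.2) _ (hxpowA _)⟩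
    have hpow_ne : ∀ i : Fin (p - 1), x ^ (i.1 + 1) ≠ 1 := by
      intro i h
      have h2 : orderOf x ∣ i.1 + 1 := orderOf_dvd_of_pow_eq_one h
      rw [hxo] at h2
      have := Nat.le_of_dvd (Nat.succ_pos _) h2
      have := i.2
      omega
    have hf : Function.Injective f := by
      intro o₁ o₂ h
      rcases o₁ with _ | ⟨u, i⟩ <;> rcases o₂ with _ | ⟨u', i'⟩
      · rfl
      · exfalso
        have h2 : (1 : G) = (u' : G) * x ^ (i'.1 + 1) * (u' : G)⁻¹ := congrArg Subtype.val h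
        apply hpow_ne i'
        calc x ^ (i'.1 + 1) = (u' : G)⁻¹ * ((u' : G) * x ^ (i'.1 + 1) * (u' : G)⁻¹) * u' := by group
          _ = 1 := by rw [← h2]; group
      · exfalso
        have h2 : (u : G) * x ^ (i.1 + 1) * (u : G)⁻¹ = 1 := congrArg Subtype.val h
        apply hpow_ne i
        calc x ^ (i.1 + 1) = (u : G)⁻¹ * ((u : G) * x ^ (i.1 + 1) * (u : G)⁻¹) * u := by group
          _ = 1 := by rw [h2]; group
      · have h2 : (u : G) * x ^ (i.1 + 1) * (u : G)⁻¹ = (u' : G) * x ^ (i'.1 + 1) * (u' : G)⁻¹ :=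
          congrArg Subtype.val h
        -- w = u'⁻¹ u
        set w : G := (u' : G)⁻¹ * u with hw
        have hwE : w ∈ E := E.mul_mem (E.inv_mem u'.2) u.2
        have h3 : w * x ^ (i.1 + 1) * w⁻¹ = x ^ (i'.1 + 1) := by
          calc w * x ^ (i.1 + 1) * w⁻¹
              = (u' : G)⁻¹ * ((u : G) * x ^ (i.1 + 1) * (u : G)⁻¹) * u' := by rw [hw]; group
            _ = x ^ (i'.1 + 1) := by rw [h2]; group
        have hcop : (i.1 + 1).Coprime (orderOf x) := by
          rw [hxo]
          apply Nat.Coprime.symm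
          rw [Nat.Prime.coprime_iff_not_dvd hp]
          intro hd
          have := Nat.le_of_dvd (Nat.succ_pos _) hd
          have := i.2
          omega
        obtain ⟨m, hm⟩ := exists_pow_eq_self_of_coprime hcop
        have h4 : w * x * w⁻¹ = (x ^ (i'.1 + 1)) ^ m := by
          rw [← h3]
          have : (w * x ^ (i.1 + 1) * w⁻¹) ^ m = w * (x ^ (i.1 + 1)) ^ m * w⁻¹ := by
            rw [conj_pow]
          rw [this, hm]
        have hwM : w ∈ M := by
          apply hN
          rw [h4, ← pow_mul]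
          exact Subgroup.npow_mem_zpowers x _
        have hwH : w ∈ H := hML ⟨hwM, hEL hwE⟩
        have hw1 : w = 1 := by
          have : w ∈ H ⊓ E := ⟨hwH, hwE⟩
          rw [hHE] at this
          exact this
        have huu : u = u' := by
          apply Subtype.ext
          have : (u : G) = (u' : G) * w := by rw [hw]; group
          rw [this, hw1, mul_one]
        subst huu
        have h5 : x ^ (i.1 + 1) = x ^ (i'.1 + 1) := by
          calc x ^ (i.1 + 1) = (u : G)⁻¹ * ((u : G) * x ^ (i.1 + 1) * (u : G)⁻¹) * u := by group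
            _ = x ^ (i'.1 + 1) := by rw [h2]; group
        have h6 : i.1 + 1 = i'.1 + 1 := by
          have hi := i.2
          have hi' := i'.2
          have := (pow_eq_pow_iff_modEq.mp h5)
          rw [hxo] at this
          exact Nat.ModEq.eq_of_lt_of_lt this (by omega) (by omega)
        have : i = i' := Fin.ext (by omega)
        rw [this]
    have hcard := Fintype.card_le_of_injective f hf
    rw [Fintype.card_option, Fintype.card_prod, Fintype.card_fin, ← Nat.card_eq_fintype_card,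
      ← Nat.card_eq_fintype_card, hAc] at hcard
    exact idx_arith_two hp hpodd heodd h1 hcard

end Cfsg.Agent.Lib.Helper51.PF12G
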