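/-
helper51: Peterfalvi sec.13/14, case (a) of helper52's #3714 (complement `W₁` impossible):
the carrier-free arithmetic.
-/
import Mathlib

set_option autoImplicit false

namespace Cfsg.Agent.Lib.Helper51.PF14

/-- **(LB-arith)** the bridge inequality forces `(e, f) = (1, 0)` when `q < p - 1`. -/
theorem bridge_arith (p q : ℕ) (hq : 3 ≤ q) (hpq : q + 2 ≤ p) (e f : ℤ)
    (h : 1 + ((q : ℤ) - 1) * e ^ 2 + ((p : ℤ) - 1) * f ^ 2 +
      ((p : ℤ) - 1) * ((q : ℤ) - 1) * (e + f - 1) ^ 2 ≤ (q : ℤ) + 1) : e = 1 ∧ f = 0 := by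
  have hq' : (3 : ℤ) ≤ q := by exact_mod_cast hq
  have hp' : (q : ℤ) + 2 ≤ p := by exact_mod_cast hpq
  have h1 : 0 ≤ ((q : ℤ) - 1) * e ^ 2 := mul_nonneg (by linarith) (sq_nonneg _)
  have h2 : 0 ≤ ((p : ℤ) - 1) * f ^ 2 := mul_nonneg (by linarith) (sq_nonneg _)
  have hpq1 : 0 ≤ ((p : ℤ) - 1) * ((q : ℤ) - 1) := mul_nonneg (by linarith) (by linarith)
  have h3 : 0 ≤ ((p : ℤ) - 1) * ((q : ℤ) - 1) * (e + f - 1) ^ 2 := mul_nonneg hpq1 (sq_nonneg _)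
  have hf : f = 0 := by
    by_contra hne
    have : 1 ≤ f ^ 2 := by
      have : 0 < f ^ 2 := by positivity
      linarith
    have : ((p : ℤ) - 1) * 1 ≤ ((p : ℤ) - 1) * f ^ 2 :=
      mul_le_mul_of_nonneg_left this (by linarith)
    linarith
  subst hf
  refine ⟨?_, rfl⟩
  by_contra hne
  have hne' : e - 1 ≠ 0 := sub_ne_zero.mpr hne
  have : 1 ≤ (e + 0 - 1) ^ 2 := by
    have : 0 < (e - 1) ^ 2 := by positivity
    have e0 : (e + 0 - 1) = e - 1 := by ring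
    rw [e0]; linarith
  have h4 : ((p : ℤ) - 1) * ((q : ℤ) - 1) * 1 ≤ ((p : ℤ) - 1) * ((q : ℤ) - 1) * (e + 0 - 1) ^ 2 :=
    mul_le_mul_of_nonneg_left this hpq1
  have h5 : ((q : ℤ) + 1) * 2 ≤ ((p : ℤ) - 1) * ((q : ℤ) - 1) := by
    have : ((q : ℤ) + 1) * ((q : ℤ) - 1) ≤ ((p : ℤ) - 1) * ((q : ℤ) - 1) :=
      mul_le_mul_of_nonneg_right (by linarith) (by linarith)
    nlinarith
  nlinarith

/-- the constant `m = 2 - (v+1)/q^(p-1)` of (13.10) is at least `40/81`: in integer form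
`81 (v + 1) ≤ 122 q^(p-1)`. -/
theorem m_bound (p q v : ℕ) (hq : 3 ≤ q) (hp : 5 ≤ p) (hv : v * (q - 1) = q ^ p - 1) :
    81 * (v + 1) ≤ 122 * q ^ (p - 1) := by
  obtain ⟨k, rfl⟩ : ∃ k, p = k + 1 := ⟨p - 1, by omega⟩
  simp only [Nat.add_sub_cancel] at *
  set X := q ^ k with hX
  have hX81 : 81 ≤ X := by
    have h1 : q ^ 4 ≤ q ^ k := Nat.pow_le_pow_right (by omega) (by omega)
    have h2 : 3 ^ 4 ≤ q ^ 4 := Nat.pow_le_pow_left hq 4
    have : (3 : ℕ) ^ 4 = 81 := by norm_num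
    omega
  have hqX : q ^ (k + 1) = q * X := by rw [pow_succ, mul_comm]
  rw [hqX] at hv
  obtain ⟨r, rfl⟩ : ∃ r, q = r + 3 := ⟨q - 3, by omega⟩
  have hv' : v * (r + 2) + 1 = (r + 3) * X := by
    have h1 : 1 ≤ (r + 3) * X := by nlinarith
    have : r + 3 - 1 = r + 2 := by omega
    rw [this] at hv
    omega
  -- 81 (v+1)(r+2) ≤ 122 X (r+2)
  have key : 81 * (v + 1) * (r + 2) ≤ 122 * X * (r + 2) := by
    have e1 : 81 * (v + 1) * (r + 2) = 81 * (v * (r + 2) + 1) + 81 * (r + 1) := by ring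
    rw [e1, hv']
    nlinarith
  exact Nat.le_of_mul_le_mul_right key (by omega)

/-- **(LC-arith)** `2/(q h) ≥ m/(p q)` with `m = 2 - (v+1)/q^(p-1)`, `v (q-1) = q^p - 1`,
`h ≥ p² + p + 1`, `3 ≤ q`, `5 ≤ p` is impossible.  Integer form of the hypothesis:
`(2 q^(p-1) - (v+1)) h ≤ 2 p q^(p-1)`. -/
theorem lc_arith (p q v h : ℕ) (hq : 3 ≤ q) (hp : 5 ≤ p) (hv : v * (q - 1) = q ^ p - 1)
    (hh : p ^ 2 + p + 1 ≤ h)
    (hineq : (2 * q ^ (p - 1) - (v + 1)) * h ≤ 2 * p * q ^ (p - 1)) : False := by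
  have hm := m_bound p q v hq hp hv
  set X := q ^ (p - 1) with hX
  have hXpos : 0 < X := by positivity
  -- 40 X ≤ 81 (2X - (v+1))
  have h1 : 40 * X ≤ 81 * (2 * X - (v + 1)) := by omega
  -- 40 X h ≤ 81 * 2 p X
  have h2 : 40 * X * h ≤ 81 * (2 * p * X) := by
    calc 40 * X * h ≤ 81 * (2 * X - (v + 1)) * h := Nat.mul_le_mul_right h h1
      _ = 81 * ((2 * X - (v + 1)) * h) := by ring
      _ ≤ 81 * (2 * p * X) := Nat.mul_le_mul_left 81 hineq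
  have h3 : 40 * h ≤ 162 * p := by
    have : (40 * h) * X ≤ (162 * p) * X := by
      calc (40 * h) * X = 40 * X * h := by ring
        _ ≤ 81 * (2 * p * X) := h2
        _ = (162 * p) * X := by ring
    exact Nat.le_of_mul_le_mul_right this hXpos
  nlinarith

end Cfsg.Agent.Lib.Helper51.PF14
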