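/-
helper51: project PGV (S3086, owner helper26), sub-project RED (helper41's sheet
`Lib/Helper41/PGV/RED_SHEET1.lean.txt`), leaf **[RED-Q]** in `_of` form (hedge):
hypotheses = the sheet statements of `quad2_rep`, `components_commute`,
`component_not_pgroup_mod_center`.
-/
import Mathlib
import Cfsg.Prelude.Def_Local
import Cfsg.Prelude.Def_Transfer
import Cfsg.Agent.Lib.Helper41.PGV.Defs
import Cfsg.Agent.Lib.Helper22.Components

set_option autoImplicit false

universe v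

namespace Cfsg.Agent.Lib.Helper51.PGV

open Cfsg Cfsg.Agent.Lib.Helper41.PGV

section general

variable {G : Type*} [Group G]

/-- For a finite group, one inclusion suffices for membership in the normalizer. -/
theorem mem_normalizer_of_conj_mem [Finite G] (H : Subgroup G) {g : G}
    (h : ∀ x ∈ H, g * x * g⁻¹ ∈ H) : g ∈ Subgroup.normalizer (H : Set G) := by
  rw [Subgroup.mem_normalizer_iff]
  intro x
  refine ⟨h x, fun hx => ?_⟩
  let f : ↥H → ↥H := fun y => ⟨g * y.1 * g⁻¹, h y.1 y.2⟩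
  have hf : Function.Injective f := by
    intro y z hyz
    have h1 : g * y.1 * g⁻¹ = g * z.1 * g⁻¹ := congrArg Subtype.val hyz
    apply Subtype.ext
    have h2 : g * y.1 = g * z.1 := mul_right_cancel h1
    exact mul_left_cancel h2
  obtain ⟨y, hy⟩ := (Finite.injective_iff_surjective.mp hf) ⟨g * x * g⁻¹, hx⟩
  have h1 : g * y.1 * g⁻¹ = g * x * g⁻¹ := congrArg Subtype.val hy
  have h2 : y.1 = x := mul_left_cancel (mul_right_cancel h1)
  rw [← h2]; exact y.2

theorem conj_mem_map_conj {K : Subgroup G} (g : G) {x : G} (hx : x ∈ K) :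
    g * x * g⁻¹ ∈ K.map (MulAut.conj g).toMonoidHom :=
  ⟨x, hx, by simp [MulAut.conj_apply]⟩

theorem exists_of_mem_map_conj {K : Subgroup G} {g y : G}
    (hy : y ∈ K.map (MulAut.conj g).toMonoidHom) : ∃ x ∈ K, y = g * x * g⁻¹ := by
  obtain ⟨x, hx, rfl⟩ := hy
  exact ⟨x, hx, by simp [MulAut.conj_apply]⟩

/-- equal conjugates: the quotient normalizes -/
theorem mem_normalizer_of_map_conj_eq [Finite G] {K : Subgroup G} {g h : G}
    (he : K.map (MulAut.conj g).toMonoidHom = K.map (MulAut.conj h).toMonoidHom) :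
    h⁻¹ * g ∈ Subgroup.normalizer (K : Set G) := by
  apply mem_normalizer_of_conj_mem
  intro x hx
  have h1 : g * x * g⁻¹ ∈ K.map (MulAut.conj h).toMonoidHom := he ▸ conj_mem_map_conj g hx
  obtain ⟨x', hx', hxx'⟩ := exists_of_mem_map_conj h1
  have : h⁻¹ * g * x * (h⁻¹ * g)⁻¹ = x' := by
    have : h⁻¹ * g * x * (h⁻¹ * g)⁻¹ = h⁻¹ * (g * x * g⁻¹) * h := by group
    rw [this, hxx']; group
  rw [this]; exact hx'

theorem mem_normalizer_of_map_conj_eq_self [Finite G] {K : Subgroup G} {g : G}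
    (he : K.map (MulAut.conj g).toMonoidHom = K) :
    g ∈ Subgroup.normalizer (K : Set G) := by
  apply mem_normalizer_of_conj_mem
  intro x hx
  have h1 : g * x * g⁻¹ ∈ K.map (MulAut.conj g).toMonoidHom := conj_mem_map_conj g hx
  rwa [he] at h1

/-- powers in `X⟨g⟩` -/
theorem exists_mul_pow_eq {X : Subgroup G} {g : G} (hg : g ∈ Subgroup.normalizer (X : Set G))
    {x : G} (hx : x ∈ X) (n : ℕ) : ∃ x' ∈ X, (x * g) ^ n = x' * g ^ n := by
  induction n with
  | zero => exact ⟨1, one_mem _, by simp⟩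
  | succ n ih =>
    obtain ⟨x', hx', h⟩ := ih
    have hgn : g ^ n ∈ Subgroup.normalizer (X : Set G) := pow_mem hg n
    refine ⟨x' * (g ^ n * x * (g ^ n)⁻¹), mul_mem hx' ((Subgroup.mem_normalizer_iff.1 hgn x).1 hx), ?_⟩
    rw [pow_succ, h, pow_succ]; group

/-- a pairwise commuting set generates a commutative subgroup -/
theorem comm_of_mem_closure {S : Set G} (hS : ∀ u ∈ S, ∀ w ∈ S, u * w = w * u)
    {u w : G} (hu : u ∈ Subgroup.closure S) (hw : w ∈ Subgroup.closure S) : u * w = w * u := by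
  have h1 : Subgroup.closure S ≤ Subgroup.centralizer S := by
    rw [Subgroup.closure_le]
    intro u hu
    exact Subgroup.mem_centralizer_iff.2 fun w hw => hS w hw u hu
  have h2 : Subgroup.closure S ≤ Subgroup.centralizer (Subgroup.closure S : Set G) := by
    rw [Subgroup.closure_le]
    intro u hu
    exact Subgroup.mem_centralizer_iff.2 fun w hw =>
      (Subgroup.mem_centralizer_iff.1 (h1 hw) u hu).symm
  exact (Subgroup.mem_centralizer_iff.1 (h2 hw) u hu)

/-- `2`-elements of `X⟨q⟩`, `q^p = 1`, `p` odd, lie in `X`. -/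
theorem mem_of_two_elt [Finite G] {p : ℕ} (hp : p.Prime) (hp2 : p ≠ 2) {X : Subgroup G} {q : G}
    (hXq : ∀ u ∈ X, q * u * q⁻¹ ∈ X) (hqp : q ^ p = 1) {t : G}
    (ht : ∃ x' ∈ X, ∃ k : ℤ, t = x' * q ^ k) (h2 : ∃ m : ℕ, t ^ (2 ^ m) = 1) : t ∈ X := by
  have hqN : q ∈ Subgroup.normalizer (X : Set G) := mem_normalizer_of_conj_mem X hXq
  obtain ⟨x', hx', k, rfl⟩ := ht
  obtain ⟨m, hm⟩ := h2
  obtain ⟨x'', hx'', h⟩ := exists_mul_pow_eq (zpow_mem hqN k) hx' p
  have h1 : (q ^ k) ^ p = 1 := by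
    rw [← zpow_natCast, ← zpow_mul, mul_comm, zpow_mul, zpow_natCast, hqp, one_zpow]
  rw [h1, mul_one] at h
  have hcop : p.Coprime (orderOf (x' * q ^ k)) := by
    have hd : orderOf (x' * q ^ k) ∣ 2 ^ m := orderOf_dvd_of_pow_eq_one hm
    exact Nat.Coprime.coprime_dvd_right hd
      (((Nat.coprime_primes hp Nat.prime_two).2 hp2).pow_right m)
  obtain ⟨m', hm'⟩ := exists_pow_eq_self_of_coprime hcop
  rw [← hm', h]
  exact pow_mem hx'' m'

/-- the set `X⟨q⟩` as a subgroup -/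
def mulZpowers [Finite G] (X : Subgroup G) (q : G) (hXq : ∀ u ∈ X, q * u * q⁻¹ ∈ X) : Subgroup G where
  carrier := {t | ∃ x' ∈ X, ∃ k : ℤ, t = x' * q ^ k}
  one_mem' := ⟨1, one_mem _, 0, by simp⟩
  mul_mem' := by
    rintro _ _ ⟨x1, hx1, k1, rfl⟩ ⟨x2, hx2, k2, rfl⟩
    have hqN : q ^ k1 ∈ Subgroup.normalizer (X : Set G) :=
      zpow_mem (mem_normalizer_of_conj_mem X hXq) k1
    refine ⟨x1 * (q ^ k1 * x2 * (q ^ k1)⁻¹),
      mul_mem hx1 ((Subgroup.mem_normalizer_iff.1 hqN x2).1 hx2), k1 + k2, ?_⟩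
    rw [zpow_add]; group
  inv_mem' := by
    rintro _ ⟨x1, hx1, k1, rfl⟩
    have hqN : q ^ (-k1) ∈ Subgroup.normalizer (X : Set G) :=
      zpow_mem (mem_normalizer_of_conj_mem X hXq) (-k1)
    refine ⟨q ^ (-k1) * x1⁻¹ * (q ^ (-k1))⁻¹,
      (Subgroup.mem_normalizer_iff.1 hqN x1⁻¹).1 (inv_mem hx1), -k1, ?_⟩
    group

end general

variable {p : ℕ} [Fact p.Prime] {G V : Type v} [Group G] [Finite G] [AddCommGroup V] [Finite V]
  [Module (ZMod p) V] {ρ : Representation (ZMod p) G V} {A K1 : Subgroup G} {a : G}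

/-- **[RED-Q]** in `_of` form: `p` odd, every `A`-quadratic `q ∈ A` normalizes `K1`.
Hypotheses `hquad2`, `hdistinct`, `hnp` are the sheet statements of `quad2_rep` (with `hp`, `hinj`
applied), `components_commute` and `component_not_pgroup_mod_center`. -/
theorem red_Q_of (hp : p ≠ 2) (h : CE ρ A K1 a)
    (hquad2 : ∀ x y : G, (ρ x - 1) * (ρ x - 1) = 0 → (ρ y - 1) * (ρ y - 1) = 0 →
      (∀ T : Sylow 2 (Subgroup.closure ({x, y} : Set G)), IsMulCommutative T) →
      IsPGroup p (Subgroup.closure ({x, y} : Set G)))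
    (hdistinct : ∀ {L M : Subgroup G}, IsComponent L → IsComponent M → L ≠ M →
      ∀ x ∈ L, ∀ y ∈ M, x * y = y * x)
    (hnp : ∀ {L : Subgroup G}, IsComponent L →
      (∀ x ∈ L, ∃ k : ℕ, ∀ y ∈ L, x ^ (p ^ k) * y = y * x ^ (p ^ k)) → False)
    (q : G) (hqA : q ∈ A) (hquad : QuadOn ρ A q) :
    q ∈ Subgroup.normalizer (K1 : Set G) := by
  classical
  by_contra hqN
  have pprime : p.Prime := Fact.out
  have hqp : q ^ p = 1 := h.el.2 q hqA
  have hquadq : (ρ q - 1) * (ρ q - 1) = 0 := hquad q hqA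
  -- if `q^n` normalizes `K1` then `p ∣ n`
  have key : ∀ n : ℤ, q ^ n ∈ Subgroup.normalizer (K1 : Set G) → (p : ℤ) ∣ n := by
    intro n hn
    by_contra hnd
    have hcop : IsCoprime (p : ℤ) n :=
      (Nat.prime_iff_prime_int.1 pprime).coprime_iff_not_dvd.2 hnd
    obtain ⟨u, w, huw⟩ := hcop
    have hq : q = (q ^ (p : ℤ)) ^ u * (q ^ n) ^ w := by
      rw [← zpow_mul, ← zpow_mul, ← zpow_add, mul_comm (p : ℤ) u, mul_comm n w, huw, zpow_one]
    apply hqN
    rw [hq]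
    refine mul_mem ?_ (zpow_mem hn w)
    rw [zpow_natCast, hqp, one_zpow]
    exact one_mem _
  have hcomp : ∀ g : G, IsComponent (K1.map (MulAut.conj g).toMonoidHom) :=
    fun g => Cfsg.Agent.Lib.Helper22.component_conj h.comp g
  -- the conjugates of a fixed `x ∈ K1` under `⟨q⟩` commute pairwise
  have hpair : ∀ x ∈ K1, ∀ i j : ℤ,
      (q ^ i * x * (q ^ i)⁻¹) * (q ^ j * x * (q ^ j)⁻¹) =
        (q ^ j * x * (q ^ j)⁻¹) * (q ^ i * x * (q ^ i)⁻¹) := by
    intro x hx i j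
    by_cases he : K1.map (MulAut.conj (q ^ i)).toMonoidHom = K1.map (MulAut.conj (q ^ j)).toMonoidHom
    · have h1 := mem_normalizer_of_map_conj_eq he
      rw [← zpow_neg, ← zpow_add] at h1
      obtain ⟨c, hc⟩ := key _ h1
      have : q ^ i = q ^ j := by
        have h2 : q ^ (-j + i) = 1 := by
          rw [hc, zpow_mul, zpow_natCast, hqp, one_zpow]
        have h3 : q ^ i = q ^ j * q ^ (-j + i) := by rw [← zpow_add]; congr 1; ring
        rw [h3, h2, mul_one]
      rw [this]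
    · exact hdistinct (hcomp _) (hcomp _) he _ (conj_mem_map_conj _ hx) _ (conj_mem_map_conj _ hx)
  have hne : K1.map (MulAut.conj q⁻¹).toMonoidHom ≠ K1 := by
    intro he
    have := mem_normalizer_of_map_conj_eq_self he
    exact hqN (by simpa using inv_mem this)
  apply hnp h.comp
  intro x hx
  -- the abelian group `X`
  set S : Set G := Set.range fun i : ℤ => q ^ i * x * (q ^ i)⁻¹ with hS
  have hScomm : ∀ u ∈ S, ∀ w ∈ S, u * w = w * u := by
    rintro _ ⟨i, rfl⟩ _ ⟨j, rfl⟩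
    exact hpair x hx i j
  set X : Subgroup G := Subgroup.closure S with hX
  have hxX : x ∈ X := Subgroup.subset_closure ⟨0, by simp⟩
  have hXq : ∀ u ∈ X, q * u * q⁻¹ ∈ X := by
    have : X ≤ X.comap (MulAut.conj q).toMonoidHom := by
      rw [hX, Subgroup.closure_le]
      rintro _ ⟨i, rfl⟩
      show (MulAut.conj q) (q ^ i * x * (q ^ i)⁻¹) ∈ X
      rw [MulAut.conj_apply]
      apply Subgroup.subset_closure
      refine ⟨i + 1, ?_⟩
      show q ^ (i + 1) * x * (q ^ (i + 1))⁻¹ = q * (q ^ i * x * (q ^ i)⁻¹) * q⁻¹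
      rw [zpow_add, zpow_one]; group
    intro u hu
    have h1 : (MulAut.conj q) u ∈ X := this hu
    rwa [MulAut.conj_apply] at h1
  set s : G := x * q * x⁻¹ with hs
  have hxx : ρ x⁻¹ * ρ x = 1 := by rw [← map_mul, inv_mul_cancel, map_one]
  have hxx' : ρ x * ρ x⁻¹ = 1 := by rw [← map_mul, mul_inv_cancel, map_one]
  have e : ρ s - 1 = ρ x * (ρ q - 1) * ρ x⁻¹ := by
    rw [hs, map_mul, map_mul, mul_sub, sub_mul, mul_one, hxx']
  have hquads : (ρ s - 1) * (ρ s - 1) = 0 := by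
    rw [e, show ρ x * (ρ q - 1) * ρ x⁻¹ * (ρ x * (ρ q - 1) * ρ x⁻¹) =
      ρ x * ((ρ q - 1) * (ρ x⁻¹ * ρ x) * (ρ q - 1)) * ρ x⁻¹ by simp only [mul_assoc],
      hxx, mul_one, hquadq, mul_zero, zero_mul]
  -- `H ≤ X⟨q⟩`
  have hHP : Subgroup.closure ({q, s} : Set G) ≤ mulZpowers X q hXq := by
    rw [Subgroup.closure_le]
    intro t ht
    rcases ht with rfl | ht
    · exact ⟨1, one_mem _, 1, by simp⟩
    · rw [Set.mem_singleton_iff] at ht
      refine ⟨x * (q * x⁻¹ * q⁻¹), mul_mem hxX (hXq _ (inv_mem hxX)), 1, ?_⟩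
      rw [ht, hs, zpow_one]; group
  have h2mem : ∀ t ∈ Subgroup.closure ({q, s} : Set G), (∃ m : ℕ, t ^ (2 ^ m) = 1) → t ∈ X :=
    fun t ht h2 => mem_of_two_elt pprime hp hXq hqp (hHP ht) h2
  have hSyl : ∀ T : Sylow 2 (Subgroup.closure ({q, s} : Set G)), IsMulCommutative T := by
    intro T
    have hmem : ∀ t : ↥(T : Subgroup (Subgroup.closure ({q, s} : Set G))), (t.1.1 : G) ∈ X := by
      intro t
      apply h2mem _ t.1.2
      obtain ⟨m, hm⟩ := T.isPGroup' t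
      refine ⟨m, ?_⟩
      have := congrArg (fun z : ↥(T : Subgroup (Subgroup.closure ({q, s} : Set G))) => (z.1.1 : G)) hm
      simpa using this
    refine ⟨⟨fun t u => ?_⟩⟩
    apply Subtype.ext
    apply Subtype.ext
    show t.1.1 * u.1.1 = u.1.1 * t.1.1
    exact comm_of_mem_closure hScomm (hmem t) (hmem u)
  have hPG := hquad2 q s hquadq hquads hSyl
  have hgH : q⁻¹ * s ∈ Subgroup.closure ({q, s} : Set G) :=
    mul_mem (inv_mem (Subgroup.subset_closure (by simp))) (Subgroup.subset_closure (by simp))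
  obtain ⟨k, hk⟩ := hPG ⟨q⁻¹ * s, hgH⟩
  have hk' : (q⁻¹ * s) ^ (p ^ k) = 1 := by
    have := congrArg Subtype.val hk
    simpa using this
  refine ⟨k, ?_⟩
  -- `q⁻¹ s = y x⁻¹` with `y = q⁻¹ x q ∈ K1^{q⁻¹}`
  set y : G := q⁻¹ * x * q⁻¹⁻¹ with hy
  have hyK : y ∈ K1.map (MulAut.conj q⁻¹).toMonoidHom := conj_mem_map_conj _ hx
  have hycomm : ∀ z ∈ K1, y * z = z * y := fun z hz => hdistinct (hcomp _) h.comp hne y hyK z hz
  have hg : q⁻¹ * s = y * x⁻¹ := by rw [hs, hy]; group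
  have hyx : Commute y x⁻¹ := hycomm x⁻¹ (inv_mem hx)
  rw [hg, hyx.mul_pow, inv_pow, mul_inv_eq_one] at hk'
  intro z hz
  rw [← hk']
  have hypow : y ^ (p ^ k) ∈ K1.map (MulAut.conj q⁻¹).toMonoidHom := pow_mem hyK _
  exact hdistinct (hcomp _) h.comp hne _ hypow z hz

end Cfsg.Agent.Lib.Helper51.PGV
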