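/-
helper51: project PGV (S3086, owner helper26), sub-project RED (helper41's sheet
`Lib/Helper41/PGV/RED_SHEET1.lean.txt`), leaf **[RED-Q]**, EXACT sheet statement, assembled from
`red_Q_of` (Lib/Helper51/PgvRedQ.lean), `quad2_rep` (helper66), `components_commute` (helper95),
`component_not_pgroup_mod_center` (helper52).
-/
import Mathlib
import Cfsg.Prelude.Def_Local
import Cfsg.Prelude.Def_Transfer
import Cfsg.Agent.Lib.Helper41.PGV.Defs
import Cfsg.Agent.Lib.Helper51.PgvRedQ
import Cfsg.Agent.Lib.Helper52.PgvT5PGroup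
import Cfsg.Agent.Lib.Helper66.PgvQuad2Rep
import Cfsg.Agent.Lib.Helper95.PgvT5

set_option autoImplicit false

universe v

namespace Cfsg.Agent.Lib.Helper51.PGV

open Cfsg Cfsg.Agent.Lib.Helper41.PGV

variable {p : ℕ} [Fact p.Prime] {G V : Type v} [Group G] [Finite G] [AddCommGroup V] [Finite V]
  [Module (ZMod p) V] {ρ : Representation (ZMod p) G V} {A K1 : Subgroup G} {a : G}

/-- **[RED-Q]** (exact sheet statement) `p` odd: every `A`-quadratic `q ∈ A` normalizes `K1`. -/
theorem red_Q (hp : p ≠ 2) (h : CE ρ A K1 a) (q : G) (hqA : q ∈ A) (hquad : QuadOn ρ A q) :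
    q ∈ Subgroup.normalizer (K1 : Set G) :=
  red_Q_of hp h
    (fun x y hx hy hS => Cfsg.Agent.Lib.Helper66.PGV.quad2_rep hp h.inj x y hx hy hS)
    (fun hL hM hne => Cfsg.Agent.Lib.Helper41.PGV.components_commute hL hM hne)
    (fun hL hh => Cfsg.Agent.Lib.Helper52.PGV.component_not_pgroup_mod_center (p := p) hL hh)
    q hqA hquad

end Cfsg.Agent.Lib.Helper51.PGV
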