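/-
helper51: project PGV (S3086, owner helper26), the interface RED -> END2 in REPRESENTATION form:
helper41's **[END2-REP]** `end2_rep` (RED_SHEET2, consumed by EVEN-ASM) from helper26's `end2_abs`
(END2 sheet), in `_of` form: `End2Hyp` = the hypotheses of `end2_rep`, `End2Hyp.toCfg` = the `Cfg`
of the END2 sheet, `end2_rep_of` = the exact statement of `end2_rep` with the statement of `end2_abs`
(at `G0`, `W`) as hypothesis.
-/
import Mathlib
import Cfsg.Prelude.Def_Local
import Cfsg.Prelude.Def_Transfer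
import Cfsg.Agent.Lib.Helper41.PGV.Defs
import Cfsg.Agent.Lib.Helper41.PGV.Defs2
import Cfsg.Agent.Lib.Helper26.PGV.End2Defs

set_option autoImplicit false
set_option linter.unusedSectionVars false

universe v

namespace Cfsg.Agent.Lib.Helper51.PGVReg

open Cfsg Cfsg.Agent.Lib.Helper41.PGV
open scoped commutatorElement

variable {G0 W : Type v} [Group G0] [Finite G0] [AddCommGroup W] [Module (ZMod 2) W] [Finite W]

/-- the hypotheses of `end2_rep` -/
structure End2Hyp (σ : Representation (ZMod 2) G0 W) (K1 B : Subgroup G0) (a : G0) : Prop where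
  irr : Irred σ
  gen : K1 ⊔ cj K1 a ⊔ B ⊔ Subgroup.zpowers a = ⊤
  ha : a * a = 1
  qs : IsQuasisimple K1
  nt : ¬ ∀ x ∈ K1, σ x = 1
  comm : ∀ x ∈ K1, ∀ y ∈ K1, x * (a * y * a⁻¹) = (a * y * a⁻¹) * x
  hB : IsElementaryAbelian 2 B
  BN : ∀ b ∈ B, ∀ x ∈ K1, b * x * b⁻¹ ∈ K1
  Ba : ∀ b ∈ B, b * a = a * b
  Bf : ∀ b ∈ B, (∀ x ∈ K1, σ (b * x * b⁻¹) = σ x) → b = 1
  HD : ∀ x ∈ K1, (σ (x * (a * x * a⁻¹)) - 1) * (σ a - 1) = 0

variable {σ : Representation (ZMod 2) G0 W} {K1 B : Subgroup G0} {a : G0}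

namespace End2Hyp

theorem sa_mul_sa (h : End2Hyp σ K1 B a) : σ a * σ a = 1 := by
  rw [← map_mul, h.ha, map_one]

theorem sa_sa_apply (h : End2Hyp σ K1 B a) (w : W) : σ a (σ a w) = w := by
  have := LinearMap.congr_fun h.sa_mul_sa w
  simpa using this

theorem apply_inv_apply (g : G0) (w : W) : σ g⁻¹ (σ g w) = w := by
  rw [← Module.End.mul_apply, ← map_mul, inv_mul_cancel, map_one, Module.End.one_apply]

theorem apply_apply_inv (g : G0) (w : W) : σ g (σ g⁻¹ w) = w := by
  rw [← Module.End.mul_apply, ← map_mul, mul_inv_cancel, map_one, Module.End.one_apply]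

/-- a submodule invariant under the generators is `⊥` or `⊤` -/
theorem eq_bot_or_eq_top (h : End2Hyp σ K1 B a) (U : Submodule (ZMod 2) W)
    (hK : ∀ x ∈ K1, ∀ u ∈ U, σ x u ∈ U) (hKa : ∀ x ∈ K1, ∀ u ∈ U, σ (a * x * a⁻¹) u ∈ U)
    (hB : ∀ b ∈ B, ∀ u ∈ U, σ b u ∈ U) (ha : ∀ u ∈ U, σ a u ∈ U) : U = ⊥ ∨ U = ⊤ := by
  apply h.irr.2
  let S : Subgroup G0 :=
    { carrier := {g | ∀ u ∈ U, σ g u ∈ U}
      mul_mem' := by
        intro g g' hg hg' u hu
        rw [map_mul, Module.End.mul_apply]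
        exact hg _ (hg' u hu)
      one_mem' := by
        intro u hu
        rw [map_one, Module.End.one_apply]; exact hu
      inv_mem' := by
        intro g hg
        have hpow : ∀ n : ℕ, ∀ u ∈ U, σ (g ^ n) u ∈ U := by
          intro n
          induction n with
          | zero => intro u hu; rw [pow_zero, map_one, Module.End.one_apply]; exact hu
          | succ n ih =>
            intro u hu
            rw [pow_succ, map_mul, Module.End.mul_apply]
            exact ih _ (hg u hu)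
        have hinv : g⁻¹ = g ^ (orderOf g - 1) := by
          apply inv_eq_of_mul_eq_one_left
          rw [← pow_succ, Nat.sub_add_cancel (orderOf_pos g), pow_orderOf_eq_one]
        show ∀ u ∈ U, σ g⁻¹ u ∈ U
        rw [hinv]
        exact hpow _ }
  have hS : S = ⊤ := by
    rw [eq_top_iff, ← h.gen]
    refine sup_le (sup_le (sup_le ?_ ?_) ?_) ?_
    · exact fun x hx => hK x hx
    · intro y hy
      obtain ⟨x, hx, rfl⟩ := mem_cj.1 hy
      exact hKa x hx
    · exact fun b hb => hB b hb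
    · rw [Subgroup.zpowers_le]
      exact ha
  intro g u hu
  have hg : g ∈ S := hS ▸ Subgroup.mem_top g
  exact hg u hu

/-- the `Cfg` of helper26's END2 sheet from the hypotheses of `end2_rep` -/
theorem toCfg (h : End2Hyp σ K1 B a) : Cfsg.Agent.Lib.Helper26.PGV.Cfg σ K1 B a where
  ha2 := h.ha
  hKqs := h.qs
  hcomm := h.comm
  hB2 := by
    intro b hb
    have := h.hB.2 b hb
    rwa [pow_two] at this
  hBa := h.Ba
  hBK := h.BN
  hBfaith := by
    intro b hb hc
    apply h.Bf b hb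
    intro x hx
    rw [hc x hx]
  hirr := by
    intro U hU
    have hainv : a⁻¹ = a := inv_eq_of_mul_eq_one_left h.ha
    refine h.eq_bot_or_eq_top U (fun x hx => hU x (Or.inl hx)) ?_ (fun b hb => hU b (Or.inr (Or.inl hb)))
      (hU a (Or.inr (Or.inr rfl)))
    intro x hx u hu
    rw [map_mul, map_mul, Module.End.mul_apply, Module.End.mul_apply]
    apply hU a (Or.inr (Or.inr rfl))
    apply hU x (Or.inl hx)
    rw [hainv]
    exact hU a (Or.inr (Or.inr rfl)) u hu
  hKnt := by
    by_contra hcon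
    push Not at hcon
    apply h.nt
    intro x hx
    apply LinearMap.ext
    intro w
    rw [Module.End.one_apply]
    exact hcon x hx w
  hHD := by
    intro x hx w
    have h1 := LinearMap.congr_fun (h.HD x hx) w
    simp only [Module.End.mul_apply, LinearMap.sub_apply, Module.End.one_apply,
      LinearMap.zero_apply, sub_eq_zero] at h1
    exact h1

end End2Hyp

/-- **[END2-REP]** (helper41's RED_SHEET2 interface, exact statement) in `_of` form: the hypothesis `habs`
is the statement of helper26's `end2_abs` at `(G0, W, σ, K1, B, a)`. -/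
theorem end2_rep_of
    (σ : Representation (ZMod 2) G0 W) (K1 B : Subgroup G0) (a : G0)
    (habs : Cfsg.Agent.Lib.Helper26.PGV.Cfg σ K1 B a →
      2 * Nat.card B * Nat.card {w : W // σ a w = w ∧ ∀ b ∈ B, σ b w = w} < Nat.card W)
    (hirr : Irred σ) (hgen : K1 ⊔ cj K1 a ⊔ B ⊔ Subgroup.zpowers a = ⊤) (ha : a * a = 1)
    (hqs : IsQuasisimple K1) (hnt : ¬ ∀ x ∈ K1, σ x = 1)
    (hcomm : ∀ x ∈ K1, ∀ y ∈ K1, x * (a * y * a⁻¹) = (a * y * a⁻¹) * x)
    (hB : IsElementaryAbelian 2 B) (hBN : ∀ b ∈ B, ∀ x ∈ K1, b * x * b⁻¹ ∈ K1) (hBa : ∀ b ∈ B, b * a = a * b)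
    (hBf : ∀ b ∈ B, (∀ x ∈ K1, σ (b * x * b⁻¹) = σ x) → b = 1)
    (hHD : ∀ x ∈ K1, (σ (x * (a * x * a⁻¹)) - 1) * (σ a - 1) = 0) :
    2 * Nat.card B * Nat.card (fix σ ((B : Set G0) ∪ {a})) < Nat.card W := by
  have h : End2Hyp σ K1 B a := ⟨hirr, hgen, ha, hqs, hnt, hcomm, hB, hBN, hBa, hBf, hHD⟩
  have h1 := habs h.toCfg
  have h2 : Nat.card (fix σ ((B : Set G0) ∪ {a})) = Nat.card {w : W // σ a w = w ∧ ∀ b ∈ B, σ b w = w} := by
    apply Nat.card_congr
    apply Equiv.subtypeEquivRight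
    intro w
    rw [mem_fix]
    constructor
    · intro hw
      exact ⟨hw a (Or.inr rfl), fun b hb => hw b (Or.inl hb)⟩
    · rintro ⟨hwa, hwB⟩ g hg
      rcases hg with hg | hg
      · exact hwB g hg
      · rw [Set.mem_singleton_iff] at hg
        rw [hg]; exact hwa
  rw [h2]
  exact h1

end Cfsg.Agent.Lib.Helper51.PGVReg
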