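/-
helper51: project PGV (S3086, owner helper26), sub-project END2 (sheet
`notes/helper26_END2_SHEET.lean.txt`), module **[REG-ASM]** in `_of` form: `end2_abs` from the
sheet statements of `exists_sigma`, `exists_beta` and `ring_thm` (taken as hypotheses), using
`exists_pt`, `ev_bijective` (Lib/Helper51/PgvRegEv.lean).
-/
import Mathlib
import Cfsg.Prelude.Def_Local
import Cfsg.Prelude.Def_Transfer
import Cfsg.Agent.Lib.Helper26.PGV.End2Defs
import Cfsg.Agent.Lib.Helper51.PgvRegEv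

set_option autoImplicit false
set_option linter.unusedSectionVars false

namespace Cfsg.Agent.Lib.Helper51.PGVReg

open Cfsg Cfsg.Agent.Lib.Helper26.PGV

universe u

variable {H : Type*} {W : Type u} [Group H] [AddCommGroup W] [Module (ZMod 2) W]
variable {r : Representation (ZMod 2) H W} {K B : Subgroup H} {a : H}

/-- the homomorphism `K → AA` -/
def toAA (r : Representation (ZMod 2) H W) (K : Subgroup H) : K →* AA r K where
  toFun x := ⟨r x.1, mem_AA_of_mem r K x.2⟩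
  map_one' := Subtype.ext (map_one r)
  map_mul' x y := Subtype.ext (map_mul r x.1 y.1)

theorem toAA_coe (x : K) : ((toAA r K x : AA r K) : Module.End (ZMod 2) W) = r x.1 := rfl

/-- the subgroup of units of `AA` coming from `K` -/
def Kt (r : Representation (ZMod 2) H W) (K : Subgroup H) : Subgroup (AA r K)ˣ :=
  (toAA r K).toHomUnits.range

theorem coe_toHomUnits (x : K) :
    ((((toAA r K).toHomUnits x : (AA r K)ˣ) : AA r K) : Module.End (ZMod 2) W) = r x.1 := by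
  rw [MonoidHom.coe_toHomUnits]; rfl

/-- `AA r K` is finite -/
theorem finite_AA [Finite W] (r : Representation (ZMod 2) H W) (K : Subgroup H) : Finite (AA r K) := by
  have : Finite (Module.End (ZMod 2) W) :=
    Finite.of_injective (fun f : Module.End (ZMod 2) W => (f : W → W)) DFunLike.coe_injective
  exact Subtype.finite

/-- `2 = 0` in `AA r K` -/
theorem two_eq_zero_AA (r : Representation (ZMod 2) H W) (K : Subgroup H) : (2 : AA r K) = 0 := by
  have h := ZModModule.add_self (1 : AA r K)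
  rwa [one_add_one_eq_two] at h

/-- **[REG-ASM]** in `_of` form. -/
theorem end2_abs_of [Finite H] [Finite W] (c : Cfg r K B a)
    (hsig : ∀ {m : W}, Pt r B a m → ∃ σ : AA r K →+ AA r K,
      (∀ ξ : AA r K, (σ ξ : Module.End (ZMod 2) W) m = r a ((ξ : Module.End (ZMod 2) W) m)) ∧
      (∀ ξ η, σ (ξ * η) = σ η * σ ξ) ∧ (∀ ξ, σ (σ ξ) = ξ) ∧
      (∀ ξ, ξ + σ ξ ∈ Subring.center (AA r K)) ∧
      (∀ x (hx : x ∈ K), σ ⟨r x, mem_AA_of_mem r K hx⟩ = ⟨r x⁻¹, mem_AA_of_mem r K (K.inv_mem hx)⟩))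
    (hbeta : ∀ {m : W}, Pt r B a m → ∃ β : B →* RingAut (AA r K), Function.Injective β ∧
      (∀ (b : B) (ξ : AA r K), ((β b ξ : AA r K) : Module.End (ZMod 2) W) = r b * ξ * r (b : H)⁻¹) ∧
      (∀ (b : B) (ξ : AA r K), ((β b ξ : AA r K) : Module.End (ZMod 2) W) m = r b ((ξ : Module.End (ZMod 2) W) m)))
    (hring : ∀ (σ : AA r K →+ AA r K), (∀ x y, σ (x * y) = σ y * σ x) → (∀ x, σ (σ x) = x) →
      (∀ x, x + σ x ∈ Subring.center (AA r K)) →
      ∀ (K' : Subgroup (AA r K)ˣ), AddSubgroup.closure {x : AA r K | ∃ u ∈ K', (u : AA r K) = x} = ⊤ →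
      (∀ u ∈ K', σ (u : AA r K) = ((u⁻¹ : (AA r K)ˣ) : AA r K)) →
      ⁅K', K'⁆ = K' → K' ≠ ⊥ →
      ∀ (B' : Subgroup (RingAut (AA r K))), (∀ b ∈ B', b * b = 1) →
      (∀ b ∈ B', ∀ x, b (σ x) = σ (b x)) →
      (∀ b ∈ B', ∀ u ∈ K', ∃ u' ∈ K', (u' : AA r K) = b (u : AA r K)) →
      (∀ I : AddSubgroup (AA r K), IsTwoSided I → (∀ x ∈ I, σ x ∈ I) →
        (∀ b ∈ B', ∀ x ∈ I, b x ∈ I) → I = ⊥ ∨ I = ⊤) →
      2 * Nat.card B' * Nat.card {x : AA r K // σ x = x ∧ ∀ b ∈ B', b x = x} < Nat.card (AA r K)) :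
    2 * Nat.card B * Nat.card {w : W // r a w = w ∧ ∀ b ∈ B, r b w = w} < Nat.card W := by
  classical
  obtain ⟨m, hm⟩ := exists_pt' c
  obtain ⟨σ, hσm, hσmul, hσσ, hT, hσK⟩ := hsig hm
  obtain ⟨β, hβinj, hβconj, hβm⟩ := hbeta hm
  have hev := ev_bijective' c hm
  have hinj : ∀ ξ η : AA r K, (ξ : Module.End (ZMod 2) W) m = (η : Module.End (ZMod 2) W) m → ξ = η :=
    fun ξ η h => hev.1 h
  -- the data for `ring_thm`
  have hKspan : AddSubgroup.closure {x : AA r K | ∃ u ∈ Kt r K, (u : AA r K) = x} = ⊤ := by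
    rw [eq_top_iff]
    rintro ⟨ξ, hξ⟩ -
    have key : ∀ h : ξ ∈ AA r K,
        (⟨ξ, h⟩ : AA r K) ∈ AddSubgroup.closure {x : AA r K | ∃ u ∈ Kt r K, (u : AA r K) = x} := by
      refine AA_induction r K (P := fun ξ => ∀ h : ξ ∈ AA r K,
        (⟨ξ, h⟩ : AA r K) ∈ AddSubgroup.closure {x : AA r K | ∃ u ∈ Kt r K, (u : AA r K) = x}) ?_ ?_ ?_ hξ
      · intro x hx h
        apply AddSubgroup.subset_closure
        refine ⟨(toAA r K).toHomUnits ⟨x, hx⟩, ⟨⟨x, hx⟩, rfl⟩, ?_⟩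
        apply Subtype.ext
        rw [coe_toHomUnits]
      · intro h
        exact zero_mem _
      · intro ξ η hξ hη h1 h2 h
        have : (⟨ξ + η, h⟩ : AA r K) = ⟨ξ, hξ⟩ + ⟨η, hη⟩ := rfl
        rw [this]
        exact add_mem (h1 hξ) (h2 hη)
    exact key hξ
  have hKσ : ∀ u ∈ Kt r K, σ (u : AA r K) = ((u⁻¹ : (AA r K)ˣ) : AA r K) := by
    rintro _ ⟨x, rfl⟩
    have h1 := hσK x.1 x.2
    have h2 : (((toAA r K).toHomUnits x : (AA r K)ˣ) : AA r K) = ⟨r x.1, mem_AA_of_mem r K x.2⟩ := by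
      apply Subtype.ext; rw [coe_toHomUnits]
    have h3 : ((((toAA r K).toHomUnits x)⁻¹ : (AA r K)ˣ) : AA r K) =
        ⟨r x.1⁻¹, mem_AA_of_mem r K (K.inv_mem x.2)⟩ := by
      rw [← map_inv]
      apply Subtype.ext
      rw [coe_toHomUnits]
      rfl
    rw [h2, h3, h1]
  have hKperf : ⁅Kt r K, Kt r K⁆ = Kt r K := by
    have h1 : Kt r K = Subgroup.map (toAA r K).toHomUnits ⊤ := MonoidHom.range_eq_map _
    have h2 : (⁅(⊤ : Subgroup K), ⊤⁆ : Subgroup K) = ⊤ := by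
      rw [← commutator_def]
      exact c.hKqs.1.commutator_eq_top
    rw [h1, ← Subgroup.map_commutator, h2]
  have hKne : Kt r K ≠ ⊥ := by
    intro hbot
    obtain ⟨x, hx, w, hw⟩ := c.hKnt
    apply hw
    have h1 : (toAA r K).toHomUnits ⟨x, hx⟩ ∈ Kt r K := ⟨⟨x, hx⟩, rfl⟩
    rw [hbot, Subgroup.mem_bot] at h1
    have h2 : r x = 1 := by
      have := coe_toHomUnits (r := r) (K := K) ⟨x, hx⟩
      rw [h1] at this
      exact this.symm
    rw [h2, Module.End.one_apply]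
  have hB2 : ∀ b ∈ β.range, b * b = 1 := by
    rintro _ ⟨b, rfl⟩
    rw [← map_mul]
    have : b * b = 1 := Subtype.ext (c.hB2 b.1 b.2)
    rw [this, map_one]
  have hBσ : ∀ b ∈ β.range, ∀ x, b (σ x) = σ (b x) := by
    rintro _ ⟨b, rfl⟩ ξ
    apply hinj
    have hba : ∀ w : W, r b.1 (r a w) = r a (r b.1 w) := by
      intro w
      rw [← Module.End.mul_apply, ← map_mul, c.hBa b.1 b.2, map_mul, Module.End.mul_apply]
    rw [hβm, hσm, hσm, hβm, hba]
  have hBK : ∀ b ∈ β.range, ∀ u ∈ Kt r K, ∃ u' ∈ Kt r K, (u' : AA r K) = b (u : AA r K) := by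
    rintro _ ⟨b, rfl⟩ _ ⟨x, rfl⟩
    refine ⟨(toAA r K).toHomUnits ⟨b.1 * x.1 * b.1⁻¹, c.hBK b.1 b.2 x.1 x.2⟩, ⟨_, rfl⟩, ?_⟩
    apply Subtype.ext
    rw [coe_toHomUnits, hβconj, coe_toHomUnits, map_mul, map_mul]
  have hsimple : ∀ I : AddSubgroup (AA r K), IsTwoSided I → (∀ x ∈ I, σ x ∈ I) →
      (∀ b ∈ β.range, ∀ x ∈ I, b x ∈ I) → I = ⊥ ∨ I = ⊤ := by
    intro I hI hIσ hIB
    let U : Submodule (ZMod 2) W :=
      { carrier := {w | ∃ ξ ∈ I, (ξ : Module.End (ZMod 2) W) m = w}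
        add_mem' := by
          rintro _ _ ⟨ξ, hξ, rfl⟩ ⟨η, hη, rfl⟩
          exact ⟨ξ + η, add_mem hξ hη, by simp⟩
        zero_mem' := ⟨0, zero_mem _, by simp⟩
        smul_mem' := by
          rintro c' _ ⟨ξ, hξ, rfl⟩
          have hc : c' = 0 ∨ c' = 1 := by revert c'; decide
          rcases hc with rfl | rfl
          · exact ⟨0, zero_mem _, by simp⟩
          · exact ⟨ξ, hξ, by simp⟩ }
    have hU := c.hirr U ?_
    · rcases hU with hU | hU
      · left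
        rw [eq_bot_iff]
        intro ξ hξ
        have h1 : (ξ : Module.End (ZMod 2) W) m ∈ U := ⟨ξ, hξ, rfl⟩
        rw [hU, Submodule.mem_bot] at h1
        have h2 := eq_zero_of_apply_pt c hm ξ.2 h1
        rw [AddSubgroup.mem_bot]
        exact Subtype.ext h2
      · right
        rw [eq_top_iff]
        intro η _
        have h1 : (η : Module.End (ZMod 2) W) m ∈ U := by rw [hU]; trivial
        obtain ⟨ξ, hξ, h2⟩ := h1
        rw [← hinj ξ η h2]
        exact hξ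
    · rintro g hg _ ⟨ξ, hξ, rfl⟩
      rcases hg with hg | hg | rfl
      · exact ⟨⟨r g, mem_AA_of_mem r K hg⟩ * ξ, (hI ξ hξ _).1, by simp⟩
      · exact ⟨β ⟨g, hg⟩ ξ, hIB _ ⟨⟨g, hg⟩, rfl⟩ ξ hξ, hβm ⟨g, hg⟩ ξ⟩
      · exact ⟨σ ξ, hIσ ξ hξ, hσm ξ⟩
  have hmain := hring σ hσmul hσσ hT (Kt r K) hKspan hKσ hKperf hKne β.range hB2 hBσ hBK hsimple
  -- transfer the cardinalities
  have hcardB : Nat.card β.range = Nat.card B :=
    (Nat.card_congr (MonoidHom.ofInjective hβinj).toEquiv).symm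
  have hcardW : Nat.card (AA r K) = Nat.card W := Nat.card_eq_of_bijective _ hev
  have hcardFix : Nat.card {x : AA r K // σ x = x ∧ ∀ b ∈ β.range, b x = x} =
      Nat.card {w : W // r a w = w ∧ ∀ b ∈ B, r b w = w} := by
    apply Nat.card_congr
    refine Equiv.subtypeEquiv (Equiv.ofBijective _ hev) ?_
    intro ξ
    show (σ ξ = ξ ∧ ∀ b ∈ β.range, b ξ = ξ) ↔
      (r a ((ξ : Module.End (ZMod 2) W) m) = (ξ : Module.End (ZMod 2) W) m ∧
        ∀ b ∈ B, r b ((ξ : Module.End (ZMod 2) W) m) = (ξ : Module.End (ZMod 2) W) m)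
    constructor
    · rintro ⟨h1, h2⟩
      refine ⟨?_, ?_⟩
      · rw [← hσm, h1]
      · intro b hb
        rw [← hβm ⟨b, hb⟩, h2 _ ⟨⟨b, hb⟩, rfl⟩]
    · rintro ⟨h1, h2⟩
      refine ⟨?_, ?_⟩
      · apply hinj
        rw [hσm, h1]
      · rintro _ ⟨b, rfl⟩
        apply hinj
        rw [hβm, h2 b.1 b.2]
  rw [hcardB, hcardW, hcardFix] at hmain
  exact hmain

end Cfsg.Agent.Lib.Helper51.PGVReg
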