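/-
Helper51, project S4125 (helper75, q-Baer groups), module [C4]: in the core case a central involution
inverts `V`.  Also: basic facts on groups of odd order used by [C5].
-/
import Mathlib
import Cfsg.Agent.Lib.Helper75.QBaer.Defs

set_option autoImplicit false
set_option linter.unusedSectionVars false

namespace Cfsg.Agent.Lib.Helper51.QBaer

open Cfsg.Agent.Lib.Helper75.QBaer

variable {q : ℕ} {X V : Type*} [Group X] [Finite X] [CommGroup V] [Finite V] [MulDistribMulAction X V]

/-- the fixed points of an element as a subgroup of `V` -/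
def fixSub (t : X) : Subgroup V where
  carrier := {v | t • v = v}
  mul_mem' := by
    intro a b ha hb
    show t • (a * b) = a * b
    rw [smul_mul', ha, hb]
  one_mem' := smul_one t
  inv_mem' := by
    intro a ha
    show t • a⁻¹ = a⁻¹
    rw [smul_inv', ha]

omit [Finite X] [Finite V] in
theorem mem_fixSub {t : X} {v : V} : v ∈ fixSub t ↔ t • v = v := Iff.rfl

omit [Finite X] [Finite V] in
/-- the fixed points of a central element form an invariant subgroup -/
theorem fixSub_invariant {z : X} (hzc : z ∈ Subgroup.center X) (g : X) (w : V)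
    (hw : w ∈ fixSub z) : g • w ∈ fixSub z := by
  rw [mem_fixSub] at hw ⊢
  rw [← mul_smul, ← (Subgroup.mem_center_iff.1 hzc g), mul_smul, hw]

omit [Finite X] [Finite V] in
/-- `v * t • v` is fixed by an involution `t` -/
theorem mul_smul_mem_fixSub {t : X} (ht : t * t = 1) (v : V) : v * t • v ∈ fixSub t := by
  rw [mem_fixSub, smul_mul', ← mul_smul, ht, one_smul, mul_comm]

omit [Finite X] [Finite V] in
theorem mul_self_of_orderOf_two {t : X} (ht : orderOf t = 2) : t * t = 1 := by
  have := pow_orderOf_eq_one t
  rwa [ht, pow_two] at this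

omit [Finite X] [Finite V] in
theorem ne_one_of_orderOf_two {t : X} (ht : orderOf t = 2) : t ≠ 1 := by
  intro h1
  rw [h1, orderOf_one] at ht
  omega

/-- [C4] a central involution inverts `V` -/
theorem smul_eq_inv_of_central_involution (h : CoreHyp q X V) (z : X) (hz : orderOf z = 2)
    (hzc : z ∈ Subgroup.center X) (v : V) : z • v = v⁻¹ := by
  have hzz := mul_self_of_orderOf_two hz
  rcases h.irred (fixSub z) (fixSub_invariant hzc) with hbot | htop
  · have hmem := mul_smul_mem_fixSub hzz v
    rw [hbot, Subgroup.mem_bot] at hmem
    exact (eq_inv_of_mul_eq_one_right hmem)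
  · exfalso
    apply ne_one_of_orderOf_two hz
    apply h.faithful
    intro w
    have : w ∈ fixSub z := by rw [htop]; exact Subgroup.mem_top w
    exact this

end Cfsg.Agent.Lib.Helper51.QBaer
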