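/-
Helper51, project S4125 (helper75, q-Baer groups), module [C5]: in the core case there is no
"almost central" involution.
-/
import Mathlib
import Cfsg.Agent.Lib.Helper75.QBaer.Defs
import Cfsg.Agent.Lib.Helper51.QBaerC4

set_option autoImplicit false
set_option linter.unusedSectionVars false

namespace Cfsg.Agent.Lib.Helper51.QBaer

open Cfsg.Agent.Lib.Helper75.QBaer

variable {q : ℕ} {X V : Type*} [Group X] [Finite X] [CommGroup V] [Finite V] [MulDistribMulAction X V]

/-- the elements inverted by `t` as a subgroup of the abelian group `V` -/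
def invSub (t : X) : Subgroup V where
  carrier := {v | t • v = v⁻¹}
  mul_mem' := by
    intro a b ha hb
    show t • (a * b) = (a * b)⁻¹
    rw [smul_mul', ha, hb, mul_inv]
  one_mem' := by
    show t • (1 : V) = 1⁻¹
    rw [smul_one, inv_one]
  inv_mem' := by
    intro a ha
    show t • a⁻¹ = a⁻¹⁻¹
    rw [smul_inv', ha]

theorem mem_invSub {t : X} {v : V} : v ∈ invSub t ↔ t • v = v⁻¹ := Iff.rfl

theorem odd_card_of_coreHyp (h : CoreHyp q X V) : Odd (Nat.card V) := by
  have : Fact q.Prime := ⟨h.hq⟩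
  obtain ⟨n, hn⟩ := h.hV.exists_card_eq
  rw [hn]
  exact Odd.pow (h.hq.odd_of_ne_two h.hq2)

theorem eq_one_of_mul_self (hodd : Odd (Nat.card V)) {v : V} (hv : v * v = 1) : v = 1 := by
  have h1 : orderOf v ∣ 2 := orderOf_dvd_of_pow_eq_one (by rw [pow_two]; exact hv)
  have h2 : orderOf v ∣ Nat.card V := orderOf_dvd_natCard v
  have h3 : orderOf v ∣ Nat.gcd 2 (Nat.card V) := Nat.dvd_gcd h1 h2
  have h4 : Nat.gcd 2 (Nat.card V) = 1 := Nat.coprime_two_left.2 hodd
  rw [h4] at h3
  exact orderOf_eq_one_iff.1 (Nat.dvd_one.1 h3)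

theorem exists_mul_self (hodd : Odd (Nat.card V)) (v : V) : ∃ w : V, w * w = v := by
  obtain ⟨k, hk⟩ := hodd
  refine ⟨v ^ (k + 1), ?_⟩
  rw [← pow_add]
  have : k + 1 + (k + 1) = Nat.card V + 1 := by omega
  rw [this, pow_succ, pow_card_eq_one', one_mul]

/-- `v * v` is a product of a fixed and an inverted element -/
theorem exists_decomp {t : X} (ht : t * t = 1) (v : V) :
    ∃ a ∈ fixSub t, ∃ b ∈ invSub t, v * v = a * b := by
  refine ⟨v * t • v, mul_smul_mem_fixSub ht v, v * (t • v)⁻¹, ?_, ?_⟩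
  · rw [mem_invSub, smul_mul', smul_inv', ← mul_smul, ht, one_smul, mul_inv, inv_inv, mul_comm]
  · rw [mul_mul_mul_comm, mul_inv_cancel, mul_one]

/-- two elements agreeing on the fixed and on the inverted elements of an involution are equal -/
theorem eq_of_agree (h : CoreHyp q X V) {t : X} (ht : t * t = 1) {u m : X}
    (h1 : ∀ a ∈ (fixSub t : Subgroup V), u • a = m • a)
    (h2 : ∀ b ∈ (invSub t : Subgroup V), u • b = m • b) : u = m := by
  have hodd := odd_card_of_coreHyp h
  have hall : ∀ v : V, u • v = m • v := by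
    intro v
    obtain ⟨w, rfl⟩ := exists_mul_self hodd v
    obtain ⟨a, ha, b, hb, hab⟩ := exists_decomp ht w
    rw [hab, smul_mul', smul_mul', h1 a ha, h2 b hb]
  have : m⁻¹ * u = 1 := by
    apply h.faithful
    intro v
    rw [mul_smul, hall v, ← mul_smul, inv_mul_cancel, one_smul]
  calc u = m * (m⁻¹ * u) := by group
    _ = m := by rw [this, mul_one]

/-- a group is not the union of two proper subgroups: an element acting on the subgroup `W` by
`w ↦ w` or `w ↦ w⁻¹` pointwise acts as the identity or as the inversion on `W` -/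
theorem id_or_inv_on (hodd : Odd (Nat.card V)) (W : Subgroup V) (u : X)
    (hu : ∀ w ∈ W, u • w = w ∨ u • w = w⁻¹) :
    (∀ w ∈ W, u • w = w) ∨ (∀ w ∈ W, u • w = w⁻¹) := by
  by_contra hcon
  rw [not_or] at hcon
  obtain ⟨hc1, hc2⟩ := hcon
  push Not at hc1 hc2
  obtain ⟨a, ha, hua⟩ := hc1
  obtain ⟨b, hb, hub⟩ := hc2
  have hua' : u • a = a⁻¹ := (hu a ha).resolve_left hua
  have hub' : u • b = b := (hu b hb).resolve_right hub
  rcases hu (a * b) (W.mul_mem ha hb) with hab | hab
  · rw [smul_mul', hua', hub'] at hab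
    have h1 : a⁻¹ = a := mul_right_cancel hab
    have h2 : a * a = 1 := by
      calc a * a = a⁻¹ * a := by rw [h1]
        _ = 1 := inv_mul_cancel a
    have h3 := eq_one_of_mul_self hodd h2
    apply hua
    rw [h3, smul_one]
  · rw [smul_mul', hua', hub', mul_inv] at hab
    have h1 : b = b⁻¹ := mul_left_cancel hab
    have h2 : b * b = 1 := by
      calc b * b = b * b⁻¹ := by rw [← h1]
        _ = 1 := mul_inv_cancel b
    have h3 := eq_one_of_mul_self hodd h2
    apply hub
    rw [h3, smul_one, inv_one]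

/-- [C5] no "almost central" involution -/
theorem no_almost_central_involution (h : CoreHyp q X V) (S : Sylow 2 X) (z t : X)
    (hz : orderOf z = 2) (hzc : z ∈ Subgroup.center X) (hzinv : ∀ v : V, z • v = v⁻¹)
    (ht : orderOf t = 2) (htS : t ∈ S)
    (hne : t ≠ z) (hconj : ∀ s ∈ S, s * t * s⁻¹ = t ∨ s * t * s⁻¹ = t * z) : False := by
  have hodd := odd_card_of_coreHyp h
  have hzz := mul_self_of_orderOf_two hz
  have htt := mul_self_of_orderOf_two ht
  have ht1 := ne_one_of_orderOf_two ht
  have hz1 := ne_one_of_orderOf_two hz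
  have hzcomm : ∀ g : X, g * z = z * g := Subgroup.mem_center_iff.1 hzc
  -- Step A: a conjugate of `t` maps `v ∈ V₊(t) ∪ V₋(t)` to `v` or `v⁻¹`
  have hA : ∀ (g : X) (v : V), (t • v = v ∨ t • v = v⁻¹) →
      ((g * t * g⁻¹) • v = v ∨ (g * t * g⁻¹) • v = v⁻¹) := by
    intro g v hv
    obtain ⟨s, hs, k, hk, hgk⟩ := exists_mul_sylow_stab h S v g⁻¹
    have hkv : k • v = v := MulAction.mem_stabilizer_iff.1 hk
    have hkv' : k⁻¹ • v = v := by
      calc k⁻¹ • v = k⁻¹ • (k • v) := by rw [hkv]
        _ = v := by rw [← mul_smul, inv_mul_cancel, one_smul]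
    have hg : g = k⁻¹ * s⁻¹ := by
      have : g = (g⁻¹)⁻¹ := (inv_inv g).symm
      rw [this, hgk, mul_inv_rev]
    have hconj' : g * t * g⁻¹ = k⁻¹ * (s⁻¹ * t * s⁻¹⁻¹) * k := by
      rw [hgk, hg, inv_inv]; group
    rw [hconj', mul_smul, mul_smul, hkv]
    rcases hconj s⁻¹ (S.inv_mem hs) with h1 | h1
    · rw [h1]
      rcases hv with hv | hv
      · left; rw [hv, hkv']
      · right; rw [hv, smul_inv', hkv']
    · rw [h1, mul_smul, hzinv, smul_inv']
      rcases hv with hv | hv
      · right; rw [hv, smul_inv', hkv']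
      · left; rw [hv, inv_inv, hkv']
  -- Step B + C: every conjugate of `t` is `t` or `t * z`
  have hBC : ∀ g : X, g * t * g⁻¹ = t ∨ g * t * g⁻¹ = t * z := by
    intro g
    have h1 := id_or_inv_on hodd (fixSub t) (g * t * g⁻¹)
      (fun w hw => hA g w (Or.inl hw))
    have h2 := id_or_inv_on hodd (invSub t) (g * t * g⁻¹)
      (fun w hw => hA g w (Or.inr hw))
    rcases h1 with h1 | h1 <;> rcases h2 with h2 | h2
    · -- identity on both: the conjugate is `1`
      exfalso
      have : g * t * g⁻¹ = 1 := by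
        apply eq_of_agree h htt
        · intro a ha; rw [h1 a ha, one_smul]
        · intro b hb; rw [h2 b hb, one_smul]
      apply ht1
      calc t = g⁻¹ * (g * t * g⁻¹) * g := by group
        _ = 1 := by rw [this]; group
    · -- identity on `V₊`, inversion on `V₋`: the conjugate is `t`
      left
      apply eq_of_agree h htt
      · intro a ha; rw [h1 a ha]; exact ha.symm
      · intro b hb; rw [h2 b hb]; exact hb.symm
    · -- inversion on `V₊`, identity on `V₋`: the conjugate is `t * z`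
      right
      apply eq_of_agree h htt
      · intro a ha
        rw [h1 a ha, mul_smul, hzinv, smul_inv']
        have : t • a = a := ha
        rw [this]
      · intro b hb
        rw [h2 b hb, mul_smul, hzinv, smul_inv']
        have : t • b = b⁻¹ := hb
        rw [this, inv_inv]
    · -- inversion on both: the conjugate is `z`
      exfalso
      have : g * t * g⁻¹ = z := by
        apply eq_of_agree h htt
        · intro a ha; rw [h1 a ha, hzinv]
        · intro b hb; rw [h2 b hb, hzinv]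
      apply hne
      calc t = g⁻¹ * (g * t * g⁻¹) * g := by group
        _ = g⁻¹ * z * g := by rw [this]
        _ = g⁻¹ * (z * g) := by group
        _ = g⁻¹ * (g * z) := by rw [hzcomm g]
        _ = z := by group
  -- Step D: `t` is central
  have hrule : ∀ a b : X, a * t * a⁻¹ = t * z → b * t * b⁻¹ = t * z → (a * b) * t * (a * b)⁻¹ = t := by
    intro a b ha hb
    have e1 : (a * b) * t * (a * b)⁻¹ = a * (b * t * b⁻¹) * a⁻¹ := by group
    have e2 : a * (t * z) * a⁻¹ = (a * t * a⁻¹) * z := by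
      calc a * (t * z) * a⁻¹ = a * t * (z * a⁻¹) := by group
        _ = a * t * (a⁻¹ * z) := by rw [hzcomm a⁻¹]
        _ = (a * t * a⁻¹) * z := by group
    rw [e1, hb, e2, ha, mul_assoc, hzz, mul_one]
  have hinvrule : ∀ a : X, a * t * a⁻¹ = t * z → a⁻¹ * t * a⁻¹⁻¹ = t * z := by
    intro a ha
    rcases hBC a⁻¹ with h1 | h1
    · exfalso
      -- then `a` centralizes `t` as well
      have : a * t * a⁻¹ = t := by
        calc a * t * a⁻¹ = a * (a⁻¹ * t * a⁻¹⁻¹) * a⁻¹ := by rw [h1]
          _ = t := by group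
      rw [this] at ha
      have : z = 1 := by
        have h2 : t * 1 = t * z := by rw [mul_one]; exact ha
        exact (mul_left_cancel h2).symm
      exact hz1 this
    · exact h1
  have hfixrule : ∀ a b : X, a * t * a⁻¹ = t → b * t * b⁻¹ = t → (a * b) * t * (a * b)⁻¹ = t := by
    intro a b ha hb
    have e1 : (a * b) * t * (a * b)⁻¹ = a * (b * t * b⁻¹) * a⁻¹ := by group
    rw [e1, hb, ha]
  have hmix1 : ∀ a b : X, a * t * a⁻¹ = t → b * t * b⁻¹ = t * z →
      (a * b) * t * (a * b)⁻¹ = t * z := by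
    intro a b ha hb
    have e1 : (a * b) * t * (a * b)⁻¹ = a * (b * t * b⁻¹) * a⁻¹ := by group
    have e2 : a * (t * z) * a⁻¹ = (a * t * a⁻¹) * z := by
      calc a * (t * z) * a⁻¹ = a * t * (z * a⁻¹) := by group
        _ = a * t * (a⁻¹ * z) := by rw [hzcomm a⁻¹]
        _ = (a * t * a⁻¹) * z := by group
    rw [e1, hb, e2, ha]
  have hmix2 : ∀ a b : X, a * t * a⁻¹ = t * z → b * t * b⁻¹ = t →
      (a * b) * t * (a * b)⁻¹ = t * z := by
    intro a b ha hb
    have e1 : (a * b) * t * (a * b)⁻¹ = a * (b * t * b⁻¹) * a⁻¹ := by group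
    rw [e1, hb, ha]
  have hinvfix : ∀ a : X, a * t * a⁻¹ = t → a⁻¹ * t * a⁻¹⁻¹ = t := by
    intro a ha
    calc a⁻¹ * t * a⁻¹⁻¹ = a⁻¹ * (a * t * a⁻¹) * a⁻¹⁻¹ := by rw [ha]
      _ = t := by group
  have hcomm : ∀ a b : X, (a * b * a⁻¹ * b⁻¹) * t * (a * b * a⁻¹ * b⁻¹)⁻¹ = t := by
    intro a b
    have e : a * b * a⁻¹ * b⁻¹ = (a * b) * (a⁻¹ * b⁻¹) := by group
    rw [e]
    rcases hBC a with ha | ha <;> rcases hBC b with hb | hb
    · exact hfixrule _ _ (hfixrule a b ha hb) (hfixrule _ _ (hinvfix a ha) (hinvfix b hb))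
    · exact hrule _ _ (hmix1 a b ha hb) (hmix1 _ _ (hinvfix a ha) (hinvrule b hb))
    · exact hrule _ _ (hmix2 a b ha hb) (hmix2 _ _ (hinvrule a ha) (hinvfix b hb))
    · exact hfixrule _ _ (hrule a b ha hb) (hrule _ _ (hinvrule a ha) (hinvrule b hb))
  have hcent : ∀ g : X, g * t * g⁻¹ = t := by
    have hle : commutator X ≤ Subgroup.centralizer ({t} : Set X) := by
      rw [commutator_eq_closure, Subgroup.closure_le]
      rintro x ⟨a, b, rfl⟩
      rw [SetLike.mem_coe, Subgroup.mem_centralizer_iff]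
      intro y hy
      rw [Set.mem_singleton_iff] at hy
      subst hy
      have := hcomm a b
      rw [commutatorElement_def]
      calc y * (a * b * a⁻¹ * b⁻¹)
          = ((a * b * a⁻¹ * b⁻¹) * y * (a * b * a⁻¹ * b⁻¹)⁻¹) * (a * b * a⁻¹ * b⁻¹) := by rw [this]
        _ = (a * b * a⁻¹ * b⁻¹) * y := by group
    intro g
    have hg : g ∈ Subgroup.centralizer ({t} : Set X) := by
      apply hle
      rw [h.perfect]
      exact Subgroup.mem_top g
    rw [Subgroup.mem_centralizer_iff] at hg
    have := hg t (Set.mem_singleton t)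
    calc g * t * g⁻¹ = t * g * g⁻¹ := by rw [this]
      _ = t := by group
  -- Step E
  have htc : t ∈ Subgroup.center X := by
    rw [Subgroup.mem_center_iff]
    intro g
    have := hcent g
    calc g * t = (g * t * g⁻¹) * g := by group
      _ = t * g := by rw [this]
  have htinv := smul_eq_inv_of_central_involution h t ht htc
  apply hne
  apply eq_of_agree h htt
  · intro a _; rw [htinv, hzinv]
  · intro b _; rw [htinv, hzinv]

end Cfsg.Agent.Lib.Helper51.QBaer
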