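/-
Helper51, project S4125 (helper75, q-Baer groups), module [CIA]: the asymmetric core of the
coprime-index lemma.  If `x`, `y` have centralizers of coprime prime power indices `r ^ a`, `s ^ b`,
the product `x * y` has index `r ^ a` again and the order of `y` is prime to `r`, then `y` is central.
-/
import Mathlib
import Cfsg.Agent.Lib.Helper75.QBaer.Defs

set_option autoImplicit false
set_option linter.style.haveILetI false

namespace Cfsg.Agent.Lib.Helper51.QBaer

variable {G : Type*} [Group G] [Finite G]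

/-- the conjugacy class of `x` as a set -/
def ccl (x : G) : Set G := {x' | ∃ g : G, g * x * g⁻¹ = x'}

omit [Finite G] in
theorem mem_ccl {x x' : G} : x' ∈ ccl x ↔ ∃ g : G, g * x * g⁻¹ = x' := Iff.rfl

omit [Finite G] in
theorem self_mem_ccl (x : G) : x ∈ ccl x := ⟨1, by group⟩

omit [Finite G] in
theorem conj_mem_ccl {x x' : G} (h : x' ∈ ccl x) (c : G) : c * x' * c⁻¹ ∈ ccl x := by
  obtain ⟨g, rfl⟩ := h
  exact ⟨c * g, by group⟩

omit [Finite G] in
/-- the size of a conjugacy class is the index of the centralizer -/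
theorem ncard_ccl (x : G) : (ccl x).ncard = (Subgroup.centralizer ({x} : Set G)).index := by
  have h1 : ccl x = MulAction.orbit (ConjAct G) x := by
    ext x'
    rw [ConjAct.orbit_eq_carrier_conjClasses, ConjClasses.mem_carrier_iff_mk_eq,
      ConjClasses.mk_eq_mk_iff_isConj, isConj_comm, isConj_iff, mem_ccl]
  rw [h1, ← MulAction.index_stabilizer, Subgroup.centralizer_eq_comap_stabilizer]
  exact (Subgroup.index_comap_of_surjective _ (ConjAct.toConjAct (G := G)).surjective).symm

/-- the stabilizer of a conjugacy class under right multiplication -/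
def rstab (x : G) : Subgroup G where
  carrier := {m | ∀ x' ∈ ccl x, x' * m ∈ ccl x ∧ x' * m⁻¹ ∈ ccl x}
  mul_mem' := by
    intro m n hm hn x' hx'
    constructor
    · rw [← mul_assoc]
      exact (hn _ (hm x' hx').1).1
    · rw [mul_inv_rev, ← mul_assoc]
      exact (hm _ (hn x' hx').2).2
  one_mem' := by
    intro x' hx'
    rw [inv_one, mul_one]
    exact ⟨hx', hx'⟩
  inv_mem' := by
    intro m hm x' hx'
    rw [inv_inv]
    exact ⟨(hm x' hx').2, (hm x' hx').1⟩

omit [Finite G] in
theorem mem_rstab {x m : G} :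
    m ∈ rstab x ↔ ∀ x' ∈ ccl x, x' * m ∈ ccl x ∧ x' * m⁻¹ ∈ ccl x := Iff.rfl

omit [Finite G] in
instance rstab_normal (x : G) : (rstab x).Normal := by
  constructor
  intro m hm c x' hx'
  have h1 := hm (c⁻¹ * x' * c⁻¹⁻¹) (conj_mem_ccl hx' c⁻¹)
  constructor
  · have := conj_mem_ccl h1.1 c
    have e : c * (c⁻¹ * x' * c⁻¹⁻¹ * m) * c⁻¹ = x' * (c * m * c⁻¹) := by group
    rwa [e] at this
  · have := conj_mem_ccl h1.2 c
    have e : c * (c⁻¹ * x' * c⁻¹⁻¹ * m⁻¹) * c⁻¹ = x' * (c * m * c⁻¹)⁻¹ := by group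
    rwa [e] at this

/-- the order of `rstab x` is a power of `r` when the class of `x` has `r`-power size -/
theorem card_rstab_eq_pow (x : G) {r a : ℕ} (hr : r.Prime)
    (hx : (Subgroup.centralizer ({x} : Set G)).index = r ^ a) :
    ∃ k : ℕ, Nat.card (rstab x) = r ^ k := by
  classical
  refine ⟨_, Nat.eq_prime_pow_of_unique_prime_dvd Nat.card_pos.ne' ?_⟩
  intro l hl hdvd
  have : Fact l.Prime := ⟨hl⟩
  obtain ⟨m, hm⟩ := exists_prime_orderOf_dvd_card' l hdvd
  have hm1 : (m : G) ≠ 1 := by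
    intro h1
    have : m = 1 := Subtype.ext h1
    rw [this, orderOf_one] at hm
    exact hl.ne_one hm.symm
  have hml : (m : G) ^ l = 1 := by
    have := pow_orderOf_eq_one m
    rw [hm] at this
    have h2 := congrArg Subtype.val this
    simpa using h2
  letI : Fintype (ccl x) := Fintype.ofFinite _
  let f : Function.End (ccl x) := fun x' => ⟨x'.1 * (m : G), (m.2 x'.1 x'.2).1⟩
  have hfpow : ∀ (n : ℕ) (x' : ccl x), ((f ^ n) x').1 = x'.1 * (m : G) ^ n := by
    intro n
    induction n with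
    | zero =>
      intro x'
      rw [pow_zero, pow_zero, mul_one]
      rfl
    | succ n ih =>
      intro x'
      have : (f ^ (n + 1)) x' = f ((f ^ n) x') := by
        rw [pow_succ']; rfl
      rw [this]
      show ((f ^ n) x').1 * (m : G) = _
      rw [ih, pow_succ, mul_assoc]
  have hf : f ^ l ^ 1 = 1 := by
    rw [pow_one]
    funext x'
    apply Subtype.ext
    rw [hfpow, hml, mul_one]
    rfl
  have hmod := Equiv.Perm.card_fixedPoints_modEq (f := f) hf
  have hfix : Fintype.card (Function.fixedPoints f) = 0 := by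
    rw [Fintype.card_eq_zero_iff]
    constructor
    rintro ⟨x', hx'⟩
    apply hm1
    have h1 : (f x').1 = x'.1 := congrArg Subtype.val hx'
    have h2 : x'.1 * (m : G) = x'.1 := h1
    exact mul_left_cancel (a := x'.1) (by rw [h2, mul_one])
  rw [hfix] at hmod
  have hdvd' : l ∣ Fintype.card (ccl x) := (Nat.modEq_zero_iff_dvd).1 hmod
  rw [← Nat.card_eq_fintype_card, Nat.card_coe_set_eq, ncard_ccl, hx] at hdvd'
  exact (Nat.prime_dvd_prime_iff_eq hl hr).1 (hl.dvd_of_dvd_pow hdvd')

/-- [CIA] coprime-index lemma, asymmetric core -/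
theorem central_of_index_mul_eq (x y : G) (hxy : Commute x y) (r s a b : ℕ) (hr : r.Prime)
    (hs : s.Prime) (hrs : r ≠ s)
    (hx : (Subgroup.centralizer ({x} : Set G)).index = r ^ a)
    (hy : (Subgroup.centralizer ({y} : Set G)).index = s ^ b)
    (hm : (Subgroup.centralizer ({x * y} : Set G)).index = r ^ a)
    (hoy : (orderOf y).Coprime r) : b = 0 := by
  have hcop : (Subgroup.centralizer ({x} : Set G)).index.Coprime
      (Subgroup.centralizer ({y} : Set G)).index := by
    rw [hx, hy]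
    exact Nat.Coprime.pow _ _ ((Nat.coprime_primes hr hs).2 hrs)
  -- Step 1: products of conjugates are conjugates of the product
  have h1 : ∀ x' ∈ ccl x, ∀ y' ∈ ccl y, x' * y' ∈ ccl (x * y) := by
    rintro _ ⟨g₁, rfl⟩ _ ⟨g₂, rfl⟩
    obtain ⟨c, hc, d, hd, hcd⟩ := Cfsg.Agent.S4126.exists_mul_of_coprime_index _ _ hcop (g₁⁻¹ * g₂)
    have hcx : x * c = c * x := Subgroup.mem_centralizer_iff.1 hc x (Set.mem_singleton x)
    have hdy : y * d = d * y := Subgroup.mem_centralizer_iff.1 hd y (Set.mem_singleton y)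
    have hg₂ : g₂ = g₁ * c * d := by
      calc g₂ = g₁ * (g₁⁻¹ * g₂) := by group
        _ = g₁ * c * d := by rw [hcd, mul_assoc]
    refine ⟨g₁ * c, ?_⟩
    have e1 : g₁ * x * g₁⁻¹ = (g₁ * c) * x * (g₁ * c)⁻¹ := by
      calc g₁ * x * g₁⁻¹ = g₁ * (x * c) * c⁻¹ * g₁⁻¹ := by group
        _ = g₁ * (c * x) * c⁻¹ * g₁⁻¹ := by rw [hcx]
        _ = (g₁ * c) * x * (g₁ * c)⁻¹ := by group
    have e2 : g₂ * y * g₂⁻¹ = (g₁ * c) * y * (g₁ * c)⁻¹ := by
      rw [hg₂]
      calc g₁ * c * d * y * (g₁ * c * d)⁻¹ = g₁ * c * (d * y) * d⁻¹ * c⁻¹ * g₁⁻¹ := by group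
        _ = g₁ * c * (y * d) * d⁻¹ * c⁻¹ * g₁⁻¹ := by rw [hdy]
        _ = (g₁ * c) * y * (g₁ * c)⁻¹ := by group
    rw [e1, e2]
    group
  -- Step 2: for each conjugate `y'`, right multiplication by `y'` maps the class of `x` ONTO the
  -- class of `x * y`
  have hfin : ∀ z : G, (ccl z).Finite := fun z => Set.toFinite _
  have h2 : ∀ y' ∈ ccl y, (fun x' => x' * y') '' ccl x = ccl (x * y) := by
    intro y' hy'
    apply Set.eq_of_subset_of_ncard_le
    · rintro _ ⟨x', hx', rfl⟩
      exact h1 x' hx' y' hy'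
    · rw [Set.ncard_image_of_injective _ (mul_left_injective y'), ncard_ccl, ncard_ccl, hx, hm]
    · exact hfin _
  -- Step 3: quotients of conjugates of `y` stabilize the class of `x`
  have h3 : ∀ y' ∈ ccl y, ∀ y'' ∈ ccl y, y' * y''⁻¹ ∈ rstab x := by
    have key : ∀ y' ∈ ccl y, ∀ y'' ∈ ccl y, ∀ x' ∈ ccl x, x' * (y' * y''⁻¹) ∈ ccl x := by
      intro y' hy' y'' hy'' x' hx'
      have hmem : x' * y' ∈ (fun x' => x' * y'') '' ccl x := by
        rw [h2 y'' hy'']
        exact h1 x' hx' y' hy'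
      obtain ⟨x'', hx'', he⟩ := hmem
      have : x' * (y' * y''⁻¹) = x'' := by
        have he' : x'' * y'' = x' * y' := he
        calc x' * (y' * y''⁻¹) = (x' * y') * y''⁻¹ := by group
          _ = (x'' * y'') * y''⁻¹ := by rw [he']
          _ = x'' := by group
      rw [this]
      exact hx''
    intro y' hy' y'' hy''
    rw [mem_rstab]
    intro x' hx'
    refine ⟨key y' hy' y'' hy'' x' hx', ?_⟩
    have : (y' * y''⁻¹)⁻¹ = y'' * y'⁻¹ := by group
    rw [this]
    exact key y'' hy'' y' hy' x' hx'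
  -- Step 5/6: `rstab x` is a normal `r`-subgroup, hence inside the centralizer of `y`
  obtain ⟨k, hk⟩ := card_rstab_eq_pow x hr hx
  have hle : rstab x ≤ Subgroup.centralizer ({y} : Set G) := by
    have hd1 : (Subgroup.centralizer ({y} : Set G)).relIndex (rstab x) ∣ s ^ b := by
      rw [← hy]
      exact Cfsg.Agent.Lib.Helper76.relIndex_dvd_index_of_normal_right _ (rstab x)
    have hd2 : (Subgroup.centralizer ({y} : Set G)).relIndex (rstab x) ∣ r ^ k := by
      rw [← hk]
      exact Subgroup.relIndex_dvd_card _ _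
    have h1' : (Subgroup.centralizer ({y} : Set G)).relIndex (rstab x) = 1 :=
      Nat.eq_one_of_dvd_coprimes
        (Nat.Coprime.pow _ _ ((Nat.coprime_primes hr hs).2 hrs)) hd2 hd1
    exact Subgroup.relIndex_eq_one.1 h1'
  -- Step 7: every conjugate of `y` equals `y`
  have h7 : ∀ g : G, g * y * g⁻¹ = y := by
    intro g
    have hmS : (g * y * g⁻¹) * y⁻¹ ∈ rstab x := h3 _ ⟨g, rfl⟩ _ (self_mem_ccl y)
    obtain ⟨m, hmdef⟩ : ∃ m : G, m = (g * y * g⁻¹) * y⁻¹ := ⟨_, rfl⟩
    rw [← hmdef] at hmS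
    have hmy : y * m = m * y :=
      Subgroup.mem_centralizer_iff.1 (hle hmS) y (Set.mem_singleton y)
    have hmy' : m * y = g * y * g⁻¹ := by rw [hmdef]; group
    have hpow : m ^ orderOf y = 1 := by
      have hc : Commute m y := hmy.symm
      have e1 : (m * y) ^ orderOf y = m ^ orderOf y * y ^ orderOf y := hc.mul_pow _
      rw [pow_orderOf_eq_one, mul_one, hmy'] at e1
      rw [← e1, conj_pow, pow_orderOf_eq_one]
      group
    have hd1 : orderOf m ∣ orderOf y := orderOf_dvd_of_pow_eq_one hpow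
    have hd2 : orderOf m ∣ r ^ k := by
      rw [← hk]
      have := orderOf_dvd_natCard (⟨m, hmS⟩ : rstab x)
      rwa [Subgroup.orderOf_mk] at this
    have ho : orderOf m = 1 :=
      Nat.eq_one_of_dvd_coprimes (Nat.Coprime.pow_right k hoy) hd1 hd2
    have hm1 : m = 1 := orderOf_eq_one_iff.1 ho
    calc g * y * g⁻¹ = m * y := hmy'.symm
      _ = y := by rw [hm1, one_mul]
  -- Step 8
  have htop : Subgroup.centralizer ({y} : Set G) = ⊤ := by
    rw [eq_top_iff]
    intro g _
    rw [Subgroup.mem_centralizer_iff]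
    intro z hz
    rw [Set.mem_singleton_iff] at hz
    subst hz
    have := h7 g
    calc z * g = (g * z * g⁻¹) * g := by rw [this]
      _ = g * z := by group
  rw [htop, Subgroup.index_top] at hy
  by_contra hb
  have : 1 < s ^ b := Nat.one_lt_pow hb hs.one_lt
  omega

end Cfsg.Agent.Lib.Helper51.QBaer
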