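/-
Helper51, project S4125 (helper75, q-Baer groups), module [CI]: the coprime-index lemma.
-/
import Mathlib
import Cfsg.Agent.Lib.Helper75.QBaer.Defs
import Cfsg.Agent.Lib.Helper51.QBaerCIA

set_option autoImplicit false

namespace Cfsg.Agent.Lib.Helper51.QBaer

variable {G : Type*} [Group G] [Finite G]

omit [Finite G] in
theorem mem_cent_singleton {x g : G} :
    g ∈ Subgroup.centralizer ({x} : Set G) ↔ x * g = g * x := by
  rw [Subgroup.mem_centralizer_iff]
  constructor
  · intro h; exact h x (Set.mem_singleton x)
  · intro h z hz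
    rw [Set.mem_singleton_iff] at hz
    rw [hz]; exact h

/-- index of an intersection of subgroups of coprime indices -/
theorem index_inf_of_coprime (A B : Subgroup G) (hcop : A.index.Coprime B.index) :
    (A ⊓ B).index = A.index * B.index := by
  have hdA : A.index ∣ (A ⊓ B).index := Subgroup.index_dvd_of_le inf_le_left
  have hdB : B.index ∣ (A ⊓ B).index := Subgroup.index_dvd_of_le inf_le_right
  have hprod := Nat.Coprime.mul_dvd_of_dvd_of_dvd hcop hdA hdB
  have hpos : 0 < (A ⊓ B).index := Nat.pos_of_ne_zero Subgroup.index_ne_zero_of_finite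
  exact Nat.le_antisymm Subgroup.index_inf_le (Nat.le_of_dvd hpos hprod)

/-- [CI] coprime-index lemma -/
theorem coprime_index_lemma (x y : G) (hxy : Commute x y) (r s a b : ℕ) (hr : r.Prime)
    (hs : s.Prime) (hrs : r ≠ s)
    (hx : (Subgroup.centralizer ({x} : Set G)).index = r ^ a)
    (hy : (Subgroup.centralizer ({y} : Set G)).index = s ^ b)
    (hm : ∃ t c : ℕ, t.Prime ∧ (Subgroup.centralizer ({x * y} : Set G)).index = t ^ c)
    (hox : (orderOf x).Coprime s) (hoy : (orderOf y).Coprime r) : a = 0 ∨ b = 0 := by
  obtain ⟨t, c, ht, hD⟩ := hm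
  have hxy' : x * y = y * x := hxy
  have hcoprs : (r ^ a).Coprime (s ^ b) :=
    Nat.Coprime.pow _ _ ((Nat.coprime_primes hr hs).2 hrs)
  have hcop : (Subgroup.centralizer ({x} : Set G)).index.Coprime
      (Subgroup.centralizer ({y} : Set G)).index := by rw [hx, hy]; exact hcoprs
  -- the three pairwise intersections coincide
  have hAD : Subgroup.centralizer ({x} : Set G) ⊓ Subgroup.centralizer ({y} : Set G) =
      Subgroup.centralizer ({x} : Set G) ⊓ Subgroup.centralizer ({x * y} : Set G) := by
    ext g
    rw [Subgroup.mem_inf, Subgroup.mem_inf, mem_cent_singleton, mem_cent_singleton,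
      mem_cent_singleton]
    constructor
    · rintro ⟨h1, h2⟩
      refine ⟨h1, ?_⟩
      calc x * y * g = x * (y * g) := by group
        _ = x * (g * y) := by rw [h2]
        _ = (x * g) * y := by group
        _ = (g * x) * y := by rw [h1]
        _ = g * (x * y) := by group
    · rintro ⟨h1, h2⟩
      refine ⟨h1, ?_⟩
      have : x * (y * g) = x * (g * y) := by
        calc x * (y * g) = x * y * g := by group
          _ = g * (x * y) := h2
          _ = (g * x) * y := by group
          _ = (x * g) * y := by rw [h1]
          _ = x * (g * y) := by group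
      exact mul_left_cancel this
  have hBD : Subgroup.centralizer ({x} : Set G) ⊓ Subgroup.centralizer ({y} : Set G) =
      Subgroup.centralizer ({y} : Set G) ⊓ Subgroup.centralizer ({x * y} : Set G) := by
    ext g
    rw [Subgroup.mem_inf, Subgroup.mem_inf, mem_cent_singleton, mem_cent_singleton,
      mem_cent_singleton]
    constructor
    · rintro ⟨h1, h2⟩
      refine ⟨h2, ?_⟩
      calc x * y * g = x * (y * g) := by group
        _ = x * (g * y) := by rw [h2]
        _ = (x * g) * y := by group
        _ = (g * x) * y := by rw [h1]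
        _ = g * (x * y) := by group
    · rintro ⟨h1, h2⟩
      refine ⟨?_, h1⟩
      rw [hxy'] at h2
      have : y * (x * g) = y * (g * x) := by
        calc y * (x * g) = y * x * g := by group
          _ = g * (y * x) := h2
          _ = (g * y) * x := by group
          _ = (y * g) * x := by rw [h1]
          _ = y * (g * x) := by group
      exact mul_left_cancel this
  have hAB : (Subgroup.centralizer ({x} : Set G) ⊓ Subgroup.centralizer ({y} : Set G)).index =
      r ^ a * s ^ b := by
    rw [index_inf_of_coprime _ _ hcop, hx, hy]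
  -- `t ^ c` divides `r ^ a * s ^ b`
  have hdvd : t ^ c ∣ r ^ a * s ^ b := by
    rw [← hAB, hAD, ← hD]
    exact Subgroup.index_dvd_of_le inf_le_right
  by_cases hc : c = 0
  · -- `x * y` is central: the two centralizers coincide
    left
    subst hc
    rw [pow_zero] at hD
    have htop : Subgroup.centralizer ({x * y} : Set G) = ⊤ := Subgroup.index_eq_one.1 hD
    have hA : (Subgroup.centralizer ({x} : Set G) ⊓ Subgroup.centralizer ({y} : Set G)) =
        Subgroup.centralizer ({x} : Set G) := by rw [hAD, htop, inf_top_eq]
    have hB : (Subgroup.centralizer ({x} : Set G) ⊓ Subgroup.centralizer ({y} : Set G)) =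
        Subgroup.centralizer ({y} : Set G) := by rw [hBD, htop, inf_top_eq]
    have heq : r ^ a = s ^ b := by
      rw [← hx, ← hy, ← hA]
      conv_rhs => rw [← hB]
    have h1 : r ^ a = 1 := by
      have := hcoprs
      rw [← heq] at this
      exact (Nat.coprime_self _).1 this
    by_contra ha
    have : 1 < r ^ a := Nat.one_lt_pow ha hr.one_lt
    omega
  · have htdvd : t ∣ r ^ a * s ^ b := dvd_trans (dvd_pow_self t hc) hdvd
    rcases (Nat.Prime.dvd_mul ht).1 htdvd with h | h
    · -- `t = r`
      have htr : t = r := (Nat.prime_dvd_prime_iff_eq ht hr).1 (ht.dvd_of_dvd_pow h)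
      subst htr
      right
      have hca : c ≤ a := by
        have h1 : t ^ c ∣ t ^ a :=
          Nat.Coprime.dvd_of_dvd_mul_right
            (Nat.Coprime.pow _ _ ((Nat.coprime_primes ht hs).2 hrs)) hdvd
        exact (Nat.pow_dvd_pow_iff_le_right ht.one_lt).1 h1
      have hac : a ≤ c := by
        have h1 : t ^ a * s ^ b ≤ s ^ b * t ^ c := by
          rw [← hAB, hBD, ← hy, ← hD]
          exact Subgroup.index_inf_le
        have hpos : 0 < s ^ b := Nat.pow_pos hs.pos
        have h2 : t ^ a ≤ t ^ c := by
          rw [mul_comm (s ^ b)] at h1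
          exact Nat.le_of_mul_le_mul_right h1 hpos
        exact (Nat.pow_le_pow_iff_right ht.one_lt).1 h2
      have hac' : c = a := le_antisymm hca hac
      rw [hac'] at hD
      exact central_of_index_mul_eq x y hxy t s a b ht hs hrs hx hy hD hoy
    · -- `t = s`
      have hts : t = s := (Nat.prime_dvd_prime_iff_eq ht hs).1 (ht.dvd_of_dvd_pow h)
      subst hts
      left
      have hcb : c ≤ b := by
        have h1 : t ^ c ∣ t ^ b := by
          rw [mul_comm] at hdvd
          exact Nat.Coprime.dvd_of_dvd_mul_right
            (Nat.Coprime.pow _ _ ((Nat.coprime_primes ht hr).2 (Ne.symm hrs))) hdvd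
        exact (Nat.pow_dvd_pow_iff_le_right ht.one_lt).1 h1
      have hbc : b ≤ c := by
        have h1 : r ^ a * t ^ b ≤ r ^ a * t ^ c := by
          rw [← hAB, hAD, ← hx, ← hD]
          exact Subgroup.index_inf_le
        have hpos : 0 < r ^ a := Nat.pow_pos hr.pos
        have h2 : t ^ b ≤ t ^ c := Nat.le_of_mul_le_mul_left h1 hpos
        exact (Nat.pow_le_pow_iff_right ht.one_lt).1 h2
      have hbc' : c = b := le_antisymm hcb hbc
      rw [hbc', hxy'] at hD
      exact central_of_index_mul_eq y x hxy.symm t r b a ht hr (Ne.symm hrs) hy hx hD hox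

end Cfsg.Agent.Lib.Helper51.QBaer
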