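/-
Helper51, project S4125 (helper75, q-Baer groups), module [U2] (hedge): if no `q`-element has
centralizer of index `q ^ a > 1`, then one prime `p` serves for all `q`-elements.
-/
import Mathlib
import Cfsg.Agent.Lib.Helper75.QBaer.Defs
import Cfsg.Agent.Lib.Helper51.QBaerCI

set_option autoImplicit false
set_option linter.style.haveILetI false

namespace Cfsg.Agent.Lib.Helper51.QBaer

open scoped Pointwise

variable {G : Type*} [Group G] [Finite G]

omit [Finite G] in
/-- conjugate elements have centralizers of the same index -/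
theorem index_centralizer_conj (y c : G) :
    (Subgroup.centralizer ({c * y * c⁻¹} : Set G)).index =
      (Subgroup.centralizer ({y} : Set G)).index := by
  rw [← ncard_ccl, ← ncard_ccl]
  congr 1
  ext z
  rw [mem_ccl, mem_ccl]
  constructor
  · rintro ⟨g, rfl⟩
    exact ⟨g * c, by group⟩
  · rintro ⟨g, rfl⟩
    exact ⟨g * c⁻¹, by group⟩

/-- a `q`-element is conjugate into any given Sylow `q`-subgroup -/
theorem exists_conj_mem_sylow (q : ℕ) [Fact q.Prime] (Q : Sylow q G) (y : G)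
    (hy : ∃ k : ℕ, orderOf y = q ^ k) : ∃ c : G, c * y * c⁻¹ ∈ Q := by
  have hpg : IsPGroup q (Subgroup.zpowers y) := by
    obtain ⟨k, hk⟩ := hy
    apply IsPGroup.of_card (n := k)
    rw [Nat.card_zpowers, hk]
  obtain ⟨Q₂, hQ₂⟩ := hpg.exists_le_sylow
  obtain ⟨g, hg⟩ := MulAction.exists_smul_eq G Q₂ Q
  refine ⟨g, ?_⟩
  have hyQ₂ : y ∈ (Q₂ : Subgroup G) := hQ₂ (Subgroup.mem_zpowers y)
  have : g * y * g⁻¹ ∈ ((g • Q₂ : Sylow q G) : Subgroup G) := by
    rw [Sylow.coe_subgroup_smul]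
    exact Subgroup.smul_mem_pointwise_smul y (MulAut.conj g) _ hyQ₂
  rwa [hg] at this

/-- [U2] no `q`-element of index `q ^ a > 1` => one prime -/
theorem exists_prime_of_no_q (q : ℕ) [Fact q.Prime]
    (hBaer : ∀ x : G, (∃ k : ℕ, orderOf x = q ^ k) → ∃ (r : ℕ) (a : ℕ), r.Prime ∧
      (Subgroup.centralizer ({x} : Set G)).index = r ^ a)
    (hno : ∀ x : G, (∃ k : ℕ, orderOf x = q ^ k) → ∀ a : ℕ,
      (Subgroup.centralizer ({x} : Set G)).index = q ^ a → a = 0) :
    ∃ p : ℕ, p.Prime ∧ ∀ x : G, (∃ k : ℕ, orderOf x = q ^ k) →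
      ∃ a : ℕ, (Subgroup.centralizer ({x} : Set G)).index = p ^ a := by
  have hq : q.Prime := Fact.out
  by_cases hall : ∀ x : G, (∃ k : ℕ, orderOf x = q ^ k) →
      (Subgroup.centralizer ({x} : Set G)).index = 1
  · exact ⟨q, hq, fun x hx => ⟨0, by rw [hall x hx, pow_zero]⟩⟩
  push Not at hall
  obtain ⟨y, hyq, hy1⟩ := hall
  obtain ⟨s, b, hs, hyb⟩ := hBaer y hyq
  have hb : b ≠ 0 := by
    intro h0
    rw [h0, pow_zero] at hyb
    exact hy1 hyb
  have hsq : s ≠ q := by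
    intro h
    rw [h] at hyb
    exact hb (hno y hyq b hyb)
  refine ⟨s, hs, ?_⟩
  intro x hxq
  obtain ⟨r, a, hr, hxa⟩ := hBaer x hxq
  by_cases ha : a = 0
  · exact ⟨0, by rw [hxa, ha, pow_zero, pow_zero]⟩
  by_cases hrs : r = s
  · exact ⟨a, by rw [hxa, hrs]⟩
  exfalso
  have hrq : r ≠ q := by
    intro h
    rw [h] at hxa
    exact ha (hno x hxq a hxa)
  -- the centralizer of `x` contains a Sylow `q`-subgroup
  have hnd : ¬ q ∣ (Subgroup.centralizer ({x} : Set G)).index := by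
    rw [hxa]
    intro hd
    exact hrq ((Nat.prime_dvd_prime_iff_eq hq hr).1 (hq.dvd_of_dvd_pow hd)).symm
  obtain ⟨Q₁, hQ₁⟩ := Cfsg.Agent.Lib.Helper76.exists_sylow_le_of_not_dvd_index q _ hnd
  obtain ⟨c, hc⟩ := exists_conj_mem_sylow q Q₁ y hyq
  obtain ⟨y', hy'⟩ : ∃ y' : G, y' = c * y * c⁻¹ := ⟨_, rfl⟩
  rw [← hy'] at hc
  have hcomm : x * y' = y' * x := mem_cent_singleton.1 (hQ₁ hc)
  have hy'b : (Subgroup.centralizer ({y'} : Set G)).index = s ^ b := by
    rw [hy', index_centralizer_conj, hyb]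
  obtain ⟨k, hk⟩ := hxq
  obtain ⟨l, hl⟩ := hyq
  have hy'ord : orderOf y' = q ^ l := by
    rw [hy', ← hl]
    have := (MulAut.conj c).orderOf_eq y
    rwa [MulAut.conj_apply] at this
  -- `x * y'` is a `q`-element
  have hxy'q : ∃ j : ℕ, orderOf (x * y') = q ^ j := by
    have hdvd : orderOf (x * y') ∣ q ^ (max k l) := by
      have h1 := (show Commute x y' from hcomm).orderOf_mul_dvd_lcm
      rw [hk, hy'ord] at h1
      refine dvd_trans h1 (Nat.lcm_dvd ?_ ?_)
      · exact pow_dvd_pow q (le_max_left k l)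
      · exact pow_dvd_pow q (le_max_right k l)
    obtain ⟨j, -, hj⟩ := (Nat.dvd_prime_pow hq).1 hdvd
    exact ⟨j, hj⟩
  obtain ⟨t, c', ht, htc⟩ := hBaer (x * y') hxy'q
  have hox : (orderOf x).Coprime s := by
    rw [hk]
    exact Nat.Coprime.pow_left k ((Nat.coprime_primes hq hs).2 (Ne.symm hsq))
  have hoy : (orderOf y').Coprime r := by
    rw [hy'ord]
    exact Nat.Coprime.pow_left l ((Nat.coprime_primes hq hr).2 (Ne.symm hrq))
  rcases coprime_index_lemma x y' hcomm r s a b hr hs hrs hxa hy'b ⟨t, c', ht, htc⟩ hox hoy with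
    h | h
  · exact ha h
  · exact hb h

end Cfsg.Agent.Lib.Helper51.QBaer
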