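/-
helper51: project REEW2 (helper61), module REEW2-[W2-ORD3].
-/
import Mathlib

set_option autoImplicit false

namespace Cfsg.Agent.Lib.Helper51.ReeW2

theorem exists_four_group_three_cycle {G : Type*} [Group G] [Finite G] (S : Sylow 2 G)
    (hS8 : Nat.card ↥(S : Subgroup G) = 8) (hSexp : ∀ x ∈ (S : Subgroup G), x * x = 1)
    (hC : Subgroup.centralizer ((S : Subgroup G) : Set G) = S)
    (hN : Nat.card ↥(Subgroup.normalizer ((S : Subgroup G) : Set G)) = 168) :
    ∃ t₁ t₂ f : G, orderOf t₁ = 2 ∧ orderOf t₂ = 2 ∧ t₁ ≠ t₂ ∧ t₁ * t₂ = t₂ * t₁ ∧ orderOf f = 3 ∧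
      f * t₁ * f⁻¹ = t₂ ∧ f * t₂ * f⁻¹ = t₁ * t₂ := by
  classical
  -- `S` is abelian
  have hinv : ∀ x ∈ (S : Subgroup G), x⁻¹ = x := fun x hx => inv_eq_of_mul_eq_one_left (hSexp x hx)
  have hcomm : ∀ x ∈ (S : Subgroup G), ∀ y ∈ (S : Subgroup G), x * y = y * x := by
    intro x hx y hy
    have h1 := hinv (x * y) (mul_mem hx hy)
    rw [mul_inv_rev, hinv x hx, hinv y hy] at h1
    exact h1.symm
  -- an element of order 3 in the normalizer
  have : Fact (Nat.Prime 3) := ⟨by norm_num⟩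
  obtain ⟨f', hf'⟩ := exists_prime_orderOf_dvd_card' (G := ↥(Subgroup.normalizer ((S : Subgroup G) : Set G))) 3
    (by rw [hN]; norm_num)
  have hf3 : orderOf (f' : G) = 3 := by rw [Subgroup.orderOf_coe]; exact hf'
  obtain ⟨f, hf⟩ : ∃ f : G, f = (f' : G) := ⟨_, rfl⟩
  rw [← hf] at hf3
  have hfN : f ∈ Subgroup.normalizer ((S : Subgroup G) : Set G) := by rw [hf]; exact f'.2
  have hfS : ∀ x ∈ (S : Subgroup G), f * x * f⁻¹ ∈ (S : Subgroup G) := by
    intro x hx
    exact (Subgroup.mem_normalizer_iff.mp hfN x).mp hx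
  have hf3' : f ^ 3 = 1 := by rw [← hf3]; exact pow_orderOf_eq_one f
  -- `f ∉ S`
  have hfnS : f ∉ (S : Subgroup G) := by
    intro h
    have h2 : f ^ 2 = 1 := by rw [pow_two]; exact hSexp f h
    have : orderOf f ∣ 2 := orderOf_dvd_of_pow_eq_one h2
    rw [hf3] at this
    omega
  -- some `s ∈ S` is moved by `f`
  obtain ⟨s, hsS, hs⟩ : ∃ s ∈ (S : Subgroup G), f * s * f⁻¹ ≠ s := by
    by_contra hcon
    push Not at hcon
    apply hfnS
    rw [← hC, Subgroup.mem_centralizer_iff]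
    intro x hx
    have := hcon x hx
    calc x * f = (f * x * f⁻¹) * f := by rw [this]
      _ = f * x := by group
  obtain ⟨a, ha⟩ : ∃ a : G, a = s := ⟨_, rfl⟩
  rw [← ha] at hs hsS
  obtain ⟨b, hb⟩ : ∃ b : G, b = f * a * f⁻¹ := ⟨_, rfl⟩
  obtain ⟨c, hc⟩ : ∃ c : G, c = f * b * f⁻¹ := ⟨_, rfl⟩
  rw [← hb] at hs
  have hbS : b ∈ (S : Subgroup G) := by rw [hb]; exact hfS a hsS
  have hcS : c ∈ (S : Subgroup G) := by rw [hc]; exact hfS b hbS
  have hfc : f * c * f⁻¹ = a := by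
    have hfff : f * f * f = 1 := by
      have := hf3'
      rwa [pow_succ, pow_succ, pow_one] at this
    have e : f * c * f⁻¹ = (f * f * f) * a * (f * f * f)⁻¹ := by
      rw [hc, hb]
      simp only [mul_assoc, mul_inv_rev]
    rw [e, hfff]; simp
  refine ⟨a * b, b * c, f, ?_, ?_, ?_, ?_, hf3, ?_, ?_⟩
  · -- orderOf (a*b) = 2
    have h1 : a * b ≠ 1 := by
      intro h
      have : a = b⁻¹ := eq_inv_of_mul_eq_one_left h
      rw [hinv b hbS] at this
      exact hs this.symm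
    exact orderOf_eq_prime (by rw [pow_two]; exact hSexp _ (mul_mem hsS hbS)) h1
  · have h1 : b * c ≠ 1 := by
      intro h
      have h2 : b = c⁻¹ := eq_inv_of_mul_eq_one_left h
      rw [hinv c hcS] at h2
      -- b = c, i.e. f a f⁻¹ = f b f⁻¹, so a = b
      have h3 : a = b := by
        have : f * a * f⁻¹ = f * b * f⁻¹ := by rw [← hb, ← hc]; exact h2
        have h4 := mul_right_cancel this
        exact mul_left_cancel h4
      exact hs h3.symm
    exact orderOf_eq_prime (by rw [pow_two]; exact hSexp _ (mul_mem hbS hcS)) h1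
  · -- a*b ≠ b*c
    intro h
    -- then a = c (cancel b using commutativity)
    have h1 : a * b = c * b := by rw [h, hcomm b hbS c hcS]
    have h2 : a = c := mul_right_cancel h1
    -- f a f⁻¹ = b and f c f⁻¹ = a, so b = a
    have h3 : b = a := by
      have : f * a * f⁻¹ = f * c * f⁻¹ := by rw [← h2]
      rw [hfc, ← hb] at this
      exact this
    exact hs h3
  · -- commute
    exact hcomm _ (mul_mem hsS hbS) _ (mul_mem hbS hcS)
  · -- f (a b) f⁻¹ = b c
    rw [hc, hb]; group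
  · -- f (b c) f⁻¹ = (a b)(b c) = a c = c a
    have h1 : f * (b * c) * f⁻¹ = (f * b * f⁻¹) * (f * c * f⁻¹) := by group
    rw [h1, hfc, ← hc]
    have h2 : a * b * (b * c) = a * (b * b) * c := by group
    rw [h2, hSexp b hbS, mul_one]
    exact hcomm c hcS a hsS

end Cfsg.Agent.Lib.Helper51.ReeW2
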