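/-
helper51: S2440 (number of `p`-blocks of `SL_n(p)`), general part:
blocks of full defect = blocks with a Sylow defect group; counting via S0953 when the
`p`-regular elements of `N(P)` centralizing `P` are central.
-/
import Mathlib
import Cfsg.Prelude.Def_Blocks
import Cfsg.Agent.S0953
import Cfsg.Agent.Lib.Helper77.KnorrEasy
import Cfsg.Agent.Lib.Helper78.DefectOrder
import Cfsg.Agent.Lib.Helper16.BrauerHom

set_option autoImplicit false
set_option linter.style.haveILetI false
set_option linter.unusedSectionVars false

open Cfsg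

namespace Cfsg.Agent.Lib.Helper51.SLBlk

universe u

variable {G : Type u} [Group G] [Finite G]

/-- a block has full defect iff a given Sylow subgroup is a defect group -/
theorem full_defect_iff_sylow_defectGroup (p : ℕ) [Fact p.Prime] (M : Ideal AlgInt)
    (hM : IsPModular p M) (P : Sylow p G) {B : Set (IrrCharacter G)} (hB : IsPBlock M B) :
    blockDefect p B = (Nat.card G).factorization p ↔ IsDefectGroup p M B (P : Subgroup G) := by
  classical
  haveI : Fintype G := Fintype.ofFinite G
  have hp : p.Prime := Fact.out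
  haveI hMp := Cfsg.Agent.Lib.Helper16.isPModular_isPrime hM
  constructor
  · intro hd
    obtain ⟨D, hD⟩ := Cfsg.Agent.Lib.Helper16.exists_isDefectGroup p hB
    have hcD : Nat.card D = p ^ (Nat.card G).factorization p := by
      rw [Cfsg.Agent.Lib.Helper78.card_defectGroup hM hB hD, hd]
    obtain ⟨g, hg⟩ := MulAction.exists_smul_eq G (Sylow.ofCard D hcD) P
    have h1 : (P : Subgroup G) = D.map (MulAut.conj g).toMonoidHom := by
      rw [← hg, Sylow.coe_subgroup_smul, Sylow.coe_ofCard, Subgroup.pointwise_smul_def]
      rfl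
    rw [h1]
    exact Cfsg.Agent.Lib.Helper77.isDefectGroup_map_conj hD g
  · intro hD
    have h1 := Cfsg.Agent.Lib.Helper78.card_defectGroup hM hB hD
    have h2 : Nat.card (P : Subgroup G) = p ^ (Nat.card G).factorization p :=
      P.card_eq_multiplicity
    rw [h2] at h1
    exact (Nat.pow_right_injective hp.two_le h1).symm

/-- counting the classes of `p`-regular elements of `N(P)` centralizing `P` when they are all
central -/
theorem card_classes_eq_card_center (p : ℕ) [Fact p.Prime] (P : Sylow p G)
    (hcen : ∀ x : G, x ∈ Subgroup.normalizer ((P : Subgroup G) : Set G) → ¬ p ∣ orderOf x →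
      x ∈ Subgroup.centralizer ((P : Subgroup G) : Set G) → x ∈ Subgroup.center G)
    (hZ : ¬ p ∣ Nat.card (Subgroup.center G)) :
    Nat.card {C : ConjClasses (Subgroup.normalizer ((P : Subgroup G) : Set G)) //
      ∀ n : Subgroup.normalizer ((P : Subgroup G) : Set G), ConjClasses.mk n = C →
        ¬ p ∣ orderOf n ∧ (n : G) ∈ Subgroup.centralizer ((P : Subgroup G) : Set G)} =
      Nat.card (Subgroup.center G) := by
  classical
  set N := Subgroup.normalizer ((P : Subgroup G) : Set G) with hN
  have hZN : ∀ z : G, z ∈ Subgroup.center G → z ∈ N := by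
    intro z hz
    rw [hN, Subgroup.mem_normalizer_iff]
    intro h
    have e : z * h * z⁻¹ = h := by
      rw [Subgroup.mem_center_iff] at hz
      rw [← hz h, mul_assoc, mul_inv_cancel, mul_one]
    rw [e]
  have hconj : ∀ (z : G) (hz : z ∈ Subgroup.center G) (n : N),
      ConjClasses.mk n = ConjClasses.mk (⟨z, hZN z hz⟩ : N) → n = ⟨z, hZN z hz⟩ := by
    intro z hz n h
    rw [ConjClasses.mk_eq_mk_iff_isConj, isConj_iff] at h
    obtain ⟨c, hc⟩ := h
    have h1 : (c : G) * (n : G) * (c : G)⁻¹ = z := by
      have := congrArg Subtype.val hc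
      simpa using this
    apply Subtype.ext
    show (n : G) = z
    rw [Subgroup.mem_center_iff] at hz
    have h2 : (n : G) = (c : G)⁻¹ * z * (c : G) := by
      rw [← h1]
      group
    rw [h2, mul_assoc, ← hz (c : G), ← mul_assoc, inv_mul_cancel, one_mul]
  symm
  apply Nat.card_eq_of_bijective
    (fun z : Subgroup.center G =>
      (⟨ConjClasses.mk (⟨(z : G), hZN z z.2⟩ : N), by
        intro n hn
        have hnz := hconj (z : G) z.2 n hn
        subst hnz
        constructor
        · intro hdvd
          apply hZ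
          have h1 : orderOf (⟨(z : G), hZN z z.2⟩ : N) = orderOf z := by
            rw [← Subgroup.orderOf_coe, ← Subgroup.orderOf_coe]
          rw [h1] at hdvd
          exact hdvd.trans (orderOf_dvd_natCard z)
        · exact Subgroup.center_le_centralizer _ z.2⟩ :
        {C : ConjClasses N // ∀ n : N, ConjClasses.mk n = C →
          ¬ p ∣ orderOf n ∧ (n : G) ∈ Subgroup.centralizer ((P : Subgroup G) : Set G)}))
  constructor
  · intro z z' h
    have h1 := congrArg Subtype.val h
    have h2 := hconj (z' : G) z'.2 _ h1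
    apply Subtype.ext
    exact congrArg (fun x : N => (x : G)) h2
  · rintro ⟨C, hC⟩
    obtain ⟨n, rfl⟩ := ConjClasses.mk_surjective C
    obtain ⟨h1, h2⟩ := hC n rfl
    have h3 : orderOf n = orderOf (n : G) := (Subgroup.orderOf_coe n).symm
    rw [h3] at h1
    have hz := hcen (n : G) n.2 h1 h2
    refine ⟨⟨(n : G), hz⟩, ?_⟩
    apply Subtype.ext
    rfl

/-- splitting the blocks by the defect -/
theorem card_blocks_of_dichotomy (p : ℕ) [Fact p.Prime] (M : Ideal AlgInt)
    (hM : IsPModular p M) (P : Sylow p G)
    (h0 : Nat.card {B : Set (IrrCharacter G) // IsPBlock M B ∧ blockDefect p B = 0} = 1)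
    (hdich : ∀ B : Set (IrrCharacter G), IsPBlock M B →
      blockDefect p B = 0 ∨ blockDefect p B = (Nat.card G).factorization p)
    (hpos : (Nat.card G).factorization p ≠ 0)
    (hcen : ∀ x : G, x ∈ Subgroup.normalizer ((P : Subgroup G) : Set G) → ¬ p ∣ orderOf x →
      x ∈ Subgroup.centralizer ((P : Subgroup G) : Set G) → x ∈ Subgroup.center G)
    (hZ : ¬ p ∣ Nat.card (Subgroup.center G)) :
    Nat.card {B : Set (IrrCharacter G) // IsPBlock M B} = Nat.card (Subgroup.center G) + 1 := by
  classical
  haveI : Fintype G := Fintype.ofFinite G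
  haveI : Finite (Set (IrrCharacter G)) := inferInstance
  set S : Set (Set (IrrCharacter G)) := {B | IsPBlock M B} with hS
  set S0 : Set (Set (IrrCharacter G)) := {B | IsPBlock M B ∧ blockDefect p B = 0} with hS0
  set S1 : Set (Set (IrrCharacter G)) :=
    {B | IsPBlock M B ∧ IsDefectGroup p M B (P : Subgroup G)} with hS1
  have hunion : S = S0 ∪ S1 := by
    ext B
    simp only [hS, hS0, hS1, Set.mem_union, Set.mem_ofPred_eq]
    constructor
    · intro hB
      rcases hdich B hB with h | h
      · exact Or.inl ⟨hB, h⟩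
      · exact Or.inr ⟨hB, (full_defect_iff_sylow_defectGroup p M hM P hB).mp h⟩
    · rintro (h | h)
      · exact h.1
      · exact h.1
  have hdisj : Disjoint S0 S1 := by
    rw [Set.disjoint_left]
    rintro B ⟨hB, h0'⟩ ⟨_, h1⟩
    have := (full_defect_iff_sylow_defectGroup p M hM P hB).mpr h1
    rw [h0'] at this
    exact hpos this.symm
  have e0 : Nat.card {B : Set (IrrCharacter G) // IsPBlock M B} = S.ncard :=
    Nat.card_coe_set_eq S
  have e1 : Nat.card {B : Set (IrrCharacter G) // IsPBlock M B ∧ blockDefect p B = 0} = S0.ncard :=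
    Nat.card_coe_set_eq S0
  have e2 : Nat.card {B : Set (IrrCharacter G) // IsPBlock M B ∧
      IsDefectGroup p M B (P : Subgroup G)} = S1.ncard := Nat.card_coe_set_eq S1
  rw [e0, hunion, Set.ncard_union_eq hdisj (Set.toFinite _) (Set.toFinite _), ← e1, ← e2, h0,
    Cfsg.Agent.S0953.result p M hM P, card_classes_eq_card_center p P hcen hZ, add_comm]

end Cfsg.Agent.Lib.Helper51.SLBlk
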