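/-
helper51: S2440 (number of `p`-blocks of `SL_n(p)`), the `SL_n`-part, hypothesis form:
S4538 (one block of defect zero, all others of full defect) enters as a hypothesis.
-/
import Mathlib
import Cfsg.Prelude.Def_Blocks
import Cfsg.Prelude.Def_Solvable
import Cfsg.Agent.Lib.Helper51.SLBlocksA
import Cfsg.Agent.Lib.Helper50.SLDZRad
import Cfsg.Agent.Lib.Helper57.CardSL
import Cfsg.Agent.Lib.Helper76.PCore
import Cfsg.Agent.Lib.Helper45.PSLAut.Unitri

set_option autoImplicit false
set_option linter.style.haveILetI false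

open Cfsg Matrix

namespace Cfsg.Agent.Lib.Helper51.SLBlk

universe u

/-- a Sylow subgroup is radical -/
theorem sylow_radical {G : Type u} [Group G] [Finite G] (p : ℕ) [Fact p.Prime] (P : Sylow p G) :
    (Cfsg.pCore p (Subgroup.normalizer ((P : Subgroup G) : Set G))).map
      (Subgroup.normalizer ((P : Subgroup G) : Set G)).subtype = (P : Subgroup G) := by
  set N := Subgroup.normalizer ((P : Subgroup G) : Set G) with hN
  have hPN : (P : Subgroup G) ≤ N := Subgroup.le_normalizer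
  have h1 : Cfsg.pCore p N ≤ (P : Subgroup G).subgroupOf N :=
    Cfsg.Agent.Lib.Helper76.pCore_le_sylow p (P.subtype hPN)
  have h2 : (P : Subgroup G).subgroupOf N ≤ Cfsg.pCore p N :=
    Cfsg.Agent.Lib.Helper76.le_pCore p _ Subgroup.normal_in_normalizer P.2.comap_subtype
  rw [le_antisymm h1 h2, Subgroup.map_subgroupOf_eq_of_le hPN]

variable {F : Type*} [Field F] [Fintype F] {n : ℕ}

theorem p_dvd_card_SL (hn : 2 ≤ n) (p : ℕ) [Fact p.Prime] [CharP F p] :
    p ∣ Nat.card (Matrix.SpecialLinearGroup (Fin n) F) := by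
  obtain ⟨f, -, hF⟩ := FiniteField.card F p
  have h1 : Nat.card (Cfsg.Agent.Lib.Helper45.PSLAut.UU n F) ∣
      Nat.card (Matrix.SpecialLinearGroup (Fin n) F) := Subgroup.card_subgroup_dvd_card _
  rw [Cfsg.Agent.Lib.Helper45.PSLAut.card_UU] at h1
  have h2 : Fintype.card F ^ ((⟨1, hn⟩ : Fin n) : ℕ) ∣ ∏ j : Fin n, Fintype.card F ^ (j : ℕ) :=
    Finset.dvd_prod_of_mem _ (Finset.mem_univ _)
  have h3 : p ∣ Fintype.card F := by
    rw [hF]
    exact dvd_pow_self p f.2.ne'
  have h4 : p ∣ Fintype.card F ^ ((⟨1, hn⟩ : Fin n) : ℕ) := by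
    simpa using h3
  exact (h4.trans h2).trans h1

theorem not_p_dvd_card_center_SL (hn : 2 ≤ n) (p : ℕ) [hp : Fact p.Prime] [CharP F p] :
    ¬ p ∣ Nat.card (Subgroup.center (Matrix.SpecialLinearGroup (Fin n) F)) := by
  obtain ⟨f, -, hF⟩ := FiniteField.card F p
  rw [Cfsg.Agent.Lib.Helper57.card_center_SL n (by omega)]
  intro hcon
  have h6 : p ∣ Fintype.card F - 1 := hcon.trans (Nat.gcd_dvd_right _ _)
  have h7 : p ∣ Fintype.card F := by
    rw [hF]
    exact dvd_pow_self p f.2.ne'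
  have hpos' : 1 ≤ Fintype.card F := Fintype.card_pos
  have := (Nat.dvd_sub h7 h6)
  rw [Nat.sub_sub_self hpos'] at this
  exact hp.out.one_lt.ne' (Nat.dvd_one.mp this)

/-- S2440 for a general finite field, with S4538 as a hypothesis. -/
theorem card_blocks_SL_of (hn : 2 ≤ n) (p : ℕ) [Fact p.Prime] [CharP F p]
    (M : Ideal Cfsg.AlgInt) (hM : Cfsg.IsPModular p M)
    (h4538 : Nat.card {B : Set (Cfsg.IrrCharacter (Matrix.SpecialLinearGroup (Fin n) F)) //
        Cfsg.IsPBlock M B ∧ Cfsg.blockDefect p B = 0} = 1 ∧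
      ∀ B : Set (Cfsg.IrrCharacter (Matrix.SpecialLinearGroup (Fin n) F)), Cfsg.IsPBlock M B →
        Cfsg.blockDefect p B = 0 ∨ Cfsg.blockDefect p B =
          (Nat.card (Matrix.SpecialLinearGroup (Fin n) F)).factorization p) :
    Nat.card {B : Set (Cfsg.IrrCharacter (Matrix.SpecialLinearGroup (Fin n) F)) //
      Cfsg.IsPBlock M B} = Nat.gcd n (Fintype.card F - 1) + 1 := by
  classical
  have hp : p.Prime := Fact.out
  obtain ⟨P⟩ : Nonempty (Sylow p (Matrix.SpecialLinearGroup (Fin n) F)) := inferInstance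
  have hdvd := p_dvd_card_SL (F := F) hn p
  have hpos : (Nat.card (Matrix.SpecialLinearGroup (Fin n) F)).factorization p ≠ 0 :=
    (hp.factorization_pos_of_dvd Nat.card_pos.ne' hdvd).ne'
  have hP1 : (P : Subgroup (Matrix.SpecialLinearGroup (Fin n) F)) ≠ ⊥ :=
    P.ne_bot_of_dvd_card hdvd
  have hcen : ∀ x : Matrix.SpecialLinearGroup (Fin n) F,
      x ∈ Subgroup.normalizer ((P : Subgroup (Matrix.SpecialLinearGroup (Fin n) F)) : Set _) →
      ¬ p ∣ orderOf x →
      x ∈ Subgroup.centralizer ((P : Subgroup (Matrix.SpecialLinearGroup (Fin n) F)) : Set _) →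
      x ∈ Subgroup.center (Matrix.SpecialLinearGroup (Fin n) F) := by
    intro x _ hx hxc
    apply Cfsg.Agent.Lib.Helper50.SLDZ.mem_center_of_centralizes_radical p
      (P : Subgroup (Matrix.SpecialLinearGroup (Fin n) F)) P.2 hP1 (sylow_radical p P) x hx
    intro g hg
    rw [Subgroup.mem_centralizer_iff] at hxc
    exact hxc g hg
  rw [card_blocks_of_dichotomy p M hM P h4538.1 h4538.2 hpos hcen
    (not_p_dvd_card_center_SL hn p), Cfsg.Agent.Lib.Helper57.card_center_SL n (by omega)]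

end Cfsg.Agent.Lib.Helper51.SLBlk
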