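/-
helper51: general lemmas for S4538-[M4]: Parseval for characters, twists by linear characters.
-/
import Mathlib
import Cfsg.Agent.Lib.Helper82.SLDZ.Defs
import Cfsg.Agent.Lib.Helper78.CharMore

set_option autoImplicit false

open Cfsg
open scoped ComplexConjugate
open Cfsg.Agent.Lib.Helper79.BrauerN (linFun)

namespace Cfsg.Agent.Lib.Helper51.SLDZ

universe u

variable {G : Type u} [Group G] [Fintype G]

/-- Parseval for two characters with natural multiplicities -/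
theorem classInner_eq_natCast_sum {Φ Ψ : G → ℂ} (hΦ : IsClassFunction G Φ)
    (a b : IrrCharacter G → ℕ) (ha : ∀ ξ : IrrCharacter G, classInner Φ (ξ : G → ℂ) = a ξ)
    (hb : ∀ ξ : IrrCharacter G, classInner Ψ (ξ : G → ℂ) = b ξ) :
    classInner Φ Ψ = ((∑ ξ : IrrCharacter G, a ξ * b ξ : ℕ) : ℂ) := by
  rw [Cfsg.Agent.Lib.Helper78.classInner_eq_sum_mul_conj Ψ hΦ]
  push_cast
  apply Finset.sum_congr rfl
  intro ξ _
  rw [ha, hb, Complex.conj_natCast]

/-- a linear character has absolute value one -/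
theorem linFun_mul_conj (ε : G →* ℂˣ) (g : G) : linFun ε g * conj (linFun ε g) = 1 := by
  have h1 : (linFun ε g) ^ Nat.card G = 1 := by
    show ((ε g : ℂˣ) : ℂ) ^ Nat.card G = 1
    rw [← Units.val_pow_eq_pow_val, ← map_pow, pow_card_eq_one', map_one, Units.val_one]
  have h2 : ‖linFun ε g‖ = 1 := Complex.norm_eq_one_of_pow_eq_one h1 Nat.card_pos.ne'
  rw [Complex.mul_conj, Complex.normSq_eq_norm_sq, h2]
  simp

/-- twisting both arguments by a linear character does not change the inner product -/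
theorem classInner_mul_linFun (ε : G →* ℂˣ) (f₁ f₂ : G → ℂ) :
    classInner (f₁ * linFun ε) (f₂ * linFun ε) = classInner f₁ f₂ := by
  unfold classInner
  congr 1
  apply Finset.sum_congr rfl
  intro g _
  simp only [Pi.mul_apply, map_mul]
  calc f₁ g * linFun ε g * (conj (f₂ g) * conj (linFun ε g))
      = f₁ g * conj (f₂ g) * (linFun ε g * conj (linFun ε g)) := by ring
    _ = f₁ g * conj (f₂ g) := by rw [linFun_mul_conj, mul_one]

/-- the twist of an irreducible character by a linear character is irreducible -/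
theorem isIrrCharacter_mul_linFun {χ : G → ℂ} (hχ : IsIrrCharacter G χ) (ε : G →* ℂˣ) :
    IsIrrCharacter G (χ * linFun ε) := by
  apply Cfsg.Agent.Lib.Helper78.isIrrCharacter_of_classInner_self_eq_one
  · exact Cfsg.Agent.Lib.Helper80.isCharacter_mul
      (Cfsg.Agent.Lib.Helper78.IsIrrCharacter.isCharacter hχ)
      (Cfsg.Agent.Lib.Helper79.BrauerN.isCharacter_linFun ε)
  · rw [classInner_mul_linFun, Cfsg.Agent.Lib.Helper78.classInner_irr_self hχ]

/-- induction commutes with multiplication by a class function of the big group -/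
theorem indFun_mul_classFunction (H : Subgroup G) (α : ↥H → ℂ) {φ : G → ℂ}
    (hφ : IsClassFunction G φ) :
    indFun H (fun h : ↥H => α h * φ h) = indFun H α * φ := by
  funext g
  unfold indFun
  rw [Pi.mul_apply, mul_assoc, Finset.sum_mul]
  congr 1
  apply Finset.sum_congr rfl
  intro x _
  have hφx : φ (x⁻¹ * g * x) = φ g := by
    have := hφ g x⁻¹
    rwa [inv_inv] at this
  by_cases hx : x⁻¹ * g * x ∈ H
  · rw [Cfsg.Agent.Lib.Helper75.extendByZero_of_mem H _ hx,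
      Cfsg.Agent.Lib.Helper75.extendByZero_of_mem H _ hx]
    show α ⟨_, hx⟩ * φ (x⁻¹ * g * x) = _
    rw [hφx]
  · rw [Cfsg.Agent.Lib.Helper75.extendByZero_of_not_mem H _ hx,
      Cfsg.Agent.Lib.Helper75.extendByZero_of_not_mem H _ hx, zero_mul]

/-- multiplicities of the irreducible characters in a character -/
theorem exists_mult {Φ : G → ℂ} (hΦ : IsCharacter G Φ) :
    ∃ a : IrrCharacter G → ℕ, ∀ ξ : IrrCharacter G, classInner Φ (ξ : G → ℂ) = a ξ := by
  choose a ha using fun ξ => Cfsg.Agent.Lib.Helper78.IsCharacter.exists_nat_classInner hΦ ξ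
  exact ⟨a, ha⟩

/-- a common irreducible constituent of two characters with inner product at most one -/
theorem mul_le_one_of_common {Φ Ψ : G → ℂ} (hΦ : IsCharacter G Φ) (hΨ : IsCharacter G Ψ)
    (hle : ∃ m' : ℕ, m' ≤ 1 ∧ classInner Φ Ψ = (m' : ℂ)) {χ : G → ℂ} (hχ : IsIrrCharacter G χ)
    {a b : ℕ} (ha : classInner Φ χ = (a : ℂ)) (hb : classInner Ψ χ = (b : ℂ)) : a * b ≤ 1 := by
  classical
  obtain ⟨aa, haa⟩ := exists_mult hΦ
  obtain ⟨bb, hbb⟩ := exists_mult hΨ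
  obtain ⟨m', hm', hm⟩ := hle
  have hP := classInner_eq_natCast_sum
    (Cfsg.Agent.Lib.Helper78.IsCharacter.isClassFunction hΦ) aa bb haa hbb
  rw [hm] at hP
  have hP' : m' = ∑ ξ : IrrCharacter G, aa ξ * bb ξ := by exact_mod_cast hP
  have h1 : aa ⟨χ, hχ⟩ = a := by
    have := haa ⟨χ, hχ⟩
    rw [ha] at this
    exact_mod_cast this.symm
  have h2 : bb ⟨χ, hχ⟩ = b := by
    have := hbb ⟨χ, hχ⟩
    rw [hb] at this
    exact_mod_cast this.symm
  have h3 : aa ⟨χ, hχ⟩ * bb ⟨χ, hχ⟩ ≤ ∑ ξ : IrrCharacter G, aa ξ * bb ξ :=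
    Finset.single_le_sum (f := fun ξ : IrrCharacter G => aa ξ * bb ξ)
      (fun _ _ => Nat.zero_le _) (Finset.mem_univ _)
  rw [h1, h2, ← hP'] at h3
  exact h3.trans hm'

/-- two characters with inner product at most one have at most one common constituent -/
theorem eq_of_common {Φ Ψ : G → ℂ} (hΦ : IsCharacter G Φ) (hΨ : IsCharacter G Ψ)
    (hle : ∃ m' : ℕ, m' ≤ 1 ∧ classInner Φ Ψ = (m' : ℂ)) {χ₁ χ₂ : G → ℂ}
    (h₁ : IsIrrCharacter G χ₁) (h₂ : IsIrrCharacter G χ₂)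
    (ha₁ : classInner Φ χ₁ = 1) (hb₁ : classInner Ψ χ₁ = 1)
    (ha₂ : classInner Φ χ₂ = 1) (hb₂ : classInner Ψ χ₂ = 1) : χ₁ = χ₂ := by
  classical
  by_contra hne
  obtain ⟨aa, haa⟩ := exists_mult hΦ
  obtain ⟨bb, hbb⟩ := exists_mult hΨ
  obtain ⟨m', hm', hm⟩ := hle
  have hP := classInner_eq_natCast_sum
    (Cfsg.Agent.Lib.Helper78.IsCharacter.isClassFunction hΦ) aa bb haa hbb
  rw [hm] at hP
  have hP' : m' = ∑ ξ : IrrCharacter G, aa ξ * bb ξ := by exact_mod_cast hP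
  have e1 : aa ⟨χ₁, h₁⟩ = 1 := by
    have := haa ⟨χ₁, h₁⟩
    rw [ha₁] at this
    exact_mod_cast this.symm
  have e2 : bb ⟨χ₁, h₁⟩ = 1 := by
    have := hbb ⟨χ₁, h₁⟩
    rw [hb₁] at this
    exact_mod_cast this.symm
  have e3 : aa ⟨χ₂, h₂⟩ = 1 := by
    have := haa ⟨χ₂, h₂⟩
    rw [ha₂] at this
    exact_mod_cast this.symm
  have e4 : bb ⟨χ₂, h₂⟩ = 1 := by
    have := hbb ⟨χ₂, h₂⟩
    rw [hb₂] at this
    exact_mod_cast this.symm
  have hne' : (⟨χ₁, h₁⟩ : IrrCharacter G) ≠ ⟨χ₂, h₂⟩ := fun h => hne (congrArg Subtype.val h)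
  have h3 : ∑ ξ ∈ ({⟨χ₁, h₁⟩, ⟨χ₂, h₂⟩} : Finset (IrrCharacter G)), aa ξ * bb ξ ≤
      ∑ ξ : IrrCharacter G, aa ξ * bb ξ :=
    Finset.sum_le_sum_of_subset (Finset.subset_univ _)
  rw [Finset.sum_pair hne', e1, e2, e3, e4, ← hP'] at h3
  omega

omit [Fintype G] in
theorem isClassFunction_linFun (ε : G →* ℂˣ) : IsClassFunction G (linFun ε) :=
  Cfsg.Agent.Lib.Helper78.IsCharacter.isClassFunction
    (Cfsg.Agent.Lib.Helper79.BrauerN.isCharacter_linFun ε)

end Cfsg.Agent.Lib.Helper51.SLDZ
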