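/-
helper51: S4538-[M4] (helper82 sheet `Lib/Helper82/SLDZ/S4538_MODULES.md`), hypothesis form:
irreducible characters of `GL_n(q)` of `p`-defect zero agree on `SL_n(q)`; the modules
[M1] [M2] [M3] enter as hypotheses.
-/
import Mathlib
import Cfsg.Agent.Lib.Helper82.SLDZ.Defs
import Cfsg.Prelude.Def_Solvable
import Cfsg.Agent.Lib.Helper51.SLDZTwist
import Cfsg.Agent.Lib.Helper5.GLUPSL
import Cfsg.Agent.S0165

set_option autoImplicit false
set_option linter.unusedSectionVars false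
set_option linter.style.haveILetI false

open Cfsg Matrix
open scoped MatrixGroups ComplexConjugate
open Cfsg.Agent.Lib.Helper79.BrauerN (linFun)
open Cfsg.Agent.Lib.Helper5.GLU (permGL)
open Cfsg.Agent.Lib.Helper82.SLDZ

namespace Cfsg.Agent.Lib.Helper51.SLDZ

variable {F : Type*} [Field F] [Fintype F] {n : ℕ} [Fintype (GL (Fin n) F)]

/-- an irreducible character of `GL_n(q)` of degree divisible by `q^N` vanishes on the
`p`-singular elements -/
theorem vanish_of_defect_zero (p : ℕ) [hp : Fact p.Prime] [CharP F p]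
    {χ : GL (Fin n) F → ℂ} (hχ : IsIrrCharacter (GL (Fin n) F) χ)
    {d : ℕ} (hd : χ 1 = (d : ℂ)) (hdvd : (∏ j : Fin n, Fintype.card F ^ (j : ℕ)) ∣ d)
    (g : GL (Fin n) F) (hg : p ∣ orderOf g) : χ g = 0 := by
  classical
  obtain ⟨f, -, hF⟩ := FiniteField.card F p
  have hf : 1 ≤ (f : ℕ) := f.2
  obtain ⟨m, ρ, hirr, hρ⟩ := hχ
  have := hirr
  set e := ∑ j : Fin n, (f : ℕ) * (j : ℕ) with he
  have hM := Cfsg.Agent.Lib.Helper5.GLU.prod_pow_eq (F := F) (n := n) p f hF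
  have hcard := Cfsg.Agent.Lib.Helper45.PSLAut.card_GL_eq (F := F) (n := n)
  rw [hM] at hcard
  have hnd := Cfsg.Agent.Lib.Helper5.GLU.not_dvd_prod_sub_one (F := F) (n := n) p f hp.out hf hF
  have hdeg : m = d := by
    have h1 : ρ.character 1 = (m : ℂ) := by
      rw [Representation.char_one]
      simp
    rw [hρ, hd] at h1
    exact_mod_cast h1.symm
  rw [← hρ]
  apply Cfsg.Agent.S0165.result ρ p e hp.out
  · rw [hcard]; exact Dvd.intro _ rfl
  · rw [hcard, pow_succ]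
    intro hcon
    exact hnd (Nat.dvd_of_mul_dvd_mul_left (pow_pos hp.out.pos e) hcon)
  · rw [Module.finrank_fin_fun, hdeg, ← hM]
    exact hdvd
  · exact hg

/-- nontrivial unitriangular elements are `p`-singular -/
theorem p_dvd_orderOf_of_mem_unitriGL (p : ℕ) [hp : Fact p.Prime] [CharP F p]
    (hcardU : Nat.card (unitriGL n F) = ∏ j : Fin n, Fintype.card F ^ (j : ℕ))
    {u : GL (Fin n) F} (hu : u ∈ unitriGL n F) (hu1 : u ≠ 1) : p ∣ orderOf u := by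
  obtain ⟨f, -, hF⟩ := FiniteField.card F p
  have hM := Cfsg.Agent.Lib.Helper5.GLU.prod_pow_eq (F := F) (n := n) p f hF
  rw [hM] at hcardU
  have h1 : orderOf (⟨u, hu⟩ : ↥(unitriGL n F)) ∣ Nat.card (unitriGL n F) := orderOf_dvd_natCard _
  rw [hcardU, ← Subgroup.orderOf_coe] at h1
  obtain ⟨k, -, hk⟩ := (Nat.dvd_prime_pow hp.out).mp h1
  change orderOf u = p ^ k at hk
  rw [hk]
  have hk0 : k ≠ 0 := by
    rintro rfl
    rw [pow_zero, orderOf_eq_one_iff] at hk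
    exact hu1 hk
  exact dvd_pow_self p hk0

/-- the determinant twisted by a multiplicative character, as a linear character of `GL_n` -/
noncomputable def detHom (lam : MulChar F ℂ) : GL (Fin n) F →* ℂˣ :=
  (MulChar.toUnitHom lam).comp Matrix.GeneralLinearGroup.det

theorem linFun_detHom (lam : MulChar F ℂ) (g : GL (Fin n) F) :
    linFun (detHom lam) g = lam ((g : Matrix (Fin n) (Fin n) F).det) := by
  unfold detHom
  rw [Cfsg.Agent.Lib.Helper79.BrauerN.linFun_apply, MonoidHom.comp_apply, MulChar.coe_toUnitHom,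
    Matrix.GeneralLinearGroup.val_det_apply]

theorem borelFun_const (lam : MulChar F ℂ) (b : ↥(Cfsg.upperTriangularGL n F)) :
    borelFun (fun _ => lam) b = linFun (detHom lam) (b : GL (Fin n) F) := by
  rw [linFun_detHom]
  unfold borelFun
  rw [Matrix.det_of_isUpperTriangular b.2, map_prod]

theorem isCharacter_indFun_borelFun (θ : Fin n → MulChar F ℂ) :
    IsCharacter (GL (Fin n) F) (indFun (Cfsg.upperTriangularGL n F) (borelFun θ)) := by
  rw [← linFun_borelHom]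
  exact Cfsg.Agent.Lib.Helper79.BrauerN.isCharacter_indFun_linFun _ _

theorem isCharacter_indFun_ggFun (ψ₀ : AddChar F ℂ) :
    IsCharacter (GL (Fin n) F) (indFun (unitriGL n F) (ggFun ψ₀)) := by
  rw [← linFun_ggHom]
  exact Cfsg.Agent.Lib.Helper79.BrauerN.isCharacter_indFun_linFun _ _

/-- the structure of an irreducible character of `GL_n(q)` of defect zero: degree `q^N`,
vanishing on `U ∖ 1`, and a constituent of `Ind_B (λ ∘ det)` with multiplicity one. -/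
theorem exists_lam_of_defect_zero
    (hM1 : ∀ (θ : Fin n → MulChar F ℂ) (w : Equiv.Perm (Fin n)),
      indFun (Cfsg.upperTriangularGL n F) (borelFun (θ ∘ w)) =
        indFun (Cfsg.upperTriangularGL n F) (borelFun θ))
    (hM2 : ∀ (θ : Fin n → MulChar F ℂ) (ψ₀ : AddChar F ℂ), ψ₀ ≠ 1 →
      ∃ m : ℕ, m ≤ 1 ∧ classInner (indFun (Cfsg.upperTriangularGL n F) (borelFun θ))
        (indFun (unitriGL n F) (ggFun ψ₀)) = (m : ℂ))
    (hM3a : Nat.card (unitriGL n F) = ∏ j : Fin n, Fintype.card F ^ (j : ℕ))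
    (hM3b : ∀ (f : GL (Fin n) F → ℂ), IsClassFunction (GL (Fin n) F) f →
      (∀ u ∈ unitriGL n F, u ≠ 1 → f u = 0) →
      ∑ᶠ θ : Fin n → MulChar F ℂ,
        classInner f (indFun (Cfsg.upperTriangularGL n F) (borelFun θ)) =
        f 1 / (Nat.card (unitriGL n F) : ℂ))
    (hM3c : ∀ (f : GL (Fin n) F → ℂ), IsClassFunction (GL (Fin n) F) f →
      (∀ u ∈ unitriGL n F, u ≠ 1 → f u = 0) → ∀ ψ₀ : AddChar F ℂ,
      classInner f (indFun (unitriGL n F) (ggFun ψ₀)) = f 1 / (Nat.card (unitriGL n F) : ℂ))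
    (p : ℕ) [Fact p.Prime] [CharP F p] (hn : 0 < n)
    {χ : GL (Fin n) F → ℂ} (hχ : IsIrrCharacter (GL (Fin n) F) χ)
    (hd : ∃ d : ℕ, χ 1 = (d : ℂ) ∧ (∏ j : Fin n, Fintype.card F ^ (j : ℕ)) ∣ d)
    (ψ₀ : AddChar F ℂ) (hψ₀ : ψ₀ ≠ 1) :
    χ 1 = ((∏ j : Fin n, Fintype.card F ^ (j : ℕ) : ℕ) : ℂ) ∧
    (∀ u ∈ unitriGL n F, u ≠ 1 → χ u = 0) ∧
    ∃ lam : MulChar F ℂ,
      classInner (indFun (Cfsg.upperTriangularGL n F) (borelFun fun _ => lam)) χ = 1 := by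
  classical
  obtain ⟨d, hd1, m, rfl⟩ := hd
  set Q : ℕ := ∏ j : Fin n, Fintype.card F ^ (j : ℕ) with hQ
  have hvan : ∀ u ∈ unitriGL n F, u ≠ 1 → χ u = 0 := fun u hu hu1 =>
    vanish_of_defect_zero p hχ hd1 (Dvd.intro _ rfl) u
      (p_dvd_orderOf_of_mem_unitriGL p hM3a hu hu1)
  have hcl : IsClassFunction (GL (Fin n) F) χ :=
    Cfsg.Agent.Lib.Helper78.IsCharacter.isClassFunction
      (Cfsg.Agent.Lib.Helper78.IsIrrCharacter.isCharacter hχ)
  have hχ1 : χ 1 ≠ 0 := Cfsg.Agent.Lib.Helper80.char_one_ne_zero_of_isIrr hχ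
  have hQm : Q * m ≠ 0 := by
    intro h0
    apply hχ1
    rw [hd1, h0, Nat.cast_zero]
  have hQ0 : Q ≠ 0 := fun h => hQm (by rw [h, zero_mul])
  have hm0 : m ≠ 0 := fun h => hQm (by rw [h, mul_zero])
  have hdiv : χ 1 / (Nat.card (unitriGL n F) : ℂ) = (m : ℂ) := by
    rw [hM3a, hd1]
    have : (Q : ℂ) ≠ 0 := by exact_mod_cast hQ0
    push_cast
    field_simp
  -- the Gelfand–Graev side
  have hgg : classInner (indFun (unitriGL n F) (ggFun ψ₀)) χ = (m : ℂ) := by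
    rw [← Cfsg.Agent.Lib.Helper78.classInner_conj_symm, hM3c χ hcl hvan ψ₀, hdiv,
      Complex.conj_natCast]
  -- the principal series side
  have hex : ∀ θ : Fin n → MulChar F ℂ, ∃ a : ℕ,
      classInner (indFun (Cfsg.upperTriangularGL n F) (borelFun θ)) χ = (a : ℂ) := fun θ =>
    Cfsg.Agent.Lib.Helper78.IsCharacter.exists_nat_classInner (isCharacter_indFun_borelFun θ)
      ⟨χ, hχ⟩
  choose a ha using hex
  have ha' : ∀ θ : Fin n → MulChar F ℂ,
      classInner χ (indFun (Cfsg.upperTriangularGL n F) (borelFun θ)) = (a θ : ℂ) := by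
    intro θ
    rw [← Cfsg.Agent.Lib.Helper78.classInner_conj_symm, ha, Complex.conj_natCast]
  have hle : ∀ θ : Fin n → MulChar F ℂ, a θ * m ≤ 1 := fun θ =>
    mul_le_one_of_common (isCharacter_indFun_borelFun θ) (isCharacter_indFun_ggFun ψ₀)
      (hM2 θ ψ₀ hψ₀) hχ (ha θ) hgg
  haveI : Fintype (Fin n → MulChar F ℂ) := Fintype.ofFinite _
  have hsum : ∑ θ : Fin n → MulChar F ℂ, a θ = m := by
    have h1 := hM3b χ hcl hvan
    rw [hdiv, finsum_eq_sum_of_fintype] at h1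
    simp only [ha'] at h1
    exact_mod_cast h1
  obtain ⟨θ₀, hθ₀⟩ : ∃ θ₀ : Fin n → MulChar F ℂ, a θ₀ ≠ 0 := by
    by_contra hcon
    push Not at hcon
    apply hm0
    rw [← hsum]
    exact Finset.sum_eq_zero (fun θ _ => hcon θ)
  have hm1 : m = 1 := by
    have := hle θ₀
    have h1 : 1 ≤ a θ₀ := Nat.one_le_iff_ne_zero.mpr hθ₀
    have h2 : 1 ≤ m := Nat.one_le_iff_ne_zero.mpr hm0
    nlinarith
  have hθ₀1 : a θ₀ = 1 := by
    have := hle θ₀
    rw [hm1, mul_one] at this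
    have h1 : 1 ≤ a θ₀ := Nat.one_le_iff_ne_zero.mpr hθ₀
    omega
  have huniq : ∀ θ : Fin n → MulChar F ℂ, a θ ≠ 0 → θ = θ₀ := by
    intro θ hθ
    by_contra hne
    have h3 : ∑ ξ ∈ ({θ, θ₀} : Finset (Fin n → MulChar F ℂ)), a ξ ≤
        ∑ ξ : Fin n → MulChar F ℂ, a ξ :=
      Finset.sum_le_sum_of_subset (Finset.subset_univ _)
    rw [Finset.sum_pair hne, hsum, hm1, hθ₀1] at h3
    have h1 : 1 ≤ a θ := Nat.one_le_iff_ne_zero.mpr hθ
    omega
  have hinv : ∀ w : Equiv.Perm (Fin n), θ₀ ∘ w = θ₀ := by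
    intro w
    apply huniq
    have h1 : (a (θ₀ ∘ w) : ℂ) = (a θ₀ : ℂ) := by
      rw [← ha, ← ha, hM1]
    have h2 : a (θ₀ ∘ w) = a θ₀ := by exact_mod_cast h1
    rw [h2]
    exact hθ₀
  have hconst : θ₀ = fun _ => θ₀ ⟨0, hn⟩ := by
    funext i
    have := congrFun (hinv (Equiv.swap i ⟨0, hn⟩)) i
    rw [Function.comp_apply, Equiv.swap_apply_left] at this
    exact this.symm
  refine ⟨?_, hvan, θ₀ ⟨0, hn⟩, ?_⟩
  · rw [hd1, hm1, mul_one]
  · rw [← hconst, ha, hθ₀1, Nat.cast_one]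

/-- S4538-[M4], hypothesis form: the modules [M1] [M2] [M3] are hypotheses. -/
theorem eq_on_SL_of_defect_zero_of
    (hM1 : ∀ (θ : Fin n → MulChar F ℂ) (w : Equiv.Perm (Fin n)),
      indFun (Cfsg.upperTriangularGL n F) (borelFun (θ ∘ w)) =
        indFun (Cfsg.upperTriangularGL n F) (borelFun θ))
    (hM2 : ∀ (θ : Fin n → MulChar F ℂ) (ψ₀ : AddChar F ℂ), ψ₀ ≠ 1 →
      ∃ m : ℕ, m ≤ 1 ∧ classInner (indFun (Cfsg.upperTriangularGL n F) (borelFun θ))
        (indFun (unitriGL n F) (ggFun ψ₀)) = (m : ℂ))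
    (hM3a : Nat.card (unitriGL n F) = ∏ j : Fin n, Fintype.card F ^ (j : ℕ))
    (hM3b : ∀ (f : GL (Fin n) F → ℂ), IsClassFunction (GL (Fin n) F) f →
      (∀ u ∈ unitriGL n F, u ≠ 1 → f u = 0) →
      ∑ᶠ θ : Fin n → MulChar F ℂ,
        classInner f (indFun (Cfsg.upperTriangularGL n F) (borelFun θ)) =
        f 1 / (Nat.card (unitriGL n F) : ℂ))
    (hM3c : ∀ (f : GL (Fin n) F → ℂ), IsClassFunction (GL (Fin n) F) f →
      (∀ u ∈ unitriGL n F, u ≠ 1 → f u = 0) → ∀ ψ₀ : AddChar F ℂ,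
      classInner f (indFun (unitriGL n F) (ggFun ψ₀)) = f 1 / (Nat.card (unitriGL n F) : ℂ))
    (p : ℕ) [Fact p.Prime] [CharP F p] (hn : 0 < n)
    (χ₁ χ₂ : GL (Fin n) F → ℂ) (h₁ : IsIrrCharacter (GL (Fin n) F) χ₁)
    (h₂ : IsIrrCharacter (GL (Fin n) F) χ₂)
    (hd₁ : ∃ d : ℕ, χ₁ 1 = (d : ℂ) ∧ (∏ j : Fin n, Fintype.card F ^ (j : ℕ)) ∣ d)
    (hd₂ : ∃ d : ℕ, χ₂ 1 = (d : ℂ) ∧ (∏ j : Fin n, Fintype.card F ^ (j : ℕ)) ∣ d)
    (s : Matrix.SpecialLinearGroup (Fin n) F) :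
    χ₁ (Matrix.SpecialLinearGroup.toGL s) = χ₂ (Matrix.SpecialLinearGroup.toGL s) := by
  classical
  obtain ⟨ψ₀, hψ₀'⟩ := (AddChar.exists_apply_ne_zero (α := F) (a := 1)).mpr one_ne_zero
  have hψ₀ : ψ₀ ≠ 1 := by
    rintro rfl
    exact hψ₀' (AddChar.one_apply _)
  obtain ⟨hdeg₁, hvan₁, lam₁, hlam₁⟩ :=
    exists_lam_of_defect_zero hM1 hM2 hM3a hM3b hM3c p hn h₁ hd₁ ψ₀ hψ₀
  obtain ⟨hdeg₂, hvan₂, lam₂, hlam₂⟩ :=
    exists_lam_of_defect_zero hM1 hM2 hM3a hM3b hM3c p hn h₂ hd₂ ψ₀ hψ₀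
  set Q : ℕ := ∏ j : Fin n, Fintype.card F ^ (j : ℕ) with hQ
  set ε : GL (Fin n) F →* ℂˣ := detHom lam₁ / detHom lam₂ with hε
  have hεapp : ∀ g : GL (Fin n) F,
      linFun ε g = linFun (detHom lam₁) g / linFun (detHom lam₂) g := by
    intro g
    rw [Cfsg.Agent.Lib.Helper79.BrauerN.linFun_apply, hε, MonoidHom.div_apply,
      Units.val_div_eq_div_val]
    rfl
  have hne2 : ∀ g : GL (Fin n) F, linFun (detHom lam₂) g ≠ 0 := fun g => Units.ne_zero _
  set χ₂' : GL (Fin n) F → ℂ := χ₂ * linFun ε with hχ₂'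
  have h₂' : IsIrrCharacter (GL (Fin n) F) χ₂' := isIrrCharacter_mul_linFun h₂ ε
  -- the principal series
  have hind : indFun (Cfsg.upperTriangularGL n F) (borelFun fun _ => lam₁) =
      indFun (Cfsg.upperTriangularGL n F) (borelFun fun _ => lam₂) * linFun ε := by
    rw [← indFun_mul_classFunction _ _ (isClassFunction_linFun ε)]
    congr 1
    funext b
    rw [borelFun_const, borelFun_const, hεapp]
    field_simp [hne2 (b : GL (Fin n) F)]
  have hΦ := isCharacter_indFun_borelFun (F := F) (n := n) (fun _ => lam₁)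
  have hΨ := isCharacter_indFun_ggFun (F := F) (n := n) ψ₀
  have ha₂ : classInner (indFun (Cfsg.upperTriangularGL n F) (borelFun fun _ => lam₁)) χ₂' = 1 := by
    rw [hind, hχ₂', classInner_mul_linFun, hlam₂]
  -- the Gelfand–Graev character
  have hQ0 : (Q : ℂ) ≠ 0 := by
    rw [← hdeg₁]
    exact Cfsg.Agent.Lib.Helper80.char_one_ne_zero_of_isIrr h₁
  have hcl : ∀ {χ : GL (Fin n) F → ℂ}, IsIrrCharacter (GL (Fin n) F) χ →
      IsClassFunction (GL (Fin n) F) χ := fun h =>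
    Cfsg.Agent.Lib.Helper78.IsCharacter.isClassFunction
      (Cfsg.Agent.Lib.Helper78.IsIrrCharacter.isCharacter h)
  have hgg : ∀ {χ : GL (Fin n) F → ℂ}, IsIrrCharacter (GL (Fin n) F) χ → χ 1 = (Q : ℂ) →
      (∀ u ∈ unitriGL n F, u ≠ 1 → χ u = 0) →
      classInner (indFun (unitriGL n F) (ggFun ψ₀)) χ = 1 := by
    intro χ hχ hχ1 hv
    rw [← Cfsg.Agent.Lib.Helper78.classInner_conj_symm, hM3c χ (hcl hχ) hv ψ₀, hM3a, hχ1,
      div_self hQ0, map_one]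
  have hb₁ := hgg h₁ hdeg₁ hvan₁
  have hb₂ : classInner (indFun (unitriGL n F) (ggFun ψ₀)) χ₂' = 1 := by
    apply hgg h₂'
    · rw [hχ₂', Pi.mul_apply, hdeg₂, Cfsg.Agent.Lib.Helper79.BrauerN.linFun_apply, map_one,
        Units.val_one, mul_one]
    · intro u hu hu1
      rw [hχ₂', Pi.mul_apply, hvan₂ u hu hu1, zero_mul]
  have heq : χ₁ = χ₂' :=
    eq_of_common hΦ hΨ (hM2 _ ψ₀ hψ₀) h₁ h₂' hlam₁ hb₁ ha₂ hb₂
  rw [heq, hχ₂', Pi.mul_apply, hεapp, linFun_detHom, linFun_detHom]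
  have hdet : ((Matrix.SpecialLinearGroup.toGL s : GL (Fin n) F) :
      Matrix (Fin n) (Fin n) F).det = 1 := by
    simp
  rw [hdet, map_one, map_one, div_one, mul_one]

end Cfsg.Agent.Lib.Helper51.SLDZ
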