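/-
helper51: S4538-[M4] (helper82 sheet `Lib/Helper82/SLDZ/S4538_MODULES.md`):
irreducible characters of `GL_n(q)` of `p`-defect zero agree on `SL_n(q)`.
Assembly of the hypothesis form `SLDZM4Core` with [M1] [M2] (helper98) and [M3] (helper23).
-/
import Mathlib
import Cfsg.Agent.Lib.Helper82.SLDZ.Defs
import Cfsg.Prelude.Def_Solvable
import Cfsg.Agent.Lib.Helper51.SLDZM4Core
import Cfsg.Agent.Lib.Helper98.SLDZM1
import Cfsg.Agent.Lib.Helper98.SLDZM2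
import Cfsg.Agent.Lib.Helper23.SLDZM3

set_option autoImplicit false

open Cfsg Matrix
open scoped MatrixGroups ComplexConjugate
open Cfsg.Agent.Lib.Helper79.BrauerN (linFun)
open Cfsg.Agent.Lib.Helper5.GLU (permGL)
open Cfsg.Agent.Lib.Helper82.SLDZ

namespace Cfsg.Agent.Lib.Helper51.SLDZ

variable {F : Type*} [Field F] [Fintype F] {n : ℕ} [Fintype (GL (Fin n) F)]

/-- MODULE S4538-[M4] -/
theorem eq_on_SL_of_defect_zero (p : ℕ) [Fact p.Prime] [CharP F p] (hn : 0 < n)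
    (χ₁ χ₂ : GL (Fin n) F → ℂ) (h₁ : IsIrrCharacter (GL (Fin n) F) χ₁)
    (h₂ : IsIrrCharacter (GL (Fin n) F) χ₂)
    (hd₁ : ∃ d : ℕ, χ₁ 1 = (d : ℂ) ∧ (∏ j : Fin n, Fintype.card F ^ (j : ℕ)) ∣ d)
    (hd₂ : ∃ d : ℕ, χ₂ 1 = (d : ℂ) ∧ (∏ j : Fin n, Fintype.card F ^ (j : ℕ)) ∣ d)
    (s : Matrix.SpecialLinearGroup (Fin n) F) :
    χ₁ (Matrix.SpecialLinearGroup.toGL s) = χ₂ (Matrix.SpecialLinearGroup.toGL s) :=
  eq_on_SL_of_defect_zero_of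
    (fun θ w => Cfsg.Agent.Lib.Helper98.SLDZ.indFun_borelFun_comp_perm θ w)
    (fun θ ψ₀ hψ => Cfsg.Agent.Lib.Helper98.SLDZ.inner_borel_gg_le_one θ ψ₀ hψ)
    Cfsg.Agent.Lib.Helper23.SLDZM3.card_unitriGL
    (fun f hf hvan => Cfsg.Agent.Lib.Helper23.SLDZM3.sum_classInner_indFun_borelFun f hf hvan)
    (fun f hf hvan ψ₀ => Cfsg.Agent.Lib.Helper23.SLDZM3.classInner_indFun_ggFun f hf hvan ψ₀)
    p hn χ₁ χ₂ h₁ h₂ hd₁ hd₂ s

end Cfsg.Agent.Lib.Helper51.SLDZ
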