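/-
helper51: S4538-[M5] (helper82 sheet `Lib/Helper82/SLDZ/S4538_MODULES.md`): Clifford descent,
hypothesis form ([M4] enters as a hypothesis).
An irreducible character of `SL_n(q)` of degree divisible by `q^N` is the Steinberg character.
-/
import Mathlib
import Cfsg.Agent.Lib.Helper82.SLDZ.Defs
import Cfsg.Prelude.Def_Solvable
import Cfsg.Agent.Lib.Helper5.GLUSL
import Cfsg.Agent.Lib.Helper5.GLUStDeg
import Cfsg.Agent.Lib.Helper5.GLUIrr
import Cfsg.Agent.Lib.Helper75.Clifford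
import Cfsg.Agent.Lib.Helper75.Clifford2
import Cfsg.Agent.Lib.Helper81.IrrTwist

set_option autoImplicit false
set_option linter.style.haveILetI false

open Cfsg Matrix
open scoped MatrixGroups ComplexConjugate
open Cfsg.Agent.Lib.Helper79.BrauerN (linFun)
open Cfsg.Agent.Lib.Helper5.GLU (permGL)
open Cfsg.Agent.Lib.Helper82.SLDZ

namespace Cfsg.Agent.Lib.Helper51.SLDZ

universe u

/-- abstract Clifford descent: `N` normal in `G`, `θ ∈ Irr N`; there is `χ ∈ Irr G` over `θ`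
with `χ(1) = k θ(1)` for a natural number `k`. -/
theorem exists_irr_over_degree {G : Type u} [Group G] [Fintype G] (N : Subgroup G)
    [hN : N.Normal] [Fintype N] {θ : N → ℂ} (hθ : IsIrrCharacter N θ) :
    ∃ χ : IrrCharacter G, classInner (fun m : N => (χ : G → ℂ) m) θ ≠ 0 ∧
      ∃ k : ℕ, (χ : G → ℂ) 1 = (k : ℂ) * θ 1 := by
  classical
  obtain ⟨χ, hχ⟩ := Cfsg.Agent.Lib.Helper75.exists_classInner_indFun_ne_zero (G := G) N hθ
  have hcl : IsClassFunction G (χ : G → ℂ) :=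
    Cfsg.Agent.Lib.Helper78.IsCharacter.isClassFunction
      (Cfsg.Agent.Lib.Helper78.IsIrrCharacter.isCharacter χ.2)
  have hne : classInner (fun m : N => (χ : G → ℂ) m) θ ≠ 0 := by
    rw [Cfsg.Agent.Lib.Helper75.frobenius_reciprocity N _ hcl,
      ← Cfsg.Agent.Lib.Helper78.classInner_conj_symm] at hχ
    intro h
    apply hχ
    rw [h, map_zero]
  refine ⟨χ, hne, ?_⟩
  have hcliff := Cfsg.Agent.Lib.Helper75.clifford_finset N χ.2 hθ hne
  have hres : IsCharacter N (fun m : N => (χ : G → ℂ) m) :=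
    Cfsg.Agent.Lib.Helper75.isCharacter_res N
      (Cfsg.Agent.Lib.Helper78.IsIrrCharacter.isCharacter χ.2)
  obtain ⟨e, he⟩ := Cfsg.Agent.Lib.Helper78.IsCharacter.exists_nat_classInner hres ⟨θ, hθ⟩
  have h1 := congrFun hcliff 1
  simp only [Pi.smul_apply, Finset.sum_apply, smul_eq_mul] at h1
  have h2 : ∀ φ ∈ Cfsg.Agent.Lib.Helper75.conjOrbit N θ, (φ : N → ℂ) 1 = θ 1 := by
    intro φ hφ
    obtain ⟨g, hg⟩ := (Cfsg.Agent.Lib.Helper75.mem_conjOrbit N).mp hφ
    rw [← hg, Cfsg.Agent.Lib.Helper75.conjFun_apply]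
    congr 1
    apply Subtype.ext
    simp
  rw [Finset.sum_congr rfl h2, Finset.sum_const, nsmul_eq_mul] at h1
  refine ⟨e * (Cfsg.Agent.Lib.Helper75.conjOrbit N θ).card, ?_⟩
  have h3 : (χ : G → ℂ) 1 = (χ : G → ℂ) ((1 : N) : G) := by simp
  rw [h3, h1]
  change classInner (fun m : N => (χ : G → ℂ) m) θ * _ = _
  have he' : classInner (fun m : N => (χ : G → ℂ) m) θ = (e : ℂ) := he
  rw [he']
  push_cast
  ring

variable {F : Type*} [Field F] [Fintype F] {n : ℕ} [Fintype (GL (Fin n) F)]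

/-- MODULE S4538-[M5], hypothesis form: [M4] is the hypothesis `hM4`. -/
theorem eq_stSL_of_defect_zero_of
    (hM4 : ∀ (χ₁ χ₂ : GL (Fin n) F → ℂ), IsIrrCharacter (GL (Fin n) F) χ₁ →
      IsIrrCharacter (GL (Fin n) F) χ₂ →
      (∃ d : ℕ, χ₁ 1 = (d : ℂ) ∧ (∏ j : Fin n, Fintype.card F ^ (j : ℕ)) ∣ d) →
      (∃ d : ℕ, χ₂ 1 = (d : ℂ) ∧ (∏ j : Fin n, Fintype.card F ^ (j : ℕ)) ∣ d) →
      ∀ s : Matrix.SpecialLinearGroup (Fin n) F,
        χ₁ (Matrix.SpecialLinearGroup.toGL s) = χ₂ (Matrix.SpecialLinearGroup.toGL s))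
    (p : ℕ) [Fact p.Prime] [CharP F p] (hn : 0 < n)
    (χ : Matrix.SpecialLinearGroup (Fin n) F → ℂ)
    (hχ : IsIrrCharacter (Matrix.SpecialLinearGroup (Fin n) F) χ)
    (hd : ∃ d : ℕ, χ 1 = (d : ℂ) ∧ (∏ j : Fin n, Fintype.card F ^ (j : ℕ)) ∣ d) :
    χ = stSL n F := by
  classical
  haveI : Fintype (Matrix.SpecialLinearGroup (Fin n) F) := Fintype.ofFinite _
  set ι : Matrix.SpecialLinearGroup (Fin n) F →* GL (Fin n) F :=
    Matrix.SpecialLinearGroup.toGL with hιdef
  have hι : Function.Injective ι := Matrix.SpecialLinearGroup.toGL_injective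
  -- the range is normal: it is the kernel of the determinant
  have hrange : ι.range = (Matrix.GeneralLinearGroup.det : GL (Fin n) F →* Fˣ).ker := by
    ext g
    rw [MonoidHom.mem_range, MonoidHom.mem_ker]
    constructor
    · rintro ⟨s, rfl⟩
      apply Units.ext
      simp [hιdef]
    · intro hg
      have hdet : (g : Matrix (Fin n) (Fin n) F).det = 1 := by
        have := congrArg Units.val hg
        simpa using this
      refine ⟨⟨(g : Matrix (Fin n) (Fin n) F), hdet⟩, ?_⟩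
      apply Units.ext
      rfl
  haveI hN : (ι.range).Normal := by
    rw [hrange]
    infer_instance
  haveI : Fintype ι.range := Fintype.ofFinite _
  let e : Matrix.SpecialLinearGroup (Fin n) F ≃* ι.range := MonoidHom.ofInjective hι
  set θ : ι.range → ℂ := χ ∘ e.symm with hθdef
  have hθ : IsIrrCharacter ι.range θ :=
    Cfsg.Agent.Lib.Helper81.isIrrCharacter_comp_mulEquiv hχ e.symm
  obtain ⟨χt, hne, k, hk⟩ := exists_irr_over_degree ι.range hθ
  obtain ⟨d, hd1, hd2⟩ := hd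
  have hθ1 : θ 1 = (d : ℂ) := by
    rw [hθdef, Function.comp_apply, map_one, hd1]
  -- the Steinberg character of `GL_n`
  have hst : IsIrrCharacter (GL (Fin n) F) (unipotentCharacterGL n F (fun _ => 1)) :=
    Cfsg.Agent.Lib.Helper5.GLU.isIrrCharacter_unipotentCharacterGL (fun _ => 1)
      (fun _ _ _ => le_rfl) (by simp)
  have hM4 := hM4 (χt : GL (Fin n) F → ℂ)
    (unipotentCharacterGL n F (fun _ => 1)) χt.2 hst
    ⟨k * d, by rw [hk, hθ1]; push_cast; ring, Dvd.dvd.mul_left hd2 k⟩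
    ⟨_, Cfsg.Agent.Lib.Helper5.GLU.steinberg_degree n, dvd_rfl⟩
  have hcomp : (χt : GL (Fin n) F → ℂ) ∘ ι = stSL n F := by
    funext s
    exact hM4 s
  have hstSL : IsIrrCharacter (Matrix.SpecialLinearGroup (Fin n) F) (stSL n F) :=
    Cfsg.Agent.Lib.Helper5.GLU.isIrrCharacter_unipotent_SL hn (fun _ => 1)
      (fun _ _ _ => le_rfl) (by simp)
  -- transport of the inner product
  have htr : classInner (fun m : ι.range => (χt : GL (Fin n) F → ℂ) m) θ =
      classInner ((χt : GL (Fin n) F → ℂ) ∘ ι) χ := by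
    unfold classInner
    rw [Nat.card_congr e.toEquiv]
    congr 1
    symm
    apply Fintype.sum_equiv e.toEquiv
    intro s
    have h1 : ((e s : ι.range) : GL (Fin n) F) = ι s := rfl
    have h2 : θ (e s) = χ s := by
      rw [hθdef, Function.comp_apply]
      congr 1
      exact e.symm_apply_apply s
    change _ = (χt : GL (Fin n) F → ℂ) ((e s : ι.range) : GL (Fin n) F) * conj (θ (e s))
    rw [h1, h2]
    rfl
  rw [htr, hcomp, Cfsg.Agent.Lib.Helper78.classInner_irr hstSL hχ] at hne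
  by_contra hcon
  apply hne
  rw [if_neg (fun h => hcon h.symm)]

end Cfsg.Agent.Lib.Helper51.SLDZ
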