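/-
helper51: S4538-[M5] (helper82 sheet `Lib/Helper82/SLDZ/S4538_MODULES.md`): Clifford descent.
An irreducible character of `SL_n(q)` of degree divisible by `q^N` is the Steinberg character.
-/
import Mathlib
import Cfsg.Agent.Lib.Helper82.SLDZ.Defs
import Cfsg.Prelude.Def_Solvable
import Cfsg.Agent.Lib.Helper51.SLDZM4
import Cfsg.Agent.Lib.Helper51.SLDZM5Core

set_option autoImplicit false

open Cfsg Matrix
open scoped MatrixGroups ComplexConjugate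
open Cfsg.Agent.Lib.Helper79.BrauerN (linFun)
open Cfsg.Agent.Lib.Helper5.GLU (permGL)
open Cfsg.Agent.Lib.Helper82.SLDZ

namespace Cfsg.Agent.Lib.Helper51.SLDZ

variable {F : Type*} [Field F] [Fintype F] {n : ℕ} [Fintype (GL (Fin n) F)]

/-- MODULE S4538-[M5] -/
theorem eq_stSL_of_defect_zero (p : ℕ) [Fact p.Prime] [CharP F p] (hn : 0 < n)
    (χ : Matrix.SpecialLinearGroup (Fin n) F → ℂ)
    (hχ : IsIrrCharacter (Matrix.SpecialLinearGroup (Fin n) F) χ)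
    (hd : ∃ d : ℕ, χ 1 = (d : ℂ) ∧ (∏ j : Fin n, Fintype.card F ^ (j : ℕ)) ∣ d) :
    χ = stSL n F :=
  eq_stSL_of_defect_zero_of
    (fun χ₁ χ₂ h₁ h₂ hd₁ hd₂ s => eq_on_SL_of_defect_zero p hn χ₁ χ₂ h₁ h₂ hd₁ hd₂ s)
    p hn χ hχ hd

end Cfsg.Agent.Lib.Helper51.SLDZ
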