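/-
helper51: S0980 (no simple group of order 5760), helper72's modules (#4778)
[N1696] `3 ∤ |C_G(P₅)|`.
-/
import Mathlib
import Cfsg.Agent.Lib.Helper72.Simple5760A
import Cfsg.Agent.S0143


set_option autoImplicit false
set_option linter.unusedSectionVars false
set_option linter.unusedVariables false

namespace Cfsg.Agent.Lib.Helper51.Simple5760

open MulAction Subgroup
open Cfsg.Agent.Lib.Helper17 Cfsg.Agent.Lib.Helper72.Simple5760

variable {G : Type*} [Group G] [Finite G] [IsSimpleGroup G]

attribute [local instance] fact5 fact3 fact2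

/-- MODULE S0980-[N1696] -/
theorem not_three_dvd_card_centralizer_sylow5 (h : Nat.card G = 5760) (P : Sylow 5 G) :
    ¬ 3 ∣ Nat.card (Subgroup.centralizer ((P : Subgroup G) : Set G)) := by
  intro h3
  obtain ⟨q, hq⟩ := exists_prime_orderOf_dvd_card' 3 h3
  have hq' : orderOf (q : G) = 3 := by rw [Subgroup.orderOf_coe]; exact hq
  have hq1 : (q : G) ≠ 1 := by
    intro hc
    rw [hc, orderOf_one] at hq'
    norm_num at hq'
  -- a Sylow `3`-subgroup containing `q`
  have hz : IsPGroup 3 (zpowers (q : G)) := by
    apply IsPGroup.of_card (n := 1)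
    rw [Nat.card_zpowers, hq', pow_one]
  obtain ⟨R, hR⟩ := hz.exists_le_sylow
  have hqR : (q : G) ∈ (R : Subgroup G) := hR (mem_zpowers _)
  have hRcard : Nat.card (R : Subgroup G) = 3 ^ 2 := by rw [card_sylow3 h R]; norm_num
  have hRc : IsMulCommutative (R : Subgroup G) :=
    IsPGroup.isMulCommutative_of_card_eq_prime_sq hRcard
  have hRcomm : ∀ a b : (R : Subgroup G), a * b = b * a := fun a b => hRc.is_comm.comm a b
  have hRle : (R : Subgroup G) ≤ centralizer ({(q : G)} : Set G) := by
    intro x hx
    rw [mem_centralizer_singleton_iff]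
    have := hRcomm ⟨x, hx⟩ ⟨(q : G), hqR⟩
    exact congrArg Subtype.val this
  have hPle : (P : Subgroup G) ≤ centralizer ({(q : G)} : Set G) := by
    intro x hx
    rw [mem_centralizer_singleton_iff]
    have := (Subgroup.mem_centralizer_iff.mp q.2) x hx
    exact this
  have h9 : 9 ∣ Nat.card (centralizer ({(q : G)} : Set G)) := by
    have := Subgroup.card_dvd_of_le hRle
    rwa [card_sylow3 h R] at this
  have h5 : 5 ∣ Nat.card (centralizer ({(q : G)} : Set G)) := by
    have := Subgroup.card_dvd_of_le hPle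
    rwa [card_sylow5 h P] at this
  have h45 : 45 ∣ Nat.card (centralizer ({(q : G)} : Set G)) := by
    have : Nat.Coprime 9 5 := by norm_num
    exact this.mul_dvd_of_dvd_of_dvd h9 h5
  have hmul := (centralizer ({(q : G)} : Set G)).card_mul_index
  rw [h] at hmul
  obtain ⟨m, hm⟩ := h45
  have hidx : (centralizer ({(q : G)} : Set G)).index ∣ 2 ^ 7 := by
    rw [hm] at hmul
    have : m * (centralizer ({(q : G)} : Set G)).index = 128 := by
      have h1 : 45 * (m * (centralizer ({(q : G)} : Set G)).index) = 45 * 128 := by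
        rw [← mul_assoc, hmul]
      exact Nat.eq_of_mul_eq_mul_left (by norm_num) h1
    exact ⟨m, by rw [mul_comm]; exact this.symm⟩
  obtain ⟨k, -, hk⟩ := (Nat.dvd_prime_pow Nat.prime_two).1 hidx
  have hprime := Cfsg.Agent.S0143.result 2 k Nat.prime_two (q : G) hq1 hk
  rw [h] at hprime
  norm_num at hprime

end Cfsg.Agent.Lib.Helper51.Simple5760
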