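/-
helper51: S0980 (no simple group of order 5760), helper72's module (#4778)
[N36] `n₅ ≠ 36` (helper17's trick: a central involution of `S ∈ Syl₂(N(P))` lying in `C(P) ∩ C(P)^m`).
-/
import Mathlib
import Cfsg.Agent.Lib.Helper72.Simple5760A
import Cfsg.Agent.Lib.Helper72.Simple5040D
import Cfsg.Agent.S0184

set_option autoImplicit false
set_option linter.unusedSectionVars false
set_option linter.unusedVariables false

namespace Cfsg.Agent.Lib.Helper51.Simple5760

open MulAction Subgroup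
open Cfsg.Agent.Lib.Helper17 Cfsg.Agent.Lib.Helper72.Simple5760

variable {G : Type*} [Group G] [Finite G] [IsSimpleGroup G]

attribute [local instance] fact5 fact3 fact2

/-- MODULE S0980-[N36] -/
theorem false_of_card_sylow5_eq_36 (h : Nat.card G = 5760) (hn : Nat.card (Sylow 5 G) = 36) :
    False := by
  have hG := not_comm h
  obtain ⟨P⟩ := (Sylow.nonempty : Nonempty (Sylow 5 G))
  obtain ⟨N, hNdef⟩ : ∃ N : Subgroup G, N = normalizer ((P : Subgroup G) : Set G) := ⟨_, rfl⟩
  obtain ⟨C, hCdef⟩ : ∃ C : Subgroup G, C = centralizer ((P : Subgroup G) : Set G) := ⟨_, rfl⟩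
  have hPcard := card_sylow5 h P
  have hNcard : Nat.card N = 160 := by
    have := card_sylow5_mul_card_normalizer h P
    rw [hn, ← hNdef] at this
    omega
  obtain ⟨r, hr, hCr⟩ := card_centralizer_sylow5 h P
  rw [← hNdef, ← hCdef, hNcard] at hCr
  have hCcard : Nat.card C = 40 ∨ Nat.card C = 80 := by
    rcases hr with rfl | rfl
    · right; omega
    · left; omega
  have hCN : C ≤ N := by
    rw [hNdef, hCdef]
    exact Subgroup.centralizer_le_normalizer (s := ((P : Subgroup G) : Set G))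
  have hPN : (P : Subgroup G) ≤ N := by rw [hNdef]; exact le_normalizer
  -- `C` is normalized by `N`
  have hCnorm : ∀ n ∈ N, ∀ c ∈ C, n * c * n⁻¹ ∈ C := by
    intro n hn' c hc
    rw [hCdef, Subgroup.mem_centralizer_iff] at hc ⊢
    intro y hy
    have hy' : n⁻¹ * y * n ∈ (P : Subgroup G) := by
      rw [hNdef] at hn'
      exact (mem_normalizer_iff''.mp hn' y).mp hy
    have h1 := hc _ hy'
    have e1 : y * (n * c * n⁻¹) = n * ((n⁻¹ * y * n) * c) * n⁻¹ := by group
    rw [e1, h1]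
    group
  -- a Sylow `2`-subgroup `T` of `G` with `T ⊓ N` a Sylow `2`-subgroup of `N`
  obtain ⟨T, S0, -, hmap⟩ := Cfsg.Agent.Lib.Helper72.Simple5040.exists_sylow_inf (p := 2) N ⊥ bot_le IsPGroup.of_bot
  obtain ⟨S, hSdef⟩ : ∃ S : Subgroup G, S = (T : Subgroup G) ⊓ N := ⟨_, rfl⟩
  have hS0card : Nat.card (S0 : Subgroup N) = 32 := by
    have hcard : Nat.card N = 2 ^ 5 * 5 := by rw [hNcard]; norm_num
    rw [sylow_card_of_card_eq S0 hcard (by norm_num)]; norm_num
  have hScard : Nat.card S = 32 := by rw [hSdef, ← hmap, card_map_subtype, hS0card]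
  have hST : S ≤ T := by rw [hSdef]; exact inf_le_left
  have hSN : S ≤ N := by rw [hSdef]; exact inf_le_right
  have hSp : IsPGroup 2 S := T.isPGroup'.to_le hST
  have hTcard := card_sylow2 h T
  -- `V = S ⊓ C`
  obtain ⟨V, hVdef⟩ : ∃ V : Subgroup G, V = S ⊓ C := ⟨_, rfl⟩
  have hVS : V ≤ S := by rw [hVdef]; exact inf_le_left
  have hVC : V ≤ C := by rw [hVdef]; exact inf_le_right
  have hVcard : 8 ≤ Nat.card V := by
    have h1 : V.relIndex N ≤ S.relIndex N * C.relIndex N := by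
      rw [hVdef]; exact Subgroup.relIndex_inf_le
    have h2 : Nat.card S * S.relIndex N = Nat.card N := card_mul_relIndex_of_le hSN
    have h3 : Nat.card C * C.relIndex N = Nat.card N := card_mul_relIndex_of_le hCN
    have h4 : Nat.card V * V.relIndex N = Nat.card N := card_mul_relIndex_of_le (hVS.trans hSN)
    rw [hScard, hNcard] at h2
    rw [hNcard] at h3 h4
    have h5 : S.relIndex N = 5 := by omega
    have h6 : C.relIndex N ≤ 4 := by
      rcases hCcard with hc | hc <;> rw [hc] at h3 <;> omega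
    rw [h5] at h1
    by_contra hlt
    push Not at hlt
    have h7 : V.relIndex N ≤ 20 := by omega
    have h8 : Nat.card V * V.relIndex N ≤ 7 * 20 := Nat.mul_le_mul (by omega) h7
    omega
  have hVnorm : ∀ s ∈ S, ∀ x ∈ V, s * x * s⁻¹ ∈ V := by
    intro s hs x hx
    rw [hVdef] at hx ⊢
    exact ⟨S.mul_mem (S.mul_mem hs hx.1) (S.inv_mem hs), hCnorm s (hSN hs) x hx.2⟩
  -- `m ∈ N_T(S) ∖ S`
  have hne : S ≠ (T : Subgroup G) := by
    intro hc
    rw [hc, hTcard] at hScard
    omega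
  obtain ⟨m, hmT, hmNS, hmS⟩ :=
    exists_mem_normalizer_not_mem_of_ne (T : Subgroup G) S T.isPGroup' hST hne
  have hmS1 : ∀ x, x ∈ S → m * x * m⁻¹ ∈ S := fun x hx => (mem_normalizer_iff.mp hmNS x).mp hx
  have hmS2 : ∀ x, x ∈ S → m⁻¹ * x * m ∈ S := fun x hx => (mem_normalizer_iff''.mp hmNS x).mp hx
  obtain ⟨Vm, hVmdef⟩ : ∃ Vm : Subgroup G, Vm = V.map (MulAut.conj m).toMonoidHom := ⟨_, rfl⟩
  have hVm_mem : ∀ y, y ∈ Vm ↔ ∃ x ∈ V, m * x * m⁻¹ = y := by
    intro y
    rw [hVmdef, Subgroup.mem_map]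
    rfl
  have hVmS : Vm ≤ S := by
    intro y hy
    obtain ⟨x, hx, rfl⟩ := (hVm_mem y).mp hy
    exact hmS1 x (hVS hx)
  have hVmcard : Nat.card Vm = Nat.card V := by
    rw [hVmdef]
    exact Subgroup.card_map_of_injective (MulAut.conj m).injective
  have hVmnorm : ∀ s ∈ S, ∀ y ∈ Vm, s * y * s⁻¹ ∈ Vm := by
    intro s hs y hy
    obtain ⟨x, hx, rfl⟩ := (hVm_mem y).mp hy
    rw [hVm_mem]
    refine ⟨(m⁻¹ * s * m) * x * (m⁻¹ * s * m)⁻¹, hVnorm _ (hmS2 s hs) x hx, ?_⟩
    group
  -- `D = V ⊓ V^m`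
  obtain ⟨D, hDdef⟩ : ∃ D : Subgroup G, D = V ⊓ Vm := ⟨_, rfl⟩
  have hDS : D ≤ S := by rw [hDdef]; exact inf_le_left.trans hVS
  have hDcard : 2 ≤ Nat.card D := by
    have h1 : D.relIndex S ≤ V.relIndex S * Vm.relIndex S := by
      rw [hDdef]; exact Subgroup.relIndex_inf_le
    have h2 : Nat.card V * V.relIndex S = Nat.card S := card_mul_relIndex_of_le hVS
    have h3 : Nat.card Vm * Vm.relIndex S = Nat.card S := card_mul_relIndex_of_le hVmS
    have h4 : Nat.card D * D.relIndex S = Nat.card S := card_mul_relIndex_of_le hDS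
    rw [hScard] at h2 h3 h4
    rw [hVmcard] at h3
    have h5 : V.relIndex S ≤ 4 := by
      by_contra hlt
      push Not at hlt
      have : 8 * 5 ≤ Nat.card V * V.relIndex S := Nat.mul_le_mul hVcard hlt
      omega
    have h6 : Vm.relIndex S ≤ 4 := by
      by_contra hlt
      push Not at hlt
      have : 8 * 5 ≤ Nat.card V * Vm.relIndex S := Nat.mul_le_mul hVcard hlt
      omega
    have h7 : D.relIndex S ≤ 16 := h1.trans (Nat.mul_le_mul h5 h6)
    by_contra hlt
    push Not at hlt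
    have h8 : Nat.card D * D.relIndex S ≤ 1 * 16 := Nat.mul_le_mul (by omega) h7
    omega
  have hDnorm : (D.subgroupOf S).Normal := by
    constructor
    intro x hx s
    rw [Subgroup.mem_subgroupOf] at hx ⊢
    rw [hDdef] at hx ⊢
    exact ⟨hVnorm s s.2 x hx.1, hVmnorm s s.2 x hx.2⟩
  have hDne : D.subgroupOf S ≠ ⊥ := by
    intro hc
    rw [Subgroup.subgroupOf_eq_bot] at hc
    have : D = ⊥ := by
      rw [eq_bot_iff]
      intro x hx
      have := hc.le_bot ⟨hx, hDS hx⟩
      exact this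
    rw [this, Subgroup.card_bot] at hDcard
    omega
  obtain ⟨w, hwD, hw1, hwc⟩ :=
    Cfsg.Agent.S0184.normal_inf_center_ne_bot (p := 2) hSp (D.subgroupOf S) hDne
  rw [Subgroup.mem_subgroupOf, hDdef] at hwD
  have hwV : (w : G) ∈ V := hwD.1
  have hwVm : (w : G) ∈ Vm := hwD.2
  have hw1' : (w : G) ≠ 1 := fun hc => hw1 (Subtype.ext hc)
  -- the centralizer of `w`
  obtain ⟨Cw, hCwdef⟩ : ∃ Cw : Subgroup G, Cw = centralizer ({(w : G)} : Set G) := ⟨_, rfl⟩
  have hCw_mem : ∀ x, x ∈ Cw ↔ x * (w : G) = (w : G) * x := by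
    intro x
    rw [hCwdef, mem_centralizer_singleton_iff]
  have hPCw : (P : Subgroup G) ≤ Cw := by
    intro x hx
    rw [hCw_mem]
    have hwC : (w : G) ∈ C := hVC hwV
    rw [hCdef, Subgroup.mem_centralizer_iff] at hwC
    exact hwC x hx
  have hSCw : S ≤ Cw := by
    intro x hx
    rw [hCw_mem]
    exact congrArg Subtype.val (hwc ⟨x, hx⟩)
  have hPmCw : ∀ x ∈ (P : Subgroup G), m * x * m⁻¹ ∈ Cw := by
    intro x hx
    rw [hCw_mem]
    obtain ⟨v, hv, hvw⟩ := (hVm_mem _).mp hwVm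
    have hvC : v ∈ C := hVC hv
    rw [hCdef, Subgroup.mem_centralizer_iff] at hvC
    have h1 := hvC x hx
    rw [← hvw]
    have e1 : m * x * m⁻¹ * (m * v * m⁻¹) = m * (x * v) * m⁻¹ := by group
    have e2 : m * v * m⁻¹ * (m * x * m⁻¹) = m * (v * x) * m⁻¹ := by group
    rw [e1, e2, h1]
  have hCwtop : Cw ≠ ⊤ := by
    rw [hCwdef]
    exact Cfsg.Agent.Lib.Helper72.Simple5040.centralizer_ne_top hG (w : G) hw1'
  -- `N ≤ C(w)`
  have hNCw : N ≤ Cw := by
    have h5 : 5 ∣ Nat.card (N ⊓ Cw : Subgroup G) := by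
      have := Subgroup.card_dvd_of_le (le_inf hPN hPCw)
      rwa [hPcard] at this
    have h32 : 32 ∣ Nat.card (N ⊓ Cw : Subgroup G) := by
      have := Subgroup.card_dvd_of_le (le_inf hSN hSCw)
      rwa [hScard] at this
    have h160 : 160 ∣ Nat.card (N ⊓ Cw : Subgroup G) := by
      have : Nat.Coprime 32 5 := by norm_num
      exact this.mul_dvd_of_dvd_of_dvd h32 h5
    have hle : Nat.card N ≤ Nat.card (N ⊓ Cw : Subgroup G) := by
      rw [hNcard]
      exact Nat.le_of_dvd Nat.card_pos h160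
    have heq : N ⊓ Cw = N := Subgroup.eq_of_le_of_card_ge inf_le_left hle
    rw [← heq]
    exact inf_le_right
  -- `C(w) = N`
  have hCwN : Cw = N := by
    obtain ⟨n, hn5, hncard⟩ :=
      Cfsg.Agent.Lib.Helper72.Simple5040.card_eq_mul_card_inf_normalizer P Cw hPCw
    rw [← hNdef, inf_eq_right.mpr hNCw, hNcard] at hncard
    have hmul := Cw.card_mul_index
    rw [h, hncard] at hmul
    have hni : n * Cw.index = 36 := by
      have : 160 * (n * Cw.index) = 160 * 36 := by
        rw [show 160 * (n * Cw.index) = n * 160 * Cw.index by ring, hmul]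
      exact Nat.eq_of_mul_eq_mul_left (by norm_num) this
    have hidx10 := index_ge_ten h Cw hCwtop
    have hn1 : n = 1 := by
      have hnle : n ≤ 36 := by
        apply Nat.le_of_dvd (by norm_num)
        exact ⟨_, hni.symm⟩
      have hndvd : n ∣ 36 := ⟨_, hni.symm⟩
      interval_cases n <;> first | rfl | omega
    rw [hn1, one_mul] at hncard
    symm
    apply Subgroup.eq_of_le_of_card_ge hNCw
    rw [hncard, hNcard]
  -- `m` normalizes `P`
  have hmN : m ∈ N := by
    obtain ⟨Pm, hPmdef⟩ : ∃ Pm : Subgroup G, Pm = (P : Subgroup G).map (MulAut.conj m).toMonoidHom :=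
      ⟨_, rfl⟩
    have hPm_mem : ∀ y, y ∈ Pm ↔ ∃ x ∈ (P : Subgroup G), m * x * m⁻¹ = y := by
      intro y
      rw [hPmdef, Subgroup.mem_map]
      rfl
    have hPmcard : Nat.card Pm = 5 := by
      rw [hPmdef, Subgroup.card_map_of_injective (MulAut.conj m).injective, hPcard]
    have hPmp : IsPGroup 5 Pm := IsPGroup.of_card (n := 1) (by rw [hPmcard]; norm_num)
    have hPmN : Pm ≤ normalizer ((P : Subgroup G) : Set G) := by
      intro y hy
      obtain ⟨x, hx, rfl⟩ := (hPm_mem y).mp hy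
      rw [← hNdef, ← hCwN]
      exact hPmCw x hx
    have hPmP : Pm ≤ (P : Subgroup G) := by
      have h1 := hPmp.inf_normalizer_sylow P
      have hPmN' : Pm ≤ normalizer (P : Set G) := hPmN
      rw [inf_eq_left.mpr hPmN'] at h1
      rw [h1]
      exact inf_le_right
    have hPmeq : Pm = (P : Subgroup G) :=
      Subgroup.eq_of_le_of_card_ge hPmP (by rw [hPmcard, hPcard])
    rw [hNdef, mem_normalizer_iff]
    intro x
    constructor
    · intro hx
      rw [← hPmeq, hPm_mem]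
      exact ⟨x, hx, rfl⟩
    · intro hx
      rw [← hPmeq, hPm_mem] at hx
      obtain ⟨y, hy, hyx⟩ := hx
      have : y = x := by
        have e1 : y = m⁻¹ * (m * y * m⁻¹) * m := by group
        rw [e1, hyx]
        group
      rw [← this]
      exact hy
  apply hmS
  rw [hSdef]
  exact ⟨hmT, hmN⟩

end Cfsg.Agent.Lib.Helper51.Simple5760
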