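/-
helper51: project S2281 (helper53), module S2281-[ALG1] (Part B, finite-field algebra).
-/
import Mathlib

set_option autoImplicit false

namespace Cfsg.Agent.Lib.Helper51.SpReg

variable {F : Type*} [Field F] [Fintype F]

/-- every element of a finite field is a sum of two squares -/
theorem exists_sq_add_sq (t : F) : ∃ a b : F, a ^ 2 + b ^ 2 = t := by
  classical
  by_cases h2 : ringChar F = 2
  · obtain ⟨a, ha⟩ := FiniteField.isSquare_of_char_two (F := F) h2 t
    exact ⟨a, 0, by rw [ha]; ring⟩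
  · have hodd : Fintype.card F % 2 = 1 := FiniteField.odd_card_of_char_ne_two h2
    obtain ⟨a, b, hab⟩ := FiniteField.exists_root_sum_quadratic (R := F)
      (f := Polynomial.X ^ 2) (g := Polynomial.X ^ 2 - Polynomial.C t)
      (Polynomial.degree_X_pow 2) (Polynomial.degree_X_pow_sub_C (by norm_num) t) hodd
    refine ⟨a, b, ?_⟩
    simp at hab
    linear_combination hab

/-- an additive subgroup of a finite field containing all squares is everything -/
theorem addSubgroup_eq_top_of_sq (K : AddSubgroup F) (h : ∀ y : F, y ^ 2 ∈ K) : ∀ y : F, y ∈ K := by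
  intro y
  obtain ⟨a, b, hab⟩ := exists_sq_add_sq y
  rw [← hab]
  exact K.add_mem (h a) (h b)

theorem alg_R1 (c : F) (hc : c ≠ 0) (hgen : ∀ y : F, y ≠ 0 → ∃ j : ℕ, y = c ^ j)
    (R1 R2 : AddSubgroup F) (h4 : c ^ 4 ∈ R2) (h12 : ∀ s ∈ R1, c * s ∈ R2)
    (h21 : ∀ s ∈ R2, c * s ∈ R1) (hP : ∀ s ∈ R1, ∀ t ∈ R2, s * t ∈ R1) : R1 = ⊤ := by
  classical
  set K : AddSubgroup F := R1.map (AddMonoidHom.mulLeft c) with hK
  have memK : ∀ y, y ∈ K ↔ ∃ s ∈ R1, c * s = y := by
    intro y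
    rw [hK, AddSubgroup.mem_map]
    rfl
  have KR2 : ∀ y ∈ K, y ∈ R2 := by
    intro y hy
    obtain ⟨s, hs, rfl⟩ := (memK y).mp hy
    exact h12 s hs
  have Kmul : ∀ x ∈ K, ∀ y ∈ K, x * y ∈ K := by
    intro x hx y hy
    obtain ⟨s, hs, rfl⟩ := (memK x).mp hx
    exact (memK _).mpr ⟨s * y, hP s hs y (KR2 y hy), by ring⟩
  have c2K : ∀ y ∈ K, c ^ 2 * y ∈ K := by
    intro y hy
    exact (memK _).mpr ⟨c * y, h21 y (KR2 y hy), by ring⟩
  have hx : c ^ 6 ∈ K := by
    refine (memK _).mpr ⟨c ^ 5, ?_, by ring⟩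
    have := h21 _ h4
    have e : c * c ^ 4 = c ^ 5 := by ring
    rwa [e] at this
  have Kpow : ∀ k : ℕ, (c ^ 6) ^ (k + 1) ∈ K := by
    intro k
    induction k with
    | zero => simpa using hx
    | succ k ih =>
      rw [pow_succ]
      exact Kmul _ ih _ hx
  have h1 : (1 : F) ∈ K := by
    have h := FiniteField.pow_card_sub_one_eq_one (c ^ 6) (pow_ne_zero 6 hc)
    have hcard : 1 < Fintype.card F := Fintype.one_lt_card
    obtain ⟨k, hk⟩ : ∃ k, Fintype.card F - 1 = k + 1 := ⟨Fintype.card F - 2, by omega⟩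
    rw [hk] at h
    rw [← h]
    exact Kpow k
  have hc2j : ∀ j : ℕ, c ^ (2 * j) ∈ K := by
    intro j
    induction j with
    | zero => simpa using h1
    | succ j ih =>
      have := c2K _ ih
      have e : c ^ 2 * c ^ (2 * j) = c ^ (2 * (j + 1)) := by ring
      rwa [e] at this
  have hsq : ∀ y : F, y ^ 2 ∈ K := by
    intro y
    by_cases hy : y = 0
    · rw [hy]
      simp
    · obtain ⟨j, rfl⟩ := hgen y hy
      rw [← pow_mul, mul_comm]
      exact hc2j j
  have Ktop := addSubgroup_eq_top_of_sq K hsq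
  rw [eq_top_iff]
  intro s _
  obtain ⟨s', hs', h⟩ := (memK _).mp (Ktop (c * s))
  have : s' = s := mul_left_cancel₀ hc h
  rwa [← this]

end Cfsg.Agent.Lib.Helper51.SpReg
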