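/-
helper51: project S2281 (helper53), module S2281-[ALGN2] (Part B, finite-field algebra, the case n = 2).
-/
import Mathlib

set_option autoImplicit false

namespace Cfsg.Agent.Lib.Helper51.SpReg

variable {F : Type*} [Field F] [Fintype F]

omit [Fintype F] in
/-- the final, characteristic-free part of [ALGN2]: once `(t, -t, 0) ∈ M` for all `t` -/
theorem algN2_of_diag (c : F) (hc : c ≠ 0) (hc1' : c ≠ 1)
    (M : AddSubgroup (F × F × F))
    (ha1 : (-(c ^ 3), (0 : F), -(c ^ 2)) ∈ M)
    (hD : ∀ t : F, (t, -t, (0 : F)) ∈ M)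
    (hb1 : ∀ t r s : F, (t, -t, (0 : F)) ∈ M → (r, (0 : F), s) ∈ M →
      ((0 : F), -(s ^ 2 * t), -(s * t)) ∈ M)
    (hb2 : ∀ t r s : F, (t, -t, (0 : F)) ∈ M → ((0 : F), r, s) ∈ M →
      (-(s ^ 2 * t), (0 : F), s * t) ∈ M) : M = ⊤ := by
  have hc2 : c ^ 2 ≠ 0 := pow_ne_zero 2 hc
  -- `(-(y σ), 0, σ) ∈ M` for `y ≠ 0`
  have hA : ∀ y σ : F, y ≠ 0 → (-(y * σ), (0 : F), σ) ∈ M := by
    intro y σ hy
    have h1 := hb1 (y / c ^ 2) _ _ (hD _) ha1
    have h2 := hb2 (σ / y) _ _ (hD _) h1
    have e1 : -((-(-(c ^ 2) * (y / c ^ 2))) ^ 2 * (σ / y)) = -(y * σ) := by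
      field_simp
    have e2 : -(-(c ^ 2) * (y / c ^ 2)) * (σ / y) = σ := by
      field_simp
    rw [e1, e2] at h2
    exact h2
  have hX : ∀ x : F, (x, (0 : F), (0 : F)) ∈ M := by
    intro x
    have hc10 : c - 1 ≠ 0 := sub_ne_zero.mpr hc1'
    have h1 := hA 1 (x / (c - 1)) one_ne_zero
    have h2 := hA c (x / (c - 1)) hc
    have := M.sub_mem h1 h2
    have e : ((-(1 * (x / (c - 1))), (0 : F), x / (c - 1)) : F × F × F) -
        (-(c * (x / (c - 1))), (0 : F), x / (c - 1)) = (x, (0 : F), (0 : F)) := by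
      ext
      · simp
        field_simp
        ring
      · simp
      · simp
    rwa [e] at this
  have hZ : ∀ σ : F, ((0 : F), (0 : F), σ) ∈ M := by
    intro σ
    have := M.add_mem (hA 1 σ one_ne_zero) (hX σ)
    simpa using this
  have hY : ∀ y : F, ((0 : F), y, (0 : F)) ∈ M := by
    intro y
    have := M.add_mem (hD (-y)) (hX y)
    simpa using this
  rw [eq_top_iff]
  rintro ⟨p, r, s⟩ _
  have := M.add_mem (M.add_mem (hX p) (hY r)) (hZ s)
  simpa using this

theorem alg_N2 (hF : Fintype.card F ≠ 2) (c : F) (hc : c ≠ 0)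
    (hgen : ∀ y : F, y ≠ 0 → ∃ j : ℕ, y = c ^ j)
    (M : AddSubgroup (F × F × F))
    (ha1 : (-(c ^ 3), (0 : F), -(c ^ 2)) ∈ M) (ha2 : ((0 : F), -(c ^ 3), c ^ 2) ∈ M)
    (hc1 : (c, -c, (0 : F)) ∈ M)
    (hb1 : ∀ t r s : F, (t, -t, (0 : F)) ∈ M → (r, (0 : F), s) ∈ M →
      ((0 : F), -(s ^ 2 * t), -(s * t)) ∈ M)
    (hb2 : ∀ t r s : F, (t, -t, (0 : F)) ∈ M → ((0 : F), r, s) ∈ M →
      (-(s ^ 2 * t), (0 : F), s * t) ∈ M) : M = ⊤ := by
  classical
  have hc1' : c ≠ 1 := by
    intro h1
    apply hF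
    rw [← Nat.card_eq_fintype_card, Nat.card_eq_two_iff]
    refine ⟨0, 1, zero_ne_one, ?_⟩
    ext y
    simp only [Set.mem_insert_iff, Set.mem_singleton_iff, Set.mem_univ, iff_true]
    by_cases hy : y = 0
    · exact Or.inl hy
    · obtain ⟨j, rfl⟩ := hgen y hy
      right
      rw [h1, one_pow]
  refine algN2_of_diag c hc hc1' M ha1 ?_ hb1 hb2
  have hq1 : 1 ≤ Fintype.card F - 1 := by
    have := Fintype.one_lt_card (α := F)
    omega
  have hper : c ^ (Fintype.card F - 1) = 1 := FiniteField.pow_card_sub_one_eq_one c hc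
  have hlarge : ∀ y : F, y ≠ 0 → ∀ N : ℕ, ∃ m, N ≤ m ∧ y = c ^ m := by
    intro y hy N
    obtain ⟨j, rfl⟩ := hgen y hy
    refine ⟨j + N * (Fintype.card F - 1), ?_, ?_⟩
    · nlinarith
    · rw [pow_add, mul_comm N, pow_mul, hper, one_pow, mul_one]
  by_cases h2F : (2 : F) = 0
  · -- characteristic 2
    have hneg : ∀ x : F, -x = x := by
      intro x
      have : x + x = 0 := by rw [← two_mul, h2F, zero_mul]
      exact neg_eq_of_add_eq_zero_left this
    have : CharP F 2 := CharTwo.of_one_ne_zero_of_two_eq_zero one_ne_zero h2F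
    have hQ : ∀ j : ℕ, (c ^ (2 * j + 3), (0 : F), c ^ (j + 2)) ∈ M ∧
        ((0 : F), c ^ (2 * j + 3), c ^ (j + 2)) ∈ M := by
      intro j
      induction j with
      | zero =>
        constructor
        · have := ha1
          simp only [hneg] at this
          simpa using this
        · have := ha2
          simp only [hneg] at this
          simpa using this
      | succ j ih =>
        obtain ⟨i1, i2⟩ := ih
        constructor
        · have := hb2 c _ _ hc1 i2
          simp only [hneg] at this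
          have e1 : (c ^ (j + 2)) ^ 2 * c = c ^ (2 * (j + 1) + 3) := by ring
          have e2 : c ^ (j + 2) * c = c ^ (j + 1 + 2) := by ring
          rwa [e1, e2] at this
        · have := hb1 c _ _ hc1 i1
          simp only [hneg] at this
          have e1 : (c ^ (j + 2)) ^ 2 * c = c ^ (2 * (j + 1) + 3) := by ring
          have e2 : c ^ (j + 2) * c = c ^ (j + 1 + 2) := by ring
          rwa [e1, e2] at this
    intro t
    by_cases ht : t = 0
    · rw [ht, neg_zero]
      exact M.zero_mem
    · obtain ⟨y, hy⟩ := isSquare_of_charTwo' (t / c ^ 3)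
      have hy0 : y ≠ 0 := by
        rintro rfl
        rw [mul_zero] at hy
        exact (div_ne_zero ht (pow_ne_zero 3 hc)) hy
      obtain ⟨j, rfl⟩ := hgen y hy0
      have ht' : t = c ^ (2 * j + 3) := by
        have : t = c ^ 3 * (c ^ j * c ^ j) := by
          rw [← hy]
          field_simp
        rw [this]
        ring
      rw [hneg, ht']
      have := M.add_mem (hQ j).1 (hQ j).2
      have e : ((c ^ (2 * j + 3), (0 : F), c ^ (j + 2)) : F × F × F) +
          ((0 : F), c ^ (2 * j + 3), c ^ (j + 2)) = (c ^ (2 * j + 3), c ^ (2 * j + 3), (0 : F)) := by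
        ext
        · simp
        · simp
        · simp
          rw [← two_mul, h2F, zero_mul]
      rwa [e] at this
  · -- odd characteristic
    -- third coordinates: `c^k`, `k ≥ 2`, occur in both families
    have hP : ∀ j : ℕ, (∃ r : F, (r, (0 : F), c ^ (j + 2)) ∈ M) ∧
        (∃ r : F, ((0 : F), r, c ^ (j + 2)) ∈ M) := by
      intro j
      induction j with
      | zero =>
        constructor
        · refine ⟨c ^ 3, ?_⟩
          have := M.neg_mem ha1
          simpa using this
        · exact ⟨_, ha2⟩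
      | succ j ih =>
        obtain ⟨⟨r1, i1⟩, ⟨r2, i2⟩⟩ := ih
        constructor
        · refine ⟨-((c ^ (j + 2)) ^ 2 * c), ?_⟩
          have := hb2 c _ _ hc1 i2
          have e2 : c ^ (j + 2) * c = c ^ (j + 1 + 2) := by ring
          rw [e2] at this
          exact this
        · refine ⟨(c ^ (j + 2)) ^ 2 * c, ?_⟩
          have := M.neg_mem (hb1 c _ _ hc1 i1)
          have e2 : c ^ (j + 2) * c = c ^ (j + 1 + 2) := by ring
          simp only [Prod.neg_mk, neg_neg, neg_zero] at this
          rw [e2] at this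
          exact this
    -- polarisation
    have pol1 : ∀ t r s r' s' : F, (t, -t, (0 : F)) ∈ M → (r, (0 : F), s) ∈ M → (r', (0 : F), s') ∈ M →
        ((0 : F), 2 * (s * s' * t), (0 : F)) ∈ M := by
      intro t r s r' s' ht h h'
      have hsum : (r + r', (0 : F), s + s') ∈ M := by
        have := M.add_mem h h'
        simpa using this
      have x := hb1 t _ _ ht hsum
      have y := hb1 t _ _ ht h
      have z := hb1 t _ _ ht h'
      have := M.sub_mem (M.add_mem y z) x
      have e : (((0 : F), -(s ^ 2 * t), -(s * t)) : F × F × F) + ((0 : F), -(s' ^ 2 * t), -(s' * t)) -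
          ((0 : F), -((s + s') ^ 2 * t), -((s + s') * t)) = ((0 : F), 2 * (s * s' * t), (0 : F)) := by
        ext
        · simp
        · simp
          ring
        · simp
          ring
      rwa [e] at this
    have pol2 : ∀ t r s r' s' : F, (t, -t, (0 : F)) ∈ M → ((0 : F), r, s) ∈ M → ((0 : F), r', s') ∈ M →
        (2 * (s * s' * t), (0 : F), (0 : F)) ∈ M := by
      intro t r s r' s' ht h h'
      have hsum : ((0 : F), r + r', s + s') ∈ M := by
        have := M.add_mem h h'
        simpa using this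
      have x := hb2 t _ _ ht hsum
      have y := hb2 t _ _ ht h
      have z := hb2 t _ _ ht h'
      have := M.sub_mem (M.add_mem y z) x
      have e : ((-(s ^ 2 * t), (0 : F), s * t) : F × F × F) + (-(s' ^ 2 * t), (0 : F), s' * t) -
          (-((s + s') ^ 2 * t), (0 : F), (s + s') * t) = (2 * (s * s' * t), (0 : F), (0 : F)) := by
        ext
        · simp
          ring
        · simp
        · simp
          ring
      rwa [e] at this
    have hY : ∀ y : F, ((0 : F), y, (0 : F)) ∈ M := by
      intro y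
      by_cases hy : y = 0
      · rw [hy]; exact M.zero_mem
      · obtain ⟨m, hm5, hm⟩ := hlarge (y / 2) (div_ne_zero hy h2F) 5
        obtain ⟨l, rfl⟩ : ∃ l, m = l + 5 := ⟨m - 5, by omega⟩
        obtain ⟨r1, i1⟩ := (hP 0).1
        obtain ⟨r2, i2⟩ := (hP l).1
        have := pol1 c _ _ _ _ hc1 i1 i2
        have e : 2 * (c ^ (0 + 2) * c ^ (l + 2) * c) = y := by
          have : c ^ (0 + 2) * c ^ (l + 2) * c = c ^ (l + 5) := by ring
          rw [this, ← hm]
          field_simp
        rwa [e] at this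
    have hX : ∀ y : F, (y, (0 : F), (0 : F)) ∈ M := by
      intro y
      by_cases hy : y = 0
      · rw [hy]; exact M.zero_mem
      · obtain ⟨m, hm5, hm⟩ := hlarge (y / 2) (div_ne_zero hy h2F) 5
        obtain ⟨l, rfl⟩ : ∃ l, m = l + 5 := ⟨m - 5, by omega⟩
        obtain ⟨r1, i1⟩ := (hP 0).2
        obtain ⟨r2, i2⟩ := (hP l).2
        have := pol2 c _ _ _ _ hc1 i1 i2
        have e : 2 * (c ^ (0 + 2) * c ^ (l + 2) * c) = y := by
          have : c ^ (0 + 2) * c ^ (l + 2) * c = c ^ (l + 5) := by ring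
          rw [this, ← hm]
          field_simp
        rwa [e] at this
    intro t
    have := M.add_mem (hX t) (hY (-t))
    simpa using this

end Cfsg.Agent.Lib.Helper51.SpReg
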