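/-
helper51: project S2281 (helper53), module S2281-[ALGT] (Part B, finite-field algebra).
-/
import Mathlib
import Cfsg.Agent.Lib.Helper51.SpRegAlg1

set_option autoImplicit false

namespace Cfsg.Agent.Lib.Helper51.SpReg

variable {F : Type*} [Field F] [Fintype F]

/-- if `(0, s² w) ∈ M` for all `s` (with `w ≠ 0`) then `(0, y) ∈ M` for all `y` -/
theorem snd_mem_of_sq (M : AddSubgroup (F × F)) (w : F) (hw : w ≠ 0)
    (h : ∀ s : F, ((0 : F), s ^ 2 * w) ∈ M) : ∀ y : F, ((0 : F), y) ∈ M := by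
  let K : AddSubgroup F :=
    { carrier := {y | ((0 : F), y * w) ∈ M}
      add_mem' := by
        intro a b ha hb
        have := M.add_mem ha hb
        simpa [add_mul] using this
      zero_mem' := by
        show ((0 : F), (0 : F) * w) ∈ M
        rw [zero_mul]
        exact M.zero_mem
      neg_mem' := by
        intro a ha
        have := M.neg_mem ha
        simpa [neg_mul] using this }
  have hK : ∀ y : F, y ∈ K := addSubgroup_eq_top_of_sq K (fun y => h y)
  intro y
  have := hK (y * w⁻¹)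
  have e : y * w⁻¹ * w = y := by field_simp
  have h' : ((0 : F), y * w⁻¹ * w) ∈ M := this
  rwa [e] at h'

theorem alg_T (c : F) (hc : c ≠ 0) (hgen : ∀ y : F, y ≠ 0 → ∃ j : ℕ, y = c ^ j)
    (M : AddSubgroup (F × F)) (h5 : ((0 : F), c ^ 5) ∈ M)
    (h1 : ∀ s : F, (-(s * c), -(s ^ 2 * c)) ∈ M)
    (h2 : ∀ s : F, (-(s * c ^ 5), -(s ^ 2 * c ^ 5)) ∈ M) : M = ⊤ := by
  classical
  -- Step 1: `(0, y) ∈ M` for all `y`
  have hN : ∀ y : F, ((0 : F), y) ∈ M := by
    by_cases hc4 : c ^ 4 = 1
    · by_cases h2F : (2 : F) = 0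
      · -- characteristic 2: c = 1 and F = {0, 1}
        have hc1 : c = 1 := by
          have h0 : (c + 1) ^ 4 = 0 := by
            have e : (c + 1) ^ 4 = c ^ 4 + 1 + (2 : F) * (2 * c ^ 3 + 3 * c ^ 2 + 2 * c) := by ring
            rw [e, hc4, h2F]
            have : (1 : F) + 1 = 2 := by norm_num
            rw [zero_mul, add_zero, this, h2F]
          have h3 : c + 1 = 0 := pow_eq_zero_iff (by norm_num) |>.mp h0
          have h4 : c = -1 := eq_neg_of_add_eq_zero_left h3
          have h5' : (-1 : F) = 1 := by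
            have : (1 : F) + 1 = 0 := by rw [← h2F]; norm_num
            exact neg_eq_of_add_eq_zero_left this
          rw [h4, h5']
        intro y
        by_cases hy : y = 0
        · rw [hy]; exact M.zero_mem
        · obtain ⟨j, rfl⟩ := hgen y hy
          rw [hc1, one_pow]
          rw [hc1, one_pow] at h5
          exact h5
      · -- odd characteristic, c^4 = 1: P(s) + P(-s) = (0, -2 s² c)
        apply snd_mem_of_sq M (-(2 * c)) (neg_ne_zero.mpr (mul_ne_zero h2F hc))
        intro s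
        have := M.add_mem (h1 s) (h1 (-s))
        have e : ((-(s * c), -(s ^ 2 * c)) : F × F) + (-(-s * c), -((-s) ^ 2 * c)) =
            ((0 : F), s ^ 2 * -(2 * c)) := by
          ext <;> simp <;> ring
        rwa [e] at this
    · -- c^4 ≠ 1
      have hw : c ^ 5 * (1 - c ^ 4) ≠ 0 :=
        mul_ne_zero (pow_ne_zero 5 hc) (sub_ne_zero.mpr (Ne.symm hc4))
      apply snd_mem_of_sq M _ hw
      intro s
      have := M.sub_mem (h1 (s * c ^ 4)) (h2 s)
      have e : ((-(s * c ^ 4 * c), -((s * c ^ 4) ^ 2 * c)) : F × F) -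
          (-(s * c ^ 5), -(s ^ 2 * c ^ 5)) = ((0 : F), s ^ 2 * (c ^ 5 * (1 - c ^ 4))) := by
        ext <;> simp <;> ring
      rwa [e] at this
  -- Step 2: `(p, 0) ∈ M` for all `p`
  have hP : ∀ p : F, (p, (0 : F)) ∈ M := by
    intro p
    have h3 := h1 (-(p * c⁻¹))
    have h4 := hN (-((-(p * c⁻¹)) ^ 2 * c))
    have := M.sub_mem h3 h4
    have e : ((-(-(p * c⁻¹) * c), -((-(p * c⁻¹)) ^ 2 * c)) : F × F) -
        ((0 : F), -((-(p * c⁻¹)) ^ 2 * c)) = (p, (0 : F)) := by
      ext
      · simp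
        field_simp
      · simp
    rwa [e] at this
  rw [eq_top_iff]
  rintro ⟨p, r⟩ _
  have := M.add_mem (hP p) (hN r)
  simpa using this

end Cfsg.Agent.Lib.Helper51.SpReg
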