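import Mathlib
import Cfsg.Prelude.Def_LocalEven
import Cfsg.Prelude.Def_TwoFusion
import Cfsg.Agent.S3079
import Cfsg.Agent.Lib.Helper51.QuotStable
import Cfsg.Agent.Lib.Helper51.FamTransport

/-!
# Local step for control of strong fusion by `N(Z(J(D)))`, `D` strongly closed

In a `p`-constrained group `H`, `p`-stable in the normalizer form, with `E` strongly closed in a Sylow
`p`-subgroup `Q`: `H = O_{p'}(H) N_H(W)` for `W = famInf (gd p b) E`, and `N_H(W)` controls strong fusion in `Q`.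
-/

set_option autoImplicit false
open Cfsg

namespace Cfsg.Agent.Lib.Helper51

open Cfsg.Agent.Lib.Helper33 Cfsg.Agent.Lib.Helper11

section general

variable {H : Type*} [Group H] [Finite H] {p : ℕ} [Fact p.Prime]

/-- Sylow's theorem in `N ∩ QK`: a `p`-subgroup `R` of `N ∩ QK` (`K` a normal `p'`-subgroup, `Q ≤ N` a `p`-group)
is conjugate into `Q` by an element of `N ∩ K`. -/
theorem exists_mem_cj_le (Q K N : Subgroup H) [K.Normal] (hQ : IsPGroup p Q)
    (hK : (Nat.card K).Coprime p) (hQN : Q ≤ N) {R : Subgroup H} (hRp : IsPGroup p R) (hRN : R ≤ N)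
    (hRQK : R ≤ Q ⊔ K) : ∃ c ∈ N ⊓ K, cj c R ≤ Q := by
  have hp : p.Prime := Fact.out
  have hsyl : SylIn p Q (N ⊓ (Q ⊔ K)) := by
    refine ⟨le_inf hQN le_sup_left, hQ, ?_⟩
    intro hdvd
    have h1 := Subgroup.relIndex_mul_relIndex Q (N ⊓ (Q ⊔ K)) (Q ⊔ K) (le_inf hQN le_sup_left)
      inf_le_right
    rw [relIndex_sup_pPrime hQ hK] at h1
    have h2 : p ∣ Nat.card K := by
      rw [← h1]; exact Dvd.dvd.mul_right hdvd _
    have := Nat.Coprime.eq_one_of_dvd hK.symm h2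
    exact hp.one_lt.ne' this
  obtain ⟨l, hl, hlR⟩ := hsyl.exists_cj_le (le_inf hRN hRQK) hRp
  obtain ⟨q, hq, k, hk, rfl⟩ := exists_mul_of_mem_sup_normal hl.2
  refine ⟨k, ⟨?_, hk⟩, ?_⟩
  · have : k = q⁻¹ * (q * k) := by group
    rw [this]
    exact N.mul_mem (N.inv_mem (hQN hq)) hl.1
  · have h1 : cj k R = cj q⁻¹ (cj (q * k) R) := by
      rw [← cj_mul]; congr 1; group
    rw [h1]
    calc cj q⁻¹ (cj (q * k) R) ≤ cj q⁻¹ Q := cj_mono hlR
      _ = Q := cj_eq_self_of_mem (Q.inv_mem hq)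

omit [Finite H] in
theorem mk'_eq_one_of_mem (K : Subgroup H) [K.Normal] {k : H} (hk : k ∈ K) :
    QuotientGroup.mk' K k = 1 := by
  rw [QuotientGroup.mk'_apply, QuotientGroup.eq_one_iff]; exact hk

/-- Strong closure passes to the quotient by a normal `p'`-subgroup. -/
theorem isStronglyClosed_map_mk (K : Subgroup H) [K.Normal] (hK : (Nat.card K).Coprime p)
    (Q : Sylow p H) {E : Subgroup H} (hE : IsStronglyClosed E (Q : Subgroup H)) :
    IsStronglyClosed (E.map (QuotientGroup.mk' K)) ((Q : Subgroup H).map (QuotientGroup.mk' K)) := by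
  refine ⟨Subgroup.map_mono hE.1, ?_⟩
  rintro _ ⟨x, hx, rfl⟩ gb hgb
  obtain ⟨g, rfl⟩ := QuotientGroup.mk'_surjective K gb
  obtain ⟨q, hq, hqe⟩ := hgb
  have hxp : IsPGroup p (Subgroup.zpowers x) :=
    Q.isPGroup'.to_le ((Subgroup.zpowers_le).mpr (hE.1 hx))
  have hRp : IsPGroup p (cj g (Subgroup.zpowers x)) := isPGroup_cj hxp
  have hR : cj g (Subgroup.zpowers x) ≤ (Q : Subgroup H) ⊔ K := by
    have h1 : cj g (Subgroup.zpowers x) = Subgroup.zpowers (g * x * g⁻¹) := by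
      unfold cj
      rw [MonoidHom.map_zpowers]; rfl
    rw [h1, Subgroup.zpowers_le]
    have hk : q⁻¹ * (g * x * g⁻¹) ∈ K := by
      rw [← QuotientGroup.eq, ← QuotientGroup.mk'_apply, hqe]
      simp
    have : g * x * g⁻¹ = q * (q⁻¹ * (g * x * g⁻¹)) := by group
    rw [this]
    exact Subgroup.mul_mem _ (Subgroup.mem_sup_left hq) (Subgroup.mem_sup_right hk)
  obtain ⟨c, ⟨-, hcK⟩, hcR⟩ := exists_mem_cj_le (Q : Subgroup H) K ⊤ Q.isPGroup' hK le_top hRp
    le_top hR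
  have h2 : c * (g * x * g⁻¹) * c⁻¹ ∈ (Q : Subgroup H) :=
    hcR (conj_mem_cj (conj_mem_cj (Subgroup.mem_zpowers x)))
  have h3 : (c * g) * x * (c * g)⁻¹ ∈ E := by
    apply hE.2 x hx
    have : (c * g) * x * (c * g)⁻¹ = c * (g * x * g⁻¹) * c⁻¹ := by group
    rw [this]; exact h2
  refine ⟨(c * g) * x * (c * g)⁻¹, h3, ?_⟩
  simp only [map_mul, map_inv, mk'_eq_one_of_mem K hcK, one_mul]

theorem injOn_mk'_of_isPGroup (K : Subgroup H) [K.Normal] (hK : (Nat.card K).Coprime p)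
    {E : Subgroup H} (hEp : IsPGroup p E) : Set.InjOn (QuotientGroup.mk' K) (E : Set H) := by
  intro x hx y hy hxy
  have h1 : x⁻¹ * y ∈ K := QuotientGroup.eq.mp hxy
  have h2 : x⁻¹ * y ∈ E ⊓ K := ⟨E.mul_mem (E.inv_mem hx) hy, h1⟩
  rw [pGroup_inf_pPrime_eq_bot hEp hK, Subgroup.mem_bot] at h2
  calc x = x * (x⁻¹ * y) * y⁻¹ * y := by rw [h2]; group
    _ = y := by group

omit [Finite H] in
theorem le_normalizer_of_isStronglyClosed {E Q : Subgroup H} (hE : IsStronglyClosed E Q) :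
    Q ≤ Subgroup.normalizer (E : Set H) := by
  intro q hq
  rw [Subgroup.mem_normalizer_iff]
  intro x
  constructor
  · intro hx
    exact hE.2 x hx q (Q.mul_mem (Q.mul_mem hq (hE.1 hx)) (Q.inv_mem hq))
  · intro hx
    have := hE.2 _ hx q⁻¹ (by
      have h1 : q⁻¹ * (q * x * q⁻¹) * q⁻¹⁻¹ = x := by group
      have h2 : x = q⁻¹ * (q * x * q⁻¹) * q := by group
      rw [h1, h2]
      exact Q.mul_mem (Q.mul_mem (Q.inv_mem hq) (hE.1 hx)) hq)
    have h1 : q⁻¹ * (q * x * q⁻¹) * q⁻¹⁻¹ = x := by group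
    rwa [h1] at this

/-- The relative ZJ-theorem (helper11's `famInf_normal_rel`, as in `S3079`) for both families, with the
element-wise stability hypothesis. -/
theorem famInf_gd_normal_of_isStronglyClosed (hp : p ≠ 2) (b : Bool) (Q : Sylow p H) {E : Subgroup H}
    (hE : IsStronglyClosed E (Q : Subgroup H))
    (hc : Subgroup.centralizer (pCore p H : Set H) ≤ pCore p H)
    (hst : ∀ (V : Subgroup H) [V.Normal], IsPGroup p V → ∀ a : H, IsPGroup p (Subgroup.zpowers a) →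
      ⁅⁅V, Subgroup.zpowers a⁆, Subgroup.zpowers a⁆ = ⊥ →
      (QuotientGroup.mk a : H ⧸ Subgroup.centralizer (V : Set H)) ∈
        pCore p (H ⧸ Subgroup.centralizer (V : Set H))) :
    (famInf (gd p b) E).Normal := by
  rw [← Cfsg.Agent.S3079.famInf_and_le_eq (gd p b) hE.1]
  apply famInf_normal_rel hp Q ⟨gd_bot p b, bot_le⟩ (fun A h => gd_comm p b h.1) ?_ ?_ hc hst
  · intro g A hA _ hAgP
    exact ⟨gd_map p b _ hA.1, Cfsg.Agent.S3079.conj_le_of_stronglyClosed hE g A hA.2 hAgP⟩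
  · intro B A _ b' hAc hBA hb hbN hgood
    refine ⟨?_, Cfsg.Agent.S3079.starA_map_le_of_stronglyClosed hE A b' hgood.2⟩
    cases b
    · exact replClosed_elem hp (Q : Subgroup H) Q.isPGroup' B A b' hAc hBA hb hbN hgood.1
    · have hB2 : p = 2 → IsMulCommutative B := fun h => absurd h hp
      have := starA_isMulCommutative Q.isPGroup' A B b' hB2 hAc hBA hb hbN
      exact Subgroup.map_isMulCommutative _ _

/-- **Local step.** In a `p`-constrained group `H` which is `p`-stable in the normalizer form (`p` odd), with `E`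
strongly closed in the Sylow `p`-subgroup `Q`, the normalizer of `W = famInf (gd p b) E` controls strong fusion
in `Q`. -/
theorem local_control (hp : p ≠ 2) (b : Bool) (Q : Sylow p H) {E : Subgroup H}
    (hE : IsStronglyClosed E (Q : Subgroup H)) (hst : IsNormalizerPStable p H)
    (hc : IsPConstrained p H) (A : Set H) (h : H) (hA : A ⊆ (Q : Subgroup H))
    (hAh : (fun a => h * a * h⁻¹) '' A ⊆ (Q : Subgroup H)) :
    ∃ x ∈ Subgroup.normalizer ((famInf (gd p b) E : Subgroup H) : Set H),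
      ∀ a ∈ A, x * a * x⁻¹ = h * a * h⁻¹ := by
  set K := pPrimeCore p H with hKdef
  have hK : (Nat.card K).Coprime p := Cfsg.Agent.Lib.Helper54.card_pPrimeCore_coprime p
  have hπ : Function.Surjective (QuotientGroup.mk' K) := QuotientGroup.mk'_surjective K
  have hO' : pPrimeCore p (H ⧸ K) = ⊥ := Cfsg.Agent.Lib.Helper54.pPrimeCore_quotient_pPrimeCore p
  have hc' : IsPConstrained p (H ⧸ K) :=
    (Cfsg.Agent.Lib.Helper54.isPConstrained_iff_quotient p).mp hc
  have hc'' := (Cfsg.Agent.Lib.Helper54.isPConstrained_iff_of_pPrimeCore_eq_bot p hO').mp hc'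
  have hst' := hst_quotient_of_isNormalizerPStable K hK hst
  have hEb : IsStronglyClosed (E.map (QuotientGroup.mk' K))
      ((Q.mapSurjective hπ : Sylow p (H ⧸ K)) : Subgroup (H ⧸ K)) := by
    rw [Sylow.coe_mapSurjective]
    exact isStronglyClosed_map_mk K hK Q hE
  have hn := famInf_gd_normal_of_isStronglyClosed hp b (Q.mapSurjective hπ) hEb hc'' hst'
  have hEp : IsPGroup p E := Q.isPGroup'.to_le hE.1
  have hinjE := injOn_mk'_of_isPGroup K hK hEp
  rw [famInf_gd_map_injOn p b (QuotientGroup.mk' K) E hinjE] at hn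
  set Z := famInf (gd p b) E with hZ
  have hZE : Z ≤ E := famInf_gd_le p b E
  have hZp : IsPGroup p Z := hEp.to_le hZE
  have hZKn : (Z ⊔ K).Normal := by
    have h1 : ((Z.map (QuotientGroup.mk' K)).comap (QuotientGroup.mk' K)).Normal := inferInstance
    rwa [Subgroup.comap_map_eq, QuotientGroup.ker_mk'] at h1
  set N₁ := Subgroup.normalizer (Z : Set H) with hN₁
  have hQN : (Q : Subgroup H) ≤ N₁ :=
    (le_normalizer_of_isStronglyClosed hE).trans
      (normalizer_le_normalizer_famInf (good := gd p b) (fun φ A hA => gd_map p b _ hA) E)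
  -- Frattini
  have hhN : h ∈ Subgroup.normalizer ((Z ⊔ K : Subgroup H) : Set H) := by
    rw [Subgroup.normalizer_eq_top_iff.mpr hZKn]; trivial
  obtain ⟨k, hk, hkh⟩ := exists_mul_mem_normalizer_of_sup hZp hK hhN
  set B₀ := Subgroup.closure A with hB₀
  have hB₀Q : B₀ ≤ (Q : Subgroup H) := (Subgroup.closure_le _).mpr hA
  have hB₀h : cj h B₀ ≤ (Q : Subgroup H) := by
    rw [cj_closure]
    exact (Subgroup.closure_le _).mpr hAh
  have hB₁p : IsPGroup p (cj (k * h) B₀) := isPGroup_cj (Q.isPGroup'.to_le hB₀Q)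
  have hB₁N : cj (k * h) B₀ ≤ N₁ := cj_le_of_mem (hB₀Q.trans hQN) hkh
  have hB₁QK : cj (k * h) B₀ ≤ (Q : Subgroup H) ⊔ K := by
    rw [cj_mul]
    exact (cj_mono hB₀h).trans
      (cj_le_of_mem (le_sup_left : (Q : Subgroup H) ≤ (Q : Subgroup H) ⊔ K) (Subgroup.mem_sup_right hk))
  obtain ⟨c, ⟨hcN, hcK⟩, hcB⟩ := exists_mem_cj_le (Q : Subgroup H) K N₁ Q.isPGroup' hK hQN hB₁p
    hB₁N hB₁QK
  refine ⟨c * (k * h), N₁.mul_mem hcN hkh, ?_⟩
  intro a ha
  have h1 : c * ((k * h) * a * (k * h)⁻¹) * c⁻¹ ∈ (Q : Subgroup H) :=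
    hcB (conj_mem_cj (conj_mem_cj (Subgroup.subset_closure ha)))
  have h2 : h * a * h⁻¹ ∈ (Q : Subgroup H) := hAh ⟨a, ha, rfl⟩
  have h3 : (h * a * h⁻¹)⁻¹ * (c * ((k * h) * a * (k * h)⁻¹) * c⁻¹) ∈ (Q : Subgroup H) ⊓ K := by
    refine ⟨Subgroup.mul_mem _ (Subgroup.inv_mem _ h2) h1, ?_⟩
    show (h * a * h⁻¹)⁻¹ * (c * ((k * h) * a * (k * h)⁻¹) * c⁻¹) ∈ K
    rw [← QuotientGroup.eq_one_iff, ← QuotientGroup.mk'_apply]
    simp only [map_mul, map_inv, mk'_eq_one_of_mem K hcK, mk'_eq_one_of_mem K hk, one_mul]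
    group
  rw [pGroup_inf_pPrime_eq_bot Q.isPGroup' hK, Subgroup.mem_bot] at h3
  have h4 : c * (k * h) * a * (c * (k * h))⁻¹ = c * ((k * h) * a * (k * h)⁻¹) * c⁻¹ := by group
  rw [h4]
  calc c * ((k * h) * a * (k * h)⁻¹) * c⁻¹
      = (h * a * h⁻¹) * ((h * a * h⁻¹)⁻¹ * (c * ((k * h) * a * (k * h)⁻¹) * c⁻¹)) := by group
    _ = h * a * h⁻¹ := by rw [h3, mul_one]

end general

end Cfsg.Agent.Lib.Helper51
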