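import Mathlib
import Cfsg.Prelude.Def_ConjugacyFunctors
import Cfsg.Agent.S1961
import Cfsg.Agent.S1967
import Cfsg.Agent.S3836
import Cfsg.Agent.S0622
import Cfsg.Agent.S0654
import Cfsg.Agent.Lib.Helper51.StrongFusionLocal

/-!
# Control of strong fusion by `N(Z(J(D)))` for a strongly closed subgroup `D` (Gilotti–Serena)
-/

set_option autoImplicit false
open Cfsg

namespace Cfsg.Agent.Lib.Helper51

open Cfsg.Agent.Lib.Helper33 Cfsg.Agent.Lib.Helper11

section trace

variable {G : Type*} [Group G]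

/-- The trace of the conjugates of `D` on `Q`. For `Q` inside a Sylow subgroup `P` in which `D` is strongly
closed this is `Q ⊓ D`. -/
def trc (D Q : Subgroup G) : Subgroup G := ⨆ g : G, Q ⊓ cj g D

theorem trc_le (D Q : Subgroup G) : trc D Q ≤ Q := iSup_le fun _ => inf_le_left

theorem cj_trc (D Q : Subgroup G) (g : G) : trc D (cj g Q) = cj g (trc D Q) := by
  unfold trc
  have h1 : cj g (⨆ h : G, Q ⊓ cj h D) = ⨆ h : G, cj g (Q ⊓ cj h D) := by
    unfold cj
    rw [Subgroup.map_iSup]
  rw [h1]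
  apply le_antisymm
  · apply iSup_le
    intro h
    have : cj g Q ⊓ cj h D = cj g (Q ⊓ cj (g⁻¹ * h) D) := by
      rw [cj_inf, ← cj_mul]
      congr 2
      group
    rw [this]
    exact le_iSup (fun h : G => cj g (Q ⊓ cj h D)) (g⁻¹ * h)
  · apply iSup_le
    intro h
    have : cj g (Q ⊓ cj h D) = cj g Q ⊓ cj (g * h) D := by
      rw [cj_inf, ← cj_mul]
    rw [this]
    exact le_iSup (fun h : G => cj g Q ⊓ cj h D) (g * h)

theorem trc_eq_inf_of_le {D P : Subgroup G} (hD : IsStronglyClosed D P) {Q : Subgroup G}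
    (hQ : Q ≤ P) : trc D Q = Q ⊓ D := by
  apply le_antisymm
  · apply iSup_le
    intro g x hx
    refine ⟨hx.1, ?_⟩
    have h1 : g⁻¹ * x * g ∈ D := mem_cj.mp hx.2
    have h2 := hD.2 _ h1 g (by
      have : g * (g⁻¹ * x * g) * g⁻¹ = x := by group
      rw [this]; exact hQ hx.1)
    have : g * (g⁻¹ * x * g) * g⁻¹ = x := by group
    rwa [this] at h2
  · have : Q ⊓ D = Q ⊓ cj 1 D := by rw [cj_one]
    rw [this]
    exact le_iSup (fun h : G => Q ⊓ cj h D) 1

end trace

section functor

variable {G : Type*} [Group G] [Finite G] {p : ℕ} [Fact p.Prime]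

omit [Finite G] [Fact p.Prime] in
theorem gd_true_eq : (gd p true : Subgroup G → Prop) = fun A : Subgroup G => IsMulCommutative A := by
  funext A
  simp [gd]

omit [Finite G] [Fact p.Prime] in
theorem gd_false_eq :
    (gd p false : Subgroup G → Prop) = fun A : Subgroup G => IsElementaryAbelian p A := by
  funext A
  simp [gd]

theorem famInf_gd_ne_bot (b : Bool) {X : Subgroup G} (hX : IsPGroup p X) (hne : X ≠ ⊥) :
    famInf (gd p b) X ≠ ⊥ := by
  cases b
  · rw [gd_false_eq, ← Cfsg.Agent.S0654.omegaCenterThompson_map_eq_famInf X hX]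
    have hnt : Nontrivial ↥X := (Subgroup.nontrivial_iff_ne_bot X).mpr hne
    have hXp : IsPGroup p ↥X := hX
    obtain ⟨-, -, hle, hne', -⟩ := Cfsg.Agent.S0622.result hXp
    intro h
    rw [(Subgroup.map_eq_bot_iff_of_injective _ X.subtype_injective)] at h
    apply hne' hnt
    rw [eq_bot_iff, ← h]
    exact hle
  · rw [gd_true_eq]
    exact zj_ne_bot X hX hne

/-- The conjugacy functor `Q ↦ W(Q ∩ D̃)` (with the fallback `W(Q)` when the trace is trivial). -/
noncomputable def wfun (p : ℕ) (b : Bool) (D : Subgroup G) (Q : Subgroup G) : Subgroup G :=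
  open Classical in
  if trc D Q = ⊥ then famInf (gd p b) Q else famInf (gd p b) (trc D Q)

omit [Finite G] [Fact p.Prime] in
theorem famInf_gd_cj (b : Bool) (g : G) (T : Subgroup G) :
    famInf (gd p b) (cj g T) = cj g (famInf (gd p b) T) :=
  famInf_map_equiv (good := gd p b) (fun _ _ hA => gd_map p b _ hA) (MulAut.conj g) T

theorem isConjugacyFunctor_wfun (b : Bool) (D : Subgroup G) :
    IsConjugacyFunctor p (wfun p b D) := by
  intro Q hQ
  refine ⟨?_, ?_, ?_⟩
  · unfold wfun
    split_ifs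
    · exact famInf_gd_le p b Q
    · exact (famInf_gd_le p b _).trans (trc_le D Q)
  · intro hne
    unfold wfun
    split_ifs with h
    · exact famInf_gd_ne_bot b hQ hne
    · exact famInf_gd_ne_bot b (hQ.to_le (trc_le D Q)) h
  · intro g
    show wfun p b D (cj g Q) = cj g (wfun p b D Q)
    unfold wfun
    rw [cj_trc]
    by_cases h : trc D Q = ⊥
    · rw [if_pos h, if_pos (by rw [h, cj_bot])]
      exact famInf_gd_cj b g Q
    · rw [if_neg h, if_neg (by rw [cj_eq_bot_iff]; exact h)]
      exact famInf_gd_cj b g _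

/-- The local hypothesis of `S1961` for `wfun`. -/
theorem wfun_controls_local (hp : p ≠ 2) (b : Bool) (P : Sylow p G) (D : Subgroup G)
    (hD : IsStronglyClosed D (P : Subgroup G)) (hst : IsNormalizerPStable p G)
    (T : Subgroup G)
    (hcT : IsPConstrained p ↥(Subgroup.normalizer (T : Set G)))
    (h0 : ¬ p ∣ ((P : Subgroup G) ⊓ Subgroup.normalizer (T : Set G)).relIndex
      (Subgroup.normalizer (T : Set G))) :
    ControlsStrongFusionIn p (wfun p b D) (Subgroup.normalizer (T : Set G)) := by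
  classical
  set M := Subgroup.normalizer (T : Set G) with hM
  set P₁ := (P : Subgroup G) ⊓ M with hP₁
  have hP₁p : IsPGroup p P₁ := P.isPGroup'.to_le inf_le_left
  refine ⟨P₁, inf_le_right, hP₁p, h0, ?_⟩
  intro A h hhM hAP hAh
  -- the strongly closed subgroup `E` of `P₁` with `wfun P₁ = famInf E`
  obtain ⟨E, hEP₁, hEsc, hW⟩ : ∃ E : Subgroup G, E ≤ P₁ ∧
      (∀ x ∈ E, ∀ g : G, g * x * g⁻¹ ∈ P₁ → g * x * g⁻¹ ∈ E) ∧
      wfun p b D P₁ = famInf (gd p b) E := by
    by_cases htr : trc D P₁ = ⊥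
    · refine ⟨P₁, le_rfl, fun x _ g hg => hg, ?_⟩
      unfold wfun
      rw [if_pos htr]
    · refine ⟨P₁ ⊓ D, inf_le_left, ?_, ?_⟩
      · intro x hx g hg
        exact ⟨hg, hD.2 x hx.2 g hg.1⟩
      · unfold wfun
        rw [if_neg htr, trc_eq_inf_of_le hD inf_le_left]
  have hEM : E ≤ M := hEP₁.trans inf_le_right
  -- transfer to the group `↥M`
  let Q : Sylow p ↥M := IsPGroup.toSylow (P := P₁.subgroupOf M) hP₁p.comap_subtype h0
  have hQ : (Q : Subgroup ↥M) = P₁.subgroupOf M := rfl
  have hE' : IsStronglyClosed (E.subgroupOf M) (Q : Subgroup ↥M) := by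
    rw [hQ]
    refine ⟨?_, ?_⟩
    · intro x hx
      rw [Subgroup.mem_subgroupOf] at hx ⊢
      exact hEP₁ hx
    · intro x hx g hg
      rw [Subgroup.mem_subgroupOf] at hx hg ⊢
      exact hEsc _ hx _ hg
  have hstM : IsNormalizerPStable p ↥M := Cfsg.Agent.S3836.result hst M
  obtain ⟨x', hx'N, hx'⟩ := local_control hp b Q hE' hstM hcT (M.subtype ⁻¹' A) ⟨h, hhM⟩
    (by
      intro a ha
      rw [hQ]
      show a ∈ P₁.subgroupOf M
      rw [Subgroup.mem_subgroupOf]
      exact hAP ha)
    (by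
      rintro _ ⟨a, ha, rfl⟩
      rw [hQ]
      show _ ∈ P₁.subgroupOf M
      rw [Subgroup.mem_subgroupOf]
      exact hAh ⟨(a : G), ha, rfl⟩)
  have hmapE : (E.subgroupOf M).map M.subtype = E := Subgroup.map_subgroupOf_eq_of_le hEM
  have hZmap : (famInf (gd p b) (E.subgroupOf M)).map M.subtype = famInf (gd p b) E := by
    rw [← famInf_gd_map_injOn p b M.subtype (E.subgroupOf M) (M.subtype_injective.injOn), hmapE]
  refine ⟨(x' : G), ⟨x'.2, ?_⟩, ?_⟩
  · rw [hW, ← hZmap]
    exact Subgroup.le_normalizer_map M.subtype ⟨x', hx'N, rfl⟩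
  · intro a ha
    have haM : a ∈ M := (hAP ha).2
    have := hx' ⟨a, haM⟩ ha
    exact congrArg Subtype.val this

/-- **Gilotti–Serena.** `p` odd, `G` `p`-stable in the normalizer form, all `p`-local subgroups `N_G(U)`,
`1 ≠ U ≤ P`, `p`-constrained, `D` strongly closed in the Sylow `p`-subgroup `P`: the normalizer of
`W(D) = famInf (gd p b) D` controls strong fusion in `P`. -/
theorem controls_of_isStronglyClosed (hp : p ≠ 2) (b : Bool) (P : Sylow p G) (D : Subgroup G)
    (hD : IsStronglyClosed D (P : Subgroup G)) (hst : IsNormalizerPStable p G)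
    (hc : ∀ U : Subgroup G, U ≤ (P : Subgroup G) → U ≠ ⊥ →
      IsPConstrained p ↥(Subgroup.normalizer (U : Set G)))
    (A : Set G) (hA : A ⊆ (P : Subgroup G)) :
    ControlsStrongFusionOf (Subgroup.normalizer ((famInf (gd p b) D : Subgroup G) : Set G))
      (P : Subgroup G) A := by
  classical
  refine ⟨hA, ?_⟩
  intro g hg
  by_cases hDb : D = ⊥
  · refine ⟨g, ?_, fun a _ => rfl⟩
    have : famInf (gd p b) D = ⊥ := by
      rw [eq_bot_iff, ← hDb]
      exact famInf_gd_le p b D
    rw [this]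
    rw [Subgroup.normalizer_eq_top_iff.mpr (inferInstance : (⊥ : Subgroup G).Normal)]
    trivial
  have hW := isConjugacyFunctor_wfun (p := p) b D
  have hctl : ControlsStrongFusionIn p (wfun p b D) ⊤ := by
    apply Cfsg.Agent.S1961.result P (wfun p b D) hW
    intro T hT hwp
    exact wfun_controls_local hp b P D hD hst T (hc T hwp.1 hT) (hwp.2 0)
  have hAcl : Subgroup.closure A ≤ (P : Subgroup G) := (Subgroup.closure_le _).mpr hA
  have hgcl : (Subgroup.closure A).map (MulAut.conj g).toMonoidHom ≤ (P : Subgroup G) := by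
    have := cj_closure g A
    unfold cj at this
    rw [this]
    exact (Subgroup.closure_le _).mpr hg
  obtain ⟨n, hn, c, hcC, rfl⟩ :=
    (Cfsg.Agent.S1967.result P (wfun p b D) hW).mp hctl (Subgroup.closure A) g hAcl hgcl
  have hWP : wfun p b D (P : Subgroup G) = famInf (gd p b) D := by
    have h1 : trc D (P : Subgroup G) = D := by
      rw [trc_eq_inf_of_le hD le_rfl]
      exact inf_eq_right.mpr hD.1
    unfold wfun
    rw [h1, if_neg hDb]
  rw [hWP] at hn
  refine ⟨n, hn, ?_⟩
  intro a ha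
  have h1 : a * c = c * a :=
    Subgroup.mem_centralizer_iff.mp hcC a (Subgroup.subset_closure ha)
  calc n * c * a * (n * c)⁻¹ = n * (c * a) * c⁻¹ * n⁻¹ := by group
    _ = n * (a * c) * c⁻¹ * n⁻¹ := by rw [h1]
    _ = n * a * n⁻¹ := by group

end functor

end Cfsg.Agent.Lib.Helper51
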