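import Mathlib
import Cfsg.Agent.S3056
import Cfsg.Agent.Lib.Helper51.ThompsonReplacement

set_option autoImplicit false

/-!
The graph on the Sylow `p`-subgroups (edges = nontrivial intersections), continued from
`Cfsg.Agent.S3056` (`Conn`, `stab`): tools to show that the stabilizer `stab p S` of the component
of `S` is everything.  By helper51.
-/

namespace Cfsg.Agent.Lib.Helper51

open Subgroup Cfsg.Agent.S3056
open scoped Pointwise

variable {G : Type*} [Group G]

theorem mem_map_conj_iff' (P : Subgroup G) (k x : G) :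
    x ∈ P.map (MulAut.conj k).toMonoidHom ↔ k⁻¹ * x * k ∈ P := by
  constructor
  · rintro ⟨u, hu, rfl⟩
    simpa [MulAut.conj_apply, mul_assoc] using hu
  · intro h
    exact ⟨k⁻¹ * x * k, h, by simp [MulAut.conj_apply, mul_assoc]⟩

/-- Sylow conjugacy inside a subgroup `K` (after Helper63). -/
theorem exists_conj_eq_of_relIndex' [Finite G] {p : ℕ} [Fact p.Prime]
    (K P₁ P₂ : Subgroup G) (h₁ : P₁ ≤ K) (h₂ : P₂ ≤ K) (hP₁ : IsPGroup p P₁)
    (hP₂ : IsPGroup p P₂) (hi₁ : ¬ p ∣ P₁.relIndex K) (hi₂ : ¬ p ∣ P₂.relIndex K) :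
    ∃ k ∈ K, P₂ = P₁.map (MulAut.conj k).toMonoidHom := by
  let S₁ : Sylow p K := (hP₁.comap_subtype (K := K)).toSylow hi₁
  let S₂ : Sylow p K := (hP₂.comap_subtype (K := K)).toSylow hi₂
  obtain ⟨k, hk⟩ := MulAction.exists_smul_eq K S₁ S₂
  have hk' : (MulAut.conj k • (S₁ : Subgroup K)) = (S₂ : Subgroup K) := by
    rw [← Sylow.coe_subgroup_smul, hk]
  have key : ∀ y : K, y ∈ (S₂ : Subgroup K) ↔ k⁻¹ * y * k ∈ (S₁ : Subgroup K) := by
    intro y
    rw [← hk', Subgroup.mem_pointwise_smul_iff_inv_smul_mem]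
    simp [MulAut.smul_def]
  refine ⟨k, k.2, ?_⟩
  ext x
  rw [mem_map_conj_iff']
  constructor
  · intro hx
    have := (key ⟨x, h₂ hx⟩).1 (by simpa [S₂, Subgroup.mem_subgroupOf] using hx)
    simpa [S₁, Subgroup.mem_subgroupOf] using this
  · intro hx
    have hxK : x ∈ K := by
      have h3 : (k : G)⁻¹ * x * (k : G) ∈ K := h₁ hx
      have h4 : x = (k : G) * ((k : G)⁻¹ * x * (k : G)) * (k : G)⁻¹ := by group
      rw [h4]
      exact K.mul_mem (K.mul_mem k.2 h3) (K.inv_mem k.2)
    have := (key ⟨x, hxK⟩).2 (by simpa [S₁, Subgroup.mem_subgroupOf] using hx)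
    simpa [S₂, Subgroup.mem_subgroupOf] using this

/-- If `g` conjugates a nontrivial element of `S` into `S`, then `g` stabilizes the component. -/
theorem mem_stab_of_conj_mem {p : ℕ} (S : Sylow p G) (g x : G) (hx1 : x ≠ 1)
    (hxS : x ∈ S) (hgx : g * x * g⁻¹ ∈ S) : g ∈ stab p S := by
  rw [mem_stab]
  by_cases h : g • S = S
  · rw [h]; exact Relation.ReflTransGen.refl
  · apply Relation.ReflTransGen.single
    refine ⟨h, (inf_ne_bot_iff _ _).mpr ⟨g * x * g⁻¹, ?_, ?_, hgx⟩⟩
    · intro h1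
      apply hx1
      have : x = g⁻¹ * (g * x * g⁻¹) * g := by group
      rw [this, h1]; group
    · have : g * x * g⁻¹ ∈ (g • S : Sylow p G) := by
        rw [mem_smul_sylow]
        have : g⁻¹ * (g * x * g⁻¹) * g = x := by group
        rw [this]; exact hxS
      exact this

/-- A `p`-element of a `p'`-group is trivial. -/
theorem eq_one_of_mem_of_mem [Finite G] {p : ℕ} [hp : Fact p.Prime] (S : Sylow p G)
    (K : Subgroup G) (hK : ¬ p ∣ Nat.card K) (z : G) (hzK : z ∈ K) (hzS : z ∈ S) : z = 1 := by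
  obtain ⟨k, hk⟩ := S.isPGroup' ⟨z, hzS⟩
  have hk' : z ^ p ^ k = 1 := by
    have := congrArg Subtype.val hk
    simpa using this
  have h1 : orderOf z ∣ p ^ k := orderOf_dvd_of_pow_eq_one hk'
  obtain ⟨j, hj, hjz⟩ := (Nat.dvd_prime_pow hp.out).mp h1
  have h2 : orderOf z ∣ Nat.card K := by
    have := orderOf_dvd_natCard (⟨z, hzK⟩ : K)
    rwa [Subgroup.orderOf_mk] at this
  rcases Nat.eq_zero_or_pos j with hj0 | hjpos
  · rw [hj0, pow_zero] at hjz
    exact orderOf_eq_one_iff.mp hjz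
  · exfalso
    apply hK
    have : p ∣ orderOf z := by rw [hjz]; exact dvd_pow_self p hjpos.ne'
    exact this.trans h2


/-- A Sylow `p`-subgroup meets a normal subgroup of order divisible by `p` in an element of
order `p`. -/
theorem exists_orderOf_eq_mem_sylow [Finite G] {p : ℕ} [hp : Fact p.Prime] (S : Sylow p G)
    (M : Subgroup G) [hM : M.Normal] (hpM : p ∣ Nat.card M) :
    ∃ y : G, y ∈ S ∧ y ∈ M ∧ orderOf y = p := by
  obtain ⟨n₀, hn₀⟩ := exists_prime_orderOf_dvd_card' p hpM
  have hz : IsPGroup p ↥(zpowers (n₀ : G)) := by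
    apply IsPGroup.of_card (n := 1)
    rw [Nat.card_zpowers, pow_one, Subgroup.orderOf_coe, hn₀]
  obtain ⟨S', hS'⟩ := hz.exists_le_sylow
  obtain ⟨g, hg⟩ := MulAction.exists_smul_eq G S' S
  refine ⟨g * n₀ * g⁻¹, ?_, hM.conj_mem _ n₀.2 g, ?_⟩
  · have h1 : g * n₀ * g⁻¹ ∈ (g • S' : Sylow p G) := by
      rw [mem_smul_sylow]
      have : g⁻¹ * (g * (n₀ : G) * g⁻¹) * g = n₀ := by group
      rw [this]
      exact hS' (mem_zpowers _)
    rw [hg] at h1
    exact h1
  · have := orderOf_injective (MulAut.conj g).toMonoidHom (MulAut.conj g).injective (n₀ : G)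
    simp only [MulEquiv.coe_toMonoidHom, MulAut.conj_apply] at this
    rw [this, Subgroup.orderOf_coe, hn₀]

/-- The key step: elements acting trivially on `y` modulo a normal `p'`-subgroup `K ≤ stab`. -/
theorem mem_stab_of_comm_mem [Finite G] {p : ℕ} [hp : Fact p.Prime] (S : Sylow p G)
    (K : Subgroup G) [hKn : K.Normal] (hK : ¬ p ∣ Nat.card K) (hKR : K ≤ stab p S)
    (y : G) (hyS : y ∈ S) (hyp : orderOf y = p) (n : G) (hc : n * y * n⁻¹ * y⁻¹ ∈ K) :
    n ∈ stab p S := by
  set L : Subgroup G := K ⊔ zpowers y with hL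
  set y' : G := n * y * n⁻¹ with hy'
  have hy1 : y ≠ 1 := by
    intro h
    rw [h, orderOf_one] at hyp
    exact hp.out.one_lt.ne hyp
  have hy'p : orderOf y' = p := by
    have := orderOf_injective (MulAut.conj n).toMonoidHom (MulAut.conj n).injective y
    simp only [MulEquiv.coe_toMonoidHom, MulAut.conj_apply] at this
    rw [hy', this, hyp]
  have hP₁L : zpowers y ≤ L := le_sup_right
  have hP₂L : zpowers y' ≤ L := by
    rw [zpowers_le]
    have : y' = (n * y * n⁻¹ * y⁻¹) * y := by rw [hy']; group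
    rw [this]
    exact mul_mem_sup hc (mem_zpowers y)
  have hcard₁ : Nat.card (zpowers y) = p := by rw [Nat.card_zpowers, hyp]
  have hcard₂ : Nat.card (zpowers y') = p := by rw [Nat.card_zpowers, hy'p]
  have hP₁ : IsPGroup p (zpowers y) := IsPGroup.of_card (n := 1) (by rw [hcard₁, pow_one])
  have hP₂ : IsPGroup p (zpowers y') := IsPGroup.of_card (n := 1) (by rw [hcard₂, pow_one])
  -- the order of L divides p * |K|
  have hLcard : Nat.card L ∣ p * Nat.card K := by
    have h1 : K.relIndex L * Nat.card K = Nat.card L := by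
      have := relIndex_mul_relIndex (⊥ : Subgroup G) K L bot_le le_sup_left
      rw [relIndex_bot_left, relIndex_bot_left, mul_comm] at this
      exact this
    have h2 : K.relIndex L = K.relIndex (zpowers y) := by rw [hL, relIndex_sup_left]
    have h3 : K.relIndex (zpowers y) ∣ p := by
      have := relIndex_dvd_card K (zpowers y)
      rwa [hcard₁] at this
    rw [← h1, h2]
    exact Nat.mul_dvd_mul_right h3 _
  have hrel : ∀ P : Subgroup G, P ≤ L → Nat.card P = p → ¬ p ∣ P.relIndex L := by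
    intro P hPL hPc hdvd
    have h1 : P.relIndex L * Nat.card P = Nat.card L := by
      have := relIndex_mul_relIndex (⊥ : Subgroup G) P L bot_le hPL
      rw [relIndex_bot_left, relIndex_bot_left, mul_comm] at this
      exact this
    rw [hPc] at h1
    have h2 : P.relIndex L * p ∣ p * Nat.card K := h1 ▸ hLcard
    rw [mul_comm] at h2
    have h3 : P.relIndex L ∣ Nat.card K := (Nat.mul_dvd_mul_iff_left hp.out.pos).mp h2
    exact hK (hdvd.trans h3)
  obtain ⟨l, hlL, hl⟩ := exists_conj_eq_of_relIndex' L (zpowers y) (zpowers y') hP₁L hP₂L hP₁ hP₂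
    (hrel _ hP₁L hcard₁) (hrel _ hP₂L hcard₂)
  have h1 : y' ∈ (zpowers y).map (MulAut.conj l).toMonoidHom := by
    rw [← hl]; exact mem_zpowers y'
  rw [mem_map_conj_iff'] at h1
  have hyS' : zpowers y ≤ (S : Subgroup G) := by rw [zpowers_le]; exact hyS
  have hLR : L ≤ stab p S := sup_le hKR (hyS'.trans (le_stab S))
  have h2 : l⁻¹ * n ∈ stab p S := by
    apply mem_stab_of_conj_mem S (l⁻¹ * n) y hy1 hyS
    have : l⁻¹ * n * y * (l⁻¹ * n)⁻¹ = l⁻¹ * y' * l := by rw [hy']; group
    rw [this]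
    exact hyS' h1
  have : n = l * (l⁻¹ * n) := by group
  rw [this]
  exact mul_mem (hLR hlL) h2



/-- Two commuting elements of order `p` generating different subgroups span a noncyclic abelian
subgroup of exponent `p`. -/
theorem noncyclic_sup_zpowers {p : ℕ} [hp : Fact p.Prime] [Finite G] (x y : G) (hxp : orderOf x = p)
    (hyp : orderOf y = p) (hxy : x * y = y * x) (hyx : y ∉ zpowers x) :
    IsMulCommutative ↥(zpowers x ⊔ zpowers y) ∧ ¬ IsCyclic ↥(zpowers x ⊔ zpowers y) ∧
      ∀ a ∈ zpowers x ⊔ zpowers y, a ^ p = 1 := by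
  set A : Subgroup G := zpowers x ⊔ zpowers y with hA
  have hyc : y ∈ centralizer ((zpowers x : Subgroup G) : Set G) := by
    rw [mem_centralizer_iff]
    intro h hh
    obtain ⟨k, rfl⟩ := mem_zpowers_iff.mp hh
    exact (Commute.zpow_left (show Commute x y from hxy) k)
  have hAcomm : IsMulCommutative A :=
    isMulCommutative_sup_zpowers (A := zpowers x) inferInstance hyc
  have hcomm : ∀ a ∈ A, ∀ b ∈ A, a * b = b * a := by
    intro a ha b hb
    have := hAcomm.is_comm.comm (⟨a, ha⟩ : A) ⟨b, hb⟩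
    exact congrArg Subtype.val this
  have hApow : ∀ a ∈ A, a ^ p = 1 := by
    let T : Subgroup G :=
      { carrier := {a | a ∈ A ∧ a ^ p = 1}
        mul_mem' := fun {a b} ha hb => ⟨A.mul_mem ha.1 hb.1, by
          rw [(show Commute a b from hcomm a ha.1 b hb.1).mul_pow, ha.2, hb.2, one_mul]⟩
        one_mem' := ⟨A.one_mem, one_pow p⟩
        inv_mem' := fun {a} ha => ⟨A.inv_mem ha.1, by rw [inv_pow, ha.2, inv_one]⟩ }
    have hxT : x ∈ T :=
      ⟨le_sup_left (a := zpowers x) (mem_zpowers x), by rw [← hxp, pow_orderOf_eq_one]⟩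
    have hyT : y ∈ T :=
      ⟨le_sup_right (b := zpowers y) (mem_zpowers y), by rw [← hyp, pow_orderOf_eq_one]⟩
    have hAT : A ≤ T := sup_le (zpowers_le.mpr hxT) (zpowers_le.mpr hyT)
    intro a ha
    exact (hAT ha).2
  refine ⟨hAcomm, ?_, hApow⟩
  intro hcyc
  have h1 : Monoid.exponent A ∣ p :=
    Monoid.exponent_dvd_of_forall_pow_eq_one (fun a => Subtype.ext (by simpa using hApow a a.2))
  have h2 : Nat.card A ∣ p := by rw [← IsCyclic.exponent_eq_card]; exact h1
  have h3 : Nat.card (zpowers x) = p := by rw [Nat.card_zpowers, hxp]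
  have h4 : zpowers x = A := by
    apply Subgroup.eq_of_le_of_card_ge le_sup_left
    rw [h3]; exact Nat.le_of_dvd hp.out.pos h2
  exact hyx (h4 ▸ (le_sup_right : zpowers y ≤ A) (mem_zpowers y))

/-- If a normal `p'`-subgroup `K` is generated by the centralizers in `K` of the nonidentity
elements of a subgroup `A` of `S`, then `K` stabilizes the component of `S`. -/
theorem le_stab_of_generation {p : ℕ} (S : Sylow p G) (A K : Subgroup G) (hAS : A ≤ S)
    (hgen : (⨆ a ∈ {a : G | a ∈ A ∧ a ≠ 1}, K ⊓ Subgroup.centralizer {a}) = K) :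
    K ≤ stab p S := by
  rw [← hgen]
  apply iSup₂_le
  intro a ha g hg
  have hga : a * g = g * a := (mem_centralizer_iff.mp hg.2) a rfl
  apply mem_stab_of_conj_mem S g a ha.2 (hAS ha.1)
  have : g * a * g⁻¹ = a := by rw [← hga]; group
  rw [this]; exact hAS ha.1

/-- If the component stabilizer is everything, any two Sylow subgroups are connected. -/
theorem conn_of_stab_eq_top {p : ℕ} [Fact p.Prime] [Finite G] (S : Sylow p G)
    (h : stab p S = ⊤) (S₁ S₂ : Sylow p G) : Conn p S₁ S₂ := by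
  obtain ⟨g₁, hg₁⟩ := MulAction.exists_smul_eq G S S₁
  obtain ⟨g₂, hg₂⟩ := MulAction.exists_smul_eq G S S₂
  have h1 : g₁ ∈ stab p S := h ▸ mem_top _
  have h2 : g₂ ∈ stab p S := h ▸ mem_top _
  rw [mem_stab] at h1 h2
  rw [hg₁] at h1
  rw [hg₂] at h2
  exact conn_trans h1 (conn_symm h2)

/-- Normalizers of nontrivial subgroups of `S` stabilize the component of `S`. -/
theorem normalizer_le_stab {p : ℕ} (S : Sylow p G) (X : Subgroup G) (hXS : X ≤ S) (hX : X ≠ ⊥) :
    normalizer (X : Set G) ≤ stab p S := by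
  intro g hg
  obtain ⟨a, ha1⟩ := (Subgroup.ne_bot_iff_exists_ne_one).mp hX
  have ha1' : (a : G) ≠ 1 := fun h => ha1 (Subtype.ext h)
  apply mem_stab_of_conj_mem S g _ ha1' (hXS a.2)
  exact hXS ((mem_normalizer_iff.mp hg _).mp a.2)

end Cfsg.Agent.Lib.Helper51
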