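/-
helper51: project SZCH (helper6, S4775), module SZCH-[GRAPH]:
from the degree set of `Sz(q)` to its degree graph (pure arithmetic).
-/
import Mathlib
import Cfsg.Prelude.Def_Characters
import Cfsg.Prelude.Def_DegreeGraph
import Cfsg.Agent.Lib.Helper6.SzCh.Defs

set_option autoImplicit false

namespace Cfsg.Agent.Lib.Helper51.SzCh

open Cfsg Cfsg.Agent.Lib.Helper6.SzCh

/-- the arithmetic core of [GRAPH], in terms of a finite list of six degrees -/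
theorem graph_arith (m : ℕ) (hm : 1 ≤ m) (q h n₁ n₂ : ℕ) (hh : h = 2 ^ m) (hq : q = 2 * h ^ 2)
    (hn₁ : n₁ = q + 2 * h + 1) (hn₂ : n₂ + 2 * h = q + 1)
    (P : ℕ → Prop)
    (hP : ∀ d, P d ↔ d = 1 ∨ d = q ^ 2 ∨ d = q ^ 2 + 1 ∨ d = h * (q - 1) ∨ d = (q - 1) * n₂ ∨
      d = (q - 1) * n₁) :
    (∀ p : ℕ, (p.Prime ∧ ∃ d, P d ∧ p ∣ d) ↔ (p.Prime ∧ (p = 2 ∨ p ∣ (q - 1) * (q ^ 2 + 1)))) ∧
    ∀ r s : ℕ, (r ≠ s ∧ r.Prime ∧ s.Prime ∧ ∃ d, P d ∧ r * s ∣ d) ↔ (r ≠ s ∧ r.Prime ∧ s.Prime ∧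
      ((r ∣ (q - 1) * (q ^ 2 + 1) ∧ s ∣ (q - 1) * (q ^ 2 + 1)) ∨ (r = 2 ∧ s ∣ q - 1) ∨
        (s = 2 ∧ r ∣ q - 1))) := by
  have hnn : n₁ * n₂ = q ^ 2 + 1 := by
    have h1 : n₂ = q + 1 - 2 * h := by omega
    have h2 : 2 * h ≤ q + 1 := by omega
    zify [h2] at h1 ⊢
    rw [h1, hn₁]
    push_cast
    have : (q : ℤ) = 2 * (h : ℤ) ^ 2 := by exact_mod_cast hq
    rw [this]; ring
  have h2h : 2 ∣ h := by
    rw [hh]; exact dvd_pow_self 2 (by omega)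
  have hph : ∀ p : ℕ, p.Prime → p ∣ h → p = 2 := by
    intro p hp hd
    rw [hh] at hd
    exact (Nat.prime_dvd_prime_iff_eq hp Nat.prime_two).mp (hp.dvd_of_dvd_pow hd)
  have hpq : ∀ p : ℕ, p.Prime → p ∣ q ^ 2 → p = 2 := by
    intro p hp hd
    have h1 : p ∣ q := hp.dvd_of_dvd_pow hd
    rw [hq] at h1
    rcases (Nat.Prime.dvd_mul hp).mp h1 with h2 | h2
    · exact (Nat.prime_dvd_prime_iff_eq hp Nat.prime_two).mp h2
    · exact hph p hp (hp.dvd_of_dvd_pow h2)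
  have h2q : 2 ∣ q ^ 2 := by
    rw [hq]; exact Dvd.dvd.pow (dvd_mul_right 2 _) (by norm_num)
  have hn₁d : n₁ ∣ q ^ 2 + 1 := ⟨n₂, hnn.symm⟩
  have hn₂d : n₂ ∣ q ^ 2 + 1 := ⟨n₁, by rw [← hnn, mul_comm]⟩
  -- a prime dividing (q-1)(q^2+1) divides one of the three pairwise coprime factors
  have hsplit : ∀ p : ℕ, p.Prime → p ∣ (q - 1) * (q ^ 2 + 1) → p ∣ q - 1 ∨ p ∣ n₁ ∨ p ∣ n₂ := by
    intro p hp hd
    rcases (Nat.Prime.dvd_mul hp).mp hd with h1 | h1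
    · exact Or.inl h1
    · rw [← hnn] at h1
      rcases (Nat.Prime.dvd_mul hp).mp h1 with h2 | h2
      · exact Or.inr (Or.inl h2)
      · exact Or.inr (Or.inr h2)
  have hjoin : ∀ p : ℕ, (p ∣ q - 1 ∨ p ∣ n₁ ∨ p ∣ n₂) → p ∣ (q - 1) * (q ^ 2 + 1) := by
    intro p hp
    rcases hp with h1 | h1 | h1
    · exact dvd_mul_of_dvd_left h1 _
    · exact dvd_mul_of_dvd_right (h1.trans hn₁d) _
    · exact dvd_mul_of_dvd_right (h1.trans hn₂d) _
  constructor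
  · intro p
    constructor
    · rintro ⟨hp, d, hd, hpd⟩
      refine ⟨hp, ?_⟩
      rcases (hP d).mp hd with rfl | rfl | rfl | rfl | rfl | rfl
      · exact absurd (Nat.dvd_one.mp hpd) hp.ne_one
      · exact Or.inl (hpq p hp hpd)
      · exact Or.inr (dvd_mul_of_dvd_right hpd _)
      · rcases (Nat.Prime.dvd_mul hp).mp hpd with h1 | h1
        · exact Or.inl (hph p hp h1)
        · exact Or.inr (dvd_mul_of_dvd_left h1 _)
      · rcases (Nat.Prime.dvd_mul hp).mp hpd with h1 | h1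
        · exact Or.inr (hjoin p (Or.inl h1))
        · exact Or.inr (hjoin p (Or.inr (Or.inr h1)))
      · rcases (Nat.Prime.dvd_mul hp).mp hpd with h1 | h1
        · exact Or.inr (hjoin p (Or.inl h1))
        · exact Or.inr (hjoin p (Or.inr (Or.inl h1)))
    · rintro ⟨hp, h1 | h1⟩
      · refine ⟨hp, q ^ 2, (hP _).mpr (Or.inr (Or.inl rfl)), ?_⟩
        rw [h1]; exact h2q
      · rcases (Nat.Prime.dvd_mul hp).mp h1 with h2 | h2
        · exact ⟨hp, h * (q - 1), (hP _).mpr (Or.inr (Or.inr (Or.inr (Or.inl rfl)))),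
            dvd_mul_of_dvd_right h2 _⟩
        · exact ⟨hp, q ^ 2 + 1, (hP _).mpr (Or.inr (Or.inr (Or.inl rfl))), h2⟩
  · intro r s
    constructor
    · rintro ⟨hne, hr, hs, d, hd, hrs⟩
      refine ⟨hne, hr, hs, ?_⟩
      have hrd : r ∣ d := (dvd_mul_right r s).trans hrs
      have hsd : s ∣ d := (dvd_mul_left s r).trans hrs
      rcases (hP d).mp hd with rfl | rfl | rfl | rfl | rfl | rfl
      · exact absurd (Nat.dvd_one.mp hrd) hr.ne_one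
      · exact absurd ((hpq r hr hrd).trans (hpq s hs hsd).symm) hne
      · exact Or.inl ⟨dvd_mul_of_dvd_right hrd _, dvd_mul_of_dvd_right hsd _⟩
      · rcases (Nat.Prime.dvd_mul hr).mp hrd with h1 | h1 <;>
          rcases (Nat.Prime.dvd_mul hs).mp hsd with h2 | h2
        · exact absurd ((hph r hr h1).trans (hph s hs h2).symm) hne
        · exact Or.inr (Or.inl ⟨hph r hr h1, h2⟩)
        · exact Or.inr (Or.inr ⟨hph s hs h2, h1⟩)
        · exact Or.inl ⟨dvd_mul_of_dvd_left h1 _, dvd_mul_of_dvd_left h2 _⟩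
      · refine Or.inl ⟨hrd.trans ?_, hsd.trans ?_⟩ <;>
          exact mul_dvd_mul_left _ hn₂d
      · refine Or.inl ⟨hrd.trans ?_, hsd.trans ?_⟩ <;>
          exact mul_dvd_mul_left _ hn₁d
    · rintro ⟨hne, hr, hs, hcase⟩
      refine ⟨hne, hr, hs, ?_⟩
      have hcop : Nat.Coprime r s := (Nat.coprime_primes hr hs).mpr hne
      rcases hcase with ⟨h1, h2⟩ | ⟨h1, h2⟩ | ⟨h1, h2⟩
      · have dh : P (h * (q - 1)) := (hP _).mpr (Or.inr (Or.inr (Or.inr (Or.inl rfl))))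
        have d1 : P ((q - 1) * n₁) := (hP _).mpr (Or.inr (Or.inr (Or.inr (Or.inr (Or.inr rfl)))))
        have d2 : P ((q - 1) * n₂) := (hP _).mpr (Or.inr (Or.inr (Or.inr (Or.inr (Or.inl rfl)))))
        have d12 : P (q ^ 2 + 1) := (hP _).mpr (Or.inr (Or.inr (Or.inl rfl)))
        rcases hsplit r hr h1 with a | a | a <;> rcases hsplit s hs h2 with b | b | b
        · exact ⟨_, dh, dvd_mul_of_dvd_right (hcop.mul_dvd_of_dvd_of_dvd a b) _⟩
        · exact ⟨_, d1, mul_dvd_mul a b⟩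
        · exact ⟨_, d2, mul_dvd_mul a b⟩
        · exact ⟨_, d1, by rw [mul_comm r s]; exact mul_dvd_mul b a⟩
        · exact ⟨_, d1, dvd_mul_of_dvd_right (hcop.mul_dvd_of_dvd_of_dvd a b) _⟩
        · exact ⟨_, d12, by rw [← hnn]; exact mul_dvd_mul a b⟩
        · exact ⟨_, d2, by rw [mul_comm r s]; exact mul_dvd_mul b a⟩
        · exact ⟨_, d12, by rw [← hnn, mul_comm r s]; exact mul_dvd_mul b a⟩
        · exact ⟨_, d2, dvd_mul_of_dvd_right (hcop.mul_dvd_of_dvd_of_dvd a b) _⟩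
      · refine ⟨h * (q - 1), (hP _).mpr (Or.inr (Or.inr (Or.inr (Or.inl rfl)))), ?_⟩
        rw [h1]; exact mul_dvd_mul h2h h2
      · refine ⟨h * (q - 1), (hP _).mpr (Or.inr (Or.inr (Or.inr (Or.inl rfl)))), ?_⟩
        rw [h1, mul_comm r 2]; exact mul_dvd_mul h2h h2

theorem graph_of_degrees {S : Type*} [Group S] (m : ℕ) (hm : 1 ≤ m) (q : ℕ) (hqm : q = 2 ^ (2 * m + 1))
    (hdeg : Cfsg.charDegrees S = szDegrees m) :
    Cfsg.degreePrimes S = {r : ℕ | r.Prime ∧ (r = 2 ∨ r ∣ (q - 1) * (q ^ 2 + 1))} ∧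
    ∀ r s : ℕ, (Cfsg.degreeGraph S).Adj r s ↔ (r ≠ s ∧ r.Prime ∧ s.Prime ∧
      ((r ∣ (q - 1) * (q ^ 2 + 1) ∧ s ∣ (q - 1) * (q ^ 2 + 1)) ∨ (r = 2 ∧ s ∣ q - 1) ∨ (s = 2 ∧ r ∣ q - 1))) := by
  have hq : q = 2 * (2 ^ m) ^ 2 := by rw [hqm]; ring
  have hqO : qOf m = q := by rw [hqm]; rfl
  have hrO : rOf m = 2 * 2 ^ m := by unfold rOf; ring
  have hle : 2 * 2 ^ m ≤ q + 1 := by
    rw [hq]
    have : 1 ≤ 2 ^ m := Nat.one_le_two_pow
    nlinarith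
  obtain ⟨h1, h2⟩ := graph_arith m hm q (2 ^ m) (q + 2 * 2 ^ m + 1) (q + 1 - 2 * 2 ^ m) rfl hq rfl
    (by omega) (fun d => d ∈ Cfsg.charDegrees S) (by
      intro d
      rw [hdeg]
      simp only [szDegrees, hqO, hrO, hOf, Set.mem_insert_iff, Set.mem_singleton_iff])
  constructor
  · ext p
    exact h1 p
  · intro r s
    exact h2 r s

end Cfsg.Agent.Lib.Helper51.SzCh
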