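/-
helper51: project SZCH (helper6, S4775), module SZCH-[ISO]:
the set of irreducible character degrees is an isomorphism invariant (two universes).
-/
import Mathlib
import Cfsg.Prelude.Def_Characters
import Cfsg.Prelude.Def_DegreeGraph
import Cfsg.Agent.Lib.Helper81.IrrTwist

set_option autoImplicit false

namespace Cfsg.Agent.Lib.Helper51.SzCh

open Cfsg

theorem charDegrees_subset_of_mulEquiv {S : Type*} {H : Type*} [Group S] [Group H] (e : S ≃* H) :
    Cfsg.charDegrees S ⊆ Cfsg.charDegrees H := by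
  rintro d ⟨χ, rfl⟩
  refine ⟨⟨(χ : S → ℂ) ∘ e.symm,
    Cfsg.Agent.Lib.Helper81.isIrrCharacter_comp_mulEquiv χ.2 e.symm⟩, ?_⟩
  simp [charDegree]

theorem charDegrees_congr {S : Type*} {H : Type*} [Group S] [Group H] (e : S ≃* H) :
    Cfsg.charDegrees S = Cfsg.charDegrees H :=
  Set.Subset.antisymm (charDegrees_subset_of_mulEquiv e) (charDegrees_subset_of_mulEquiv e.symm)

end Cfsg.Agent.Lib.Helper51.SzCh
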