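import Mathlib
import Cfsg.Prelude.Def_PLocal
import Cfsg.Agent.Lib.Helper51.ThompsonReplacement

/-!
# Thompson's replacement theorem, general form

The replacement step for an arbitrary element `x` with `A^x ≤ N_S(A)`, `x ∉ N_S(A)` and
`A^x ≤ A ⊔ B` (`B` an abelian normal subgroup).  In a metabelian group (`B = S'`) every `x`
satisfies the last condition; this gives Gillam's theorem.  By helper51.
-/

set_option autoImplicit false

namespace Cfsg.Agent.Lib.Helper51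

open Subgroup
open scoped Pointwise

variable {S : Type*} [Group S]

/-- Replacement step: `A` abelian of maximal order, `B` abelian normal, `x ∉ N(A)` with
`A^x ≤ N(A)` and `A^x ≤ A ⊔ B`. -/
theorem thompson_replacement_step [Finite S] (A B : Subgroup S)
    (hA : A ∈ Cfsg.maxAbelianSubgroups S) [hBn : B.Normal] (hB : IsMulCommutative B) (x : S)
    (hxN : x ∉ normalizer (A : Set S))
    (hx1 : A.map (MulAut.conj x).toMonoidHom ≤ normalizer (A : Set S))
    (hx2 : A.map (MulAut.conj x).toMonoidHom ≤ A ⊔ B) :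
    ∃ A' ∈ Cfsg.maxAbelianSubgroups S, A ⊓ B < A' ⊓ B ∧ A' ≤ normalizer (A : Set S) ∧
      A' ≤ A ⊔ A.map (MulAut.conj x).toMonoidHom := by
  -- Step 2: the construction
  obtain ⟨A₁, hA₁⟩ : ∃ A₁ : Subgroup S, A₁ = A.map (MulAut.conj x).toMonoidHom := ⟨_, rfl⟩
  have hA₁N : A₁ ≤ normalizer (A : Set S) := hA₁ ▸ hx1
  have hA₁c : IsMulCommutative A₁ := by
    have := hA.1
    rw [hA₁]; infer_instance
  have hcardA₁ : Nat.card A₁ = Nat.card A := by rw [hA₁]; exact card_map_conj A x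
  obtain ⟨H, hH⟩ : ∃ H : Subgroup S, H = A ⊔ A₁ := ⟨_, rfl⟩
  have hAH : A ≤ H := hH ▸ le_sup_left
  have hA₁H : A₁ ≤ H := hH ▸ le_sup_right
  have hHN : H ≤ normalizer (A : Set S) := hH ▸ sup_le le_normalizer hA₁N
  obtain ⟨K, hK⟩ : ∃ K : Subgroup S, K = H ⊓ B := ⟨_, rfl⟩
  obtain ⟨Z₀, hZ₀⟩ : ∃ Z₀ : Subgroup S, Z₀ = A ⊓ A₁ := ⟨_, rfl⟩
  have hKH : K ≤ H := hK ▸ inf_le_left
  have hKB : K ≤ B := hK ▸ inf_le_right
  have hZA : Z₀ ≤ A := hZ₀ ▸ inf_le_left
  have hZA₁ : Z₀ ≤ A₁ := hZ₀ ▸ inf_le_right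
  have hAc : A ≤ centralizer (A : Set S) := le_centralizer_iff_isMulCommutative.mpr hA.1
  have hA₁c' : A₁ ≤ centralizer (A₁ : Set S) := le_centralizer_iff_isMulCommutative.mpr hA₁c
  have hBc : B ≤ centralizer (B : Set S) := le_centralizer_iff_isMulCommutative.mpr hB
  -- `Z₀` is central in `H`
  have hZH : Z₀ ≤ centralizer (H : Set S) := by
    rw [hH]
    refine le_trans ?_ (centralizer_inf_le_centralizer_sup A A₁)
    exact le_inf (hZA.trans hAc) (hZA₁.trans hA₁c')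
  -- `A' = K ⊔ Z₀` is abelian
  have hA'c : IsMulCommutative ↥(K ⊔ Z₀) := by
    rw [← le_centralizer_iff_isMulCommutative]
    have hKK : K ≤ centralizer (K : Set S) :=
      (hKB.trans hBc).trans (centralizer_le (by exact_mod_cast hKB))
    have hZK : Z₀ ≤ centralizer (K : Set S) :=
      hZH.trans (centralizer_le (by exact_mod_cast hKH))
    have hKZ : K ≤ centralizer (Z₀ : Set S) := le_centralizer_iff.mp hZK
    have hZZ : Z₀ ≤ centralizer (Z₀ : Set S) :=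
      (hZA.trans hAc).trans (centralizer_le (by exact_mod_cast hZA))
    refine le_trans ?_ (centralizer_inf_le_centralizer_sup K Z₀)
    exact sup_le (le_inf hKK hKZ) (le_inf hZK hZZ)
  -- `H ⊔ B = A ⊔ B`
  have hsup : H ⊔ B = A ⊔ B := by
    apply le_antisymm
    · apply sup_le _ le_sup_right
      rw [hH]
      exact sup_le le_sup_left (hA₁ ▸ hx2)
    · exact sup_le_sup_right hAH B
  -- the counting
  have c1 : Nat.card H * Nat.card ↥(A ⊓ B) = Nat.card A * Nat.card ↥(H ⊓ B) :=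
    card_mul_card_inf_of_sup_eq H A B hsup
  have c2 : Nat.card A * Nat.card A₁ ≤ Nat.card ↥(A ⊓ A₁) * Nat.card H :=
    card_mul_card_le_inf_mul A A₁ H hAH hA₁H
  have c3 : Nat.card K * Nat.card Z₀ ≤ Nat.card ↥(K ⊓ Z₀) * Nat.card ↥(K ⊔ Z₀) :=
    card_mul_card_le_inf_mul K Z₀ (K ⊔ Z₀) le_sup_left le_sup_right
  have c4 : Nat.card ↥(K ⊓ Z₀) ≤ Nat.card ↥(A ⊓ B) :=
    card_le_of_le (le_inf (inf_le_right.trans hZA) (inf_le_left.trans hKB))
  rw [← hK] at c1
  rw [← hZ₀, hcardA₁] at c2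
  have hpos : 0 < Nat.card A * Nat.card ↥(A ⊓ B) := Nat.mul_pos Nat.card_pos Nat.card_pos
  have hge : Nat.card A ≤ Nat.card ↥(K ⊔ Z₀) := by
    have : (Nat.card A * Nat.card ↥(A ⊓ B)) * Nat.card A ≤
        (Nat.card A * Nat.card ↥(A ⊓ B)) * Nat.card ↥(K ⊔ Z₀) := by
      calc (Nat.card A * Nat.card ↥(A ⊓ B)) * Nat.card A
          = (Nat.card A * Nat.card A) * Nat.card ↥(A ⊓ B) := by ring
        _ ≤ (Nat.card Z₀ * Nat.card H) * Nat.card ↥(A ⊓ B) := by gcongr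
        _ = Nat.card Z₀ * (Nat.card H * Nat.card ↥(A ⊓ B)) := by ring
        _ = Nat.card Z₀ * (Nat.card A * Nat.card K) := by rw [c1]
        _ = Nat.card A * (Nat.card K * Nat.card Z₀) := by ring
        _ ≤ Nat.card A * (Nat.card ↥(K ⊓ Z₀) * Nat.card ↥(K ⊔ Z₀)) := by gcongr
        _ ≤ Nat.card A * (Nat.card ↥(A ⊓ B) * Nat.card ↥(K ⊔ Z₀)) := by gcongr
        _ = (Nat.card A * Nat.card ↥(A ⊓ B)) * Nat.card ↥(K ⊔ Z₀) := by ring
    exact Nat.le_of_mul_le_mul_left this hpos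
  have hA'H : K ⊔ Z₀ ≤ H := sup_le hKH (hZA.trans hAH)
  refine ⟨K ⊔ Z₀, ⟨hA'c, fun C hC => (hA.2 C hC).trans hge⟩, ?_, hA'H.trans hHN,
    by rw [← hA₁, ← hH]; exact hA'H⟩
  -- strict increase of the intersection with `B`
  have hABK : A ⊓ B ≤ K := by rw [hK]; exact inf_le_inf_right B hAH
  refine lt_of_le_of_ne (le_inf (hABK.trans le_sup_left) inf_le_right) ?_
  intro heq
  apply hxN
  have hKAB : K ≤ A ⊓ B := by
    rw [heq]
    exact le_inf le_sup_left hKB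
  have hKeq : K = A ⊓ B := le_antisymm hKAB hABK
  rw [hKeq] at c1
  have hcard : Nat.card H = Nat.card A := by
    have := Nat.eq_of_mul_eq_mul_right (Nat.card_pos (α := ↥(A ⊓ B))) c1
    exact this
  have hHA : A = H := eq_of_le_of_card_ge hAH hcard.le
  have hA₁A : A₁ ≤ A := hHA ▸ hA₁H
  have hA₁eq : A₁ = A := eq_of_le_of_card_ge hA₁A hcardA₁.ge
  rw [mem_normalizer_iff_map_conj_eq]
  rw [hA₁] at hA₁eq
  exact hA₁eq


end Cfsg.Agent.Lib.Helper51
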