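import Mathlib
import Cfsg.Agent.Lib.Helper34.ThompsonMain
import Cfsg.Agent.Lib.Helper11.ZJLocal
import Cfsg.Agent.Lib.Helper51.StrongFusionGlobal

/-!
# Auxiliary lemmas for the Glauberman–Thompson normal `p`-complement theorem for strongly closed subgroups
-/

set_option autoImplicit false
open Cfsg

namespace Cfsg.Agent.Lib.Helper51

open Cfsg.Agent.Lib.Helper33 Cfsg.Agent.Lib.Helper11 Cfsg.Agent.Lib.Helper34

section aux

variable {Γ : Type*} [Group Γ]

theorem isStronglyClosed_cj {E S : Subgroup Γ} (h : IsStronglyClosed E S) (g : Γ) :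
    IsStronglyClosed (cj g E) (cj g S) := by
  refine ⟨cj_mono h.1, ?_⟩
  intro x hx y hy
  rw [mem_cj] at hx hy ⊢
  have h1 := h.2 _ hx (g⁻¹ * y * g) (by
    have : g⁻¹ * y * g * (g⁻¹ * x * g) * (g⁻¹ * y * g)⁻¹ = g⁻¹ * (y * x * y⁻¹) * g := by group
    rw [this]; exact hy)
  have : g⁻¹ * y * g * (g⁻¹ * x * g) * (g⁻¹ * y * g)⁻¹ = g⁻¹ * (y * x * y⁻¹) * g := by group
  rwa [this] at h1

/-- Strong closure passes to the quotient by a normal subgroup contained in `S`. -/
theorem isStronglyClosed_map_mk_of_le (U : Subgroup Γ) [U.Normal] {E S : Subgroup Γ}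
    (hUS : U ≤ S) (h : IsStronglyClosed E S) :
    IsStronglyClosed (E.map (QuotientGroup.mk' U)) (S.map (QuotientGroup.mk' U)) := by
  refine ⟨Subgroup.map_mono h.1, ?_⟩
  rintro _ ⟨x, hx, rfl⟩ gb hgb
  obtain ⟨g, rfl⟩ := QuotientGroup.mk'_surjective U gb
  have h1 : g * x * g⁻¹ ∈ (S.map (QuotientGroup.mk' U)).comap (QuotientGroup.mk' U) := by
    rw [Subgroup.mem_comap]
    simpa using hgb
  rw [Subgroup.comap_map_eq, QuotientGroup.ker_mk', sup_eq_left.mpr hUS] at h1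
  exact ⟨g * x * g⁻¹, h.2 x hx g h1, by simp⟩

theorem isStronglyClosed_subgroupOf {N E T : Subgroup Γ} (hET : E ≤ T)
    (h : ∀ x ∈ E, ∀ g ∈ N, g * x * g⁻¹ ∈ T → g * x * g⁻¹ ∈ E) :
    IsStronglyClosed (E.subgroupOf N) (T.subgroupOf N) := by
  refine ⟨?_, ?_⟩
  · intro x hx
    rw [Subgroup.mem_subgroupOf] at hx ⊢
    exact hET hx
  · intro x hx g hg
    rw [Subgroup.mem_subgroupOf] at hx hg ⊢
    exact h _ hx _ g.2 hg

variable [Finite Γ] {p : ℕ} [Fact p.Prime]

theorem hasNPC_normalizer_cj (g : Γ) (X : Subgroup Γ)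
    (h : HasNormalPComplement p ↥(Subgroup.normalizer (X : Set Γ))) :
    HasNormalPComplement p ↥(Subgroup.normalizer ((cj g X : Subgroup Γ) : Set Γ)) := by
  rw [← cj_normalizer]
  exact hasNPC_of_mulEquiv (cjEquiv g _) h

/-- Restriction to a subgroup `N ⊇ E₁`. -/
theorem hasNPC_normalizer_famInf_subgroupOf (b : Bool) (N E₁ : Subgroup Γ) (hE₁ : E₁ ≤ N)
    (h : HasNormalPComplement p
      ↥(Subgroup.normalizer ((famInf (gd p b) E₁ : Subgroup Γ) : Set Γ))) :
    HasNormalPComplement p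
      ↥(Subgroup.normalizer ((famInf (gd p b) (E₁.subgroupOf N) : Subgroup ↥N) : Set ↥N)) := by
  have hmapE : (E₁.subgroupOf N).map N.subtype = E₁ := Subgroup.map_subgroupOf_eq_of_le hE₁
  have hZmap : (famInf (gd p b) (E₁.subgroupOf N)).map N.subtype = famInf (gd p b) E₁ := by
    rw [← famInf_gd_map_injOn p b N.subtype (E₁.subgroupOf N) (N.subtype_injective.injOn), hmapE]
  set Z₀ := famInf (gd p b) (E₁.subgroupOf N) with hZ₀
  let f : ↥(Subgroup.normalizer (Z₀ : Set ↥N)) →*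
      ↥(Subgroup.normalizer ((famInf (gd p b) E₁ : Subgroup Γ) : Set Γ)) :=
    (N.subtype.comp (Subgroup.normalizer (Z₀ : Set ↥N)).subtype).codRestrict _ (by
      intro x
      rw [← hZmap]
      exact Subgroup.le_normalizer_map N.subtype ⟨x.1, x.2, rfl⟩)
  have hf : Function.Injective f := by
    intro x y hxy
    have h0 : ((f x : ↥(Subgroup.normalizer ((famInf (gd p b) E₁ : Subgroup Γ) : Set Γ))) : Γ) =
        ((f y : ↥(Subgroup.normalizer ((famInf (gd p b) E₁ : Subgroup Γ) : Set Γ))) : Γ) := by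
      rw [hxy]
    have h1 : ((x : ↥N) : Γ) = ((y : ↥N) : Γ) := h0
    exact Subtype.ext (Subtype.ext h1)
  exact hasNPC_of_injective f hf h

end aux

end Cfsg.Agent.Lib.Helper51
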