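import Mathlib
import Cfsg.Agent.Lib.Helper51.ThompsonStrongAux

/-!
# Glauberman–Thompson normal `p`-complement theorem for strongly closed subgroups (the induction)

`GT p b Γ`: for every Sylow `p`-subgroup `S` of `Γ` and every nontrivial `E` strongly closed in `S`, if
`N_Γ(W(E))` has a normal `p`-complement (`W = famInf (gd p b)`), then so does `Γ`.
The proof follows helper34's `thompson_main`.
-/

set_option autoImplicit false
open Cfsg

namespace Cfsg.Agent.Lib.Helper51

open Cfsg.Agent.Lib.Helper33 Cfsg.Agent.Lib.Helper11 Cfsg.Agent.Lib.Helper34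

universe u

/-- The statement for one group. -/
def GT (p : ℕ) (b : Bool) (Γ : Type u) [Group Γ] : Prop :=
  ∀ (S : Sylow p Γ) (E : Subgroup Γ), IsStronglyClosed E (S : Subgroup Γ) → E ≠ ⊥ →
    HasNormalPComplement p ↥(Subgroup.normalizer ((famInf (gd p b) E : Subgroup Γ) : Set Γ)) →
    HasNormalPComplement p Γ

/-- Induction hypothesis. -/
def IHypS (p : ℕ) (b : Bool) (n : ℕ) : Prop :=
  ∀ (Y : Type u) [Group Y] [Finite Y], Nat.card Y < n → GT p b Y

section claims

variable {p : ℕ} [Fact p.Prime] {b : Bool} {Γ : Type u} [Group Γ] [Finite Γ]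

omit [Fact p.Prime] in
theorem famInf_gd_isPGroup {X : Subgroup Γ} (hX : IsPGroup p X) : IsPGroup p (famInf (gd p b) X) :=
  hX.to_le (famInf_gd_le p b X)

omit [Fact p.Prime] in
theorem normalizer_le_normalizer_famInf_gd (X : Subgroup Γ) :
    Subgroup.normalizer (X : Set Γ) ≤
      Subgroup.normalizer ((famInf (gd p b) X : Subgroup Γ) : Set Γ) :=
  normalizer_le_normalizer_famInf (good := gd p b) (fun _ _ hA => gd_map p b _ hA) X

/-- Claim 1: a maximal bad subgroup is normal. -/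
theorem normalizer_eq_top_of_maximal' (ih : IHypS.{u} p b (Nat.card Γ)) (S : Sylow p Γ)
    (E : Subgroup Γ) (hE : IsStronglyClosed E (S : Subgroup Γ)) (hEne : E ≠ ⊥)
    (hN : HasNormalPComplement p
      ↥(Subgroup.normalizer ((famInf (gd p b) E : Subgroup Γ) : Set Γ)))
    (H : Subgroup Γ) (hH : Bad p H) (hmax : ∀ Q : Subgroup Γ, Bad p Q → mN p Q ≤ mN p H) :
    Subgroup.normalizer (H : Set Γ) = ⊤ := by
  classical
  by_contra hne
  set N := Subgroup.normalizer (H : Set Γ) with hNdef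
  have hlt : Nat.card ↥N < Nat.card Γ := card_subgroup_lt_of_ne_top N hne
  apply hH.2.2
  obtain ⟨T⟩ : Nonempty (Sylow p ↥N) := inferInstance
  set T' := (T : Subgroup ↥N).map N.subtype with hT'
  have hT'N : T' ≤ N := Subgroup.map_subtype_le _
  have hT'p : IsPGroup p T' := T.isPGroup'.map _
  have hTsub : T'.subgroupOf N = (T : Subgroup ↥N) :=
    Subgroup.comap_map_eq_self_of_injective N.subtype_injective _
  have hcardT' : Nat.card T' = p ^ eN p H := by
    rw [hT', Subgroup.card_map_of_injective N.subtype_injective]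
    exact T.card_eq_multiplicity
  have hHT : H ≤ T' := by
    intro h hh
    have hhN : h ∈ N := Subgroup.le_normalizer hh
    have : (H.subgroupOf N).Normal := Subgroup.normal_in_normalizer
    have h1 : H.subgroupOf N ≤ T :=
      IsPGroup.le_sylow_of_normal (N := H.subgroupOf N) (hH.1.comap_subtype) T
    exact ⟨⟨h, hhN⟩, h1 (Subgroup.mem_subgroupOf.mpr hh), rfl⟩
  have hT'ne : T' ≠ ⊥ := ne_bot_of_le_ne_bot hH.2.1 hHT
  obtain ⟨P', hP'⟩ := hT'p.exists_le_sylow
  obtain ⟨g, hg⟩ := MulAction.exists_smul_eq Γ S P'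
  have hP'cj : (P' : Subgroup Γ) = cj g (S : Subgroup Γ) := by
    rw [← hg, sylow_smul_eq_map_conj]; rfl
  set E' := cj g E with hE'
  have hE'sc : IsStronglyClosed E' (P' : Subgroup Γ) := by
    rw [hP'cj]; exact isStronglyClosed_cj hE g
  have hE'ne : E' ≠ ⊥ := by
    rw [hE', Ne, cj_eq_bot_iff]; exact hEne
  obtain ⟨E₁, hE₁T, hE₁ne, hE₁sc, hE₁norm, hE₁full⟩ : ∃ E₁ : Subgroup Γ, E₁ ≤ T' ∧ E₁ ≠ ⊥ ∧
      (∀ x ∈ E₁, ∀ y : Γ, y * x * y⁻¹ ∈ T' → y * x * y⁻¹ ∈ E₁) ∧
      ((P' : Subgroup Γ) ⊓ Subgroup.normalizer (T' : Set Γ) ≤ Subgroup.normalizer (E₁ : Set Γ)) ∧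
      (T' = (P' : Subgroup Γ) → E₁ = E') := by
    by_cases hbot : E' ⊓ T' = ⊥
    · refine ⟨T', le_rfl, hT'ne, fun x _ y hy => hy, inf_le_right, ?_⟩
      intro hTP
      exfalso
      apply hE'ne
      rw [← hbot, hTP]; exact (inf_eq_left.mpr hE'sc.1).symm
    · refine ⟨E' ⊓ T', inf_le_right, hbot, ?_, ?_, ?_⟩
      · intro x hx y hy
        exact ⟨hE'sc.2 x hx.1 y (hP' hy), hy⟩
      · intro y hy
        have h1 : y ∈ Subgroup.normalizer (E' : Set Γ) :=
          le_normalizer_of_isStronglyClosed hE'sc hy.1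
        rw [Subgroup.mem_normalizer_iff] at h1 ⊢
        have h2 := Subgroup.mem_normalizer_iff.mp hy.2
        intro x
        exact ⟨fun hx => ⟨(h1 x).mp hx.1, (h2 x).mp hx.2⟩,
          fun hx => ⟨(h1 x).mpr hx.1, (h2 x).mpr hx.2⟩⟩
      · intro hTP
        rw [hTP]; exact inf_eq_left.mpr hE'sc.1
  have hE₁N : E₁ ≤ N := hE₁T.trans hT'N
  set V := famInf (gd p b) E₁ with hV
  have hVp : IsPGroup p V := famInf_gd_isPGroup (hT'p.to_le hE₁T)
  have hVne : V ≠ ⊥ := famInf_gd_ne_bot b (hT'p.to_le hE₁T) hE₁ne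
  have hgoodV : HasNormalPComplement p ↥(Subgroup.normalizer (V : Set Γ)) := by
    by_cases hS : T' = (P' : Subgroup Γ)
    · rw [hV, hE₁full hS, hE', famInf_gd_cj]
      exact hasNPC_normalizer_cj g _ hN
    · by_contra hbad
      have hVbad : Bad p V := ⟨hVp, hVne, hbad⟩
      have h1 := hmax V hVbad
      have h2 : eN p H < eN p V := by
        have hltP : T' < (P' : Subgroup Γ) := lt_of_le_of_ne hP' hS
        have hR := lt_inf_normalizer_of_lt P'.isPGroup' hltP
        set R := (P' : Subgroup Γ) ⊓ Subgroup.normalizer (T' : Set Γ) with hRdef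
        have hRp : IsPGroup p R := P'.isPGroup'.to_le inf_le_left
        obtain ⟨k, hk⟩ := hRp.exists_card_eq
        have hRle : R ≤ Subgroup.normalizer (V : Set Γ) :=
          hE₁norm.trans (normalizer_le_normalizer_famInf_gd E₁)
        have h3 : p ^ k ∣ Nat.card ↥(Subgroup.normalizer (V : Set Γ)) := by
          rw [← hk]; exact Subgroup.card_dvd_of_le hRle
        have h4 : k ≤ eN p V :=
          (Nat.Prime.pow_dvd_iff_le_factorization Fact.out Nat.card_pos.ne').mp h3
        have h5 : p ^ eN p H < p ^ k := by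
          rw [← hk, ← hcardT']; exact Helper34.card_lt_card_of_lt hR
        have h6 : eN p H < k := (Nat.pow_lt_pow_iff_right (Fact.out : p.Prime).one_lt).mp h5
        omega
      exact absurd h1 (not_le.mpr (mN_lt_of_eN_lt h2))
  have hsc₀ : IsStronglyClosed (E₁.subgroupOf N) (T : Subgroup ↥N) := by
    rw [← hTsub]
    exact isStronglyClosed_subgroupOf hE₁T (fun x hx y _ hy => hE₁sc x hx y hy)
  have hne₀ : E₁.subgroupOf N ≠ ⊥ := by
    intro h
    apply hE₁ne
    rw [← Subgroup.map_subgroupOf_eq_of_le hE₁N, h, Subgroup.map_bot]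
  exact ih ↥N hlt T (E₁.subgroupOf N) hsc₀ hne₀
    (hasNPC_normalizer_famInf_subgroupOf b N E₁ hE₁N hgoodV)

/-- Claim 3: `Γ / O_p(Γ)` has a normal `p`-complement. -/
theorem hasNPC_quotient_pCore' (ih : IHypS.{u} p b (Nat.card Γ)) (S : Sylow p Γ)
    (E : Subgroup Γ) (hE : IsStronglyClosed E (S : Subgroup Γ))
    (H : Subgroup Γ) (hH : Bad p H) (hmax : ∀ Q : Subgroup Γ, Bad p Q → mN p Q ≤ mN p H)
    (hnorm : Subgroup.normalizer (H : Set Γ) = ⊤) :
    HasNormalPComplement p (Γ ⧸ pCore p Γ) := by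
  classical
  set U := pCore p Γ with hUdef
  have hHn : H.Normal := Subgroup.normalizer_eq_top_iff.mp hnorm
  have hHU : H ≤ U := Cfsg.Agent.Lib.Helper76.le_pCore p H hHn hH.1
  have hUne : U ≠ ⊥ := ne_bot_of_le_ne_bot hH.2.1 hHU
  have hUp : IsPGroup p U := Cfsg.Agent.Lib.Helper76.pCore_isPGroup p
  have hUS : U ≤ (S : Subgroup Γ) := Cfsg.Agent.Lib.Helper76.pCore_le_sylow p S
  have hlt : Nat.card (Γ ⧸ U) < Nat.card Γ := card_quotient_lt_of_ne_bot U hUne
  have heH : eN p H = (Nat.card Γ).factorization p := by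
    unfold eN
    rw [hnorm, Subgroup.card_top]
  have hπ : Function.Surjective (QuotientGroup.mk' U) := QuotientGroup.mk'_surjective U
  set Sb : Sylow p (Γ ⧸ U) := S.mapSurjective hπ with hSb
  by_cases hSbb : (Sb : Subgroup (Γ ⧸ U)) = ⊥
  · have hcop : (Nat.card (Γ ⧸ U)).Coprime p := by
      have := Sb.not_dvd_index
      rw [hSbb, Subgroup.index_bot] at this
      exact ((Nat.Prime.coprime_iff_not_dvd Fact.out).mpr this).symm
    exact hasNPC_of_card_coprime hcop
  · have hEb : IsStronglyClosed (E.map (QuotientGroup.mk' U)) (Sb : Subgroup (Γ ⧸ U)) := by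
      rw [hSb, Sylow.coe_mapSurjective]
      exact isStronglyClosed_map_mk_of_le U hUS hE
    obtain ⟨Eb, hEbsc, hEbne⟩ : ∃ Eb : Subgroup (Γ ⧸ U),
        IsStronglyClosed Eb (Sb : Subgroup (Γ ⧸ U)) ∧ Eb ≠ ⊥ := by
      by_cases h : E.map (QuotientGroup.mk' U) = ⊥
      · exact ⟨Sb, ⟨le_rfl, fun x _ g hg => hg⟩, hSbb⟩
      · exact ⟨E.map (QuotientGroup.mk' U), hEb, h⟩
    apply ih (Γ ⧸ U) hlt Sb Eb hEbsc hEbne
    set Vb := famInf (gd p b) Eb with hVb
    have hVbp : IsPGroup p Vb := famInf_gd_isPGroup (Sb.isPGroup'.to_le hEbsc.1)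
    have hVbne : Vb ≠ ⊥ := famInf_gd_ne_bot b (Sb.isPGroup'.to_le hEbsc.1) hEbne
    have hSbN : (Sb : Subgroup (Γ ⧸ U)) ≤ Subgroup.normalizer (Vb : Set (Γ ⧸ U)) :=
      (le_normalizer_of_isStronglyClosed hEbsc).trans (normalizer_le_normalizer_famInf_gd Eb)
    set V' := Vb.comap (QuotientGroup.mk' U) with hV'
    have hV'p : IsPGroup p V' :=
      hVbp.comap_of_ker_isPGroup _ (by rw [QuotientGroup.ker_mk']; exact hUp)
    have hUV' : U ≤ V' := by
      have := Subgroup.ker_le_comap (QuotientGroup.mk' U) Vb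
      rwa [QuotientGroup.ker_mk'] at this
    have hUV'ne : U ≠ V' := by
      intro heq
      apply hVbne
      have h1 : Vb = V'.map (QuotientGroup.mk' U) :=
        (Subgroup.map_comap_eq_self_of_surjective hπ Vb).symm
      rw [h1, ← heq, eq_bot_iff]
      rintro _ ⟨x, hx, rfl⟩
      rw [Subgroup.mem_bot, QuotientGroup.mk'_apply, QuotientGroup.eq_one_iff]
      exact hx
    have hV'ne : V' ≠ ⊥ := ne_bot_of_le_ne_bot hUne hUV'
    have hnormV' : Subgroup.normalizer (V' : Set Γ) =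
        (Subgroup.normalizer (Vb : Set (Γ ⧸ U))).comap (QuotientGroup.mk' U) :=
      (Subgroup.comap_normalizer_eq_of_surjective Vb hπ).symm
    have hgood : HasNormalPComplement p ↥(Subgroup.normalizer (V' : Set Γ)) := by
      by_contra hbad
      have h1 := hmax V' ⟨hV'p, hV'ne, hbad⟩
      have h2 : eN p V' = eN p H := by
        rw [heH]
        unfold eN
        apply factorization_card_eq_of_index_coprime
        rw [hnormV', Subgroup.index_comap_of_surjective _ hπ]
        intro hdvd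
        apply Sb.not_dvd_index
        exact dvd_trans hdvd (Subgroup.index_dvd_of_le hSbN)
      have h3 : Nat.card H < Nat.card V' :=
        lt_of_le_of_lt (Subgroup.card_le_of_le hHU)
          (Helper34.card_lt_card_of_lt (lt_of_le_of_ne hUV' hUV'ne))
      exact absurd h1 (not_le.mpr (mN_lt_of_eN_eq_of_card_lt h2.symm h3))
    rw [hnormV'] at hgood
    exact hasNPC_of_surjective ((QuotientGroup.mk' U).subgroupComap _)
      ((QuotientGroup.mk' U).subgroupComap_surjective_of_surjective _ hπ) hgood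

/-- Claim 4: a counterexample of least order has trivial `p'`-core. -/
theorem pPrimeCore_eq_bot_of_not_hasNPC' (ih : IHypS.{u} p b (Nat.card Γ)) (S : Sylow p Γ)
    (E : Subgroup Γ) (hE : IsStronglyClosed E (S : Subgroup Γ)) (hEne : E ≠ ⊥)
    (hN : HasNormalPComplement p
      ↥(Subgroup.normalizer ((famInf (gd p b) E : Subgroup Γ) : Set Γ)))
    (hnot : ¬ HasNormalPComplement p Γ) : pPrimeCore p Γ = ⊥ := by
  by_contra hne
  set O := pPrimeCore p Γ with hOdef
  have hOcop : (Nat.card O).Coprime p := Helper34.pPrimeCore_card_coprime p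
  have hlt : Nat.card (Γ ⧸ O) < Nat.card Γ := card_quotient_lt_of_ne_bot O hne
  apply hnot
  apply hasNPC_of_quotient_coprime O hOcop
  have hπ : Function.Surjective (QuotientGroup.mk' O) := QuotientGroup.mk'_surjective O
  have hEp : IsPGroup p E := S.isPGroup'.to_le hE.1
  have hinjE := injOn_mk'_of_isPGroup O hOcop hEp
  have hEb : IsStronglyClosed (E.map (QuotientGroup.mk' O))
      ((S.mapSurjective hπ : Sylow p (Γ ⧸ O)) : Subgroup (Γ ⧸ O)) := by
    rw [Sylow.coe_mapSurjective]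
    exact isStronglyClosed_map_mk O hOcop S hE
  have hEbne : E.map (QuotientGroup.mk' O) ≠ ⊥ := by
    intro h
    apply hEne
    rw [eq_bot_iff]
    intro x hx
    have h1 : QuotientGroup.mk' O x ∈ E.map (QuotientGroup.mk' O) := ⟨x, hx, rfl⟩
    rw [h, Subgroup.mem_bot] at h1
    rw [Subgroup.mem_bot]
    exact hinjE hx E.one_mem (by rw [h1, map_one])
  apply ih (Γ ⧸ O) hlt (S.mapSurjective hπ) (E.map (QuotientGroup.mk' O)) hEb hEbne
  rw [famInf_gd_map_injOn p b (QuotientGroup.mk' O) E hinjE,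
    normalizer_map_mk_of_coprime O hOcop _ (famInf_gd_isPGroup hEp)]
  exact hasNPC_of_surjective ((QuotientGroup.mk' O).subgroupMap _)
    ((QuotientGroup.mk' O).subgroupMap_surjective _) hN

/-- Claim 6: in a counterexample of least order with `C(O_p) ≤ O_p`, Sylow `p`-subgroups are maximal. -/
theorem isCoatom_sylow_of_not_hasNPC' (ih : IHypS.{u} p b (Nat.card Γ)) (S : Sylow p Γ)
    (E : Subgroup Γ) (hE : IsStronglyClosed E (S : Subgroup Γ)) (hEne : E ≠ ⊥)
    (hN : HasNormalPComplement p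
      ↥(Subgroup.normalizer ((famInf (gd p b) E : Subgroup Γ) : Set Γ)))
    (hnot : ¬ HasNormalPComplement p Γ)
    (hC : Subgroup.centralizer ((pCore p Γ : Subgroup Γ) : Set Γ) ≤ pCore p Γ) :
    IsCoatom (S : Subgroup Γ) := by
  refine ⟨?_, ?_⟩
  · intro htop
    apply hnot
    apply hasNPC_of_isPGroup
    have h1 := S.isPGroup'
    rw [htop] at h1
    exact h1.of_equiv Subgroup.topEquiv
  · intro L hSL
    by_contra hLtop
    have hlt : Nat.card ↥L < Nat.card Γ := card_subgroup_lt_of_ne_top L hLtop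
    have hEL : E ≤ L := hE.1.trans hSL.le
    have hL : HasNormalPComplement p ↥L := by
      have hsc : IsStronglyClosed (E.subgroupOf L)
          ((S.subtype hSL.le : Sylow p ↥L) : Subgroup ↥L) := by
        rw [Sylow.coe_subtype]
        exact isStronglyClosed_subgroupOf hE.1 (fun x hx y _ hy => hE.2 x hx y hy)
      have hne : E.subgroupOf L ≠ ⊥ := by
        intro h
        apply hEne
        rw [← Subgroup.map_subgroupOf_eq_of_le hEL, h, Subgroup.map_bot]
      exact ih ↥L hlt (S.subtype hSL.le) (E.subgroupOf L) hsc hne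
        (hasNPC_normalizer_famInf_subgroupOf b L E hEL hN)
    rw [hasNPC_iff_exists_normal] at hL
    obtain ⟨Y, hYn, hYcop, k, hk⟩ := hL
    set U := pCore p Γ with hUdef
    have hUn : U.Normal := Cfsg.pCore_normal p Γ
    have hUp : IsPGroup p U := Cfsg.Agent.Lib.Helper76.pCore_isPGroup p
    have hUS : U ≤ S := Cfsg.Agent.Lib.Helper76.pCore_le_sylow p S
    have hUL : U ≤ L := hUS.trans hSL.le
    set Y' := Y.map L.subtype with hY'
    have hY'cop : (Nat.card Y').Coprime p := by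
      rw [hY', Subgroup.card_map_of_injective L.subtype_injective]; exact hYcop
    have hdisj : Y' ⊓ U = ⊥ := by
      apply (Subgroup.disjoint_of_coprime_natCard _).eq_bot
      obtain ⟨a, ha'⟩ := hUp.exists_card_eq
      rw [ha']
      exact Nat.Coprime.pow_right a hY'cop
    have hY'C : Y' ≤ Subgroup.centralizer (U : Set Γ) := by
      rintro _ ⟨y, hy, rfl⟩
      rw [Subgroup.mem_centralizer_iff]
      intro u hu
      have hu' : u ∈ U := hu
      have h1 : (y : Γ) * u * (y : Γ)⁻¹ * u⁻¹ ∈ U :=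
        U.mul_mem (hUn.conj_mem u hu' y) (U.inv_mem hu')
      have h2 : (y : Γ) * u * (y : Γ)⁻¹ * u⁻¹ ∈ Y' := by
        refine ⟨y * (⟨u, hUL hu'⟩ * y⁻¹ * ⟨u, hUL hu'⟩⁻¹),
          Y.mul_mem hy (hYn.conj_mem _ (Y.inv_mem hy) _), ?_⟩
        simp [mul_assoc]
      have h3 : (y : Γ) * u * (y : Γ)⁻¹ * u⁻¹ ∈ Y' ⊓ U := ⟨h2, h1⟩
      rw [hdisj, Subgroup.mem_bot] at h3
      show u * L.subtype y = L.subtype y * u
      calc u * (y : Γ) = ((y : Γ) * u * (y : Γ)⁻¹ * u⁻¹)⁻¹ * ((y : Γ) * u) := by group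
        _ = (y : Γ) * u := by rw [h3]; simp
    have hY'bot : Y' = ⊥ := by
      rw [eq_bot_iff, ← hdisj]
      exact le_inf le_rfl (hY'C.trans hC)
    have hYbot : Y = ⊥ := (Subgroup.map_eq_bot_iff_of_injective _ L.subtype_injective).mp hY'bot
    rw [hYbot, Subgroup.index_bot] at hk
    have hLp : IsPGroup p ↥L := IsPGroup.of_card hk
    exact hSL.ne (S.is_maximal' hLp hSL.le).symm

/-- The Glauberman–Thompson normal `p`-complement theorem for strongly closed subgroups, by induction on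
the order. -/
theorem thompson_strong (hp : p ≠ 2) (b : Bool) :
    ∀ (n : ℕ) (Γ : Type u) [Group Γ] [Finite Γ], Nat.card Γ = n → GT p b Γ := by
  intro n
  induction n using Nat.strong_induction_on with
  | _ n IH =>
    intro Γ _ _ hn S E hE hEne hN
    have ih : IHypS.{u} p b (Nat.card Γ) := by
      intro Y _ _ hlt
      exact IH (Nat.card Y) (hn ▸ hlt) Y rfl
    by_contra hnot
    have hex : ∃ Q : Subgroup Γ, Bad p Q := by
      by_contra hno
      apply hnot
      rw [Cfsg.Agent.S0072.result p]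
      intro Q hQ hne
      by_contra hb
      exact hno ⟨Q, hQ, hne, hb⟩
    obtain ⟨Q₀, hQ₀⟩ := hex
    have hnonempty : Nonempty {Q : Subgroup Γ // Bad p Q} := ⟨⟨Q₀, hQ₀⟩⟩
    obtain ⟨⟨H, hH⟩, hmax'⟩ :=
      Finite.exists_max (fun Q : {Q : Subgroup Γ // Bad p Q} => mN p Q.1)
    have hmax : ∀ Q : Subgroup Γ, Bad p Q → mN p Q ≤ mN p H := fun Q hQ => hmax' ⟨Q, hQ⟩
    have hnorm := normalizer_eq_top_of_maximal' ih S E hE hEne hN H hH hmax
    have hquot := hasNPC_quotient_pCore' ih S E hE H hH hmax hnorm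
    have hO := pPrimeCore_eq_bot_of_not_hasNPC' ih S E hE hEne hN hnot
    have hC := centralizer_pCore_le_of_hasNPC_quotient hquot hO
    have hco := isCoatom_sylow_of_not_hasNPC' ih S E hE hEne hN hnot hC
    have hnormal : (famInf (gd p b) E).Normal :=
      famInf_gd_normal_of_isStronglyClosed hp b S hE hC (hst_of_coatom_sylow hp hquot S hco)
    rw [Subgroup.normalizer_eq_top_iff.mpr hnormal] at hN
    exact hnot (hasNPC_of_mulEquiv Subgroup.topEquiv hN)

end claims

end Cfsg.Agent.Lib.Helper51
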