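/-
Helper51, project UDEC (helper94, S5655 part 2), module [EX56]: a non-isotropic vector orthogonal to a
hyperbolic pair, and an isotropic vector orthogonal to a non-isotropic vector, inside a non-degenerate
subspace of dimension at least three.
-/
import Mathlib
import Cfsg.Agent.Lib.Helper94.UDec.Ex14

set_option autoImplicit false
set_option linter.unusedSectionVars false
set_option linter.unusedVariables false

namespace Cfsg.Agent.Lib.Helper51.UDec

open Cfsg.Agent.Lib.Helper94 Cfsg.Agent.Lib.Helper94.SympData Cfsg.Agent.Lib.Helper94.UDec Module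

variable {K V : Type*} [Field K] [AddCommGroup V] [Module K V] [FiniteDimensional K V]
variable {σ : K →+* K} {h : V → V → K}

section EX
variable (F : FCtx σ h) {W : Submodule K V} (hW : NdOn h W)
include F hW

/-- [EX5] -/
theorem ex_aniso_perp_hyp (hk : 3 ≤ finrank K W) {e f : V} (he : e ∈ W) (hf : f ∈ W)
    (hee : h e e = 0) (hff : h f f = 0) (hef : h e f = 1) :
    ∃ d ∈ W, h d d ≠ 0 ∧ h d e = 0 ∧ h d f = 0 := by
  obtain ⟨W', hW'W, hW'nd, hW'perp, hfr, -⟩ := ex_perp_hyp F hW he hf hee hff hef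
  obtain ⟨d, hd, hdd⟩ := ex_aniso F hW'nd (by omega)
  exact ⟨d, hW'W hd, hdd, (hW'perp d hd).1, (hW'perp d hd).2⟩

/-- [EX6] -/
theorem ex_iso_perp (hk : 3 ≤ finrank K W) {x : V} (hx : x ∈ W) (hxx : h x x ≠ 0) :
    ∃ z ∈ W, z ≠ 0 ∧ h z z = 0 ∧ h x z = 0 := by
  obtain ⟨W', hW'W, hW'nd, hW'x, hfr, -⟩ := ex_perp_aniso F hW hx hxx
  obtain ⟨z, hz, hz0, hzz⟩ := ex_iso F hW'nd (by omega)
  refine ⟨z, hW'W hz, hz0, hzz, ?_⟩
  rw [F.herm.conj z x, hW'x z hz, map_zero]

end EX

end Cfsg.Agent.Lib.Helper51.UDec
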