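/-
Helper51, project UDEC (helper94, S5655 part 2), module [EX7]: in a non-degenerate subspace `W` of
dimension at least two, a vector of prescribed norm with prescribed product with a given non-zero
vector.
-/
import Mathlib
import Cfsg.Agent.Lib.Helper94.UDec.Ex14
import Cfsg.Agent.Lib.Helper51.UDecEx56

set_option autoImplicit false
set_option linter.unusedSectionVars false
set_option linter.unusedVariables false

namespace Cfsg.Agent.Lib.Helper51.UDec

open Cfsg.Agent.Lib.Helper94 Cfsg.Agent.Lib.Helper94.SympData Cfsg.Agent.Lib.Helper94.UDec Module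

variable {K V : Type*} [Field K] [AddCommGroup V] [Module K V] [FiniteDimensional K V]
variable {σ : K →+* K} {h : V → V → K}

section EX
variable (F : FCtx σ h) {W : Submodule K V} (hW : NdOn h W)
include F hW

/-- a vector of a non-zero non-degenerate subspace with prescribed (fixed) norm -/
theorem ex_norm (hk : 1 ≤ finrank K W) (ρ : K) (hρ : σ ρ = ρ) : ∃ u ∈ W, h u u = ρ := by
  obtain ⟨d, hd, hdd⟩ := ex_aniso F hW hk
  have hfix : σ (ρ / h d d) = ρ / h d d := by
    rw [map_div₀, hρ, σ_norm F.herm]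
  obtain ⟨s, hs⟩ := F.nm_surj _ hfix
  refine ⟨s • d, W.smul_mem s hd, ?_⟩
  rw [F.herm.smul_left, F.herm.smul_right]
  have : s * (σ s * h d d) = (s * σ s) * h d d := by ring
  rw [this, hs]
  field_simp

/-- [EX7] a vector of `W` of prescribed norm with prescribed product with `x` -/
theorem ex_norm_prod (hk : 2 ≤ finrank K W) {x : V} (hx : x ∈ W) (hx0 : x ≠ 0) (ρ β : K)
    (hρ : σ ρ = ρ) (hcase : 3 ≤ finrank K W ∨ h x x ≠ 0 ∨ β ≠ 0 ∨ ρ = 0) :
    ∃ z ∈ W, h z z = ρ ∧ h x z = β := by
  by_cases hxx : h x x = 0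
  · -- `x` isotropic: hyperbolic partner `f`
    obtain ⟨f, hf, hff, hxf⟩ := ex_partner F hW hx hx0 hxx
    have hfx : h f x = 1 := by rw [F.herm.conj x f, hxf, map_one]
    by_cases hβ : β = 0
    · by_cases hρ0 : ρ = 0
      · refine ⟨0, W.zero_mem, ?_, ?_⟩
        · rw [F.herm.zero_left, hρ0]
        · rw [F.herm.zero_right, hβ]
      · have h3 : 3 ≤ finrank K W := by
          rcases hcase with h3 | h3 | h3 | h3
          · exact h3
          · exact absurd hxx h3
          · exact absurd hβ h3
          · exact absurd h3 hρ0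
        obtain ⟨W', hW'W, hW'nd, hW'perp, hfr, -⟩ := ex_perp_hyp F hW hx hf hxx hff hxf
        obtain ⟨u, hu, huu⟩ := ex_norm F hW'nd (by omega) ρ hρ
        refine ⟨u, hW'W hu, huu, ?_⟩
        rw [F.herm.conj u x, (hW'perp u hu).1, map_zero, hβ]
    · -- `z = l x + (σ β) f`
      obtain ⟨c, hc⟩ := F.tr_surj ρ hρ
      refine ⟨(c / β) • x + (σ β) • f, W.add_mem (W.smul_mem _ hx) (W.smul_mem _ hf), ?_, ?_⟩
      · simp only [F.herm.add_left, F.herm.add_right, F.herm.smul_left, F.herm.smul_right, hxx,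
          hff, hxf, hfx, F.invol, map_div₀]
        have hσβ : σ β ≠ 0 := F.σ_ne_zero hβ
        field_simp
        linear_combination (β * σ β) * hc
      · simp only [F.herm.add_right, F.herm.smul_right, hxx, hxf, F.invol]
        ring
  · -- `x` non-isotropic: `z = l x + u` with `u` orthogonal to `x`
    obtain ⟨W', hW'W, hW'nd, hW'x, hfr, -⟩ := ex_perp_aniso F hW hx hxx
    have hNfix : σ (h x x) = h x x := σ_norm F.herm x
    obtain ⟨l, hl⟩ : ∃ l : K, l = σ β / h x x := ⟨_, rfl⟩
    have hσl : σ l = β / h x x := by rw [hl, map_div₀, F.invol, hNfix]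
    have hρ' : σ (ρ - l * σ l * h x x) = ρ - l * σ l * h x x := by
      rw [map_sub, map_mul, map_mul, F.invol, hρ, hNfix]; ring
    obtain ⟨u, hu, huu⟩ := ex_norm F hW'nd (by omega) _ hρ'
    have hux : h u x = 0 := hW'x u hu
    have hxu : h x u = 0 := by rw [F.herm.conj u x, hux, map_zero]
    refine ⟨l • x + u, W.add_mem (W.smul_mem _ hx) (hW'W hu), ?_, ?_⟩
    · simp only [F.herm.add_left, F.herm.add_right, F.herm.smul_left, F.herm.smul_right, hux, hxu,
        huu]
      ring
    · simp only [F.herm.add_right, F.herm.smul_right, hxu, hσl]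
      field_simp
      ring

end EX

end Cfsg.Agent.Lib.Helper51.UDec
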