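/-
Helper51, project UDEC (helper94, S5655 part 2), module [EX8]: a non-isotropic vector of a
non-degenerate subspace `W` of dimension at least two is a sum of two isotropic vectors of `W` whose
product avoids a given value.
-/
import Mathlib
import Cfsg.Agent.Lib.Helper94.UDec.Ex14

set_option autoImplicit false
set_option linter.unusedSectionVars false
set_option linter.unusedVariables false

namespace Cfsg.Agent.Lib.Helper51.UDec

open Cfsg.Agent.Lib.Helper94 Cfsg.Agent.Lib.Helper94.SympData Cfsg.Agent.Lib.Helper94.UDec Module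

variable {K V : Type*} [Field K] [AddCommGroup V] [Module K V] [FiniteDimensional K V]
variable {σ : K →+* K} {h : V → V → K}

section EX
variable (F : FCtx σ h) {W : Submodule K V} (hW : NdOn h W)
include F hW

/-- the splitting for a given `s` of trace one -/
theorem ex_split_aux {v w : V} (hv : v ∈ W) (hw : w ∈ W) (hwv : h w v = 0) (hvw : h v w = 0)
    (hww : h w w = -h v v) {s : K} (hs : s + σ s = 1) :
    s • (v + w) ∈ W ∧ v - s • (v + w) ∈ W ∧ h (s • (v + w)) (s • (v + w)) = 0 ∧
      h (v - s • (v + w)) (v - s • (v + w)) = 0 ∧ s • (v + w) + (v - s • (v + w)) = v ∧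
      h (s • (v + w)) (v - s • (v + w)) = h v v * s := by
  have hσs : σ s = 1 - s := by linear_combination hs
  refine ⟨W.smul_mem _ (W.add_mem hv hw),
    W.sub_mem hv (W.smul_mem _ (W.add_mem hv hw)), ?_, ?_, by abel, ?_⟩
  · simp only [F.herm.smul_left, F.herm.smul_right, F.herm.add_left, F.herm.add_right, hwv, hvw,
      hww]
    ring
  · simp only [h_sub_left F.herm, h_sub_right F.herm, F.herm.smul_left, F.herm.smul_right,
      F.herm.add_left, F.herm.add_right, hwv, hvw, hww, hσs]
    ring
  · simp only [h_sub_right F.herm, F.herm.smul_left, F.herm.smul_right,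
      F.herm.add_left, F.herm.add_right, hwv, hvw, hww, hσs]
    ring

/-- [EX8] a non-isotropic vector of `W` is a sum of two isotropic vectors of `W` whose product
avoids a given value -/
theorem ex_split (hk : 2 ≤ finrank K W) {v : V} (hv : v ∈ W) (hvv : h v v ≠ 0) (ξ : K) :
    ∃ e ∈ W, ∃ f ∈ W, h e e = 0 ∧ h f f = 0 ∧ e + f = v ∧ h e f ≠ ξ := by
  obtain ⟨w, hw, hwv, hvw, hww, -⟩ := ex_iso_add F hW hk hv hvv
  obtain ⟨s₀, hs₀⟩ := F.tr_surj 1 (map_one σ)
  obtain ⟨c, hc0, hc⟩ := F.tz
  by_cases hcase : h v v * s₀ = ξ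
  · -- use `s₀ + c`
    have hs : (s₀ + c) + σ (s₀ + c) = 1 := by
      rw [map_add]; linear_combination hs₀ + hc
    obtain ⟨h1, h2, h3, h4, h5, h6⟩ := ex_split_aux F hW hv hw hwv hvw hww hs
    refine ⟨_, h1, _, h2, h3, h4, h5, ?_⟩
    rw [h6]
    intro hcon
    have : h v v * c = 0 := by linear_combination hcon - hcase
    rcases mul_eq_zero.1 this with h0 | h0
    · exact hvv h0
    · exact hc0 h0
  · obtain ⟨h1, h2, h3, h4, h5, h6⟩ := ex_split_aux F hW hv hw hwv hvw hww hs₀
    exact ⟨_, h1, _, h2, h3, h4, h5, by rw [h6]; exact hcase⟩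

end EX

end Cfsg.Agent.Lib.Helper51.UDec
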